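import Mathlib

set_option autoImplicit false
open TensorProduct

namespace Groth.Agent.Lib.Helper27.EtaleNbhd

universe u v

variable {A : Type u} {B : Type v} [CommRing A] [CommRing B] [Algebra A B]

/-- For a formally unramified essentially finite type algebra `B` with a section `φ : B → A/I`
over `A`, there is `b ∈ B` with `φ b = 1` killing `ker φ` modulo `I B`. -/
theorem exists_mul_ker_le [Algebra.FormallyUnramified A B] [Algebra.EssFiniteType A B]
    (I : Ideal A) (φ : B →ₐ[A] A ⧸ I) :
    ∃ b : B, φ b = 1 ∧ ∀ j : B, φ j = 0 → b * j ∈ I.map (algebraMap A B) := by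
  obtain ⟨t, ht, ht1⟩ := (Algebra.FormallyUnramified.iff_exists_tensorProduct (R := A) (S := B)).mp
    inferInstance
  let C := B ⧸ I.map (algebraMap A B)
  let ι : A ⧸ I →ₐ[A] C := Ideal.quotientMapₐ (I.map (algebraMap A B)) (Algebra.ofId A B)
    Ideal.le_comap_map
  let φ' : B →ₐ[A] C := ι.comp φ
  let π : B →ₐ[A] C := Ideal.Quotient.mkₐ A (I.map (algebraMap A B))
  let ρ : B ⊗[A] B →ₐ[A] C := Algebra.TensorProduct.productMap φ' π
  have hφI : I.map (algebraMap A B) ≤ RingHom.ker φ.toRingHom := by
    rw [Ideal.map_le_iff_le_comap]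
    intro i hi
    rw [Ideal.mem_comap, RingHom.mem_ker]
    change φ (algebraMap A B i) = 0
    rw [φ.commutes]
    exact Ideal.Quotient.eq_zero_iff_mem.mpr hi
  let φbar : C →ₐ[A] A ⧸ I := Ideal.Quotient.liftₐ (I.map (algebraMap A B)) φ
    (fun x hx => hφI hx)
  have h1 : φbar.comp ρ = φ.comp (Algebra.TensorProduct.lmul' A) := by
    apply Algebra.TensorProduct.ext'
    intro x y
    obtain ⟨a, ha⟩ := Ideal.Quotient.mk_surjective (φ x)
    have hx' : φ' x = algebraMap A C a := by
      change ι (φ x) = _
      rw [← ha]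
      rfl
    simp only [AlgHom.comp_apply, ρ, Algebra.TensorProduct.productMap_apply_tmul,
      Algebra.TensorProduct.lmul'_apply_tmul, map_mul]
    congr 1
    rw [hx', AlgHom.commutes, ← ha]
    rfl
  obtain ⟨b, hb⟩ := Ideal.Quotient.mk_surjective (ρ t)
  refine ⟨b, ?_, ?_⟩
  · have : φbar (ρ t) = 1 := by
      have := AlgHom.congr_fun h1 t
      simpa [ht1] using this
    rw [← hb] at this
    exact this
  · intro j hj
    rw [← Ideal.Quotient.eq_zero_iff_mem, map_mul, hb]
    have h2 := congrArg ρ (ht j)
    rw [map_mul, map_sub, map_zero] at h2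
    have h3 : ρ ((1 : B) ⊗ₜ[A] j) = Ideal.Quotient.mk _ j := by
      simp [ρ, π]
      rfl
    have h4 : ρ (j ⊗ₜ[A] (1 : B)) = 0 := by
      simp [ρ, φ', hj]
    rw [h3, h4, sub_zero] at h2
    rw [mul_comm]
    exact h2

theorem ker_liftAlgHom_away {A : Type u} {B : Type v} [CommRing A] [CommRing B] [Algebra A B]
    (I : Ideal A) (φ : B →ₐ[A] A ⧸ I) (b : B) (hb : IsUnit (φ b))
    (hker : ∀ j : B, φ j = 0 → b * j ∈ I.map (algebraMap A B)) :
    RingHom.ker (IsLocalization.Away.liftAlgHom (S := Localization.Away b) b hb :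
      Localization.Away b →ₐ[A] A ⧸ I).toRingHom =
      I.map (algebraMap A (Localization.Away b)) := by
  apply le_antisymm
  · intro x hx
    rw [RingHom.mem_ker] at hx
    obtain ⟨y, s, hys⟩ := IsLocalization.exists_mk'_eq (Submonoid.powers b) x
    have hunit : IsUnit (algebraMap B (Localization.Away b) (s : B)) :=
      IsLocalization.map_units _ s
    have hy : algebraMap B (Localization.Away b) y = x * algebraMap B (Localization.Away b) s := by
      rw [← hys]
      exact (IsLocalization.mk'_spec _ y s).symm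
    have hφy : φ y = 0 := by
      have h1 : (IsLocalization.Away.liftAlgHom (S := Localization.Away b) b hb :
        Localization.Away b →ₐ[A] A ⧸ I) (algebraMap B (Localization.Away b) y) = φ y := by
        simp
      rw [← h1, hy, map_mul]
      change (IsLocalization.Away.liftAlgHom (S := Localization.Away b) b hb :
        Localization.Away b →ₐ[A] A ⧸ I) x * _ = 0
      rw [show (IsLocalization.Away.liftAlgHom (S := Localization.Away b) b hb :
        Localization.Away b →ₐ[A] A ⧸ I) x = 0 from hx, zero_mul]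
    have hby := hker y hφy
    have hbu : IsUnit (algebraMap B (Localization.Away b) b) :=
      IsLocalization.Away.algebraMap_isUnit b
    have hmem : algebraMap B (Localization.Away b) (b * y) ∈
        I.map (algebraMap A (Localization.Away b)) := by
      have : (I.map (algebraMap A B)).map (algebraMap B (Localization.Away b)) =
          I.map (algebraMap A (Localization.Away b)) := by
        rw [Ideal.map_map, ← IsScalarTower.algebraMap_eq]
      rw [← this]
      exact Ideal.mem_map_of_mem _ hby
    rw [map_mul, hy] at hmem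
    have h2 : x = (hbu.unit⁻¹ : (Localization.Away b)ˣ) * (hunit.unit⁻¹ : (Localization.Away b)ˣ) *
        (algebraMap B (Localization.Away b) b * (x * algebraMap B (Localization.Away b) s)) := by
      have e1 : ((hbu.unit⁻¹ : (Localization.Away b)ˣ) : Localization.Away b) *
          algebraMap B (Localization.Away b) b = 1 := hbu.val_inv_mul
      have e2 : ((hunit.unit⁻¹ : (Localization.Away b)ˣ) : Localization.Away b) *
          algebraMap B (Localization.Away b) s = 1 := hunit.val_inv_mul
      calc x = (((hbu.unit⁻¹ : (Localization.Away b)ˣ) : Localization.Away b) *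
          algebraMap B (Localization.Away b) b) *
          ((((hunit.unit⁻¹ : (Localization.Away b)ˣ) : Localization.Away b) *
          algebraMap B (Localization.Away b) s)) * x := by rw [e1, e2]; ring
        _ = _ := by ring
    rw [h2]
    exact Ideal.mul_mem_left _ _ hmem
  · rw [Ideal.map_le_iff_le_comap]
    intro i hi
    rw [Ideal.mem_comap, RingHom.mem_ker]
    change (IsLocalization.Away.liftAlgHom (S := Localization.Away b) b hb :
        Localization.Away b →ₐ[A] A ⧸ I) (algebraMap A (Localization.Away b) i) = 0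
    rw [AlgHom.commutes]
    exact Ideal.Quotient.eq_zero_iff_mem.mpr hi

theorem exists_etale_nbhd_of_section {A B : Type u} [CommRing A] [CommRing B] [Algebra A B]
    [Algebra.Etale A B] (I : Ideal A) (φ : B →ₐ[A] A ⧸ I) (c : B) (hc : IsUnit (φ c)) :
    ∃ (A' : Type u) (_ : CommRing A') (_ : Algebra A A') (_ : Algebra.Etale A A')
      (χ : B →ₐ[A] A') (ψ : A' →ₐ[A] A ⧸ I),
      ψ.comp χ = φ ∧ IsUnit (χ c) ∧ RingHom.ker ψ.toRingHom = I.map (algebraMap A A') := by
  obtain ⟨b₀, hb₀, hker₀⟩ := exists_mul_ker_le I φ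
  have hb : IsUnit (φ (b₀ * c)) := by
    rw [map_mul, hb₀, one_mul]; exact hc
  have hker : ∀ j : B, φ j = 0 → (b₀ * c) * j ∈ I.map (algebraMap A B) := by
    intro j hj
    have := Ideal.mul_mem_left _ c (hker₀ j hj)
    convert this using 1
    ring
  refine ⟨Localization.Away (b₀ * c), inferInstance, inferInstance, inferInstance,
    IsScalarTower.toAlgHom A B _, IsLocalization.Away.liftAlgHom (b₀ * c) hb, ?_, ?_,
    ker_liftAlgHom_away I φ (b₀ * c) hb hker⟩
  · ext x
    simp
  · have := IsLocalization.Away.algebraMap_isUnit (S := Localization.Away (b₀ * c)) (b₀ * c)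
    rw [map_mul] at this
    exact isUnit_of_mul_isUnit_right this

theorem quotientMap_bijective_of_ker {A A' : Type*} [CommRing A] [CommRing A'] [Algebra A A']
    (I : Ideal A) (ψ : A' →ₐ[A] A ⧸ I)
    (hker : RingHom.ker ψ.toRingHom = I.map (algebraMap A A')) :
    Function.Bijective (Ideal.quotientMap (I.map (algebraMap A A')) (algebraMap A A')
      Ideal.le_comap_map) ∧
    (Ideal.quotientMap (I.map (algebraMap A A')) (algebraMap A A') Ideal.le_comap_map).comp
      ψ.toRingHom = Ideal.Quotient.mk (I.map (algebraMap A A')) := by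
  have hcomp : (Ideal.quotientMap (I.map (algebraMap A A')) (algebraMap A A')
      Ideal.le_comap_map).comp ψ.toRingHom = Ideal.Quotient.mk (I.map (algebraMap A A')) := by
    ext a'
    obtain ⟨a, ha⟩ := Ideal.Quotient.mk_surjective (ψ a')
    simp only [RingHom.comp_apply, AlgHom.toRingHom_eq_coe, RingHom.coe_coe]
    rw [← ha, Ideal.quotientMap_mk, eq_comm, Ideal.Quotient.eq, ← hker, RingHom.mem_ker]
    simp only [AlgHom.toRingHom_eq_coe, RingHom.coe_coe, map_sub, AlgHom.commutes]
    rw [← ha]
    exact sub_self _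
  refine ⟨⟨?_, ?_⟩, hcomp⟩
  · rw [injective_iff_map_eq_zero]
    intro x hx
    obtain ⟨a, rfl⟩ := Ideal.Quotient.mk_surjective x
    rw [Ideal.quotientMap_mk, Ideal.Quotient.eq_zero_iff_mem, ← hker, RingHom.mem_ker] at hx
    simpa using hx
  · intro y
    obtain ⟨a', rfl⟩ := Ideal.Quotient.mk_surjective y
    refine ⟨ψ a', ?_⟩
    exact RingHom.congr_fun hcomp a'

end Groth.Agent.Lib.Helper27.EtaleNbhd
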