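import Mathlib
import Groth.Agent.Lib.Helper27.EtaleNbhd

set_option autoImplicit false

namespace Groth.Agent.Lib.Helper27.SmoothSection

universe u

open MvPolynomial KaehlerDifferential TensorProduct

theorem exists_conormal_splitting {A B : Type u} [CommRing A] [CommRing B] [Algebra A B]
    [Algebra.FormallySmooth A B] (n : ℕ) (π : MvPolynomial (Fin n) A →ₐ[A] B)
    (hπ : Function.Surjective π) :
    ∃ g : Fin n → MvPolynomial (Fin n) A, (∀ i, g i ∈ RingHom.ker π.toRingHom) ∧
      ∀ f ∈ RingHom.ker π.toRingHom,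
        f - ∑ i, MvPolynomial.pderiv i f * g i ∈ (RingHom.ker π.toRingHom) ^ 2 := by
  let _ : Algebra (MvPolynomial (Fin n) A) B := π.toRingHom.toAlgebra
  have : IsScalarTower A (MvPolynomial (Fin n) A) B :=
    IsScalarTower.of_algebraMap_eq' π.comp_algebraMap.symm
  have hsurj : Function.Surjective (algebraMap (MvPolynomial (Fin n) A) B) := hπ
  set J : Ideal (MvPolynomial (Fin n) A) := RingHom.ker (algebraMap (MvPolynomial (Fin n) A) B)
    with hJ
  have hJ' : RingHom.ker π.toRingHom = J := rfl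
  obtain ⟨l, hl⟩ := (Algebra.FormallySmooth.iff_split_injection (R := A)
    (P := MvPolynomial (Fin n) A) (A := B) hsurj).mp inferInstance
  choose g hg using fun i : Fin n => J.toCotangent_surjective
    (l ((1 : B) ⊗ₜ[MvPolynomial (Fin n) A] D A (MvPolynomial (Fin n) A) (X i)))
  refine ⟨fun i => (g i : MvPolynomial (Fin n) A), fun i => (g i).2, ?_⟩
  intro f hf
  rw [hJ'] at hf ⊢
  have h1 : J.toCotangent ⟨f, hf⟩ =
      l ((1 : B) ⊗ₜ[MvPolynomial (Fin n) A] D A (MvPolynomial (Fin n) A) f) := by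
    have := LinearMap.congr_fun hl (J.toCotangent ⟨f, hf⟩)
    rw [LinearMap.comp_apply, kerCotangentToTensor_toCotangent, LinearMap.id_apply] at this
    exact this.symm
  have h2 : D A (MvPolynomial (Fin n) A) f =
      ∑ i, MvPolynomial.pderiv i f • D A (MvPolynomial (Fin n) A) (X i) := by
    have := (mvPolynomialBasis A (Fin n)).sum_repr (D A (MvPolynomial (Fin n) A) f)
    simp only [mvPolynomialBasis_repr_apply, mvPolynomialBasis_apply] at this
    exact this.symm
  have h3 : J.toCotangent ⟨f, hf⟩ = J.toCotangent (∑ i, MvPolynomial.pderiv i f • g i) := by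
    rw [h1, h2, TensorProduct.tmul_sum, map_sum, map_sum]
    refine Finset.sum_congr rfl fun i _ => ?_
    rw [TensorProduct.tmul_smul, map_smul, map_smul, hg]
  rw [Ideal.toCotangent_eq] at h3
  convert h3 using 2
  simp

theorem derivation_mem_of_mem_sq {R P : Type*} [CommRing R] [CommRing P] [Algebra R P]
    (d : Derivation R P P) (J : Ideal P) {h : P} (hh : h ∈ J ^ 2) : d h ∈ J := by
  rw [pow_two] at hh
  refine Submodule.mul_induction_on hh ?_ ?_
  · intro a ha b hb
    rw [Derivation.leibniz]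
    exact J.add_mem (J.mul_mem_right _ ha) (J.mul_mem_right _ hb)
  · intro x y hx hy
    rw [map_add]
    exact J.add_mem hx hy

theorem pderiv_sub_mem {A : Type u} [CommRing A] (n : ℕ) (J : Ideal (MvPolynomial (Fin n) A))
    (g : Fin n → MvPolynomial (Fin n) A) (hg : ∀ i, g i ∈ J)
    (f : MvPolynomial (Fin n) A) (hf : f - ∑ i, pderiv i f * g i ∈ J ^ 2) (j : Fin n) :
    pderiv j f - ∑ i, pderiv i f * pderiv j (g i) ∈ J := by
  have h1 := derivation_mem_of_mem_sq (pderiv j) J hf
  rw [map_sub, map_sum] at h1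
  simp only [Derivation.leibniz, smul_eq_mul] at h1
  have h2 : ∑ i, g i * pderiv j (pderiv i f) ∈ J :=
    J.sum_mem (fun i _ => J.mul_mem_right _ (hg i))
  have := J.add_mem h1 h2
  convert this using 1
  rw [Finset.sum_add_distrib]
  ring

noncomputable def sys {A : Type u} [CommRing A] (n : ℕ) (g : Fin n → MvPolynomial (Fin n) A)
    (a : Fin n → A) (i : Fin n) : MvPolynomial (Fin n) A :=
  (X i - C (a i)) + g i - ∑ j, pderiv j (g i) * (X j - C (a j))

theorem eval_sys {A : Type u} [CommRing A] (n : ℕ) (g : Fin n → MvPolynomial (Fin n) A)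
    (a : Fin n → A) (i : Fin n) : eval a (sys n g a i) = eval a (g i) := by
  simp [sys]

theorem eval_pderiv_sys {A : Type u} [CommRing A] (n : ℕ) (g : Fin n → MvPolynomial (Fin n) A)
    (a : Fin n → A) (i k : Fin n) :
    eval a (pderiv k (sys n g a i)) = if i = k then 1 else 0 := by
  classical
  simp only [sys, map_add, map_sub, map_sum, Derivation.leibniz, smul_eq_mul, pderiv_X, pderiv_C,
    eval_X, eval_C, sub_self, zero_mul, mul_zero, add_zero, sub_zero, map_mul]
  simp [Pi.single_apply, eq_comm]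

theorem aeval_g_of_aeval_sys {A : Type u} [CommRing A] {A' : Type*} [CommRing A'] [Algebra A A']
    (n : ℕ) (g : Fin n → MvPolynomial (Fin n) A)
    (a : Fin n → A) (x : Fin n → A') (i : Fin n) (h : aeval x (sys n g a i) = 0) :
    aeval x (g i) = - (x i - algebraMap A A' (a i)) +
      ∑ j, aeval x (pderiv j (g i)) * (x j - algebraMap A A' (a j)) := by
  simp only [sys, map_add, map_sub, map_sum, map_mul, aeval_X, aeval_C] at h
  linear_combination h

theorem etale_away_jacobian {A : Type u} [CommRing A] (n : ℕ)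
    (P : Fin n → MvPolynomial (Fin n) A) :
    let Pres : Algebra.PreSubmersivePresentation A
        (MvPolynomial (Fin n) A ⧸ Ideal.span (Set.range P)) (Fin n) (Fin n) :=
      Algebra.PreSubmersivePresentation.naive (v := P) id Function.injective_id
    Algebra.Etale A (Localization.Away Pres.jacobian) := by
  intro Pres
  let Δ := Pres.jacobian
  have hΔ : IsUnit (algebraMap _ (Localization.Away Δ) Δ) :=
    IsLocalization.Away.algebraMap_isUnit _
  let Q : Algebra.SubmersivePresentation A (Localization.Away Δ) _ _ :=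
    { toPreSubmersivePresentation :=
        .comp (.localizationAway (Localization.Away Δ) Δ) Pres,
      jacobian_isUnit := by simpa [Algebra.smul_def, -isUnit_map_iff] using ⟨hΔ, hΔ⟩ }
  have : Algebra.IsStandardSmoothOfRelativeDimension 0 A (Localization.Away Δ) :=
    ⟨_, _, _, inferInstance, Q, by
      simp only [Algebra.PreSubmersivePresentation.dimension_comp_eq_dimension_add_dimension, Q]
      simp [Algebra.Presentation.dimension]⟩
  infer_instance

theorem exists_etale_of_system {A : Type u} [CommRing A] (I : Ideal A) (n : ℕ)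
    (P : Fin n → MvPolynomial (Fin n) A) (a₀ : Fin n → A)
    (h₀ : ∀ i, MvPolynomial.eval a₀ (P i) ∈ I)
    (hJ : IsUnit (Ideal.Quotient.mk I
      (Matrix.of (fun i j => MvPolynomial.eval a₀ (MvPolynomial.pderiv j (P i)))).det)) :
    ∃ (E : Type u) (_ : CommRing E) (_ : Algebra A E) (_ : Algebra.Etale A E) (x : Fin n → E)
      (φ : E →ₐ[A] A ⧸ I), (∀ i, MvPolynomial.aeval x (P i) = 0) ∧
        ∀ j, φ (x j) = Ideal.Quotient.mk I (a₀ j) := by
  classical
  let B := MvPolynomial (Fin n) A ⧸ Ideal.span (Set.range P)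
  let Pres : Algebra.PreSubmersivePresentation A B (Fin n) (Fin n) :=
    Algebra.PreSubmersivePresentation.naive (v := P) id Function.injective_id
  have hEt : Algebra.Etale A (Localization.Away Pres.jacobian) := etale_away_jacobian n P
  let ev : MvPolynomial (Fin n) A →ₐ[A] A ⧸ I :=
    (IsScalarTower.toAlgHom A A (A ⧸ I)).comp (MvPolynomial.aeval a₀)
  have hev : ∀ x, ev x = Ideal.Quotient.mk I (MvPolynomial.eval a₀ x) := by
    intro x
    show algebraMap A _ (MvPolynomial.aeval a₀ x) = _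
    rw [MvPolynomial.aeval_eq_eval]
    rfl
  have hker : ∀ x ∈ Ideal.span (Set.range P), ev x = 0 := by
    intro x hx
    have : Ideal.span (Set.range P) ≤ RingHom.ker ev.toRingHom := by
      rw [Ideal.span_le]
      rintro _ ⟨i, rfl⟩
      show ev (P i) = 0
      rw [hev, Ideal.Quotient.eq_zero_iff_mem]
      exact h₀ i
    exact this hx
  let φ₀ : B →ₐ[A] A ⧸ I := Ideal.Quotient.liftₐ _ ev hker
  have hφ₀ : ∀ x, φ₀ (Ideal.Quotient.mk _ x) = ev x := fun x => rfl
  have hjac : φ₀ Pres.jacobian =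
      Ideal.Quotient.mk I
        (Matrix.of (fun i j => MvPolynomial.eval a₀ (MvPolynomial.pderiv j (P i)))).det := by
    rw [Algebra.PreSubmersivePresentation.jacobian_eq_jacobiMatrix_det]
    have h1 : algebraMap Pres.Ring B Pres.jacobiMatrix.det =
        Ideal.Quotient.mk _ Pres.jacobiMatrix.det := rfl
    rw [h1, hφ₀, hev]
    congr 1
    rw [RingHom.map_det, ← Matrix.det_transpose]
    congr 1
    ext i j
    simp only [RingHom.mapMatrix_apply, Matrix.map_apply, Matrix.transpose_apply, Matrix.of_apply]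
    rw [Algebra.PreSubmersivePresentation.jacobiMatrix_apply]
    rfl
  have hunit : IsUnit (φ₀ Pres.jacobian) := by
    rw [hjac]
    exact hJ
  let Ψ : Localization.Away Pres.jacobian →ₐ[A] A ⧸ I :=
    IsLocalization.Away.liftAlgHom (A := A) (f := φ₀) Pres.jacobian hunit
  have hΨ : ∀ b : B, Ψ (algebraMap B _ b) = φ₀ b := fun b => by
    simp [Ψ]
  let τ : MvPolynomial (Fin n) A →ₐ[A] Localization.Away Pres.jacobian :=
    (IsScalarTower.toAlgHom A B (Localization.Away Pres.jacobian)).comp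
      (Ideal.Quotient.mkₐ A (Ideal.span (Set.range P)))
  let x : Fin n → Localization.Away Pres.jacobian := fun j => τ (MvPolynomial.X j)
  have hτ : τ = MvPolynomial.aeval x := by
    apply MvPolynomial.algHom_ext
    intro j
    simp [x]
  refine ⟨Localization.Away Pres.jacobian, inferInstance, inferInstance, hEt, x, Ψ, ?_, ?_⟩
  · intro i
    rw [← hτ]
    show algebraMap B _ (Ideal.Quotient.mk _ (P i)) = 0
    have : (Ideal.Quotient.mk (Ideal.span (Set.range P))) (P i) = 0 :=
      Ideal.Quotient.eq_zero_iff_mem.mpr (Ideal.subset_span ⟨i, rfl⟩)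
    rw [this, map_zero]
  · intro j
    show Ψ (algebraMap B _ (Ideal.Quotient.mk _ (MvPolynomial.X j))) = _
    rw [hΨ, hφ₀, hev, MvPolynomial.eval_X]

theorem sum_identity {R : Type*} [CommRing R] (n : ℕ) (c δ : Fin n → R) (d : Fin n → Fin n → R) :
    ∑ i, c i * (- δ i + ∑ j, d i j * δ j) = - ∑ j, (c j - ∑ i, c i * d i j) * δ j := by
  simp only [mul_add, Finset.sum_add_distrib, sub_mul, Finset.sum_sub_distrib, Finset.mul_sum,
    Finset.sum_mul, neg_sub]
  rw [Finset.sum_comm]
  simp only [mul_neg, Finset.sum_neg_distrib, mul_assoc]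
  ring

theorem exists_etale_section {A B : Type u} [CommRing A] [CommRing B] [Algebra A B]
    [Algebra.Smooth A B] (I : Ideal A) (σ : B →ₐ[A] A ⧸ I) :
    ∃ (A' : Type u) (_ : CommRing A') (_ : Algebra A A') (_ : Algebra.Etale A A')
      (ψ : A' →ₐ[A] A ⧸ I) (τ : B →ₐ[A] A'),
      RingHom.ker ψ.toRingHom = I.map (algebraMap A A') ∧ ψ.comp τ = σ := by
  classical
  obtain ⟨n, π, hπ, hfg⟩ := (inferInstance : Algebra.FinitePresentation A B).out
  obtain ⟨g, hgJ, hstar⟩ := exists_conormal_splitting n π hπ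
  set J : Ideal (MvPolynomial (Fin n) A) := RingHom.ker π.toRingHom with hJdef
  choose a ha using fun i : Fin n => Ideal.Quotient.mk_surjective (σ (π (X i)))
  have hσπ : ∀ f, σ (π f) = Ideal.Quotient.mk I (eval a f) := by
    intro f
    have : σ.comp π = (IsScalarTower.toAlgHom A A (A ⧸ I)).comp (aeval a) := by
      apply MvPolynomial.algHom_ext
      intro i
      simp [ha]
    have h2 := DFunLike.congr_fun this f
    rw [AlgHom.comp_apply, AlgHom.comp_apply, aeval_eq_eval] at h2
    exact h2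
  have hJeval : ∀ f ∈ J, eval a f ∈ I := by
    intro f hf
    rw [← Ideal.Quotient.eq_zero_iff_mem, ← hσπ]
    have : π f = 0 := hf
    rw [this, map_zero]
  have h₀ : ∀ i, eval a (sys n g a i) ∈ I := fun i => by
    rw [eval_sys]; exact hJeval _ (hgJ i)
  have hmat : Matrix.of (fun i j => eval a (pderiv j (sys n g a i))) = 1 := by
    ext i j
    rw [Matrix.of_apply, eval_pderiv_sys, Matrix.one_apply]
  have hJac : IsUnit (Ideal.Quotient.mk I
      (Matrix.of (fun i j => eval a (pderiv j (sys n g a i)))).det) := by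
    rw [hmat, Matrix.det_one, map_one]; exact isUnit_one
  obtain ⟨E, _, _, _, x, φ, hx, hφx⟩ := exists_etale_of_system I n (sys n g a) a h₀ hJac
  obtain ⟨A1, _, _, _, χ1, ψ1, hψχ1, -, hkerψ1⟩ :=
    Groth.Agent.Lib.Helper27.EtaleNbhd.exists_etale_nbhd_of_section I φ 1
      (by rw [map_one]; exact isUnit_one)
  let x1 : Fin n → A1 := fun j => χ1 (x j)
  have hx1 : ∀ i, aeval x1 (sys n g a i) = 0 := by
    intro i
    have : aeval x1 (sys n g a i) = χ1 (aeval x (sys n g a i)) := by
      rw [← AlgHom.comp_apply, MvPolynomial.comp_aeval]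
    rw [this, hx, map_zero]
  have hψx1 : ∀ j, ψ1 (x1 j) = Ideal.Quotient.mk I (a j) := by
    intro j
    rw [← hφx, ← hψχ1]; rfl
  let ev : MvPolynomial (Fin n) A →ₐ[A] A1 := aeval x1
  have hψev : ∀ f, ψ1 (ev f) = Ideal.Quotient.mk I (eval a f) := by
    intro f
    have : ψ1.comp ev = (IsScalarTower.toAlgHom A A (A ⧸ I)).comp (aeval a) := by
      apply MvPolynomial.algHom_ext
      intro i
      simp [ev, hψx1]
    have h2 := DFunLike.congr_fun this f
    rw [AlgHom.comp_apply, AlgHom.comp_apply, aeval_eq_eval] at h2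
    exact h2
  set IA1 : Ideal A1 := I.map (algebraMap A A1) with hIA1
  have hmemker : ∀ y : A1, ψ1 y = 0 → y ∈ IA1 := by
    intro y hy
    rw [← hkerψ1]; exact hy
  have hδ : ∀ j, x1 j - algebraMap A A1 (a j) ∈ IA1 := by
    intro j
    apply hmemker
    rw [map_sub, hψx1, AlgHom.commutes]
    exact sub_self _
  set 𝔲 : Ideal A1 := J.map ev.toRingHom with h𝔲
  have h𝔲I : 𝔲 ≤ IA1 := by
    rw [h𝔲, Ideal.map_le_iff_le_comap]
    intro f hf
    rw [Ideal.mem_comap]
    apply hmemker
    show ψ1 (ev f) = 0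
    rw [hψev, Ideal.Quotient.eq_zero_iff_mem]
    exact hJeval f hf
  have hevJ : ∀ f ∈ J, ev f ∈ 𝔲 := fun f hf => Ideal.mem_map_of_mem ev.toRingHom hf
  have hmain : ∀ f ∈ J, ev f ∈ IA1 * 𝔲 := by
    intro f hf
    have h1 := hstar f hf
    have h2 : ev (f - ∑ i, pderiv i f * g i) ∈ IA1 * 𝔲 := by
      have : ev (f - ∑ i, pderiv i f * g i) ∈ (J ^ 2).map ev.toRingHom :=
        Ideal.mem_map_of_mem ev.toRingHom h1
      rw [Ideal.map_pow, pow_two] at this
      exact Ideal.mul_mono_left h𝔲I this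
    have h3 : ∑ i, ev (pderiv i f) * ev (g i) ∈ IA1 * 𝔲 := by
      have hg' : ∀ i, ev (g i) = - (x1 i - algebraMap A A1 (a i)) +
          ∑ j, ev (pderiv j (g i)) * (x1 j - algebraMap A A1 (a j)) :=
        fun i => aeval_g_of_aeval_sys n g a x1 i (hx1 i)
      simp only [hg']
      rw [sum_identity n (fun i => ev (pderiv i f)) (fun j => x1 j - algebraMap A A1 (a j))
        (fun i j => ev (pderiv j (g i)))]
      rw [neg_mem_iff]
      apply Ideal.sum_mem
      intro j _
      rw [Ideal.mul_comm]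
      apply Ideal.mul_mem_mul _ (hδ j)
      have := pderiv_sub_mem n J g hgJ f h1 j
      have h4 := hevJ _ this
      rw [map_sub, map_sum] at h4
      simpa only [map_mul] using h4
    have : ev f = ev (f - ∑ i, pderiv i f * g i) + ∑ i, ev (pderiv i f) * ev (g i) := by
      rw [map_sub, map_sum]
      simp only [map_mul]
      ring
    rw [this]
    exact Ideal.add_mem _ h2 h3
  have hle : 𝔲 ≤ IA1 • 𝔲 := by
    rw [smul_eq_mul, h𝔲, Ideal.map_le_iff_le_comap]
    intro f hf
    exact hmain f hf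
  have h𝔲fg : 𝔲.FG := hfg.map _
  obtain ⟨r, hr1, hr⟩ :=
    Submodule.exists_sub_one_mem_and_smul_eq_zero_of_fg_of_le_smul IA1 𝔲 h𝔲fg hle
  have hψr : ψ1 r = 1 := by
    have : ψ1 (r - 1) = 0 := by
      have : r - 1 ∈ RingHom.ker ψ1.toRingHom := by rw [hkerψ1]; exact hr1
      exact this
    rw [map_sub, map_one, sub_eq_zero] at this
    exact this
  obtain ⟨A2, _, _, _, χ2, ψ2, hψχ2, hχ2r, hkerψ2⟩ :=
    Groth.Agent.Lib.Helper27.EtaleNbhd.exists_etale_nbhd_of_section I ψ1 r
      (by rw [hψr]; exact isUnit_one)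
  have hkill : ∀ f ∈ RingHom.ker π.toRingHom, (χ2.comp ev) f = 0 := by
    intro f hf
    have h1 : r • ev f = 0 := hr _ (hevJ f hf)
    have h2 : χ2 r * χ2 (ev f) = 0 := by
      rw [← map_mul, ← smul_eq_mul, h1, map_zero]
    exact (hχ2r.mul_right_eq_zero).mp h2
  let τ0 : (MvPolynomial (Fin n) A ⧸ RingHom.ker π.toRingHom) →ₐ[A] A2 :=
    Ideal.Quotient.liftₐ _ (χ2.comp ev) hkill
  let e : (MvPolynomial (Fin n) A ⧸ RingHom.ker π.toRingHom) ≃ₐ[A] B :=
    Ideal.quotientKerAlgEquivOfSurjective hπ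
  refine ⟨A2, inferInstance, inferInstance, inferInstance, ψ2, τ0.comp e.symm.toAlgHom, hkerψ2, ?_⟩
  ext b
  obtain ⟨f, rfl⟩ := hπ b
  have he : e.symm (π f) = Ideal.Quotient.mk _ f := by
    rw [AlgEquiv.symm_apply_eq]
    rfl
  show ψ2 (τ0 (e.symm (π f))) = σ (π f)
  rw [he]
  show ψ2 (χ2 (ev f)) = σ (π f)
  rw [hσπ, ← hψev, ← hψχ2]
  rfl

end Groth.Agent.Lib.Helper27.SmoothSection
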