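import Mathlib
import Groth.Prelude.Def_Smoothing

set_option autoImplicit false
universe u

namespace Helper27.Desing

theorem smul_eq_zero_of_flat {R S : Type*} [CommRing R] [CommRing S] [Algebra R S]
    [Module.Flat R S] (π : R) (hR : ∀ r : R, π ^ 2 * r = 0 → π * r = 0) (x : S)
    (hx : π ^ 2 • x = 0) : π • x = 0 := by
  have h0 : ∑ _i : Unit, (π ^ 2) • x = 0 := by
    rw [Finset.sum_const, Finset.card_univ, Fintype.card_unit, one_smul, hx]
  obtain ⟨κ, a, z, hxz, ha⟩ := Module.Flat.isTrivialRelation_of_sum_smul_eq_zero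
    (R := R) (M := S) (f := fun _ : Unit => π ^ 2) (x := fun _ : Unit => x) h0
  have hx' : x = ∑ j, a () j • z j := hxz ()
  rw [hx', Finset.smul_sum]
  refine Finset.sum_eq_zero fun j _ => ?_
  rw [smul_smul]
  have h2 : π ^ 2 * a () j = 0 := by simpa using ha j
  rw [hR _ h2, zero_smul]

theorem exists_ann_notMem {R D : Type u} [CommRing R] [CommRing D] [Algebra R D]
    [Algebra.FinitePresentation R D] [IsNoetherianRing D] (π : R)
    (hR : ∀ r : R, π ^ 2 * r = 0 → π * r = 0) (𝔮 : Ideal D) [𝔮.IsPrime]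
    [Algebra.IsSmoothAt R 𝔮] :
    ∃ r : D, r ∉ 𝔮 ∧ ∀ x : D, algebraMap R D π ^ 2 * x = 0 → algebraMap R D π * (r * x) = 0 := by
  classical
  obtain ⟨g, hg𝔮, hsm⟩ := Algebra.IsSmoothAt.exists_notMem_smooth R 𝔮
  let J : Ideal D := (Ideal.span {algebraMap R D π ^ 2}).annihilator
  have hJ : ∀ x, x ∈ J ↔ algebraMap R D π ^ 2 * x = 0 := by
    intro x
    rw [Submodule.mem_annihilator_span_singleton, smul_eq_mul, mul_comm]
  obtain ⟨k, xs, hxs⟩ := (Submodule.fg_iff_exists_fin_generating_family).mp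
    (IsNoetherian.noetherian J)
  have hk : ∀ i : Fin k, ∃ e : ℕ, g ^ e * (algebraMap R D π * xs i) = 0 := by
    intro i
    have h1 : xs i ∈ J := hxs ▸ Submodule.subset_span ⟨i, rfl⟩
    rw [hJ] at h1
    have h2 : π ^ 2 • (algebraMap D (Localization.Away g) (xs i)) = 0 := by
      rw [Algebra.smul_def, IsScalarTower.algebraMap_apply R D (Localization.Away g), ← map_mul,
        map_pow, h1, map_zero]
    have h3 := smul_eq_zero_of_flat π hR _ h2
    rw [Algebra.smul_def, IsScalarTower.algebraMap_apply R D (Localization.Away g), ← map_mul]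
      at h3
    obtain ⟨⟨_, e, rfl⟩, he⟩ :=
      (IsLocalization.map_eq_zero_iff (Submonoid.powers g) (Localization.Away g) _).mp h3
    exact ⟨e, he⟩
  choose e he using hk
  refine ⟨g ^ (∑ i, e i), fun h => hg𝔮 (Ideal.IsPrime.mem_of_pow_mem inferInstance _ h), ?_⟩
  intro x hx
  have hxJ : x ∈ J := (hJ x).mpr hx
  rw [← hxs] at hxJ
  obtain ⟨cf, hcf⟩ := (Submodule.mem_span_range_iff_exists_fun D).mp hxJ
  rw [← hcf, Finset.mul_sum, Finset.mul_sum]
  refine Finset.sum_eq_zero fun i _ => ?_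
  have h1 : e i ≤ ∑ i, e i := Finset.single_le_sum (fun _ _ => Nat.zero_le _) (Finset.mem_univ i)
  have h2 : g ^ (∑ i, e i) = g ^ (∑ i, e i - e i) * g ^ e i := by
    rw [← pow_add, Nat.sub_add_cancel h1]
  rw [h2, smul_eq_mul]
  have h3 : algebraMap R D π * (g ^ (∑ i, e i - e i) * g ^ e i * (cf i * xs i)) =
      g ^ (∑ i, e i - e i) * cf i * (g ^ e i * (algebraMap R D π * xs i)) := by ring
  rw [h3, he, mul_zero]

end Helper27.Desing
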