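import Mathlib
import Groth.Agent.Lib.Helper51.JacobianSlice

set_option autoImplicit false
universe u

namespace Helper27.Neron

open IsLocalRing KaehlerDifferential TensorProduct

section KeyClaim

variable (R B : Type*) [CommRing R] [CommRing B] [IsLocalRing R] [IsLocalRing B] [Algebra R B]
  [IsLocalHom (algebraMap R B)]

def I0 : Ideal B := (maximalIdeal R).map (algebraMap R B) ⊔ maximalIdeal B ^ 2

lemma map_le_maximalIdeal : (maximalIdeal R).map (algebraMap R B) ≤ maximalIdeal B := by
  rw [Ideal.map_le_iff_le_comap]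
  intro x hx
  rw [Ideal.mem_comap, mem_maximalIdeal, mem_nonunits_iff]
  intro hu
  exact (mem_maximalIdeal x).mp hx (isUnit_of_map_unit (algebraMap R B) x hu)

lemma I0_le : I0 R B ≤ maximalIdeal B :=
  sup_le (map_le_maximalIdeal R B) (Ideal.pow_le_self two_ne_zero)

noncomputable def kToC : ResidueField R →+* B ⧸ I0 R B :=
  Ideal.Quotient.lift (maximalIdeal R) ((Ideal.Quotient.mk (I0 R B)).comp (algebraMap R B)) (by
    intro r hr
    rw [RingHom.comp_apply, Ideal.Quotient.eq_zero_iff_mem]
    exact Ideal.mem_sup_left (Ideal.mem_map_of_mem _ hr))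

lemma kToC_residue (r : R) :
    kToC R B (residue R r) = Ideal.Quotient.mk (I0 R B) (algebraMap R B r) := rfl

noncomputable def cToK : B ⧸ I0 R B →+* ResidueField B :=
  Ideal.Quotient.lift (I0 R B) (residue B)
    (fun y hy => (residue_eq_zero_iff y).mpr (I0_le R B hy))

lemma cToK_mk (b : B) : cToK R B (Ideal.Quotient.mk (I0 R B) b) = residue B b := rfl

lemma cToK_mul_eq_zero (c d : B ⧸ I0 R B) (hc : cToK R B c = 0) (hd : cToK R B d = 0) :
    c * d = 0 := by
  obtain ⟨x, rfl⟩ := Ideal.Quotient.mk_surjective c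
  obtain ⟨y, rfl⟩ := Ideal.Quotient.mk_surjective d
  rw [cToK_mk, residue_eq_zero_iff] at hc hd
  rw [← map_mul, Ideal.Quotient.eq_zero_iff_mem]
  refine Ideal.mem_sup_right ?_
  rw [sq]
  exact Ideal.mul_mem_mul hc hd

theorem mem_I0_of_tmul_eq_zero
    [Algebra.FormallySmooth (ResidueField R) (ResidueField B)]
    (x : B) (hx : x ∈ maximalIdeal B)
    (h : (1 : ResidueField B) ⊗ₜ[B] D R B x = 0) : x ∈ I0 R B := by
  classical
  let _ : Algebra (ResidueField R) (B ⧸ I0 R B) := (kToC R B).toAlgebra
  let g : (B ⧸ I0 R B) →ₐ[ResidueField R] ResidueField B :=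
    { cToK R B with
      commutes' := by
        intro c
        obtain ⟨r, rfl⟩ := residue_surjective c
        change cToK R B (kToC R B (residue R r)) = _
        rw [kToC_residue, cToK_mk, ResidueField.algebraMap_residue] }
  have hgc : ∀ c, g c = cToK R B c := fun _ => rfl
  have hg : Function.Surjective g := by
    intro c
    obtain ⟨b, rfl⟩ := residue_surjective c
    exact ⟨Ideal.Quotient.mk _ b, rfl⟩
  have hnil : IsNilpotent (RingHom.ker (g : (B ⧸ I0 R B) →+* ResidueField B)) := by
    refine ⟨2, ?_⟩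
    rw [Ideal.zero_eq_bot, eq_bot_iff, sq, Ideal.mul_le]
    intro c hc d hd
    rw [Ideal.mem_bot]
    exact cToK_mul_eq_zero R B c d hc hd
  let σ := Algebra.FormallySmooth.liftOfSurjective (AlgHom.id (ResidueField R) (ResidueField B))
    g hg hnil
  have hσ : ∀ c, cToK R B (σ c) = c := fun c =>
    Algebra.FormallySmooth.liftOfSurjective_apply _ _ hg hnil c
  have hσR : ∀ r : R, σ (residue B (algebraMap R B r)) =
      Ideal.Quotient.mk (I0 R B) (algebraMap R B r) := by
    intro r
    rw [← ResidueField.algebraMap_residue, AlgHom.commutes]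
    rfl
  let Δlin : B →ₗ[R] B ⧸ I0 R B :=
    { toFun := fun b => Ideal.Quotient.mk _ b - σ (residue B b)
      map_add' := by
        intro a b
        simp only [map_add]
        ring
      map_smul' := by
        intro r b
        simp only [RingHom.id_apply]
        rw [Algebra.smul_def, map_mul, map_mul, map_mul, hσR, Algebra.smul_def]
        change _ = Ideal.Quotient.mk (I0 R B) (algebraMap R B r) * _
        ring }
  have hΔ : ∀ b, Δlin b = Ideal.Quotient.mk _ b - σ (residue B b) := fun _ => rfl
  have hΔker : ∀ b, cToK R B (Δlin b) = 0 := by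
    intro b
    rw [hΔ, map_sub, cToK_mk, hσ, sub_self]
  let Δ : Derivation R B (B ⧸ I0 R B) := Derivation.mk' Δlin (by
    intro a b
    have h0 := cToK_mul_eq_zero R B _ _ (hΔker a) (hΔker b)
    rw [hΔ, hΔ] at h0
    rw [hΔ, hΔ, hΔ, Algebra.smul_def, Algebra.smul_def]
    change _ = Ideal.Quotient.mk (I0 R B) a * _ + Ideal.Quotient.mk (I0 R B) b * _
    rw [map_mul, map_mul, map_mul]
    linear_combination (-1 : B ⧸ I0 R B) * h0)
  have hΔapp : ∀ b, Δ b = Δlin b := fun _ => rfl
  have hlift : ∀ ω : Ω[B⁄R], cToK R B (Δ.liftKaehlerDifferential ω) = 0 := by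
    intro ω
    have hω : ω ∈ Submodule.span B (Set.range (D R B)) := by
      rw [KaehlerDifferential.span_range_derivation]
      exact Submodule.mem_top
    induction hω using Submodule.span_induction with
    | mem ω h =>
      obtain ⟨b, rfl⟩ := h
      rw [Derivation.liftKaehlerDifferential_comp_D, hΔapp]
      exact hΔker b
    | zero => rw [map_zero, map_zero]
    | add ω ω' _ _ h h' => rw [map_add, map_add, h, h', add_zero]
    | smul b ω _ h =>
      rw [map_smul, Algebra.smul_def, map_mul, h, mul_zero]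
  have h1 : D R B x ∈ LinearMap.ker (TensorProduct.mk B (B ⧸ maximalIdeal B) Ω[B⁄R] 1) :=
    LinearMap.mem_ker.mpr h
  rw [LinearMap.ker_tensorProductMk] at h1
  have h2 : Δ.liftKaehlerDifferential (D R B x) = 0 := by
    refine Submodule.smul_induction_on h1 (fun r hr ω _ => ?_) (fun x y hx hy => ?_)
    · rw [map_smul, Algebra.smul_def]
      refine cToK_mul_eq_zero R B _ _ ?_ (hlift ω)
      change cToK R B (Ideal.Quotient.mk _ r) = 0
      rw [cToK_mk, residue_eq_zero_iff]
      exact hr
    · rw [map_add, hx, hy, add_zero]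
  rw [Derivation.liftKaehlerDifferential_comp_D, hΔapp, hΔ,
    (residue_eq_zero_iff x).mpr hx, map_zero, sub_zero, Ideal.Quotient.eq_zero_iff_mem] at h2
  exact h2

end KeyClaim

section Params

variable (R B : Type u) [CommRing R] [CommRing B] [IsLocalRing R] [IsLocalRing B] [Algebra R B]
  [IsLocalHom (algebraMap R B)]

theorem one_tmul_D_mul (b a : B) (ha : a ∈ maximalIdeal B) :
    (1 : ResidueField B) ⊗ₜ[B] D R B (b * a) =
      residue B b • ((1 : ResidueField B) ⊗ₜ[B] D R B a) := by
  rw [Derivation.leibniz, tmul_add]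
  have h1 : (1 : ResidueField B) ⊗ₜ[B] (b • D R B a) =
      (residue B b) • ((1 : ResidueField B) ⊗ₜ[B] D R B a) := by
    rw [← smul_tmul, smul_tmul', Algebra.smul_def, mul_one, smul_eq_mul, mul_one]
    rfl
  have h2 : (1 : ResidueField B) ⊗ₜ[B] (a • D R B b) = 0 := by
    rw [← smul_tmul, Algebra.smul_def, mul_one]
    have : algebraMap B (ResidueField B) a = 0 := (residue_eq_zero_iff a).mpr ha
    rw [this, zero_tmul]
  rw [h1, h2, add_zero]

theorem exists_params [IsNoetherianRing B] [Module.Finite B Ω[B⁄R]]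
    [Algebra.FormallySmooth (ResidueField R) (ResidueField B)]
    (G : Set B) (hG : Ideal.span G = maximalIdeal B) :
    ∃ (ι : Type u) (_ : Fintype ι) (a : ι → B), (∀ i, a i ∈ G) ∧
      LinearIndependent (ResidueField B) (fun i => (1 : ResidueField B) ⊗ₜ[B] D R B (a i)) ∧
      maximalIdeal B = (maximalIdeal R).map (algebraMap R B) ⊔ Ideal.span (Set.range a) := by
  classical
  have hGle : G ⊆ maximalIdeal B := by
    intro g hg
    rw [← hG]
    exact Ideal.subset_span hg
  let δ : B → (ResidueField B) ⊗[B] Ω[B⁄R] := fun g => (1 : ResidueField B) ⊗ₜ[B] D R B g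
  obtain ⟨b, hbs, hbspan, hbli⟩ := exists_linearIndependent (ResidueField B) (δ '' G)
  have hbfin : b.Finite := hbli.setFinite
  have hch : ∀ v : b, ∃ g ∈ G, δ g = v.1 := fun v => hbs v.2
  choose a haG ha using hch
  have _ : Fintype b := hbfin.fintype
  have hfam : (fun i : b => (1 : ResidueField B) ⊗ₜ[B] D R B (a i)) = Subtype.val := by
    funext i
    exact ha i
  have hrange : Set.range (fun i : b => (1 : ResidueField B) ⊗ₜ[B] D R B (a i)) = b := by
    rw [hfam]
    exact Subtype.range_val
  refine ⟨b, inferInstance, a, haG, ?_, ?_⟩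
  · rw [hfam]
    exact hbli
  · apply le_antisymm
    · refine Submodule.le_of_le_smul_of_le_jacobson_bot (IsNoetherian.noetherian _)
        (jacobson_eq_maximalIdeal (⊥ : Ideal B) bot_ne_top).ge ?_
      intro x hx
      have h1 : (1 : ResidueField B) ⊗ₜ[B] D R B x ∈ Submodule.span (ResidueField B)
          (Set.range (fun i : b => (1 : ResidueField B) ⊗ₜ[B] D R B (a i))) := by
        rw [hrange, hbspan]
        exact Groth.Agent.Lib.Helper51.JacobianSlice.one_tmul_D_mem_span G hGle x
          (by rw [hG]; exact hx)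
      obtain ⟨c, hc⟩ := (Submodule.mem_span_range_iff_exists_fun _).mp h1
      have hlift : ∀ i, ∃ β : B, residue B β = c i := fun i => residue_surjective (c i)
      choose β hβ using hlift
      have hsum_mem : ∑ i, β i * a i ∈ Ideal.span (Set.range a) :=
        Ideal.sum_mem _ (fun i _ => Ideal.mul_mem_left _ _ (Ideal.subset_span ⟨i, rfl⟩))
      have hspan_le : Ideal.span (Set.range a) ≤ maximalIdeal B := by
        rw [Ideal.span_le]
        rintro _ ⟨i, rfl⟩
        exact hGle (haG i)
      have hx' : x - ∑ i, β i * a i ∈ maximalIdeal B :=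
        Ideal.sub_mem _ hx (hspan_le hsum_mem)
      have h2 : (1 : ResidueField B) ⊗ₜ[B] D R B (x - ∑ i, β i * a i) = 0 := by
        rw [map_sub, tmul_sub, map_sum, tmul_sum, ← hc, sub_eq_zero]
        refine Finset.sum_congr rfl (fun i _ => ?_)
        rw [one_tmul_D_mul R B (β i) (a i) (hGle (haG i)), hβ]
      have h3 := mem_I0_of_tmul_eq_zero R B _ hx' h2
      obtain ⟨y, hy, z, hz, hyz⟩ := Submodule.mem_sup.mp h3
      have hxe : x = (y + ∑ i, β i * a i) + z := by
        rw [add_right_comm, hyz]
        ring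
      rw [hxe]
      refine Submodule.add_mem_sup ?_ ?_
      · exact Submodule.add_mem _ (Ideal.mem_sup_left hy) (Ideal.mem_sup_right hsum_mem)
      · rw [smul_eq_mul, ← sq]
        exact hz
    · refine sup_le (map_le_maximalIdeal R B) ?_
      rw [Ideal.span_le]
      rintro _ ⟨i, rfl⟩
      exact hGle (haG i)

omit [IsLocalRing R] [IsLocalHom (algebraMap R B)] in
theorem exists_dual_derivation {ι : Type*} [Finite ι] [DecidableEq ι] (a : ι → B)
    (hli : LinearIndependent (ResidueField B)
      (fun i => (1 : ResidueField B) ⊗ₜ[B] D R B (a i))) (j : ι) :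
    ∃ d : Derivation R B (ResidueField B), ∀ i, d (a i) = if i = j then 1 else 0 := by
  let f := Finsupp.linearCombination (ResidueField B)
    (fun i => (1 : ResidueField B) ⊗ₜ[B] D R B (a i))
  have hf : LinearMap.ker f = ⊥ := LinearMap.ker_eq_bot.mpr hli
  obtain ⟨g, hg⟩ := LinearMap.exists_leftInverse_of_injective f hf
  let lam : (ResidueField B) ⊗[B] Ω[B⁄R] →ₗ[ResidueField B] ResidueField B :=
    (Finsupp.lapply j) ∘ₗ g
  let ℓ : Ω[B⁄R] →ₗ[B] ResidueField B :=
    (lam.restrictScalars B) ∘ₗ (TensorProduct.mk B (ResidueField B) Ω[B⁄R] 1)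
  refine ⟨ℓ.compDer (D R B), fun i => ?_⟩
  change lam ((1 : ResidueField B) ⊗ₜ[B] D R B (a i)) = _
  have h1 : (1 : ResidueField B) ⊗ₜ[B] D R B (a i) = f (Finsupp.single i 1) := by
    rw [Finsupp.linearCombination_single, one_smul]
  rw [h1]
  have h3 : g (f (Finsupp.single i 1)) = Finsupp.single i 1 := LinearMap.congr_fun hg _
  change (g (f (Finsupp.single i 1))) j = _
  rw [h3, Finsupp.single_apply]

end Params

section Extension

variable (R B L : Type*) [CommRing R] [CommRing B] [CommRing L] [Algebra R B] [Algebra B L]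
  [Algebra R L] [IsScalarTower R B L]

theorem exists_retraction_mapBaseChange [Algebra.FormallySmooth B L] :
    ∃ ρ : Ω[L⁄R] →ₗ[L] L ⊗[B] Ω[B⁄R], ρ ∘ₗ (mapBaseChange R B L) = LinearMap.id := by
  have hinj : Function.Injective (mapBaseChange R B L) := by
    rw [injective_iff_map_eq_zero]
    intro x hx
    obtain ⟨y, rfl⟩ := (Algebra.H1Cotangent.exact_δ_mapBaseChange R B L x).mp hx
    rw [Subsingleton.elim y 0, map_zero]
  obtain ⟨s, hs⟩ := Module.projective_lifting_property (KaehlerDifferential.map R B L L)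
    (LinearMap.id) (KaehlerDifferential.map_surjective R B L)
  exact (((KaehlerDifferential.exact_mapBaseChange_map R B L).split_tfae'.out 0 1 rfl rfl).mp
    ⟨hinj, s, hs⟩).2

theorem exists_derivation_extension [Algebra.FormallySmooth B L]
    {N : Type*} [AddCommGroup N] [Module L N] [Module B N] [Module R N]
    [IsScalarTower B L N] [IsScalarTower R B N] [IsScalarTower R L N]
    (d : Derivation R B N) :
    ∃ d' : Derivation R L N, ∀ b, d' (algebraMap B L b) = d b := by
  obtain ⟨ρ, hρ⟩ := exists_retraction_mapBaseChange R B L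
  let ℓ' : L ⊗[B] Ω[B⁄R] →ₗ[L] N := LinearMap.liftBaseChange L d.liftKaehlerDifferential
  refine ⟨(ℓ' ∘ₗ ρ).compDer (D R L), fun b => ?_⟩
  change ℓ' (ρ (D R L (algebraMap B L b))) = d b
  have h1 : D R L (algebraMap B L b) = mapBaseChange R B L ((1 : L) ⊗ₜ[B] D R B b) := by
    rw [mapBaseChange_tmul, one_smul, map_D]
  rw [h1]
  have h2 : ρ (mapBaseChange R B L ((1 : L) ⊗ₜ[B] D R B b)) = (1 : L) ⊗ₜ[B] D R B b :=
    LinearMap.congr_fun hρ _
  rw [h2, LinearMap.liftBaseChange_tmul, one_smul, Derivation.liftKaehlerDifferential_comp_D]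

end Extension

section JC

variable {R L : Type*} [CommRing R] [CommRing L] [Algebra R L] [IsLocalRing L]

theorem formallySmooth_quotient_of_derivations
    [Algebra.FormallySmooth R L] [Module.Free L Ω[L⁄R]] [Module.Finite L Ω[L⁄R]]
    {ι : Type*} [Finite ι] [DecidableEq ι] (h : ι → L) (hh : ∀ i, h i ∈ maximalIdeal L)
    (d : ι → Derivation R L (ResidueField L))
    (hd : ∀ i j, d j (h i) = if i = j then 1 else 0) :
    Algebra.FormallySmooth R (L ⧸ Ideal.span (Set.range h)) := by
  have _ : Fintype ι := Fintype.ofFinite ι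
  refine Groth.Agent.Lib.Helper51.JacobianSlice.formallySmooth_quotient_of_linearIndependent h hh ?_
  rw [Fintype.linearIndependent_iff]
  intro c hc j
  let Φ : (ResidueField L) ⊗[L] Ω[L⁄R] →ₗ[ResidueField L] ResidueField L :=
    LinearMap.liftBaseChange (ResidueField L) (d j).liftKaehlerDifferential
  have h1 := congrArg Φ hc
  rw [map_sum, map_zero] at h1
  have h2 : ∀ i, Φ (c i • ((1 : ResidueField L) ⊗ₜ[L] D R L (h i))) =
      if i = j then c i else 0 := by
    intro i
    rw [map_smul, LinearMap.liftBaseChange_tmul, one_smul,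
      Derivation.liftKaehlerDifferential_comp_D, hd i j, smul_eq_mul, mul_ite, mul_one, mul_zero]
  rw [Finset.sum_congr rfl (fun i _ => h2 i), Finset.sum_ite_eq' Finset.univ j] at h1
  simpa using h1

end JC

end Helper27.Neron
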