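import Mathlib
import Groth.Agent.Lib.Helper51.JacobianSlice
import Groth.Agent.Lib.Helper97.ArtinCot.LocalCot
import Groth.Agent.Lib.Helper27.NeronA

set_option autoImplicit false
universe u

namespace Helper27.GeomReg

open IsLocalRing KaehlerDifferential TensorProduct MvPolynomial

section Chain

variable {k : Type*} [CommRing k] {σ : Type*} [Fintype σ] [DecidableEq σ]
  {T : Type*} [CommRing T] {M : Type*} [AddCommGroup M] [Module T M]

theorem chain_rule (ρ : MvPolynomial σ k →+* T) (E : MvPolynomial σ k →+ M)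
    (hE : ∀ f g, E (f * g) = ρ f • E g + ρ g • E f) (hC : ∀ c, E (C c) = 0)
    (g : MvPolynomial σ k) :
    E g = ∑ i, ρ (pderiv i g) • E (X i) := by
  induction g using MvPolynomial.induction_on with
  | C c =>
    rw [hC]
    symm
    refine Finset.sum_eq_zero (fun i _ => ?_)
    rw [pderiv_C, map_zero, zero_smul]
  | add f g hf hg =>
    rw [map_add, hf, hg, ← Finset.sum_add_distrib]
    refine Finset.sum_congr rfl (fun i _ => ?_)
    rw [map_add, map_add, add_smul]
  | mul_X f j hf =>
    rw [hE, hf]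
    have h1 : ∀ i, ρ (pderiv i (f * X j)) • E (X i) =
        ρ (X j) • (ρ (pderiv i f) • E (X i)) + (if i = j then ρ f • E (X i) else 0) := by
      intro i
      rw [Derivation.leibniz, pderiv_X, smul_eq_mul, smul_eq_mul, map_add, map_mul, map_mul,
        add_smul, mul_smul, mul_smul, add_comm]
      congr 1
      by_cases h : i = j
      · subst h
        rw [Pi.single_eq_same, if_pos rfl, map_one, one_smul]
      · rw [Pi.single_eq_of_ne (Ne.symm h), if_neg h, map_zero, zero_smul, smul_zero]
    rw [Finset.sum_congr rfl (fun i _ => h1 i), Finset.sum_add_distrib, ← Finset.smul_sum,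
      Finset.sum_ite_eq' Finset.univ j, if_pos (Finset.mem_univ j), add_comm]

end Chain

section ParamsField

variable (P₀ B : Type u) [CommRing P₀] [CommRing B] [IsLocalRing B] [Algebra P₀ B]

theorem mem_sq_of_tmul_eq_zero [Algebra.FormallySmooth P₀ (ResidueField B)]
    (x : B) (hx : x ∈ maximalIdeal B)
    (h : (1 : ResidueField B) ⊗ₜ[B] D P₀ B x = 0) : x ∈ maximalIdeal B ^ 2 := by
  have h1 : Groth.Agent.Lib.Helper97.ArtinCot.cotToTensor P₀ B
      ((maximalIdeal B).toCotangent ⟨x, hx⟩) = 0 := by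
    rw [Groth.Agent.Lib.Helper97.ArtinCot.cotToTensor_toCotangent]
    exact h
  have h2 := (injective_iff_map_eq_zero _).mp
    (Groth.Agent.Lib.Helper97.ArtinCot.cotToTensor_injective P₀ B) _ h1
  rw [Ideal.toCotangent_eq_zero] at h2
  exact h2

theorem one_tmul_D_mul' (b a : B) (ha : a ∈ maximalIdeal B) :
    (1 : ResidueField B) ⊗ₜ[B] D P₀ B (b * a) =
      residue B b • ((1 : ResidueField B) ⊗ₜ[B] D P₀ B a) := by
  rw [Derivation.leibniz, tmul_add]
  have h1 : (1 : ResidueField B) ⊗ₜ[B] (b • D P₀ B a) =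
      (residue B b) • ((1 : ResidueField B) ⊗ₜ[B] D P₀ B a) := by
    rw [← smul_tmul, smul_tmul', Algebra.smul_def, mul_one, smul_eq_mul, mul_one]
    rfl
  have h2 : (1 : ResidueField B) ⊗ₜ[B] (a • D P₀ B b) = 0 := by
    rw [← smul_tmul, Algebra.smul_def, mul_one]
    have : algebraMap B (ResidueField B) a = 0 := (residue_eq_zero_iff a).mpr ha
    rw [this, zero_tmul]
  rw [h1, h2, add_zero]

theorem exists_params_field [IsNoetherianRing B]
    [Algebra.FormallySmooth P₀ (ResidueField B)]
    (G : Set B) (hGfin : G.Finite) (hG : Ideal.span G = maximalIdeal B) :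
    ∃ (ι : Type u) (_ : Fintype ι) (a : ι → B), (∀ i, a i ∈ G) ∧
      LinearIndependent (ResidueField B) (fun i => (1 : ResidueField B) ⊗ₜ[B] D P₀ B (a i)) ∧
      maximalIdeal B = Ideal.span (Set.range a) := by
  classical
  have hGle : G ⊆ maximalIdeal B := by
    intro g hg
    rw [← hG]
    exact Ideal.subset_span hg
  let δ : B → (ResidueField B) ⊗[B] Ω[B⁄P₀] := fun g => (1 : ResidueField B) ⊗ₜ[B] D P₀ B g
  obtain ⟨b, hbs, hbspan, hbli⟩ := exists_linearIndependent (ResidueField B) (δ '' G)
  have hbfin : b.Finite := (hGfin.image δ).subset hbs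
  have hch : ∀ v : b, ∃ g ∈ G, δ g = v.1 := fun v => hbs v.2
  choose a haG ha using hch
  have _ : Fintype b := hbfin.fintype
  have hfam : (fun i : b => (1 : ResidueField B) ⊗ₜ[B] D P₀ B (a i)) = Subtype.val := by
    funext i
    exact ha i
  have hrange : Set.range (fun i : b => (1 : ResidueField B) ⊗ₜ[B] D P₀ B (a i)) = b := by
    rw [hfam]
    exact Subtype.range_val
  refine ⟨b, inferInstance, a, haG, ?_, ?_⟩
  · rw [hfam]
    exact hbli
  · apply le_antisymm
    · refine Submodule.le_of_le_smul_of_le_jacobson_bot (IsNoetherian.noetherian _)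
        (jacobson_eq_maximalIdeal (⊥ : Ideal B) bot_ne_top).ge ?_
      intro x hx
      have h1 : (1 : ResidueField B) ⊗ₜ[B] D P₀ B x ∈ Submodule.span (ResidueField B)
          (Set.range (fun i : b => (1 : ResidueField B) ⊗ₜ[B] D P₀ B (a i))) := by
        rw [hrange, hbspan]
        exact Groth.Agent.Lib.Helper51.JacobianSlice.one_tmul_D_mem_span G hGle x
          (by rw [hG]; exact hx)
      obtain ⟨c, hc⟩ := (Submodule.mem_span_range_iff_exists_fun _).mp h1
      have hlift : ∀ i, ∃ β : B, residue B β = c i := fun i => residue_surjective (c i)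
      choose β hβ using hlift
      have hsum_mem : ∑ i, β i * a i ∈ Ideal.span (Set.range a) :=
        Ideal.sum_mem _ (fun i _ => Ideal.mul_mem_left _ _ (Ideal.subset_span ⟨i, rfl⟩))
      have hspan_le : Ideal.span (Set.range a) ≤ maximalIdeal B := by
        rw [Ideal.span_le]
        rintro _ ⟨i, rfl⟩
        exact hGle (haG i)
      have hx' : x - ∑ i, β i * a i ∈ maximalIdeal B :=
        Ideal.sub_mem _ hx (hspan_le hsum_mem)
      have h2 : (1 : ResidueField B) ⊗ₜ[B] D P₀ B (x - ∑ i, β i * a i) = 0 := by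
        rw [map_sub, tmul_sub, map_sum, tmul_sum, ← hc, sub_eq_zero]
        refine Finset.sum_congr rfl (fun i _ => ?_)
        rw [one_tmul_D_mul' P₀ B (β i) (a i) (hGle (haG i)), hβ]
      have h3 := mem_sq_of_tmul_eq_zero P₀ B _ hx' h2
      have hxe : x = ∑ i, β i * a i + (x - ∑ i, β i * a i) := by ring
      rw [hxe]
      refine Submodule.add_mem_sup hsum_mem ?_
      rw [smul_eq_mul, ← sq]
      exact h3
    · exact hspan_le_aux a haG hGle
where
  hspan_le_aux {ι : Type u} (a : ι → B) {G : Set B} (haG : ∀ i, a i ∈ G)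
      (hGle : G ⊆ maximalIdeal B) : Ideal.span (Set.range a) ≤ maximalIdeal B := by
    rw [Ideal.span_le]
    rintro _ ⟨i, rfl⟩
    exact hGle (haG i)

end ParamsField

end Helper27.GeomReg
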