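import Mathlib
import Groth.Agent.Lib.Helper77.MiracleFlat
import Groth.Agent.Lib.Helper76.RegularLocal

set_option autoImplicit false
universe u

namespace Helper27.GeomReg

open IsLocalRing

section Quot

variable {R : Type u} [CommRing R] [IsLocalRing R] (I : Ideal R) (hI : I ≤ maximalIdeal R)

include hI in
theorem quot_nontrivial : Nontrivial (R ⧸ I) :=
  Ideal.Quotient.nontrivial_iff.mpr (fun h =>
    (maximalIdeal.isMaximal R).ne_top (top_le_iff.mp (h ▸ hI)))

include hI in
theorem quot_isLocalRing : IsLocalRing (R ⧸ I) := by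
  have := quot_nontrivial I hI
  exact IsLocalRing.of_surjective' (Ideal.Quotient.mk I) Ideal.Quotient.mk_surjective

include hI in
theorem mk_mem_maximalIdeal_iff [IsLocalRing (R ⧸ I)] (r : R) :
    Ideal.Quotient.mk I r ∈ maximalIdeal (R ⧸ I) ↔ r ∈ maximalIdeal R := by
  constructor
  · intro h
    by_contra hr
    have hu : IsUnit r := by
      by_contra hnu
      exact hr ((mem_maximalIdeal r).mpr hnu)
    exact (mem_maximalIdeal _).mp h (hu.map _)
  · intro h
    rw [mem_maximalIdeal, mem_nonunits_iff]
    intro hu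
    obtain ⟨s', hs'⟩ := hu.exists_right_inv
    obtain ⟨s, rfl⟩ := Ideal.Quotient.mk_surjective s'
    rw [← map_mul, ← map_one (Ideal.Quotient.mk I), Ideal.Quotient.eq] at hs'
    have h1 : r * s - 1 ∈ maximalIdeal R := hI hs'
    have h2 : r * s ∈ maximalIdeal R := Ideal.mul_mem_right _ _ h
    have h3 : (1 : R) ∈ maximalIdeal R := by
      have := Ideal.sub_mem _ h2 h1
      rwa [sub_sub_cancel] at this
    exact (maximalIdeal.isMaximal R).ne_top ((Ideal.eq_top_iff_one _).mpr h3)

include hI in
theorem maximalIdeal_quot [IsLocalRing (R ⧸ I)] :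
    maximalIdeal (R ⧸ I) = (maximalIdeal R).map (Ideal.Quotient.mk I) := by
  apply le_antisymm
  · intro r' hr'
    obtain ⟨r, rfl⟩ := Ideal.Quotient.mk_surjective r'
    exact Ideal.mem_map_of_mem _ ((mk_mem_maximalIdeal_iff I hI r).mp hr')
  · rw [Ideal.map_le_iff_le_comap]
    intro r hr
    exact (mk_mem_maximalIdeal_iff I hI r).mpr hr

end Quot

theorem flat_of_field_like (R S : Type u) [CommRing R] [CommRing S] [IsLocalRing R] [Algebra R S]
    (h : maximalIdeal R = ⊥) : Module.Flat R S := by
  have hF : IsField R := IsLocalRing.isField_iff_maximalIdeal_eq.mpr h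
  letI := hF.toField
  exact inferInstance

set_option maxHeartbeats 1000000 in
theorem flat_of_independent : ∀ (c : ℕ) (R S : Type u) [CommRing R] [CommRing S] [IsLocalRing R]
    [IsNoetherianRing R] [IsRegularLocalRing S] [Algebra R S] [IsLocalHom (algebraMap R S)]
    (x : Fin c → R) (_ : ∀ j, x j ∈ maximalIdeal R)
    (_ : maximalIdeal R ≤ Ideal.span (Set.range x))
    (_ : ∀ b : Fin c → S, ∑ j, b j * algebraMap R S (x j) ∈ maximalIdeal S ^ 2 →
      ∀ j, b j ∈ maximalIdeal S),
    Module.Flat R S := by
  intro c
  induction c with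
  | zero =>
    intro R S _ _ _ _ _ _ _ x _ hx _
    apply flat_of_field_like
    rw [eq_bot_iff]
    refine hx.trans ?_
    rw [Ideal.span_le]
    rintro _ ⟨j, rfl⟩
    exact j.elim0
  | succ c ih =>
    intro R S _ _ _ _ _ _ _ x hxm hx hind
    classical
    have hdom : IsDomain S := Groth.Agent.Lib.Helper76.isDomain_of_isRegularLocalRing S
    have hx0sq : algebraMap R S (x 0) ∉ maximalIdeal S ^ 2 := by
      intro h
      have h1 := hind (Pi.single 0 1) (by
        rw [Finset.sum_eq_single 0]
        · rw [Pi.single_eq_same, one_mul]; exact h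
        · intro j _ hj
          rw [Pi.single_eq_of_ne hj, zero_mul]
        · intro h0; exact absurd (Finset.mem_univ _) h0) 0
      rw [Pi.single_eq_same] at h1
      exact (maximalIdeal.isMaximal S).ne_top ((Ideal.eq_top_iff_one _).mpr h1)
    have hx0m : algebraMap R S (x 0) ∈ maximalIdeal S := by
      rw [mem_maximalIdeal, mem_nonunits_iff]
      intro hu
      exact (mem_maximalIdeal _).mp (hxm 0) (isUnit_of_map_unit (algebraMap R S) _ hu)
    have hx0ne : algebraMap R S (x 0) ≠ 0 := by
      intro h
      exact hx0sq (h ▸ Ideal.zero_mem _)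
    have hreg : IsSMulRegular S (algebraMap R S (x 0)) := by
      intro a b hab
      exact mul_left_cancel₀ hx0ne (by simpa [smul_eq_mul] using hab)
    have hI : Ideal.span {x 0} ≤ maximalIdeal R :=
      (Ideal.span_singleton_le_iff_mem _).mpr (hxm 0)
    have hJeq : (Ideal.span {x 0}).map (algebraMap R S) = Ideal.span {algebraMap R S (x 0)} := by
      rw [Ideal.map_span, Set.image_singleton]
    have hJ : (Ideal.span {x 0}).map (algebraMap R S) ≤ maximalIdeal S := by
      rw [hJeq]
      exact (Ideal.span_singleton_le_iff_mem _).mpr hx0m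
    have hlocR' : IsLocalRing (R ⧸ Ideal.span {x 0}) := quot_isLocalRing _ hI
    have hregS0 : IsRegularLocalRing (S ⧸ Ideal.span {algebraMap R S (x 0)}) :=
      (Groth.Agent.Lib.Helper76.isRegularLocalRing_quotient_of_notMem_sq S _ hx0m hx0sq).1
    have hregS' : IsRegularLocalRing (S ⧸ (Ideal.span {x 0}).map (algebraMap R S)) :=
      IsRegularLocalRing.of_ringEquiv (Ideal.quotEquivOfEq hJeq.symm)
    have hlocS' : IsLocalRing (S ⧸ (Ideal.span {x 0}).map (algebraMap R S)) := inferInstance
    have hlochom : IsLocalHom (algebraMap (R ⧸ Ideal.span {x 0})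
        (S ⧸ (Ideal.span {x 0}).map (algebraMap R S))) := by
      refine ⟨fun r' hr' => ?_⟩
      obtain ⟨r, rfl⟩ := Ideal.Quotient.mk_surjective r'
      rw [Ideal.Quotient.algebraMap_quotient_map_quotient] at hr'
      by_contra hnu
      have h1 : Ideal.Quotient.mk (Ideal.span {x 0}) r ∈ maximalIdeal (R ⧸ Ideal.span {x 0}) :=
        (mem_maximalIdeal _).mpr hnu
      rw [mk_mem_maximalIdeal_iff _ hI] at h1
      have h2 : algebraMap R S r ∈ maximalIdeal S := by
        rw [mem_maximalIdeal, mem_nonunits_iff]
        intro hu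
        exact (mem_maximalIdeal _).mp h1 (isUnit_of_map_unit (algebraMap R S) _ hu)
      have h3 := (mk_mem_maximalIdeal_iff _ hJ (algebraMap R S r)).mpr h2
      exact (mem_maximalIdeal _).mp h3 hr'
    have hflat' : Module.Flat (R ⧸ Ideal.span {x 0})
        (S ⧸ (Ideal.span {x 0}).map (algebraMap R S)) := by
      refine ih (R ⧸ Ideal.span {x 0}) (S ⧸ (Ideal.span {x 0}).map (algebraMap R S))
        (fun j => Ideal.Quotient.mk _ (x j.succ)) ?_ ?_ ?_
      · intro j
        exact (mk_mem_maximalIdeal_iff _ hI _).mpr (hxm j.succ)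
      · rw [maximalIdeal_quot _ hI, Ideal.map_le_iff_le_comap]
        refine hx.trans ?_
        rw [Ideal.span_le]
        rintro _ ⟨j, rfl⟩
        rw [SetLike.mem_coe, Ideal.mem_comap]
        cases j using Fin.cases with
        | zero =>
          have : Ideal.Quotient.mk (Ideal.span {x 0}) (x 0) = 0 :=
            Ideal.Quotient.eq_zero_iff_mem.mpr (Ideal.mem_span_singleton_self _)
          rw [this]
          exact Ideal.zero_mem _
        | succ j => exact Ideal.subset_span ⟨j, rfl⟩
      · intro b' hb' j
        have hlift : ∀ j, ∃ b : S, Ideal.Quotient.mk _ b = b' j := fun j =>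
          Ideal.Quotient.mk_surjective (b' j)
        choose b hb using hlift
        have h1 : Ideal.Quotient.mk ((Ideal.span {x 0}).map (algebraMap R S))
            (∑ j, b j * algebraMap R S (x j.succ)) ∈
            (maximalIdeal S ^ 2).map (Ideal.Quotient.mk _) := by
          rw [Ideal.map_pow, ← maximalIdeal_quot _ hJ, map_sum]
          convert hb' using 1
          refine Finset.sum_congr rfl (fun j _ => ?_)
          rw [map_mul, hb, Ideal.Quotient.algebraMap_quotient_map_quotient]
        rw [Ideal.mem_map_iff_of_surjective _ Ideal.Quotient.mk_surjective] at h1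
        obtain ⟨y, hy, hye⟩ := h1
        rw [Ideal.Quotient.eq, hJeq, Ideal.mem_span_singleton'] at hye
        obtain ⟨s, hs⟩ := hye
        have h2 := hind (Fin.cons s b) (by
          rw [Fin.sum_univ_succ]
          simp only [Fin.cons_zero, Fin.cons_succ]
          have : s * algebraMap R S (x 0) + ∑ j, b j * algebraMap R S (x j.succ) = y := by
            rw [hs]; ring
          rw [this]
          exact hy) j.succ
        rw [Fin.cons_succ] at h2
        rw [← hb j]
        exact (mk_mem_maximalIdeal_iff _ hJ _).mpr h2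
    exact Groth.Agent.Lib.Helper77.MiracleFlat.flat_of_flat_quot R S (x 0) (hxm 0) hreg hflat'

end Helper27.GeomReg
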