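import Mathlib
import Groth.Agent.Lib.Helper49.GeomRegFS7
import Groth.Agent.Lib.Helper49.FSJacobi2
import Groth.Agent.Lib.Helper49.KaehlerResidue
import Groth.Agent.Lib.Helper49.MacLane
import Groth.Agent.Lib.Helper65.RegularSmooth
import Groth.Agent.Lib.Helper27.GeomRegA
import Groth.Agent.Lib.Helper27.GeomRegB

set_option autoImplicit false
universe u

namespace Helper27.GeomReg

open IsLocalRing KaehlerDifferential TensorProduct MvPolynomial

theorem pderiv_closed {k : Type u} [Field k] {A : Type u} [CommRing A] [IsLocalRing A]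
    [Algebra k A] (F : IntermediateField k (ResidueField A)) (m : ℕ)
    (φ : MvPolynomial (Fin m) k →ₐ[k] A)
    (hφ : ∀ i, residue A (φ (X i)) ∈ F)
    (hli : LinearIndependent F (fun i : Fin m => D k F ⟨residue A (φ (X i)), hφ i⟩))
    (g : MvPolynomial (Fin m) k) (hg : residue A (φ g) = 0) (i : Fin m) :
    residue A (φ (pderiv i g)) = 0 := by
  classical
  let t : Fin m → F := fun i => ⟨residue A (φ (X i)), hφ i⟩
  let ev : MvPolynomial (Fin m) k →ₐ[k] F := aeval t
  have hev : ∀ f, ((ev f : F) : ResidueField A) = residue A (φ f) := by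
    intro f
    have h : (F.val.comp ev) = ((IsScalarTower.toAlgHom k A (ResidueField A)).comp φ) := by
      apply MvPolynomial.algHom_ext
      intro i
      rw [AlgHom.comp_apply, AlgHom.comp_apply, aeval_X]
      rfl
    exact DFunLike.congr_fun h f
  have h0 : ev g = 0 := by
    apply Subtype.ext
    rw [hev, hg]
    rfl
  let E : MvPolynomial (Fin m) k →+ Ω[F⁄k] :=
    AddMonoidHom.mk' (fun f => D k F (ev f)) (by intro a b; rw [map_add, map_add])
  have hE : ∀ f g, E (f * g) = (ev : MvPolynomial (Fin m) k →+* F) f • E g +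
      (ev : MvPolynomial (Fin m) k →+* F) g • E f := by
    intro f g
    change D k F (ev (f * g)) = ev f • D k F (ev g) + ev g • D k F (ev f)
    rw [map_mul, Derivation.leibniz]
  have hC : ∀ c, E (C c) = 0 := by
    intro c
    change D k F (ev (C c)) = 0
    have : ev (C c) = algebraMap k F c := by
      rw [← MvPolynomial.algebraMap_eq]
      exact ev.commutes c
    rw [this, Derivation.map_algebraMap]
  have hch := chain_rule (ev : MvPolynomial (Fin m) k →+* F) E hE hC g
  have h1 : E g = 0 := by
    change D k F (ev g) = 0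
    rw [h0, map_zero]
  rw [h1] at hch
  have h2 := (Fintype.linearIndependent_iff.mp hli)
    (fun i => (ev : MvPolynomial (Fin m) k →+* F) (pderiv i g)) (by
      rw [hch]
      refine Finset.sum_congr rfl (fun j _ => ?_)
      change ev (pderiv j g) • D k F (t j) = ev (pderiv j g) • D k F (ev (X j))
      rw [aeval_X]) i
  have h3 : ev (pderiv i g) = 0 := h2
  rw [← hev, h3]
  rfl

theorem exists_derivation_of_leibniz {k : Type u} [Field k] {A : Type u} [CommRing A]
    [IsLocalRing A] [Algebra k A]
    (hinj : Function.Injective ((mapBaseChange ℤ k A).lTensor (ResidueField A)))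
    (m : ℕ) (φ : MvPolynomial (Fin m) k →ₐ[k] A)
    (hcl : ∀ g, residue A (φ g) = 0 → ∀ i, residue A (φ (pderiv i g)) = 0)
    (e : MvPolynomial (Fin m) k →+ ResidueField A)
    (he : ∀ f g, e (f * g) = residue A (φ f) * e g + residue A (φ g) * e f) :
    ∃ D' : Derivation ℤ A (ResidueField A), ∀ g, residue A (φ g) = 0 → D' (φ g) = e g := by
  classical
  have hφC : ∀ c : k, φ (C c) = algebraMap k A c := by
    intro c
    rw [← MvPolynomial.algebraMap_eq]
    exact φ.commutes c
  let δ : Derivation ℤ k (ResidueField A) := Derivation.mk'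
    ((e.comp (C : k →+* MvPolynomial (Fin m) k).toAddMonoidHom).toIntLinearMap) (by
      intro a b
      change e (C (a * b)) = a • e (C b) + b • e (C a)
      rw [C_mul, he, Algebra.smul_def, Algebra.smul_def, hφC, hφC]
      rfl)
  have hδ : ∀ c, δ c = e (C c) := fun c => rfl
  obtain ⟨D', hD'⟩ :=
    Groth.Agent.Lib.Helper49.KaehlerResidue.exists_derivation_extension_of_injective hinj
      (ResidueField A) δ
  refine ⟨D', fun g hg => ?_⟩
  have hs : ∀ (a : A) (v : ResidueField A), a • v = residue A a * v := fun a v => by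
    rw [Algebra.smul_def]
    rfl
  let E : MvPolynomial (Fin m) k →+ ResidueField A :=
    AddMonoidHom.mk' (fun f => D' (φ f) - e f) (by
      intro a b
      rw [map_add, map_add, map_add]
      abel)
  have hE : ∀ f g, E (f * g) = ((residue A).comp φ.toRingHom) f • E g +
      ((residue A).comp φ.toRingHom) g • E f := by
    intro f g
    change D' (φ (f * g)) - e (f * g) = residue A (φ f) * (D' (φ g) - e g) +
      residue A (φ g) * (D' (φ f) - e f)
    rw [map_mul, Derivation.leibniz, he, hs, hs]
    ring
  have hC : ∀ c, E (C c) = 0 := by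
    intro c
    change D' (φ (C c)) - e (C c) = 0
    rw [hφC, hD', hδ, sub_self]
  have h := chain_rule ((residue A).comp φ.toRingHom) E hE hC g
  have h0 : E g = 0 := by
    rw [h]
    refine Finset.sum_eq_zero (fun i _ => ?_)
    change residue A (φ (pderiv i g)) • E (X i) = 0
    rw [hcl g hg i, zero_smul]
  exact sub_eq_zero.mp h0

end Helper27.GeomReg
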