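import Mathlib
import Groth.Agent.Lib.Helper27.GeomRegC

set_option autoImplicit false
universe u

namespace Helper27.GeomReg

open IsLocalRing KaehlerDifferential TensorProduct MvPolynomial

set_option maxHeartbeats 2000000 in
theorem main (p : ℕ) [Fact p.Prime] (k : Type u) [Field k] [CharP k p] (A : Type u) [CommRing A]
    [IsLocalRing A] [IsNoetherianRing A] [Algebra k A] (hA : CAlg.IsGeometricallyRegular k A)
    (F : IntermediateField k (ResidueField A)) (m : ℕ)
    (φ : MvPolynomial (Fin m) k →ₐ[k] A)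
    (hφ : ∀ i : Fin m, residue A (φ (X i)) ∈ F)
    (hli : LinearIndependent F (fun i : Fin m => D k F ⟨residue A (φ (X i)), hφ i⟩)) :
    letI := φ.toRingHom.toAlgebra
    Module.Flat (MvPolynomial (Fin m) k) A ∧
      IsRegularLocalRing (A ⧸ Ideal.map φ.toRingHom
        (Ideal.comap φ.toRingHom (maximalIdeal A))) := by
  classical
  let inst : Algebra (MvPolynomial (Fin m) k) A := φ.toRingHom.toAlgebra
  have h1 := Groth.Agent.Lib.Helper49.GeomRegFS.isGeometricallyRegular_iff_isAdicFormallySmooth.mp hA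
  obtain ⟨hreg, hinj⟩ :=
    Groth.Agent.Lib.Helper49.FSJacobi.isAdicFormallySmooth_iff_regular_and_injective.mp h1
  have hcl := pderiv_closed F m φ hφ hli
  obtain ⟨𝔭, h𝔭⟩ : ∃ 𝔭 : Ideal (MvPolynomial (Fin m) k),
    𝔭 = Ideal.comap φ.toRingHom (maximalIdeal A) := ⟨_, rfl⟩
  have hmem : ∀ g, g ∈ 𝔭 ↔ residue A (φ g) = 0 := by
    intro g
    rw [h𝔭, Ideal.mem_comap, residue_eq_zero_iff]
    rfl
  have hprime : 𝔭.IsPrime := by
    rw [h𝔭]
    exact Ideal.IsPrime.comap _
  rw [← h𝔭]
  have hunit : ∀ y : 𝔭.primeCompl, IsUnit (φ.toRingHom y) := by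
    intro y
    have hy : (y : MvPolynomial (Fin m) k) ∉ 𝔭 := y.2
    rw [hmem] at hy
    by_contra hnu
    exact hy ((residue_eq_zero_iff _).mpr ((mem_maximalIdeal _).mpr hnu))
  let ψ : Localization.AtPrime 𝔭 →+* A := IsLocalization.lift hunit
  have hψ : ∀ g, ψ (algebraMap (MvPolynomial (Fin m) k) (Localization.AtPrime 𝔭) g) = φ g :=
    fun g => IsLocalization.lift_eq hunit g
  let _ : Algebra (Localization.AtPrime 𝔭) A := ψ.toAlgebra
  have _ : IsScalarTower (MvPolynomial (Fin m) k) (Localization.AtPrime 𝔭) A :=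
    IsScalarTower.of_algebraMap_eq (fun g => (hψ g).symm)
  have hloc : IsLocalHom ψ := by
    apply ((IsLocalRing.local_hom_TFAE ψ).out 0 3).mpr
    rw [← Localization.AtPrime.map_eq_maximalIdeal, Ideal.map_le_iff_le_comap]
    intro g hg
    rw [Ideal.mem_comap, Ideal.mem_comap, hψ]
    exact (residue_eq_zero_iff _).mp ((hmem g).mp hg)
  have hloc' : IsLocalHom (algebraMap (Localization.AtPrime 𝔭) A) := hloc
  obtain ⟨P₀, _, _, _, _, _, _⟩ :=
    Groth.Agent.Lib.Helper49.MacLane.exists_primeField p k (ResidueField A)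
  let _ : Algebra P₀ (Localization.AtPrime 𝔭) :=
    ((algebraMap k (Localization.AtPrime 𝔭)).comp (algebraMap P₀ k)).toAlgebra
  have _ : CharP (ResidueField (Localization.AtPrime 𝔭)) p :=
    charP_of_injective_algebraMap
      (algebraMap k (ResidueField (Localization.AtPrime 𝔭))).injective p
  have hfs : Algebra.FormallySmooth P₀ (ResidueField (Localization.AtPrime 𝔭)) :=
    Groth.Agent.Lib.Helper49.MacLane.formallySmooth_of_perfect p
  have hNoeth : IsNoetherianRing (Localization.AtPrime 𝔭) :=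
    IsLocalization.isNoetherianRing 𝔭.primeCompl _ inferInstance
  obtain ⟨S, hS⟩ := (isNoetherianRing_iff_ideal_fg (MvPolynomial (Fin m) k)).mp inferInstance 𝔭
  have hG : Ideal.span (algebraMap (MvPolynomial (Fin m) k) (Localization.AtPrime 𝔭) ''
      (S : Set (MvPolynomial (Fin m) k))) = maximalIdeal (Localization.AtPrime 𝔭) := by
    rw [← Ideal.map_span, hS, Localization.AtPrime.map_eq_maximalIdeal]
  obtain ⟨ι, _, a, haG, hali, hamax⟩ :=
    exists_params_field P₀ (Localization.AtPrime 𝔭) _ (S.finite_toSet.image _) hG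
  choose g hgS hga using haG
  obtain ⟨c, hc⟩ : ∃ c, c = Fintype.card ι := ⟨_, rfl⟩
  let e : ι ≃ Fin c := (Fintype.equivFin ι).trans (finCongr hc.symm)
  let g' : Fin c → MvPolynomial (Fin m) k := fun j => g (e.symm j)
  have hg'𝔭 : ∀ j, g' j ∈ 𝔭 := fun j => by
    rw [← hS]
    exact Ideal.subset_span (hgS _)
  let x : Fin c → Localization.AtPrime 𝔭 :=
    fun j => algebraMap (MvPolynomial (Fin m) k) (Localization.AtPrime 𝔭) (g' j)
  have hxa : ∀ j, x j = a (e.symm j) := fun j => hga _
  have hxli : LinearIndependent (ResidueField (Localization.AtPrime 𝔭))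
      (fun j => (1 : ResidueField (Localization.AtPrime 𝔭)) ⊗ₜ[Localization.AtPrime 𝔭]
        D P₀ (Localization.AtPrime 𝔭) (x j)) := by
    have h := hali.comp e.symm e.symm.injective
    have hfun : (fun j => (1 : ResidueField (Localization.AtPrime 𝔭)) ⊗ₜ[Localization.AtPrime 𝔭]
        D P₀ (Localization.AtPrime 𝔭) (x j)) =
        (fun i => (1 : ResidueField (Localization.AtPrime 𝔭)) ⊗ₜ[Localization.AtPrime 𝔭]
          D P₀ (Localization.AtPrime 𝔭) (a i)) ∘ e.symm := by
      funext j
      rw [Function.comp_apply, hxa]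
    rw [hfun]
    exact h
  have hxmax : maximalIdeal (Localization.AtPrime 𝔭) = Ideal.span (Set.range x) := by
    rw [hamax]
    congr 1
    ext z
    constructor
    · rintro ⟨i, rfl⟩
      exact ⟨e i, by rw [hxa, Equiv.symm_apply_apply]⟩
    · rintro ⟨j, rfl⟩
      exact ⟨e.symm j, (hxa j).symm⟩
  have hD : ∀ l : Fin c, ∃ D' : Derivation ℤ A (ResidueField A),
      ∀ j, D' (φ (g' j)) = if j = l then 1 else 0 := by
    intro l
    obtain ⟨d, hd⟩ := Helper27.Neron.exists_dual_derivation P₀ (Localization.AtPrime 𝔭) x hxli l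
    let ι' : ResidueField (Localization.AtPrime 𝔭) →+* ResidueField A := ResidueField.map ψ
    let e' : MvPolynomial (Fin m) k →+ ResidueField A :=
      AddMonoidHom.mk' (fun f => ι' (d (algebraMap (MvPolynomial (Fin m) k)
        (Localization.AtPrime 𝔭) f))) (by
        intro a b
        rw [map_add, map_add, map_add])
    have hs : ∀ (a : Localization.AtPrime 𝔭) (v : ResidueField (Localization.AtPrime 𝔭)),
        ι' (a • v) = residue A (ψ a) * ι' v := by
      intro a v
      rw [Algebra.smul_def, map_mul]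
      congr 1
    have he' : ∀ f g, e' (f * g) = residue A (φ f) * e' g + residue A (φ g) * e' f := by
      intro f g
      change ι' (d (algebraMap (MvPolynomial (Fin m) k) (Localization.AtPrime 𝔭) (f * g))) =
        residue A (φ f) * ι' (d (algebraMap (MvPolynomial (Fin m) k)
          (Localization.AtPrime 𝔭) g)) +
        residue A (φ g) * ι' (d (algebraMap (MvPolynomial (Fin m) k)
          (Localization.AtPrime 𝔭) f))
      rw [map_mul, Derivation.leibniz, map_add, hs, hs, hψ, hψ]
    obtain ⟨D', hD'⟩ := exists_derivation_of_leibniz hinj m φ hcl e' he'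
    refine ⟨D', fun j => ?_⟩
    rw [hD' _ ((hmem _).mp (hg'𝔭 j))]
    change ι' (d (x j)) = _
    rw [hd]
    split_ifs
    · rw [map_one]
    · rw [map_zero]
  have hsq : ∀ (D' : Derivation ℤ A (ResidueField A)) z, z ∈ maximalIdeal A ^ 2 → D' z = 0 := by
    intro D' z hz
    rw [pow_two] at hz
    refine Submodule.mul_induction_on hz ?_ ?_
    · intro a ha b hb
      rw [Derivation.leibniz, Algebra.smul_def, Algebra.smul_def]
      have h1 : algebraMap A (ResidueField A) a = 0 := (residue_eq_zero_iff a).mpr ha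
      have h2 : algebraMap A (ResidueField A) b = 0 := (residue_eq_zero_iff b).mpr hb
      rw [h1, h2, zero_mul, zero_mul, add_zero]
    · intro a b ha hb
      rw [map_add, ha, hb, add_zero]
  have hφgm : ∀ j, φ (g' j) ∈ maximalIdeal A := fun j =>
    (residue_eq_zero_iff _).mp ((hmem _).mp (hg'𝔭 j))
  have hind : ∀ b : Fin c → A, ∑ j, b j * φ (g' j) ∈ maximalIdeal A ^ 2 →
      ∀ j, b j ∈ maximalIdeal A := by
    intro b hb l
    obtain ⟨D', hD'⟩ := hD l
    have h0 := hsq D' _ hb
    rw [map_sum] at h0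
    have h2 : ∀ j, D' (b j * φ (g' j)) = if j = l then residue A (b j) else 0 := by
      intro j
      rw [Derivation.leibniz, hD', Algebra.smul_def, Algebra.smul_def]
      have h3 : algebraMap A (ResidueField A) (φ (g' j)) = 0 :=
        (residue_eq_zero_iff _).mpr (hφgm j)
      rw [h3, zero_mul, add_zero]
      split_ifs
      · rw [mul_one]
        rfl
      · rw [mul_zero]
    rw [Finset.sum_congr rfl (fun j _ => h2 j), Finset.sum_ite_eq' Finset.univ l,
      if_pos (Finset.mem_univ l)] at h0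
    exact (residue_eq_zero_iff _).mp h0
  have hflat₀ : Module.Flat (Localization.AtPrime 𝔭) A := by
    refine flat_of_independent c (Localization.AtPrime 𝔭) A x ?_ hxmax.le ?_
    · intro j
      rw [hxmax]
      exact Ideal.subset_span ⟨j, rfl⟩
    · intro b hb
      apply hind b
      have hsum : ∑ j, b j * φ (g' j) =
          ∑ j, b j * algebraMap (Localization.AtPrime 𝔭) A (x j) := by
        refine Finset.sum_congr rfl (fun j _ => ?_)
        rw [← hψ]
        rfl
      rw [hsum]
      exact hb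
  have hflat₁ : Module.Flat (MvPolynomial (Fin m) k) (Localization.AtPrime 𝔭) :=
    IsLocalization.flat _ 𝔭.primeCompl
  have hflat : Module.Flat (MvPolynomial (Fin m) k) A :=
    Module.Flat.trans (MvPolynomial (Fin m) k) (Localization.AtPrime 𝔭) A
  have hJ : Ideal.map φ.toRingHom 𝔭 = Ideal.span (Set.range (fun j => φ (g' j))) := by
    have h1 : Ideal.map ψ (Ideal.map (algebraMap (MvPolynomial (Fin m) k)
        (Localization.AtPrime 𝔭)) 𝔭) = Ideal.map φ.toRingHom 𝔭 := by
      rw [Ideal.map_map]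
      congr 1
      exact RingHom.ext (fun g => hψ g)
    rw [← h1, Localization.AtPrime.map_eq_maximalIdeal, hxmax, Ideal.map_span]
    congr 1
    ext z
    constructor
    · rintro ⟨_, ⟨j, rfl⟩, rfl⟩
      exact ⟨j, (hψ _).symm⟩
    · rintro ⟨j, rfl⟩
      exact ⟨_, ⟨j, rfl⟩, hψ _⟩
  refine ⟨hflat, ?_⟩
  rw [hJ]
  apply Groth.Agent.Lib.Helper65.RegularSmooth.isRegularLocalRing_quotient_of_inf_sq_le
  · intro h
    have hle : Ideal.span (Set.range fun j => φ (g' j)) ≤ maximalIdeal A := by
      rw [Ideal.span_le]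
      rintro _ ⟨j, rfl⟩
      exact hφgm j
    exact (maximalIdeal.isMaximal A).ne_top (top_le_iff.mp (h ▸ hle))
  · rintro z ⟨hz1, hz2⟩
    obtain ⟨b, rfl⟩ := (Ideal.mem_span_range_iff_exists_fun).mp hz1
    have hb := hind b hz2
    exact Ideal.sum_mem _ (fun j _ => Ideal.mul_mem_mul (hb j) (Ideal.subset_span ⟨j, rfl⟩))

end Helper27.GeomReg
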