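import Mathlib
import Groth.Agent.Lib.Helper27.GeomRegD

set_option autoImplicit false
universe u

namespace Helper27.Insep

open IsLocalRing KaehlerDifferential TensorProduct

set_option maxHeartbeats 1000000 in
theorem fg_ker_of_injective {k A : Type u} [Field k] [CommRing A] [IsLocalRing A]
    [IsNoetherianRing A] [Algebra k A]
    (hinj : Function.Injective ((mapBaseChange ℤ k A).lTensor (ResidueField A))) :
    (LinearMap.ker (mapBaseChange ℤ k (ResidueField A))).FG := by
  classical
  let K := ResidueField A
  let e := TensorProduct.AlgebraTensorModule.cancelBaseChange k A K K Ω[k⁄ℤ]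
  let ΦK : K ⊗[k] Ω[k⁄ℤ] →ₗ[K] K ⊗[A] Ω[A⁄ℤ] :=
    ((mapBaseChange ℤ k A).baseChange K) ∘ₗ e.symm.toLinearMap
  have hΦinj : Function.Injective ΦK := by
    intro x y hxy
    apply e.symm.injective
    apply hinj
    exact hxy
  let Ψ : K ⊗[A] Ω[A⁄ℤ] →ₗ[K] Ω[K⁄ℤ] := mapBaseChange ℤ A K
  have hmapmap : ∀ ω : Ω[k⁄ℤ], KaehlerDifferential.map ℤ ℤ A K (KaehlerDifferential.map ℤ ℤ k A ω) =
      KaehlerDifferential.map ℤ ℤ k K ω := by
    intro ω
    have hω : ω ∈ Submodule.span k (Set.range (D ℤ k)) := by
      rw [KaehlerDifferential.span_range_derivation]; trivial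
    induction hω using Submodule.span_induction with
    | mem x hx =>
      obtain ⟨y, rfl⟩ := hx
      rw [KaehlerDifferential.map_D, KaehlerDifferential.map_D, KaehlerDifferential.map_D,
        ← IsScalarTower.algebraMap_apply]
    | zero => simp
    | add x y _ _ hx hy => rw [map_add, map_add, map_add, hx, hy]
    | smul a x _ hx =>
      rw [LinearMap.map_smul, LinearMap.map_smul, ← algebraMap_smul A a, LinearMap.map_smul, hx,
        algebraMap_smul]
  have hcomp : ∀ x, Ψ (ΦK x) = mapBaseChange ℤ k K x := by
    intro x
    induction x using TensorProduct.induction_on with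
    | zero => simp
    | tmul c ω =>
      show Ψ (((mapBaseChange ℤ k A).baseChange K) (e.symm (c ⊗ₜ ω))) = _
      rw [TensorProduct.AlgebraTensorModule.cancelBaseChange_symm_tmul, LinearMap.baseChange_tmul,
        mapBaseChange_tmul, mapBaseChange_tmul, mapBaseChange_tmul, one_smul, hmapmap]
    | add x y hx hy => rw [map_add, map_add, map_add, hx, hy]
  have hsurj : Function.Surjective (algebraMap A K) := IsLocalRing.residue_surjective
  have hex := KaehlerDifferential.exact_kerCotangentToTensor_mapBaseChange ℤ A K hsurj
  have hkerΨ : (LinearMap.ker Ψ).FG := by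
    have hfg : (⊤ : Submodule A (RingHom.ker (algebraMap A K)).Cotangent).FG := by
      have h1 : Module.Finite A (RingHom.ker (algebraMap A K)) :=
        Module.Finite.iff_fg.mpr (IsNoetherian.noetherian _)
      have : Module.Finite A (RingHom.ker (algebraMap A K)).Cotangent :=
        Module.Finite.of_surjective (RingHom.ker (algebraMap A K)).toCotangent
          (Ideal.toCotangent_surjective _)
      exact Module.Finite.fg_top
    obtain ⟨S, hS⟩ := hfg
    refine ⟨S.image (kerCotangentToTensor ℤ A K), ?_⟩
    apply le_antisymm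
    · rw [Submodule.span_le]
      intro x hx
      rw [Finset.coe_image] at hx
      obtain ⟨y, _, rfl⟩ := hx
      exact (hex _).mpr ⟨y, rfl⟩
    · intro x hx
      obtain ⟨y, rfl⟩ := (hex x).mp hx
      clear hx
      have hy : y ∈ Submodule.span A (S : Set _) := by rw [hS]; trivial
      induction hy using Submodule.span_induction with
      | mem z hz =>
        apply Submodule.subset_span
        rw [Finset.coe_image]
        exact ⟨z, hz, rfl⟩
      | zero => rw [map_zero]; exact Submodule.zero_mem _
      | add a b _ _ ha hb => rw [map_add]; exact Submodule.add_mem _ ha hb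
      | smul a z _ hz =>
        rw [LinearMap.map_smul, ← algebraMap_smul K a]
        exact Submodule.smul_mem _ _ hz
  have hfin : Module.Finite K (LinearMap.ker Ψ) := Module.Finite.iff_fg.mpr hkerΨ
  let f : LinearMap.ker (mapBaseChange ℤ k K) →ₗ[K] LinearMap.ker Ψ :=
    LinearMap.codRestrict _ (ΦK ∘ₗ (LinearMap.ker (mapBaseChange ℤ k K)).subtype) (by
      intro x
      rw [LinearMap.mem_ker]
      show Ψ (ΦK x.1) = 0
      rw [hcomp]
      exact x.2)
  have hf : Function.Injective f := by
    intro x y hxy
    apply Subtype.ext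
    apply hΦinj
    exact congrArg Subtype.val hxy
  haveI : IsNoetherian K ↥(LinearMap.ker Ψ) := isNoetherian_of_fg_of_noetherian _ hkerΨ
  have : Module.Finite K (LinearMap.ker (mapBaseChange ℤ k K)) := Module.Finite.of_injective f hf
  exact Module.Finite.iff_fg.mp this

end Helper27.Insep
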