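import Mathlib
import Groth.Agent.Lib.Helper49.MacLane

set_option autoImplicit false
universe u

namespace Helper27.ArtUnion

theorem ringHom_ext_prime (p : ℕ) [Fact p.Prime] {C : Type*} [Semiring C]
    (φ ψ : ULift.{u} (ZMod p) →+* C) : φ = ψ := by
  have h : φ.comp (ULift.ringEquiv (R := ZMod p)).symm.toRingHom =
      ψ.comp (ULift.ringEquiv (R := ZMod p)).symm.toRingHom := Subsingleton.elim _ _
  ext x
  have := RingHom.congr_fun h (ULift.ringEquiv x)
  simpa using this

theorem exists_ringHom_lift (p : ℕ) [Fact p.Prime] {K : Type u} [Field K] [CharP K p]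
    {B C : Type u} [CommRing B] [CommRing C] (hpB : (p : B) = 0)
    (f : K →+* C) (g : B →+* C) (hg : Function.Surjective g)
    (hg' : IsNilpotent (RingHom.ker g)) :
    ∃ h : K →+* B, g.comp h = f := by
  let ιB : ULift.{u} (ZMod p) →+* B :=
    (ZMod.castHom (ringChar.dvd hpB) B).comp (ULift.ringEquiv (R := ZMod p)).toRingHom
  let ιK : ULift.{u} (ZMod p) →+* K :=
    (ZMod.castHom (dvd_refl p) K).comp (ULift.ringEquiv (R := ZMod p)).toRingHom
  let _ : Algebra (ULift.{u} (ZMod p)) B := ιB.toAlgebra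
  let _ : Algebra (ULift.{u} (ZMod p)) C := (g.comp ιB).toAlgebra
  let _ : Algebra (ULift.{u} (ZMod p)) K := ιK.toAlgebra
  have hsm : Algebra.FormallySmooth (ULift.{u} (ZMod p)) K :=
    Groth.Agent.Lib.Helper49.MacLane.formallySmooth_of_perfect p
  let f' : K →ₐ[ULift.{u} (ZMod p)] C :=
    { f with
      commutes' := fun x => by
        have := ringHom_ext_prime p (f.comp ιK) (g.comp ιB)
        exact RingHom.congr_fun this x }
  let g' : B →ₐ[ULift.{u} (ZMod p)] C :=
    { g with commutes' := fun x => rfl }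
  have hgs : Function.Surjective g' := hg
  have hgn : IsNilpotent (RingHom.ker (g' : B →+* C)) := hg'
  refine ⟨(Algebra.FormallySmooth.liftOfSurjective f' g' hgs hgn : K →ₐ[_] B).toRingHom, ?_⟩
  ext x
  exact Algebra.FormallySmooth.liftOfSurjective_apply f' g' hgs hgn x

end Helper27.ArtUnion
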