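import Mathlib

set_option autoImplicit false
universe u

namespace Helper27.ArtUnion

open TensorProduct

set_option maxHeartbeats 1000000 in
theorem exists_derivation_adjust {k K : Type u} [Field k] [Field K] [Algebra k K]
    (hfin : (LinearMap.ker (KaehlerDifferential.mapBaseChange ℤ k K)).FG)
    {M : Type u} [AddCommGroup M] [Module K M]
    (θ : k → M) (θ_add : ∀ a b, θ (a + b) = θ a + θ b)
    (θ_mul : ∀ a b, θ (a * b) = algebraMap k K a • θ b + algebraMap k K b • θ a) :
    ∃ D : K → M, (∀ a b, D (a + b) = D a + D b) ∧ (∀ a b, D (a * b) = a • D b + b • D a) ∧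
      ∃ (ι' : Type u) (_ : Fintype ι') (Fm : ι' → M), ∀ a : k, ∃ c : ι' → k,
        θ a - D (algebraMap k K a) = ∑ t, algebraMap k K (c t) • Fm t := by
  classical
  let _ : Module k M := Module.compHom M (algebraMap k K)
  have tower : IsScalarTower k K M := IsScalarTower.of_algebraMap_smul (fun _ _ => rfl)
  have θ_one : θ 1 = 0 := by
    have h := θ_mul 1 1
    rw [mul_one, map_one, one_smul] at h
    have h2 : θ 1 + 0 = θ 1 + θ 1 := by rw [add_zero]; exact h
    exact (add_left_cancel h2).symm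
  let θd : Derivation ℤ k M :=
    { toLinearMap := (AddMonoidHom.mk' θ θ_add).toIntLinearMap
      map_one_eq_zero' := θ_one
      leibniz' := fun a b => θ_mul a b }
  have θd_apply : ∀ a, θd a = θ a := fun _ => rfl
  let θt : Ω[k⁄ℤ] →ₗ[k] M := θd.liftKaehlerDifferential
  let θK : K ⊗[k] Ω[k⁄ℤ] →ₗ[K] M := LinearMap.liftBaseChange K θt
  let b := Module.Free.chooseBasis k Ω[k⁄ℤ]
  let B := Algebra.TensorProduct.basis K b
  let mbc := KaehlerDifferential.mapBaseChange ℤ k K
  obtain ⟨t, ht⟩ := hfin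
  let J₀ : Finset (Module.Free.ChooseBasisIndex k Ω[k⁄ℤ]) := t.biUnion (fun x => (B.repr x).support)
  let W : Submodule K (K ⊗[k] Ω[k⁄ℤ]) :=
    (Finsupp.supported K K (J₀ : Set _)).comap B.repr.toLinearMap
  let N' : Submodule K (K ⊗[k] Ω[k⁄ℤ]) :=
    (Finsupp.supported K K ((J₀ : Set _)ᶜ)).comap B.repr.toLinearMap
  have hNW : LinearMap.ker mbc ≤ W := by
    rw [← ht, Submodule.span_le]
    intro x hx
    change B.repr x ∈ Finsupp.supported K K (J₀ : Set _)
    rw [Finsupp.mem_supported]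
    intro j hj
    exact Finset.mem_biUnion.mpr ⟨x, hx, hj⟩
  have hdisj : ∀ x, x ∈ W → x ∈ N' → x = 0 := by
    intro x hxW hxN
    have h1 : B.repr x ∈ Finsupp.supported K K (J₀ : Set _) := hxW
    have h2 : B.repr x ∈ Finsupp.supported K K ((J₀ : Set _)ᶜ) := hxN
    have h3 : B.repr x = 0 := by
      have hd := Finsupp.disjoint_supported_supported (M := K) (R := K)
        (disjoint_compl_right (a := (J₀ : Set (Module.Free.ChooseBasisIndex k Ω[k⁄ℤ]))))
      exact Submodule.disjoint_def.mp hd _ h1 h2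
    exact B.repr.map_eq_zero_iff.mp h3
  let f : N' →ₗ[K] Ω[K⁄ℤ] := mbc ∘ₗ N'.subtype
  have hf : LinearMap.ker f = ⊥ := by
    rw [eq_bot_iff]
    intro x hx
    have hx' : mbc (x : K ⊗[k] Ω[k⁄ℤ]) = 0 := hx
    have := hdisj x (hNW hx') x.2
    exact Subtype.ext this
  obtain ⟨g, hg⟩ := LinearMap.exists_leftInverse_of_injective (K := K) (V := N') (V' := Ω[K⁄ℤ]) f hf
  let Dt : Ω[K⁄ℤ] →ₗ[K] M := θK ∘ₗ N'.subtype ∘ₗ g
  let E : K ⊗[k] Ω[k⁄ℤ] →ₗ[K] M := θK - Dt ∘ₗ mbc
  have hE : ∀ j, j ∉ J₀ → E (B j) = 0 := by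
    intro j hj
    have hmem : B j ∈ N' := by
      change B.repr (B j) ∈ Finsupp.supported K K ((J₀ : Set _)ᶜ)
      rw [B.repr_self, Finsupp.mem_supported]
      intro i hi
      rw [Finset.mem_coe, Finsupp.mem_support_iff] at hi
      by_cases hij : j = i
      · subst hij; exact hj
      · exact absurd (Finsupp.single_eq_of_ne' hij) hi
    have h1 : g (f ⟨B j, hmem⟩) = ⟨B j, hmem⟩ := by
      have := congrArg (fun w => w ⟨B j, hmem⟩) hg
      exact this
    have h2 : Dt (mbc (B j)) = θK (B j) := by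
      change θK ((g (f ⟨B j, hmem⟩) : N') : K ⊗[k] Ω[k⁄ℤ]) = θK (B j)
      rw [h1]
    change θK (B j) - Dt (mbc (B j)) = 0
    rw [h2, sub_self]
  refine ⟨fun c => Dt (KaehlerDifferential.D ℤ K c), ?_, ?_, ?_⟩
  · intro a b'
    change Dt (KaehlerDifferential.D ℤ K (a + b')) = _
    rw [map_add, map_add]
  · intro a b'
    change Dt (KaehlerDifferential.D ℤ K (a * b')) = _
    rw [Derivation.leibniz, map_add, map_smul, map_smul]
  · refine ⟨↥J₀, inferInstance, fun j => E (B j.1), ?_⟩
    intro a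
    refine ⟨fun j => b.repr (KaehlerDifferential.D ℤ k a) j.1, ?_⟩
    set x : K ⊗[k] Ω[k⁄ℤ] := (1 : K) ⊗ₜ[k] KaehlerDifferential.D ℤ k a with hx
    have h1 : θ a = θK x := by
      rw [hx]
      change θ a = LinearMap.liftBaseChange K θt ((1 : K) ⊗ₜ[k] KaehlerDifferential.D ℤ k a)
      rw [LinearMap.liftBaseChange_tmul, one_smul]
      change θ a = θd.liftKaehlerDifferential (KaehlerDifferential.D ℤ k a)
      rw [Derivation.liftKaehlerDifferential_comp_D]
      rfl
    have h2 : KaehlerDifferential.D ℤ K (algebraMap k K a) = mbc x := by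
      rw [hx]
      change _ = KaehlerDifferential.mapBaseChange ℤ k K _
      rw [KaehlerDifferential.mapBaseChange_tmul, one_smul, KaehlerDifferential.map_D]
    have h3 : θ a - Dt (KaehlerDifferential.D ℤ K (algebraMap k K a)) = E x := by
      rw [h1, h2]; rfl
    rw [h3]
    have hrepr : ∀ j, B.repr x j = algebraMap k K (b.repr (KaehlerDifferential.D ℤ k a) j) := by
      intro j
      rw [hx, Algebra.TensorProduct.basis_repr_tmul]
      simp
    have hxsum : x = ∑ j ∈ (B.repr x).support ∪ J₀, B.repr x j • B j := by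
      conv_lhs => rw [← B.linearCombination_repr x]
      rw [Finsupp.linearCombination_apply, Finsupp.sum]
      refine Finset.sum_subset Finset.subset_union_left ?_
      intro j _ hj
      rw [Finsupp.notMem_support_iff.mp hj, zero_smul]
    have hEx : E x = ∑ j ∈ (B.repr x).support ∪ J₀, B.repr x j • E (B j) := by
      conv_lhs => rw [hxsum]
      rw [map_sum]
      exact Finset.sum_congr rfl (fun j _ => map_smul _ _ _)
    rw [hEx]
    have hsub : ∑ j ∈ (B.repr x).support ∪ J₀, B.repr x j • E (B j) =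
        ∑ j ∈ J₀, B.repr x j • E (B j) := by
      symm
      refine Finset.sum_subset Finset.subset_union_right ?_
      intro j _ hj
      rw [hE j hj, smul_zero]
    rw [hsub, ← Finset.sum_coe_sort J₀]
    refine Finset.sum_congr rfl (fun j _ => ?_)
    rw [hrepr]

end Helper27.ArtUnion
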