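import Mathlib

set_option autoImplicit false
universe u

namespace Helper27.ArtUnion

variable {Λ K : Type u} [CommRing Λ] [Field K]

theorem approx_step (r : Λ →+* K) (σ : K →+* Λ) (hσ : ∀ c, r (σ c) = c) {d : ℕ}
    (lam : Fin d → Λ) (hlam : RingHom.ker r = Ideal.span (Set.range lam))
    (T : Subring Λ) (hT : Set.range σ ∪ Set.range lam ⊆ T) (m : ℕ) :
    ∀ z ∈ (RingHom.ker r) ^ m, ∃ w ∈ T, z - w ∈ (RingHom.ker r) ^ (m + 1) := by
  induction m with
  | zero =>
    intro z _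
    refine ⟨σ (r z), hT (Or.inl ⟨_, rfl⟩), ?_⟩
    rw [zero_add, pow_one, RingHom.mem_ker, map_sub, hσ, sub_self]
  | succ m ih =>
    intro z hz
    have hz' : z ∈ (RingHom.ker r) ^ m • Submodule.span Λ (Set.range lam) := by
      have : (RingHom.ker r) ^ (m + 1) = (RingHom.ker r) ^ m * Ideal.span (Set.range lam) := by
        rw [pow_succ, ← hlam]
      rw [this] at hz
      exact hz
    rw [Submodule.mem_ideal_smul_span_iff_exists_sum] at hz'
    obtain ⟨a, ha, rfl⟩ := hz'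
    choose w hwT hw using fun i => ih (a i) (ha i)
    refine ⟨a.sum fun i _ => w i * lam i, ?_, ?_⟩
    · exact Subring.sum_mem _ fun i _ => T.mul_mem (hwT i) (hT (Or.inr ⟨i, rfl⟩))
    · rw [Finsupp.sum, Finsupp.sum, ← Finset.sum_sub_distrib]
      refine Ideal.sum_mem _ fun i _ => ?_
      have : a i • lam i - w i * lam i = (a i - w i) * lam i := by
        rw [smul_eq_mul]; ring
      rw [this, pow_succ ((RingHom.ker r)) (m + 1)]
      refine Ideal.mul_mem_mul (hw i) ?_
      rw [hlam]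
      exact Ideal.subset_span ⟨i, rfl⟩

theorem approx (r : Λ →+* K) (σ : K →+* Λ) (hσ : ∀ c, r (σ c) = c) {d : ℕ}
    (lam : Fin d → Λ) (hlam : RingHom.ker r = Ideal.span (Set.range lam))
    (T : Subring Λ) (hT : Set.range σ ∪ Set.range lam ⊆ T) (m : ℕ) :
    ∀ x : Λ, ∃ y ∈ T, x - y ∈ (RingHom.ker r) ^ m := by
  induction m with
  | zero =>
    intro x
    exact ⟨0, T.zero_mem, by rw [pow_zero, Ideal.one_eq_top]; trivial⟩
  | succ m ih =>
    intro x
    obtain ⟨y, hy, hxy⟩ := ih x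
    obtain ⟨w, hw, hzw⟩ := approx_step r σ hσ lam hlam T hT m (x - y) hxy
    refine ⟨y + w, T.add_mem hy hw, ?_⟩
    have : x - (y + w) = x - y - w := by ring
    rw [this]
    exact hzw

theorem closure_eq_top (r : Λ →+* K) (σ : K →+* Λ) (hσ : ∀ c, r (σ c) = c) {d : ℕ}
    (lam : Fin d → Λ) (hlam : RingHom.ker r = Ideal.span (Set.range lam))
    (hnil : IsNilpotent (RingHom.ker r)) :
    Subring.closure (Set.range σ ∪ Set.range lam) = ⊤ := by
  obtain ⟨n, hn⟩ := hnil
  rw [eq_top_iff]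
  intro x _
  obtain ⟨y, hy, hxy⟩ := approx r σ hσ lam hlam _ Subring.subset_closure n x
  rw [hn, Ideal.zero_eq_bot, Ideal.mem_bot, sub_eq_zero] at hxy
  rw [hxy]
  exact hy

theorem exists_finset_mem_closure (σ : K →+* Λ) {d : ℕ} (lam : Fin d → Λ) (x : Λ)
    (hx : x ∈ Subring.closure (Set.range σ ∪ Set.range lam)) :
    ∃ G : Finset K, x ∈ Subring.closure (σ '' (G : Set K) ∪ Set.range lam) := by
  classical
  induction hx using Subring.closure_induction with
  | mem x hx =>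
    rcases hx with ⟨c, rfl⟩ | ⟨i, rfl⟩
    · exact ⟨{c}, Subring.subset_closure (Or.inl ⟨c, by simp, rfl⟩)⟩
    · exact ⟨∅, Subring.subset_closure (Or.inr ⟨i, rfl⟩)⟩
  | zero => exact ⟨∅, Subring.zero_mem _⟩
  | one => exact ⟨∅, Subring.one_mem _⟩
  | add x y _ _ hx hy =>
    obtain ⟨G₁, h₁⟩ := hx
    obtain ⟨G₂, h₂⟩ := hy
    refine ⟨G₁ ∪ G₂, Subring.add_mem _ ?_ ?_⟩
    · refine Subring.closure_mono ?_ h₁
      exact Set.union_subset_union_left _ (Set.image_mono (by simp))
    · refine Subring.closure_mono ?_ h₂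
      exact Set.union_subset_union_left _ (Set.image_mono (by simp))
  | neg x _ hx =>
    obtain ⟨G, h⟩ := hx
    exact ⟨G, Subring.neg_mem _ h⟩
  | mul x y _ _ hx hy =>
    obtain ⟨G₁, h₁⟩ := hx
    obtain ⟨G₂, h₂⟩ := hy
    refine ⟨G₁ ∪ G₂, Subring.mul_mem _ ?_ ?_⟩
    · refine Subring.closure_mono ?_ h₁
      exact Set.union_subset_union_left _ (Set.image_mono (by simp))
    · refine Subring.closure_mono ?_ h₂
      exact Set.union_subset_union_left _ (Set.image_mono (by simp))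

theorem exists_finset_mem (r : Λ →+* K) (σ : K →+* Λ) (hσ : ∀ c, r (σ c) = c) {d : ℕ}
    (lam : Fin d → Λ) (hlam : RingHom.ker r = Ideal.span (Set.range lam))
    (hnil : IsNilpotent (RingHom.ker r)) (x : Λ) :
    ∃ G : Finset K, x ∈ Subring.closure (σ '' (G : Set K) ∪ Set.range lam) := by
  apply exists_finset_mem_closure
  rw [closure_eq_top r σ hσ lam hlam hnil]
  trivial

end Helper27.ArtUnion
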