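import Mathlib
import Groth.Agent.Lib.Helper27.ArtUnionA
import Groth.Agent.Lib.Helper27.ArtUnionB
import Groth.Agent.Lib.Helper27.ArtUnionC

set_option autoImplicit false
universe u

namespace Helper27.ArtUnion

section Step

variable {k K : Type u} [Field k] [Field K] [Algebra k K]

/-- the conclusion of the claim -/
def Good (Λ : Type u) [CommRing Λ] (r : Λ →+* K) (i : k →+* Λ) {d : ℕ} (lam : Fin d → Λ) : Prop :=
  ∃ (σ : K →+* Λ) (G : Finset K), (∀ c, r (σ c) = c) ∧
    ∀ a : k, i a ∈ Subring.closure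
      (σ '' (IntermediateField.adjoin k (G : Set K) : Set K) ∪ Set.range lam)

theorem good_of_ker_eq_bot (Λ : Type u) [CommRing Λ] (r : Λ →+* K) (i : k →+* Λ) {d : ℕ}
    (lam : Fin d → Λ) (hr : Function.Surjective r) (hi : ∀ a, r (i a) = algebraMap k K a)
    (hker : RingHom.ker r = ⊥) : Good (k := k) Λ r i lam := by
  have hinj : Function.Injective r := (RingHom.injective_iff_ker_eq_bot r).mpr hker
  let e : Λ ≃+* K := RingEquiv.ofBijective r ⟨hinj, hr⟩
  refine ⟨e.symm.toRingHom, ∅, fun c => e.apply_symm_apply c, fun a => ?_⟩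
  refine Subring.subset_closure (Or.inl ⟨algebraMap k K a, ?_, ?_⟩)
  · exact (IntermediateField.adjoin k _).algebraMap_mem a
  · apply hinj
    change r (e.symm (algebraMap k K a)) = r (i a)
    rw [hi]
    exact e.apply_symm_apply _

set_option maxHeartbeats 2000000 in
theorem good_step (p : ℕ) [Fact p.Prime] [CharP k p] (hfin : (LinearMap.ker (KaehlerDifferential.mapBaseChange ℤ k K)).FG)
    (n : ℕ) (hn : 1 ≤ n)
    (ih : ∀ (Λ : Type u) [CommRing Λ] (r : Λ →+* K) (i : k →+* Λ) (d : ℕ) (lam : Fin d → Λ),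
      Function.Surjective r → (∀ a, r (i a) = algebraMap k K a) →
      RingHom.ker r = Ideal.span (Set.range lam) → (RingHom.ker r) ^ n = ⊥ →
      Good (k := k) Λ r i lam)
    (Λ : Type u) [CommRing Λ] (r : Λ →+* K) (i : k →+* Λ) (d : ℕ) (lam : Fin d → Λ)
    (hr : Function.Surjective r) (hi : ∀ a, r (i a) = algebraMap k K a)
    (hlam : RingHom.ker r = Ideal.span (Set.range lam)) (hpow : (RingHom.ker r) ^ (n + 1) = ⊥) :
    Good (k := k) Λ r i lam := by
  classical
  have hK : CharP K p := charP_of_injective_algebraMap (algebraMap k K).injective p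
  have hlam0 := hlam
  obtain ⟨𝔪, h𝔪⟩ : ∃ 𝔪 : Ideal Λ, 𝔪 = RingHom.ker r := ⟨_, rfl⟩
  rw [← h𝔪] at hlam hpow
  set I : Ideal Λ := 𝔪 ^ n with hI
  have hI𝔪 : ∀ x ∈ 𝔪, ∀ y ∈ I, x * y = 0 := by
    intro x hx y hy
    have : x * y ∈ 𝔪 ^ (n + 1) := by
      rw [pow_succ', hI.symm]
      exact Ideal.mul_mem_mul hx hy
    rw [hpow] at this
    exact this
  have hIle : I ≤ 𝔪 := Ideal.pow_le_self (by omega)
  have hII : ∀ x ∈ I, ∀ y ∈ I, x * y = 0 := fun x hx y hy => hI𝔪 x (hIle hx) y hy
  have hI2 : I ^ 2 = ⊥ := by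
    rw [eq_bot_iff, sq, Ideal.mul_le]
    intro x hx y hy
    rw [Ideal.mem_bot]
    exact hII x hx y hy
  have hpΛ : (p : Λ) = 0 := by
    have : (p : Λ) = i (p : k) := (map_natCast i p).symm
    rw [this, CharP.cast_eq_zero, map_zero]
  -- the quotient
  let q : Λ →+* Λ ⧸ I := Ideal.Quotient.mk I
  let r' : Λ ⧸ I →+* K := Ideal.Quotient.lift I r (fun x hx => by
    have := hIle hx
    rw [h𝔪, RingHom.mem_ker] at this
    exact this)
  have hr'q : ∀ x, r' (q x) = r x := fun x => Ideal.Quotient.lift_mk I r _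
  have hr' : Function.Surjective r' := fun c => by
    obtain ⟨x, rfl⟩ := hr c
    exact ⟨q x, hr'q x⟩
  have hker' : RingHom.ker r' = 𝔪.map q := by
    apply le_antisymm
    · intro y hy
      obtain ⟨x, rfl⟩ := Ideal.Quotient.mk_surjective y
      rw [RingHom.mem_ker, hr'q] at hy
      have hx : x ∈ 𝔪 := by rw [h𝔪, RingHom.mem_ker]; exact hy
      exact Ideal.mem_map_of_mem q hx
    · rw [Ideal.map_le_iff_le_comap]
      intro x hx
      rw [Ideal.mem_comap, RingHom.mem_ker, hr'q]
      rw [h𝔪, RingHom.mem_ker] at hx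
      exact hx
  have hlam' : RingHom.ker r' = Ideal.span (Set.range (q ∘ lam)) := by
    rw [hker', hlam, Ideal.map_span, Set.range_comp]
  have hpow' : (RingHom.ker r') ^ n = ⊥ := by
    rw [hker', ← Ideal.map_pow, ← hI]
    exact Ideal.map_quotient_self I
  obtain ⟨σ', G', hσ', hG'⟩ := ih (Λ ⧸ I) r' (q.comp i) d (q ∘ lam) hr'
    (fun a => by rw [RingHom.comp_apply, hr'q, hi]) hlam' hpow'
  -- lift σ'
  have hqker : RingHom.ker q = I := Ideal.mk_ker
  obtain ⟨σ, hσq⟩ := exists_ringHom_lift p hpΛ σ' q Ideal.Quotient.mk_surjective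
    (by rw [hqker]; exact ⟨2, hI2⟩)
  have hσq' : ∀ c, q (σ c) = σ' c := fun c => RingHom.congr_fun hσq c
  have hσ : ∀ c, r (σ c) = c := fun c => by rw [← hr'q, hσq', hσ']
  set F' : IntermediateField k K := IntermediateField.adjoin k (G' : Set K) with hF'
  set S : Subring Λ := Subring.closure (σ '' (F' : Set K) ∪ Set.range lam) with hS
  set S' : Subring (Λ ⧸ I) := Subring.closure (σ' '' (F' : Set K) ∪ Set.range (q ∘ lam)) with hS'
  have hSS' : S.map q = S' := by
    rw [hS, RingHom.map_closure, hS', Set.image_union, Set.image_image, ← Set.range_comp]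
    congr 2
    exact Set.image_congr (fun c _ => hσq' c)
  let gq : S →+* S' := q.restrict S S' (fun x hx => by rw [← hSS']; exact ⟨x, hx, rfl⟩)
  have hgq : Function.Surjective gq := by
    rintro ⟨y, hy⟩
    rw [← hSS'] at hy
    obtain ⟨x, hx, rfl⟩ := hy
    exact ⟨⟨x, hx⟩, rfl⟩
  have hgqker : ∀ x : S, gq x = 0 → (x : Λ) ∈ I := by
    intro x hx
    have : q (x : Λ) = 0 := congrArg Subtype.val hx
    rwa [← RingHom.mem_ker, hqker] at this
  have hgqnil : IsNilpotent (RingHom.ker gq) := by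
    refine ⟨2, ?_⟩
    rw [Ideal.zero_eq_bot, eq_bot_iff, sq, Ideal.mul_le]
    intro x hx y hy
    rw [Ideal.mem_bot]
    apply Subtype.ext
    exact hII _ (hgqker x hx) _ (hgqker y hy)
  have hpS : (p : S) = 0 := by
    apply Subtype.ext
    rw [Subring.coe_natCast]
    exact hpΛ
  let τ' : k →+* S' := (q.comp i).codRestrict S' (fun a => hG' a)
  obtain ⟨τ, hτ⟩ := exists_ringHom_lift p hpS τ' gq hgq hgqnil
  have hτq : ∀ a, q ((τ a : S) : Λ) = q (i a) := by
    intro a
    have := congrArg Subtype.val (RingHom.congr_fun hτ a)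
    exact this
  have hθmem : ∀ a, i a - (τ a : Λ) ∈ I := by
    intro a
    rw [← hqker, RingHom.mem_ker, map_sub, hτq, sub_self]
  have hrτ : ∀ a, r ((τ a : S) : Λ) = algebraMap k K a := by
    intro a
    have h1 : r (i a - (τ a : Λ)) = 0 := by
      have := hIle (hθmem a)
      rw [h𝔪, RingHom.mem_ker] at this
      exact this
    rw [map_sub, hi, sub_eq_zero] at h1
    exact h1.symm
  -- module structure on I via σ
  let _ : Module K ↥I := Module.compHom ↥I σ
  have hsmul : ∀ (c : K) (x : ↥I), ((c • x : ↥I) : Λ) = σ c * (x : Λ) := fun _ _ => rfl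
  have hact : ∀ (y : Λ) (x : Λ), x ∈ I → y * x = σ (r y) * x := by
    intro y x hx
    have h1 : y - σ (r y) ∈ 𝔪 := by
      rw [h𝔪, RingHom.mem_ker, map_sub, hσ, sub_self]
    have := hI𝔪 _ h1 x hx
    rw [sub_mul, sub_eq_zero] at this
    exact this
  let θ : k → ↥I := fun a => ⟨i a - (τ a : Λ), hθmem a⟩
  have θ_add : ∀ a b, θ (a + b) = θ a + θ b := by
    intro a b
    apply Subtype.ext
    change i (a + b) - ((τ (a + b) : S) : Λ) = (i a - (τ a : Λ)) + (i b - (τ b : Λ))
    rw [map_add, map_add, Subring.coe_add]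
    ring
  have θ_mul : ∀ a b, θ (a * b) = algebraMap k K a • θ b + algebraMap k K b • θ a := by
    intro a b
    apply Subtype.ext
    change i (a * b) - ((τ (a * b) : S) : Λ) =
      σ (algebraMap k K a) * (i b - (τ b : Λ)) + σ (algebraMap k K b) * (i a - (τ a : Λ))
    rw [map_mul, map_mul, Subring.coe_mul]
    have e1 : i a * (i b - (τ b : Λ)) = σ (algebraMap k K a) * (i b - (τ b : Λ)) := by
      rw [hact (i a) _ (hθmem b), hi]
    have e2 : (τ b : Λ) * (i a - (τ a : Λ)) = σ (algebraMap k K b) * (i a - (τ a : Λ)) := by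
      rw [hact (τ b : Λ) _ (hθmem a), hrτ]
    rw [← e1, ← e2]
    ring
  obtain ⟨D, D_add, D_mul, ι', _, Fm, hFm⟩ :=
    exists_derivation_adjust hfin θ θ_add θ_mul
  have D_zero : D 0 = 0 := by
    have h := D_add 0 0
    rw [add_zero] at h
    have h2 : D 0 + 0 = D 0 + D 0 := by rw [add_zero]; exact h
    exact (add_left_cancel h2).symm
  have D_one : D 1 = 0 := by
    have h := D_mul 1 1
    rw [mul_one, one_smul] at h
    have h2 : D 1 + 0 = D 1 + D 1 := by rw [add_zero]; exact h
    exact (add_left_cancel h2).symm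
  have hDI : ∀ c, ((D c : ↥I) : Λ) ∈ I := fun c => (D c).2
  let σ₂ : K →+* Λ :=
    { toFun := fun c => σ c + (D c : Λ)
      map_one' := by rw [map_one, D_one]; simp
      map_mul' := by
        intro a b
        rw [map_mul, D_mul]
        have h1 : ((a • D b + b • D a : ↥I) : Λ) = σ a * (D b : Λ) + σ b * (D a : Λ) := by
          rw [Submodule.coe_add, hsmul, hsmul]
        rw [h1]
        have h2 : (D a : Λ) * (D b : Λ) = 0 := hII _ (hDI a) _ (hDI b)
        have : (σ a + (D a : Λ)) * (σ b + (D b : Λ)) =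
            σ a * σ b + (σ a * (D b : Λ) + σ b * (D a : Λ)) + (D a : Λ) * (D b : Λ) := by ring
        rw [this, h2, add_zero]
      map_zero' := by rw [map_zero, D_zero]; simp
      map_add' := by
        intro a b
        rw [map_add, D_add, Submodule.coe_add]
        ring }
  have hσ₂_apply : ∀ c, σ₂ c = σ c + (D c : Λ) := fun _ => rfl
  have hσ₂ : ∀ c, r (σ₂ c) = c := by
    intro c
    rw [hσ₂_apply, map_add, hσ]
    have : r (D c : Λ) = 0 := by
      have := hIle (hDI c)
      rw [h𝔪, RingHom.mem_ker] at this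
      exact this
    rw [this, add_zero]
  have hnil : IsNilpotent (RingHom.ker r) := ⟨n + 1, by rw [← h𝔪]; exact hpow⟩
  choose Gt hGt using fun t : ι' => exists_finset_mem r σ₂ hσ₂ lam hlam0 hnil ((Fm t : ↥I) : Λ)
  let G : Finset K := G' ∪ Finset.univ.biUnion Gt
  set F : IntermediateField k K := IntermediateField.adjoin k (G : Set K) with hF
  have hF'F : F' ≤ F := by
    rw [hF', hF]
    exact IntermediateField.adjoin.mono k _ _ (by simp [G])
  have hGtF : ∀ t, (Gt t : Set K) ⊆ F := by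
    intro t c hc
    rw [hF]
    refine IntermediateField.subset_adjoin k _ ?_
    simp only [G, Finset.coe_union, Finset.coe_biUnion, Set.mem_union, Set.mem_iUnion]
    exact Or.inr ⟨t, Finset.mem_univ t, hc⟩
  set T₂ : Subring Λ := Subring.closure (σ₂ '' (F : Set K) ∪ Set.range lam) with hT₂
  have hσ₂T : ∀ c ∈ F, σ₂ c ∈ T₂ := fun c hc => Subring.subset_closure (Or.inl ⟨c, hc, rfl⟩)
  have hlamT : ∀ j, lam j ∈ T₂ := fun j => Subring.subset_closure (Or.inr ⟨j, rfl⟩)
  have hFmT : ∀ t, ((Fm t : ↥I) : Λ) ∈ T₂ := by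
    intro t
    refine Subring.closure_mono ?_ (hGt t)
    exact Set.union_subset_union_left _ (Set.image_mono (hGtF t))
  -- key lemma
  have key : ∀ y ∈ S, y + ((D (r y) : ↥I) : Λ) ∈ T₂ := by
    intro y hy
    induction hy using Subring.closure_induction with
    | mem y hy =>
      rcases hy with ⟨c, hc, rfl⟩ | ⟨j, rfl⟩
      · rw [hσ, ← hσ₂_apply]
        exact hσ₂T c (hF'F hc)
      · have : r (lam j) = 0 := by
          rw [← RingHom.mem_ker, hlam0]
          exact Ideal.subset_span ⟨j, rfl⟩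
        rw [this, D_zero]
        simp only [ZeroMemClass.coe_zero, add_zero]; exact hlamT j
    | zero => rw [map_zero, D_zero]; simp only [ZeroMemClass.coe_zero, add_zero]; exact T₂.zero_mem
    | one => rw [map_one, D_one]; simp only [ZeroMemClass.coe_zero, add_zero]; exact T₂.one_mem
    | add y z _ _ hy hz =>
      rw [map_add, D_add, Submodule.coe_add]
      have : y + z + ((D (r y) : Λ) + (D (r z) : Λ)) = (y + (D (r y) : Λ)) + (z + (D (r z) : Λ)) := by
        ring
      rw [this]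
      exact T₂.add_mem hy hz
    | neg y _ hy =>
      have hneg : D (-(r y)) = - D (r y) := by
        have h := D_add (r y) (-(r y))
        rw [add_neg_cancel, D_zero] at h
        exact (neg_eq_of_add_eq_zero_right h.symm).symm
      rw [map_neg, hneg, Submodule.coe_neg]
      have : -y + -(D (r y) : Λ) = -(y + (D (r y) : Λ)) := by ring
      rw [this]
      exact T₂.neg_mem hy
    | mul y z _ _ hy hz =>
      rw [map_mul, D_mul, Submodule.coe_add, hsmul, hsmul]
      have e1 : σ (r y) * (D (r z) : Λ) = y * (D (r z) : Λ) := (hact y _ (hDI _)).symm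
      have e2 : σ (r z) * (D (r y) : Λ) = z * (D (r y) : Λ) := (hact z _ (hDI _)).symm
      have e3 : (D (r y) : Λ) * (D (r z) : Λ) = 0 := hII _ (hDI _) _ (hDI _)
      have : y * z + (σ (r y) * (D (r z) : Λ) + σ (r z) * (D (r y) : Λ)) =
          (y + (D (r y) : Λ)) * (z + (D (r z) : Λ)) := by
        rw [e1, e2]
        have : (y + (D (r y) : Λ)) * (z + (D (r z) : Λ)) =
            y * z + (y * (D (r z) : Λ) + z * (D (r y) : Λ)) + (D (r y) : Λ) * (D (r z) : Λ) := by ring
        rw [this, e3, add_zero]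
      rw [this]
      exact T₂.mul_mem hy hz
  refine ⟨σ₂, G, hσ₂, fun a => ?_⟩
  obtain ⟨c, hc⟩ := hFm a
  have hc' : (i a - (τ a : Λ)) - ((D (algebraMap k K a) : ↥I) : Λ) =
      ∑ t, σ (algebraMap k K (c t)) * ((Fm t : ↥I) : Λ) := by
    have := congrArg (Subtype.val : ↥I → Λ) hc
    rw [Submodule.coe_sub] at this
    rw [this]
    rw [Submodule.coe_sum]
    exact Finset.sum_congr rfl (fun t _ => hsmul _ _)
  have hia : i a = ((τ a : Λ) + ((D (algebraMap k K a) : ↥I) : Λ)) +
      ∑ t, σ (algebraMap k K (c t)) * ((Fm t : ↥I) : Λ) := by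
    rw [← hc']; ring
  rw [hia]
  refine T₂.add_mem ?_ (Subring.sum_mem _ fun t _ => ?_)
  · have := key (τ a : Λ) (τ a).2
    rwa [hrτ] at this
  · have e : σ (algebraMap k K (c t)) * ((Fm t : ↥I) : Λ) =
        σ₂ (algebraMap k K (c t)) * ((Fm t : ↥I) : Λ) := by
      rw [hσ₂_apply, add_mul, hII _ (hDI _) _ (Fm t).2, add_zero]
    rw [e]
    exact T₂.mul_mem (hσ₂T _ (F.algebraMap_mem _)) (hFmT t)

theorem claim (p : ℕ) [Fact p.Prime] [CharP k p] (hfin : (LinearMap.ker (KaehlerDifferential.mapBaseChange ℤ k K)).FG) (n : ℕ) :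
    ∀ (Λ : Type u) [CommRing Λ] (r : Λ →+* K) (i : k →+* Λ) (d : ℕ) (lam : Fin d → Λ),
      Function.Surjective r → (∀ a, r (i a) = algebraMap k K a) →
      RingHom.ker r = Ideal.span (Set.range lam) → (RingHom.ker r) ^ n = ⊥ →
      Good (k := k) Λ r i lam := by
  induction n with
  | zero =>
    intro Λ _ r i d lam hr _ _ hpow
    exfalso
    rw [pow_zero, Ideal.one_eq_top] at hpow
    have h1 : (1 : Λ) ∈ (⊥ : Ideal Λ) := by rw [← hpow]; trivial
    rw [Ideal.mem_bot] at h1
    have : r 1 = r 0 := by rw [h1]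
    rw [map_one, map_zero] at this
    exact one_ne_zero this
  | succ n ih =>
    intro Λ _ r i d lam hr hi hlam hpow
    rcases Nat.eq_zero_or_pos n with hn | hn
    · subst hn
      rw [zero_add, pow_one] at hpow
      exact good_of_ker_eq_bot Λ r i lam hr hi hpow
    · exact good_step p hfin n hn ih Λ r i d lam hr hi hlam hpow

end Step

end Helper27.ArtUnion
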