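import Mathlib

set_option autoImplicit false
universe u

namespace Helper27.ArtUnion

open MvPolynomial

section Coord

variable {F K : Type u} [Field F] [Field K] [Algebra F K] {ι : Type*} {d : ℕ}

noncomputable def coordPoly (β : Module.Basis ι F K) (s : ι) (Q : MvPolynomial (Fin d) K) :
    MvPolynomial (Fin d) F :=
  ∑ m ∈ Q.support, monomial m (β.repr (Q.coeff m) s)

theorem coeff_coordPoly (β : Module.Basis ι F K) (s : ι) (Q : MvPolynomial (Fin d) K)
    (m : Fin d →₀ ℕ) : (coordPoly β s Q).coeff m = β.repr (Q.coeff m) s := by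
  classical
  rw [coordPoly, coeff_sum]
  simp only [coeff_monomial]
  rw [Finset.sum_ite_eq']
  split_ifs with h
  · rfl
  · rw [MvPolynomial.notMem_support_iff.mp h, map_zero]
    rfl

theorem coordPoly_zero (β : Module.Basis ι F K) (s : ι) :
    coordPoly β s (0 : MvPolynomial (Fin d) K) = 0 := by
  ext m
  rw [coeff_coordPoly, coeff_zero, map_zero, coeff_zero]
  rfl

theorem coordPoly_add (β : Module.Basis ι F K) (s : ι) (Q Q' : MvPolynomial (Fin d) K) :
    coordPoly β s (Q + Q') = coordPoly β s Q + coordPoly β s Q' := by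
  ext m
  rw [coeff_add, coeff_coordPoly, coeff_coordPoly, coeff_coordPoly, coeff_add, map_add]
  rfl

theorem coordPoly_sum (β : Module.Basis ι F K) (s : ι) {α : Type*} (t : Finset α)
    (Q : α → MvPolynomial (Fin d) K) :
    coordPoly β s (∑ a ∈ t, Q a) = ∑ a ∈ t, coordPoly β s (Q a) := by
  classical
  induction t using Finset.induction_on with
  | empty => simp [coordPoly_zero]
  | insert a t ha ih => rw [Finset.sum_insert ha, Finset.sum_insert ha, coordPoly_add, ih]

theorem coordPoly_map_mul (β : Module.Basis ι F K) (s : ι) (g : MvPolynomial (Fin d) F)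
    (h : MvPolynomial (Fin d) K) :
    coordPoly β s (map (algebraMap F K) g * h) = g * coordPoly β s h := by
  classical
  ext m
  rw [coeff_coordPoly, coeff_mul, coeff_mul, map_sum, Finsupp.finsetSum_apply]
  refine Finset.sum_congr rfl (fun x _ => ?_)
  rw [coeff_map, coeff_coordPoly, ← Algebra.smul_def, map_smul, Finsupp.smul_apply, smul_eq_mul]

theorem coordPoly_C_mul_map [DecidableEq ι] (β : Module.Basis ι F K) (s t : ι) (P : MvPolynomial (Fin d) F) :
    coordPoly β s (C (β t) * map (algebraMap F K) P) = if s = t then P else 0 := by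
  classical
  ext m
  rw [coeff_coordPoly, coeff_C_mul, coeff_map, mul_comm, ← Algebra.smul_def, map_smul,
    Finsupp.smul_apply, β.repr_self, smul_eq_mul]
  split_ifs with h
  · subst h
    rw [Finsupp.single_eq_same, mul_one]
  · rw [Finsupp.single_eq_of_ne' (Ne.symm h), mul_zero, coeff_zero]

theorem coordPoly_mem (β : Module.Basis ι F K) (s : ι) (𝔞 : Ideal (MvPolynomial (Fin d) F))
    (Q : MvPolynomial (Fin d) K) (hQ : Q ∈ 𝔞.map (map (algebraMap F K))) :
    coordPoly β s Q ∈ 𝔞 := by
  suffices h : ∀ h : MvPolynomial (Fin d) K, coordPoly β s (h * Q) ∈ 𝔞 by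
    have := h 1
    rwa [one_mul] at this
  rw [Ideal.map] at hQ
  induction hQ using Submodule.span_induction with
  | mem x hx =>
    obtain ⟨g, hg, rfl⟩ := hx
    intro h
    rw [mul_comm, coordPoly_map_mul]
    exact 𝔞.mul_mem_right _ hg
  | zero =>
    intro h
    rw [mul_zero, coordPoly_zero]
    exact 𝔞.zero_mem
  | add x y _ _ hx hy =>
    intro h
    rw [mul_add, coordPoly_add]
    exact 𝔞.add_mem (hx h) (hy h)
  | smul a x _ hx =>
    intro h
    rw [smul_eq_mul, ← mul_assoc]
    exact hx (h * a)

end Coord

section Flat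

variable {F K Λ A : Type u} [Field F] [Field K] [Algebra F K] [CommRing Λ] [CommRing A]
  [Algebra A Λ] {d : ℕ}

set_option maxHeartbeats 1000000 in
theorem flat_of_range (σ : K →+* Λ) (lam : Fin d → Λ)
    (hsurj : Function.Surjective (eval₂Hom σ lam))
    (hker : RingHom.ker (eval₂Hom σ lam) ≤
      (RingHom.ker (eval₂Hom (σ.comp (algebraMap F K)) lam)).map (map (algebraMap F K)))
    (hinj : Function.Injective (algebraMap A Λ))
    (hrange : Set.range (algebraMap A Λ) = Set.range (eval₂Hom (σ.comp (algebraMap F K)) lam)) :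
    Module.Flat A Λ := by
  classical
  let β := Module.Basis.ofVectorSpace F K
  let ι := Module.Basis.ofVectorSpaceIndex F K
  let Ψ := eval₂Hom σ lam
  let φF := eval₂Hom (σ.comp (algebraMap F K)) lam
  have hΨmap : ∀ P, Ψ (map (algebraMap F K) P) = φF P := by
    intro P
    change eval₂ σ lam (map (algebraMap F K) P) = eval₂ (σ.comp (algebraMap F K)) lam P
    rw [eval₂_map]
  let L : (ι →₀ A) →ₗ[A] Λ := Finsupp.linearCombination A (fun s => σ (β s))
  have hLsurj : Function.Surjective L := by
    rw [← LinearMap.range_eq_top, eq_top_iff]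
    rintro x -
    obtain ⟨Q, rfl⟩ := hsurj x
    have hσF : ∀ f : F, ∃ a : A, algebraMap A Λ a = σ (algebraMap F K f) := by
      intro f
      have : σ (algebraMap F K f) ∈ Set.range φF := ⟨C f, by
        change eval₂ (σ.comp (algebraMap F K)) lam (C f) = _
        rw [eval₂_C]; rfl⟩
      rw [← hrange] at this
      exact this
    have hlamA : ∀ j, ∃ a : A, algebraMap A Λ a = lam j := by
      intro j
      have : lam j ∈ Set.range φF := ⟨X j, by
        change eval₂ (σ.comp (algebraMap F K)) lam (X j) = _
        rw [eval₂_X]⟩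
      rw [← hrange] at this
      exact this
    have hσ : ∀ c : K, σ c ∈ LinearMap.range L := by
      intro c
      have hc : c = ∑ s ∈ (β.repr c).support, (β.repr c s) • β s := by
        conv_lhs => rw [← β.linearCombination_repr c]
        rw [Finsupp.linearCombination_apply, Finsupp.sum]
      rw [hc, map_sum]
      refine Submodule.sum_mem _ fun s _ => ?_
      obtain ⟨a, ha⟩ := hσF (β.repr c s)
      rw [Algebra.smul_def, map_mul, ← ha, ← Algebra.smul_def]
      refine Submodule.smul_mem _ a ?_
      refine ⟨Finsupp.single s 1, ?_⟩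
      rw [Finsupp.linearCombination_single, one_smul]
    induction Q using MvPolynomial.induction_on with
    | C c =>
      change eval₂ σ lam (C c) ∈ _
      rw [eval₂_C]
      exact hσ c
    | add P Q hP hQ =>
      rw [map_add]
      exact Submodule.add_mem _ hP hQ
    | mul_X P j hP =>
      rw [map_mul]
      have : eval₂Hom σ lam (X j) = lam j := by
        change eval₂ σ lam (X j) = _
        rw [eval₂_X]
      rw [this]
      obtain ⟨a, ha⟩ := hlamA j
      rw [mul_comm, ← ha, ← Algebra.smul_def]
      exact Submodule.smul_mem _ a hP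
  have hLinj : Function.Injective L := by
    rw [← LinearMap.ker_eq_bot, eq_bot_iff]
    intro v hv
    rw [LinearMap.mem_ker] at hv
    have hP : ∀ s, ∃ P : MvPolynomial (Fin d) F, φF P = algebraMap A Λ (v s) := by
      intro s
      have : algebraMap A Λ (v s) ∈ Set.range φF := by rw [← hrange]; exact ⟨_, rfl⟩
      exact this
    choose P hP using hP
    let Q : MvPolynomial (Fin d) K := ∑ s ∈ v.support, C (β s) * map (algebraMap F K) (P s)
    have hQ : Ψ Q = 0 := by
      rw [map_sum]
      rw [← hv]
      change _ = Finsupp.linearCombination A (fun s => σ (β s)) v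
      rw [Finsupp.linearCombination_apply, Finsupp.sum]
      refine Finset.sum_congr rfl (fun s _ => ?_)
      rw [map_mul, hΨmap, hP, Algebra.smul_def, mul_comm]
      congr 1
      change eval₂ σ lam (C (β s)) = _
      rw [eval₂_C]
    have hQmem := hker (RingHom.mem_ker.mpr hQ)
    rw [Submodule.mem_bot]
    ext s₀
    rw [Finsupp.zero_apply]
    by_cases hs : s₀ ∈ v.support
    · have h1 := coordPoly_mem β s₀ _ Q hQmem
      have h2 : coordPoly β s₀ Q = P s₀ := by
        rw [coordPoly_sum]
        simp only [coordPoly_C_mul_map]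
        rw [Finset.sum_ite_eq]
        rw [if_pos hs]
      rw [h2, RingHom.mem_ker] at h1
      change φF (P s₀) = 0 at h1
      rw [hP] at h1
      exact hinj (by rw [h1, map_zero])
    · exact Finsupp.notMem_support_iff.mp hs
  let e : (ι →₀ A) ≃ₗ[A] Λ := LinearEquiv.ofBijective L ⟨hLinj, hLsurj⟩
  exact Module.Flat.of_linearEquiv e.symm

end Flat

end Helper27.ArtUnion
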