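import Mathlib

set_option autoImplicit false
universe u

namespace Helper27.ArtUnion

variable {k A F : Type u} [Field k] [CommRing A] [Algebra k A] [Field F] [Algebra k F]

theorem isUnit_of_map_ne_zero (ρ : A →+* F) (hρ : Function.Surjective ρ)
    (hnil : IsNilpotent (RingHom.ker ρ)) (t : A) (ht : ρ t ≠ 0) : IsUnit t := by
  obtain ⟨t', ht'⟩ := hρ (ρ t)⁻¹
  have h1 : t * t' - 1 ∈ RingHom.ker ρ := by
    rw [RingHom.mem_ker, map_sub, map_mul, ht', mul_inv_cancel₀ ht, map_one, sub_self]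
  obtain ⟨n, hn⟩ := hnil
  have h2 : IsNilpotent (t * t' - 1) := by
    refine ⟨n, ?_⟩
    have := Ideal.pow_mem_pow h1 n
    rw [hn] at this
    exact this
  have h3 : IsUnit (t * t') := by
    have := h2.isUnit_add_one
    rwa [sub_add_cancel] at this
  exact isUnit_of_mul_isUnit_left h3

section Main

variable (ρ : A →ₐ[k] F) {d : ℕ} (lam : Fin d → A) (B : Subalgebra k A)

theorem ess_step (hlamB : ∀ j, lam j ∈ B)
    (hker : RingHom.ker ρ.toRingHom = Ideal.span (Set.range lam))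
    (hfrac : ∀ x : A, ∃ t ∈ B, ∃ b ∈ B, ρ t ≠ 0 ∧ ρ (x * t - b) = 0)
    (m : ℕ) :
    ∀ z ∈ (RingHom.ker ρ.toRingHom) ^ m, ∃ t ∈ B, ∃ b ∈ B, ρ t ≠ 0 ∧
      z * t - b ∈ (RingHom.ker ρ.toRingHom) ^ (m + 1) := by
  classical
  induction m with
  | zero =>
    intro z _
    obtain ⟨t, ht, b, hb, hne, h⟩ := hfrac z
    refine ⟨t, ht, b, hb, hne, ?_⟩
    rw [zero_add, pow_one, RingHom.mem_ker]
    exact h
  | succ m ih =>
    intro z hz
    have hz' : z ∈ (RingHom.ker ρ.toRingHom) ^ m • Submodule.span A (Set.range lam) := by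
      have : (RingHom.ker ρ.toRingHom) ^ (m + 1) =
          (RingHom.ker ρ.toRingHom) ^ m * Ideal.span (Set.range lam) := by
        rw [pow_succ, ← hker]
      rw [this] at hz
      exact hz
    rw [Submodule.mem_ideal_smul_span_iff_exists_sum] at hz'
    obtain ⟨a, ha, rfl⟩ := hz'
    choose t htB b hbB hne hw using fun i => ih (a i) (ha i)
    refine ⟨∏ i ∈ a.support, t i, Subalgebra.prod_mem _ fun i _ => htB i,
      ∑ i ∈ a.support, lam i * b i * ∏ l ∈ a.support.erase i, t l, ?_, ?_, ?_⟩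
    · refine Subalgebra.sum_mem _ fun i _ => ?_
      exact B.mul_mem (B.mul_mem (hlamB i) (hbB i)) (Subalgebra.prod_mem _ fun l _ => htB l)
    · rw [map_prod]
      exact Finset.prod_ne_zero_iff.mpr fun i _ => hne i
    · rw [Finsupp.sum, Finset.sum_mul, ← Finset.sum_sub_distrib]
      refine Ideal.sum_mem _ fun i hi => ?_
      have hprod : ∏ l ∈ a.support, t l = t i * ∏ l ∈ a.support.erase i, t l :=
        (Finset.mul_prod_erase _ _ hi).symm
      have : a i • lam i * ∏ l ∈ a.support, t l - lam i * b i * ∏ l ∈ a.support.erase i, t l =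
          (a i * t i - b i) * (lam i * ∏ l ∈ a.support.erase i, t l) := by
        rw [hprod, smul_eq_mul]; ring
      rw [this, pow_succ (RingHom.ker ρ.toRingHom) (m + 1)]
      refine Ideal.mul_mem_mul (hw i) ?_
      refine Ideal.mul_mem_right _ _ ?_
      rw [hker]
      exact Ideal.subset_span ⟨i, rfl⟩

theorem ess_approx (hlamB : ∀ j, lam j ∈ B)
    (hker : RingHom.ker ρ.toRingHom = Ideal.span (Set.range lam))
    (hfrac : ∀ x : A, ∃ t ∈ B, ∃ b ∈ B, ρ t ≠ 0 ∧ ρ (x * t - b) = 0)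
    (m : ℕ) :
    ∀ x : A, ∃ t ∈ B, ∃ b ∈ B, ρ t ≠ 0 ∧ x * t - b ∈ (RingHom.ker ρ.toRingHom) ^ m := by
  induction m with
  | zero =>
    intro x
    exact ⟨1, B.one_mem, 0, B.zero_mem, by rw [map_one]; exact one_ne_zero,
      by rw [pow_zero, Ideal.one_eq_top]; trivial⟩
  | succ m ih =>
    intro x
    obtain ⟨t, ht, b, hb, hne, h⟩ := ih x
    obtain ⟨t', ht', b', hb', hne', h'⟩ := ess_step ρ lam B hlamB hker hfrac m _ h
    refine ⟨t * t', B.mul_mem ht ht', b * t' + b', B.add_mem (B.mul_mem hb ht') hb', ?_, ?_⟩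
    · rw [map_mul]
      exact mul_ne_zero hne hne'
    · have : x * (t * t') - (b * t' + b') = (x * t - b) * t' - b' := by ring
      rw [this]
      exact h'

theorem essFiniteType_of_nilpotent (hρ : Function.Surjective ρ)
    (hker : RingHom.ker ρ.toRingHom = Ideal.span (Set.range lam))
    (hnil : IsNilpotent (RingHom.ker ρ.toRingHom))
    (G : Finset F) (hG : IntermediateField.adjoin k (G : Set F) = ⊤) :
    Algebra.EssFiniteType k A := by
  classical
  let aG : F → A := Function.surjInv hρ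
  have haG : ∀ g, ρ (aG g) = g := Function.surjInv_eq hρ
  let S : Finset A := G.image aG ∪ Finset.univ.image lam
  let B : Subalgebra k A := Algebra.adjoin k (S : Set A)
  have hlamB : ∀ j, lam j ∈ B :=
    fun j => Algebra.subset_adjoin (by simp [S])
  have hGB : Algebra.adjoin k (G : Set F) ≤ B.map ρ := by
    rw [Algebra.adjoin_le_iff]
    intro g hg
    refine ⟨aG g, Algebra.subset_adjoin ?_, haG g⟩
    have : aG g ∈ G.image aG := Finset.mem_image_of_mem _ hg
    simp only [S, Finset.coe_union, Set.mem_union, Finset.mem_coe]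
    exact Or.inl this
  have hfrac : ∀ x : A, ∃ t ∈ B, ∃ b ∈ B, ρ t ≠ 0 ∧ ρ (x * t - b) = 0 := by
    intro x
    have hx : ρ x ∈ IntermediateField.adjoin k (G : Set F) := by rw [hG]; trivial
    rw [IntermediateField.mem_adjoin_iff_div] at hx
    obtain ⟨r, hr, s, hs, hxrs⟩ := hx
    by_cases hs0 : s = 0
    · refine ⟨1, B.one_mem, 0, B.zero_mem, by rw [map_one]; exact one_ne_zero, ?_⟩
      rw [hs0, div_zero] at hxrs
      rw [mul_one, sub_zero, hxrs]
    · obtain ⟨b, hb, rfl⟩ := hGB hr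
      obtain ⟨t, ht, rfl⟩ := hGB hs
      refine ⟨t, ht, b, hb, hs0, ?_⟩
      rw [map_sub, map_mul, hxrs]
      change ρ b / ρ t * ρ t - ρ b = 0
      exact sub_eq_zero.mpr (div_mul_cancel₀ (ρ b) (show ρ t ≠ 0 from hs0))
  rw [Algebra.essFiniteType_iff]
  refine ⟨S, fun x => ?_⟩
  obtain ⟨n, hn⟩ := hnil
  obtain ⟨t, ht, b, hb, hne, h⟩ := ess_approx ρ lam B hlamB hker hfrac n x
  rw [hn, Ideal.zero_eq_bot, Ideal.mem_bot, sub_eq_zero] at h
  refine ⟨t, ht, ?_, ?_⟩
  · exact isUnit_of_map_ne_zero ρ.toRingHom hρ ⟨n, hn⟩ t hne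
  · rw [h]
    exact hb

end Main

end Helper27.ArtUnion
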