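import Mathlib
import Groth.Agent.Lib.Helper27.ArtUnionC
import Groth.Agent.Lib.Helper27.ArtUnionF

set_option autoImplicit false
universe u

namespace Helper27.ArtUnion

open MvPolynomial

section Struct

variable {k Λ K : Type u} [Field k] [Field K] [Algebra k K] [CommRing Λ] [Algebra k Λ]
  (r : Λ →+* K) (σ : K →+* Λ) {d : ℕ} (lam : Fin d → Λ) (F : IntermediateField k K)
  (A : Subalgebra k Λ)

theorem r_evalF (hσ : ∀ c, r (σ c) = c) (hlam : RingHom.ker r = Ideal.span (Set.range lam))
    (P : MvPolynomial (Fin d) F) :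
    r (eval₂Hom (σ.comp (algebraMap F K)) lam P) = algebraMap F K (constantCoeff P) := by
  have h : r.comp (eval₂Hom (σ.comp (algebraMap F K)) lam) =
      (algebraMap F K).comp constantCoeff := by
    apply MvPolynomial.ringHom_ext
    · intro c
      change r (eval₂ (σ.comp (algebraMap F K)) lam (C c)) = algebraMap F K (constantCoeff (C c))
      rw [eval₂_C, constantCoeff_C]
      exact hσ _
    · intro j
      change r (eval₂ (σ.comp (algebraMap F K)) lam (X j)) = algebraMap F K (constantCoeff (X j))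
      rw [eval₂_X, constantCoeff_X, map_zero, ← RingHom.mem_ker, hlam]
      exact Ideal.subset_span ⟨j, rfl⟩
  exact RingHom.congr_fun h P

variable (hσ : ∀ c, r (σ c) = c) (hlam : RingHom.ker r = Ideal.span (Set.range lam))
  (hA : ∀ x, x ∈ A ↔ x ∈ Set.range (eval₂Hom (σ.comp (algebraMap F K)) lam))

include hσ hlam hA in
theorem r_mem_F (a : A) : r (a : Λ) ∈ F := by
  obtain ⟨P, hP⟩ := (hA _).mp a.2
  rw [← hP, r_evalF r σ lam F hσ hlam]
  exact (constantCoeff P).2

/-- the corestricted evaluation map -/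
noncomputable def phiA : MvPolynomial (Fin d) F →+* A :=
  (eval₂Hom (σ.comp (algebraMap F K)) lam).codRestrict A (fun P => (hA _).mpr ⟨P, rfl⟩)

theorem phiA_surjective : Function.Surjective (phiA σ lam F A hA) := by
  rintro ⟨x, hx⟩
  obtain ⟨P, hP⟩ := (hA _).mp hx
  exact ⟨P, Subtype.ext hP⟩

/-- the residue map of `A` -/
noncomputable def rhoA (hi : ∀ a, r (algebraMap k Λ a) = algebraMap k K a) : A →ₐ[k] F :=
  { (r.comp (algebraMap A Λ)).codRestrict F (fun a => r_mem_F r σ lam F A hσ hlam hA a) with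
    commutes' := fun a => Subtype.ext (hi a) }

variable (hi : ∀ a, r (algebraMap k Λ a) = algebraMap k K a)

theorem rhoA_apply (a : A) : ((rhoA r σ lam F A hσ hlam hA hi a : F) : K) = r (a : Λ) := rfl

theorem rhoA_phiA (P : MvPolynomial (Fin d) F) :
    rhoA r σ lam F A hσ hlam hA hi (phiA σ lam F A hA P) = constantCoeff P := by
  apply Subtype.ext
  rw [rhoA_apply]
  exact r_evalF r σ lam F hσ hlam P

theorem rhoA_surjective : Function.Surjective (rhoA r σ lam F A hσ hlam hA hi) := by
  intro f
  refine ⟨phiA σ lam F A hA (C f), ?_⟩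
  rw [rhoA_phiA, constantCoeff_C]

/-- the generators of the maximal ideal, in `A` -/
noncomputable def lamA : Fin d → A := fun j => phiA σ lam F A hA (X j)

theorem lamA_coe (j : Fin d) : ((lamA σ lam F A hA j : A) : Λ) = lam j := by
  change eval₂ (σ.comp (algebraMap F K)) lam (X j) = lam j
  rw [eval₂_X]

theorem ker_rhoA :
    RingHom.ker (rhoA r σ lam F A hσ hlam hA hi).toRingHom =
      Ideal.span (Set.range (lamA σ lam F A hA)) := by
  classical
  apply le_antisymm
  · intro a ha
    obtain ⟨P, rfl⟩ := phiA_surjective σ lam F A hA a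
    rw [RingHom.mem_ker] at ha
    change rhoA r σ lam F A hσ hlam hA hi (phiA σ lam F A hA P) = 0 at ha
    rw [rhoA_phiA] at ha
    have hP : P ∈ Ideal.span (MvPolynomial.X '' (Set.univ : Set (Fin d)) :
        Set (MvPolynomial (Fin d) F)) := by
      rw [MvPolynomial.mem_ideal_span_X_image]
      intro m hm
      by_contra hcon
      push Not at hcon
      have hm0 : m = 0 := by
        ext j
        exact hcon j (Set.mem_univ j)
      rw [hm0, MvPolynomial.mem_support_iff] at hm
      exact hm ha
    have := Ideal.mem_map_of_mem (phiA σ lam F A hA) hP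
    rw [Ideal.map_span, ← Set.image_comp, Set.image_univ] at this
    exact this
  · rw [Ideal.span_le]
    rintro _ ⟨j, rfl⟩
    rw [SetLike.mem_coe, RingHom.mem_ker]
    change rhoA r σ lam F A hσ hlam hA hi (phiA σ lam F A hA (X j)) = 0
    rw [rhoA_phiA, constantCoeff_X]

theorem ker_rhoA_nilpotent (hnil : IsNilpotent (RingHom.ker r)) :
    IsNilpotent (RingHom.ker (rhoA r σ lam F A hσ hlam hA hi).toRingHom) := by
  obtain ⟨n, hn⟩ := hnil
  refine ⟨n, ?_⟩
  rw [Ideal.zero_eq_bot, eq_bot_iff]
  have h1 : RingHom.ker (rhoA r σ lam F A hσ hlam hA hi).toRingHom ≤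
      (RingHom.ker r).comap (algebraMap A Λ) := by
    intro a ha
    rw [RingHom.mem_ker] at ha
    rw [Ideal.mem_comap, RingHom.mem_ker]
    have := congrArg (fun x : F => (x : K)) ha
    exact this
  have h2 := (Ideal.pow_right_mono h1 n).trans (Ideal.le_comap_pow (algebraMap A Λ) n)
  intro a ha
  have h3 := h2 ha
  rw [Ideal.mem_comap, hn, Ideal.zero_eq_bot, Ideal.mem_bot] at h3
  rw [Ideal.mem_bot]
  exact Subtype.ext h3

include hσ hlam hA hi in
theorem isLocalRing_A [Nontrivial Λ] (hnil : IsNilpotent (RingHom.ker r)) : IsLocalRing A := by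
  have hnt : Nontrivial A := inferInstance
  refine IsLocalRing.of_nonunits_add ?_
  have hunit : ∀ a : A, a ∈ nonunits A → rhoA r σ lam F A hσ hlam hA hi a = 0 := by
    intro a ha
    by_contra hne
    exact ha (isUnit_of_map_ne_zero (rhoA r σ lam F A hσ hlam hA hi).toRingHom
      (rhoA_surjective r σ lam F A hσ hlam hA hi)
      (ker_rhoA_nilpotent r σ lam F A hσ hlam hA hi hnil) a hne)
  intro a b ha hb hab
  have h1 : rhoA r σ lam F A hσ hlam hA hi (a + b) = 0 := by
    rw [map_add, hunit a ha, hunit b hb, add_zero]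
  have h2 := hab.map (rhoA r σ lam F A hσ hlam hA hi)
  rw [h1] at h2
  exact not_isUnit_zero h2

include hσ hlam hi in
theorem maximalIdeal_A [IsLocalRing A] :
    IsLocalRing.maximalIdeal A = Ideal.span (Set.range (lamA σ lam F A hA)) := by
  rw [← ker_rhoA r σ lam F A hσ hlam hA hi]
  symm
  apply IsLocalRing.eq_maximalIdeal
  exact RingHom.ker_isMaximal_of_surjective _ (rhoA_surjective r σ lam F A hσ hlam hA hi)

end Struct

end Helper27.ArtUnion
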