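import Mathlib
import Groth.Agent.Lib.Helper27.ArtUnionD
import Groth.Agent.Lib.Helper27.ArtUnionE
import Groth.Agent.Lib.Helper27.ArtUnionG

set_option autoImplicit false
universe u

namespace Helper27.ArtUnion

open MvPolynomial

theorem fg_ker_mapBaseChange {k K : Type u} [Field k] [Field K] [Algebra k K]
    (hH : Module.Finite K (Algebra.H1Cotangent k K)) :
    (LinearMap.ker (KaehlerDifferential.mapBaseChange ℤ k K)).FG := by
  have hex := Algebra.H1Cotangent.exact_δ_mapBaseChange ℤ k K
  rw [LinearMap.exact_iff] at hex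
  rw [hex, LinearMap.range_eq_map]
  exact (Module.Finite.fg_top).map _

theorem adjoin_subtype_eq_top {k K : Type u} [Field k] [Field K] [Algebra k K] (G : Finset K) :
    ∃ G' : Finset (IntermediateField.adjoin k (G : Set K)),
      IntermediateField.adjoin k (G' : Set (IntermediateField.adjoin k (G : Set K))) = ⊤ := by
  classical
  let F := IntermediateField.adjoin k (G : Set K)
  let G' : Finset F := G.attach.image (fun g => ⟨g.1, IntermediateField.subset_adjoin k _ g.2⟩)
  refine ⟨G', ?_⟩
  apply IntermediateField.map_injective F.val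
  rw [IntermediateField.adjoin_map, ← AlgHom.fieldRange_eq_map, IntermediateField.fieldRange_val]
  change IntermediateField.adjoin k (F.val '' (G' : Set F)) = IntermediateField.adjoin k (G : Set K)
  congr 1
  ext x
  constructor
  · rintro ⟨y, hy, rfl⟩
    obtain ⟨g, _, rfl⟩ := Finset.mem_image.mp (Finset.mem_coe.mp hy)
    exact g.2
  · intro hx
    exact ⟨⟨x, IntermediateField.subset_adjoin k _ hx⟩,
      Finset.mem_coe.mpr (Finset.mem_image.mpr ⟨⟨x, hx⟩, Finset.mem_attach _ _, rfl⟩), rfl⟩

set_option maxHeartbeats 2000000 in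
theorem main {k Λ : Type u} [Field k] (p : ℕ) [Fact p.Prime]
    [CharP k p] [CommRing Λ] [Algebra k Λ] [IsArtinianRing Λ] [IsLocalRing Λ]
    (hH : Module.Finite (IsLocalRing.ResidueField Λ)
      (Algebra.H1Cotangent k (IsLocalRing.ResidueField Λ)))
    (E : Finset Λ) :
    ∃ (A : Subalgebra k Λ) (_ : IsLocalRing A), (↑E : Set Λ) ⊆ A ∧ IsArtinianRing A ∧
      Module.Flat A Λ ∧ Algebra.EssFiniteType k A ∧
      (IsLocalRing.maximalIdeal A).map (algebraMap A Λ) = IsLocalRing.maximalIdeal Λ := by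
  classical
  let K := IsLocalRing.ResidueField Λ
  let r : Λ →+* K := IsLocalRing.residue Λ
  have hr : Function.Surjective r := IsLocalRing.residue_surjective
  have hkerr : RingHom.ker r = IsLocalRing.maximalIdeal Λ := IsLocalRing.ker_residue
  have hi : ∀ a, r (algebraMap k Λ a) = algebraMap k K a := fun a => rfl
  have hfin := fg_ker_mapBaseChange hH
  obtain ⟨d, lam, hlam'⟩ := Submodule.fg_iff_exists_fin_generating_family.mp
    (IsNoetherian.noetherian (IsLocalRing.maximalIdeal Λ))
  have hlam : RingHom.ker r = Ideal.span (Set.range lam) := by rw [hkerr]; exact hlam'.symm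
  have hnil : IsNilpotent (RingHom.ker r) := by
    rw [hkerr, ← IsLocalRing.jacobson_eq_maximalIdeal (⊥ : Ideal Λ) bot_ne_top]
    exact IsArtinianRing.isNilpotent_jacobson_bot
  obtain ⟨n, hn⟩ := hnil
  obtain ⟨σ, G₀, hσ, hG₀⟩ := claim p hfin n Λ r (algebraMap k Λ) d lam hr hi hlam hn
  have hnil : IsNilpotent (RingHom.ker r) := ⟨n, hn⟩
  -- surjectivity of Ψ
  let Ψ : MvPolynomial (Fin d) K →+* Λ := eval₂Hom σ lam
  have hΨC : ∀ c, Ψ (C c) = σ c := fun c => eval₂_C _ _ _
  have hΨX : ∀ j, Ψ (X j) = lam j := fun j => eval₂_X _ _ _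
  have hΨsurj : Function.Surjective Ψ := by
    intro x
    have hx : x ∈ Subring.closure (Set.range σ ∪ Set.range lam) := by
      rw [closure_eq_top r σ hσ lam hlam hnil]; trivial
    have hle : Subring.closure (Set.range σ ∪ Set.range lam) ≤ Ψ.range := by
      rw [Subring.closure_le]
      rintro _ (⟨c, rfl⟩ | ⟨j, rfl⟩)
      · exact ⟨C c, hΨC c⟩
      · exact ⟨X j, hΨX j⟩
    exact hle hx
  obtain ⟨gs, hgs⟩ := (isNoetherianRing_iff_ideal_fg (MvPolynomial (Fin d) K)).mp inferInstance
    (RingHom.ker Ψ)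
  choose Ge hGe using fun x : Λ => exists_finset_mem r σ hσ lam hlam hnil x
  let G : Finset K := G₀ ∪ E.biUnion Ge ∪ gs.biUnion (fun g => g.coeffs)
  set F : IntermediateField k K := IntermediateField.adjoin k (G : Set K) with hF
  obtain ⟨G', hG'⟩ : ∃ G' : Finset F, IntermediateField.adjoin k (G' : Set F) = ⊤ :=
    adjoin_subtype_eq_top (k := k) G
  have hGF : (G : Set K) ⊆ F := IntermediateField.subset_adjoin k _
  let φF : MvPolynomial (Fin d) F →+* Λ := eval₂Hom (σ.comp (algebraMap F K)) lam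
  have hΨmap : ∀ P, Ψ (map (algebraMap F K) P) = φF P := by
    intro P
    change eval₂ σ lam (map (algebraMap F K) P) = eval₂ (σ.comp (algebraMap F K)) lam P
    rw [eval₂_map]
  have hcl : ∀ (H : Set K), H ⊆ F → Subring.closure (σ '' H ∪ Set.range lam) ≤ φF.range := by
    intro H hH
    rw [Subring.closure_le]
    rintro _ (⟨c, hc, rfl⟩ | ⟨j, rfl⟩)
    · refine ⟨C ⟨c, hH hc⟩, ?_⟩
      change eval₂ (σ.comp (algebraMap F K)) lam (C _) = _
      rw [eval₂_C]; rfl
    · refine ⟨X j, ?_⟩
      change eval₂ (σ.comp (algebraMap F K)) lam (X j) = _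
      rw [eval₂_X]
  have hkmem : ∀ a : k, algebraMap k Λ a ∈ φF.range := by
    intro a
    refine hcl _ ?_ (hG₀ a)
    intro c hc
    have hmono : IntermediateField.adjoin k (G₀ : Set K) ≤ F := by
      rw [hF]
      apply IntermediateField.adjoin.mono
      intro x hx
      simp only [G, Finset.coe_union, Set.mem_union]
      exact Or.inl (Or.inl hx)
    exact hmono hc
  have hEmem : ∀ e ∈ E, e ∈ φF.range := by
    intro e he
    refine hcl _ ?_ (hGe e)
    intro c hc
    apply hGF
    simp only [G, Finset.coe_union, Set.mem_union, Finset.coe_biUnion, Set.mem_iUnion]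
    exact Or.inl (Or.inr ⟨e, he, hc⟩)
  have hgsmem : ∀ g ∈ gs, g ∈ Set.range (map (algebraMap F K)) := by
    intro g hg
    rw [mem_range_map_iff_coeffs_subset]
    intro c hc
    have : c ∈ (F : Set K) := by
      apply hGF
      simp only [G, Finset.coe_union, Set.mem_union, Finset.coe_biUnion, Set.mem_iUnion]
      exact Or.inr ⟨g, hg, hc⟩
    exact ⟨⟨c, this⟩, rfl⟩
  have hker : RingHom.ker Ψ ≤ (RingHom.ker φF).map (map (algebraMap F K)) := by
    rw [← hgs, Ideal.span_le]
    intro g hg
    obtain ⟨g', rfl⟩ := hgsmem g hg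
    apply Ideal.mem_map_of_mem
    rw [RingHom.mem_ker, ← hΨmap]
    have : map (algebraMap F K) g' ∈ RingHom.ker Ψ := by
      rw [← hgs]; exact Ideal.subset_span hg
    exact this
  let A : Subalgebra k Λ :=
    { φF.range.toSubsemiring with algebraMap_mem' := hkmem }
  have hA : ∀ x, x ∈ A ↔ x ∈ Set.range φF := fun x => Iff.rfl
  have hloc : IsLocalRing A := isLocalRing_A r σ lam F A hσ hlam hA hi hnil
  have hmax := maximalIdeal_A r σ lam F A hσ hlam hA hi
  refine ⟨A, hloc, ?_, ?_, ?_, ?_, ?_⟩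
  · intro e he
    exact hEmem e he
  · have hnoeth : IsNoetherianRing A :=
      isNoetherianRing_of_surjective _ _ (phiA σ lam F A hA) (phiA_surjective σ lam F A hA)
    rw [isArtinianRing_iff_isNilpotent_maximalIdeal, hmax,
      ← ker_rhoA r σ lam F A hσ hlam hA hi]
    exact ker_rhoA_nilpotent r σ lam F A hσ hlam hA hi hnil
  · refine flat_of_range (F := F) (A := A) σ lam hΨsurj hker Subtype.val_injective ?_
    ext x
    constructor
    · rintro ⟨a, rfl⟩
      exact (hA _).mp a.2
    · intro hx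
      exact ⟨⟨x, (hA x).mpr hx⟩, rfl⟩
  · exact essFiniteType_of_nilpotent (rhoA r σ lam F A hσ hlam hA hi) (lamA σ lam F A hA)
      (rhoA_surjective r σ lam F A hσ hlam hA hi) (ker_rhoA r σ lam F A hσ hlam hA hi)
      (ker_rhoA_nilpotent r σ lam F A hσ hlam hA hi hnil) G' hG'
  · rw [hmax, Ideal.map_span, ← Set.range_comp, ← hkerr, hlam]
    congr 2
    ext j
    exact lamA_coe σ lam F A hA j

end Helper27.ArtUnion
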