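import Mathlib
import Groth.Agent.Lib.Helper27.ArtUnionH

set_option autoImplicit false
universe u

namespace Helper27.Insep

open MvPolynomial Helper27.ArtUnion

set_option maxHeartbeats 4000000 in
theorem artUnion' {k Λ K L : Type u} [Field k] (p : ℕ) [Fact p.Prime] [CharP k p] [CommRing Λ]
    [Algebra k Λ] [Nontrivial Λ] [Field K] [Algebra k K] (r : Λ →+* K)
    (hr : Function.Surjective r)
    (hi : ∀ a, r (algebraMap k Λ a) = algebraMap k K a) {d : ℕ} (lam : Fin d → Λ)
    (hlam : RingHom.ker r = Ideal.span (Set.range lam)) (n : ℕ) (hn : RingHom.ker r ^ n = ⊥)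
    (hfin : (LinearMap.ker (KaehlerDifferential.mapBaseChange ℤ k K)).FG)
    [CommRing L] (ι : L →+* Λ) (hι : ∀ x : Λ, ∃ b c : L, IsUnit (ι c) ∧ x * ι c = ι b)
    (E : Finset Λ) :
    ∃ (F : IntermediateField k K) (A : Subalgebra k Λ) (_ : IsLocalRing A), (↑E : Set Λ) ⊆ A ∧
      IsArtinianRing A ∧ Module.Flat A Λ ∧ Algebra.EssFiniteType k A ∧
      (IsLocalRing.maximalIdeal A).map (algebraMap A Λ) = RingHom.ker r ∧
      (∀ j, lam j ∈ A) ∧ (∀ a : A, r a ∈ F) ∧ (∀ f : K, f ∈ F → ∃ a : A, r a = f) ∧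
      (∀ a : A, a ∈ IsLocalRing.maximalIdeal A ↔ r a = 0) ∧
      ∃ T : Finset L, (∀ x ∈ T, ι x ∈ A) ∧
        F = IntermediateField.adjoin k ((fun x => r (ι x)) '' (T : Set L)) := by
  classical
  obtain ⟨σ, G₀, hσ, hG₀⟩ := claim p hfin n Λ r (algebraMap k Λ) d lam hr hi hlam hn
  have hnil : IsNilpotent (RingHom.ker r) := ⟨n, hn⟩
  let Ψ : MvPolynomial (Fin d) K →+* Λ := eval₂Hom σ lam
  have hΨC : ∀ c, Ψ (C c) = σ c := fun c => eval₂_C _ _ _
  have hΨX : ∀ j, Ψ (X j) = lam j := fun j => eval₂_X _ _ _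
  have hΨsurj : Function.Surjective Ψ := by
    intro x
    have hx : x ∈ Subring.closure (Set.range σ ∪ Set.range lam) := by
      rw [closure_eq_top r σ hσ lam hlam hnil]; trivial
    have hle : Subring.closure (Set.range σ ∪ Set.range lam) ≤ Ψ.range := by
      rw [Subring.closure_le]
      rintro _ (⟨c, rfl⟩ | ⟨j, rfl⟩)
      · exact ⟨C c, hΨC c⟩
      · exact ⟨X j, hΨX j⟩
    exact hle hx
  obtain ⟨gs, hgs⟩ := (isNoetherianRing_iff_ideal_fg (MvPolynomial (Fin d) K)).mp inferInstance
    (RingHom.ker Ψ)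
  choose Ge hGe using fun x : Λ => exists_finset_mem r σ hσ lam hlam hnil x
  let G₁ : Finset K := G₀ ∪ E.biUnion Ge ∪ gs.biUnion (fun g => g.coeffs)
  choose bb cc hcu hbc using fun g : K => hι (σ g)
  obtain ⟨q, hq⟩ : ∃ q : ℕ, q = p ^ n := ⟨_, rfl⟩
  have hqn : n ≤ q := by
    rw [hq]
    exact (Nat.lt_pow_self (Fact.out : p.Prime).one_lt).le
  have hqpos : 0 < q := by
    rw [hq]
    exact pow_pos (Fact.out : p.Prime).pos n
  have hchar : CharP Λ p := charP_of_injective_algebraMap (algebraMap k Λ).injective p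
  have hpowq : ∀ u : Λ, u ^ q = σ (r u ^ q) := by
    intro u
    have h1 : u - σ (r u) ∈ RingHom.ker r := by
      rw [RingHom.mem_ker, map_sub, hσ, sub_self]
    have h2 : (u - σ (r u)) ^ q = 0 := by
      have h3 : (u - σ (r u)) ^ q ∈ RingHom.ker r ^ n :=
        Ideal.pow_le_pow_right hqn (Ideal.pow_mem_pow h1 q)
      rw [hn] at h3
      exact h3
    have h4 : u = σ (r u) + (u - σ (r u)) := by ring
    conv_lhs => rw [h4]
    rw [hq, add_pow_char_pow, ← hq, h2, add_zero, map_pow]
  let γ : K → K := fun g => r (ι (cc g)) ^ q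
  have hγne : ∀ g, γ g ≠ 0 := fun g => pow_ne_zero _ ((hcu g).map r).ne_zero
  let G : Finset K := G₁ ∪ G₁.image γ
  set F : IntermediateField k K := IntermediateField.adjoin k (G : Set K) with hF
  obtain ⟨G', hG'⟩ : ∃ G' : Finset F, IntermediateField.adjoin k (G' : Set F) = ⊤ :=
    adjoin_subtype_eq_top (k := k) G
  have hGF : (G : Set K) ⊆ F := IntermediateField.subset_adjoin k _
  have hG₁F : ∀ g ∈ G₁, g ∈ F := fun g hg => hGF (by
    simp only [G, Finset.coe_union, Set.mem_union]
    exact Or.inl hg)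
  let φF : MvPolynomial (Fin d) F →+* Λ := eval₂Hom (σ.comp (algebraMap F K)) lam
  have hΨmap : ∀ P, Ψ (map (algebraMap F K) P) = φF P := by
    intro P
    change eval₂ σ lam (map (algebraMap F K) P) = eval₂ (σ.comp (algebraMap F K)) lam P
    rw [eval₂_map]
  have hcl : ∀ (H : Set K), H ⊆ F → Subring.closure (σ '' H ∪ Set.range lam) ≤ φF.range := by
    intro H hH
    rw [Subring.closure_le]
    rintro _ (⟨c, hc, rfl⟩ | ⟨j, rfl⟩)
    · refine ⟨C ⟨c, hH hc⟩, ?_⟩
      change eval₂ (σ.comp (algebraMap F K)) lam (C _) = _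
      rw [eval₂_C]; rfl
    · refine ⟨X j, ?_⟩
      change eval₂ (σ.comp (algebraMap F K)) lam (X j) = _
      rw [eval₂_X]
  have hkmem : ∀ a : k, algebraMap k Λ a ∈ φF.range := by
    intro a
    refine hcl _ ?_ (hG₀ a)
    intro c hc
    have hmono : IntermediateField.adjoin k (G₀ : Set K) ≤ F := by
      rw [hF]
      apply IntermediateField.adjoin.mono
      intro x hx
      simp only [G, G₁, Finset.coe_union, Set.mem_union]
      exact Or.inl (Or.inl (Or.inl hx))
    exact hmono hc
  have hEmem : ∀ e ∈ E, e ∈ φF.range := by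
    intro e he
    refine hcl _ ?_ (hGe e)
    intro c hc
    apply hG₁F
    simp only [G₁, Finset.mem_union, Finset.mem_biUnion]
    exact Or.inl (Or.inr ⟨e, he, hc⟩)
  have hgsmem : ∀ g ∈ gs, g ∈ Set.range (map (algebraMap F K)) := by
    intro g hg
    rw [mem_range_map_iff_coeffs_subset]
    intro c hc
    have : c ∈ (F : Set K) := by
      apply hG₁F
      simp only [G₁, Finset.mem_union, Finset.mem_biUnion]
      exact Or.inr ⟨g, hg, hc⟩
    exact ⟨⟨c, this⟩, rfl⟩
  have hker : RingHom.ker Ψ ≤ (RingHom.ker φF).map (map (algebraMap F K)) := by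
    rw [← hgs, Ideal.span_le]
    intro g hg
    obtain ⟨g', rfl⟩ := hgsmem g hg
    apply Ideal.mem_map_of_mem
    rw [RingHom.mem_ker, ← hΨmap]
    have : map (algebraMap F K) g' ∈ RingHom.ker Ψ := by
      rw [← hgs]; exact Ideal.subset_span hg
    exact this
  let A : Subalgebra k Λ :=
    { φF.range.toSubsemiring with algebraMap_mem' := hkmem }
  have hA : ∀ x, x ∈ A ↔ x ∈ Set.range φF := fun x => Iff.rfl
  have hloc : IsLocalRing A := isLocalRing_A r σ lam F A hσ hlam hA hi hnil
  have hmax := maximalIdeal_A r σ lam F A hσ hlam hA hi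
  have hσF : ∀ f : K, f ∈ F → σ f ∈ A := by
    intro f hf
    exact (hA _).mpr ⟨C ⟨f, hf⟩, by
      change eval₂ (σ.comp (algebraMap F K)) lam (C _) = _
      rw [eval₂_C]; rfl⟩
  have hlamA : ∀ j, lam j ∈ A := fun j => (hA _).mpr ⟨X j, by
    change eval₂ (σ.comp (algebraMap F K)) lam (X j) = _
    rw [eval₂_X]⟩
  have hγF : ∀ g ∈ G₁, γ g ∈ F := fun g hg => hGF (by
    simp only [G, Finset.coe_union, Set.mem_union, Finset.coe_image]
    exact Or.inr ⟨g, hg, rfl⟩)
  refine ⟨F, A, hloc, ?_, ?_, ?_, ?_, ?_, hlamA, ?_, ?_, ?_, ?_⟩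
  · intro e he
    exact hEmem e he
  · have hnoeth : IsNoetherianRing A :=
      isNoetherianRing_of_surjective _ _ (phiA σ lam F A hA) (phiA_surjective σ lam F A hA)
    rw [isArtinianRing_iff_isNilpotent_maximalIdeal, hmax,
      ← ker_rhoA r σ lam F A hσ hlam hA hi]
    exact ker_rhoA_nilpotent r σ lam F A hσ hlam hA hi hnil
  · refine flat_of_range (F := F) (A := A) σ lam hΨsurj hker Subtype.val_injective ?_
    ext x
    constructor
    · rintro ⟨a, rfl⟩
      exact (hA _).mp a.2
    · intro hx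
      exact ⟨⟨x, (hA x).mpr hx⟩, rfl⟩
  · exact essFiniteType_of_nilpotent (rhoA r σ lam F A hσ hlam hA hi) (lamA σ lam F A hA)
      (rhoA_surjective r σ lam F A hσ hlam hA hi) (ker_rhoA r σ lam F A hσ hlam hA hi)
      (ker_rhoA_nilpotent r σ lam F A hσ hlam hA hi hnil) G' hG'
  · rw [hmax, Ideal.map_span, ← Set.range_comp, hlam]
    congr 2
    ext j
    exact lamA_coe σ lam F A hA j
  · intro a
    exact r_mem_F r σ lam F A hσ hlam hA a
  · intro f hf
    exact ⟨⟨σ f, hσF f hf⟩, hσ f⟩
  · intro a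
    rw [hmax, ← ker_rhoA r σ lam F A hσ hlam hA hi, RingHom.mem_ker]
    constructor
    · intro h
      have := congrArg (fun x : F => (x : K)) h
      exact this
    · intro h
      apply Subtype.ext
      exact h
  · refine ⟨G₁.image (fun g => cc g ^ q) ∪ G₁.image (fun g => bb g * cc g ^ (q - 1)), ?_, ?_⟩
    · intro x hx
      rcases Finset.mem_union.mp hx with hx | hx
      · obtain ⟨g, hg, rfl⟩ := Finset.mem_image.mp hx
        rw [map_pow, hpowq]
        exact hσF _ (hγF g hg)
      · obtain ⟨g, hg, rfl⟩ := Finset.mem_image.mp hx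
        have h1 : ι (bb g * cc g ^ (q - 1)) = σ g * ι (cc g) ^ q := by
          rw [map_mul, map_pow, ← hbc g, mul_assoc, ← pow_succ']
          congr 2
          omega
        rw [h1, hpowq]
        exact A.mul_mem (hσF _ (hG₁F g hg)) (hσF _ (hγF g hg))
    · have hr1 : ∀ g, r (ι (cc g ^ q)) = γ g := fun g => by rw [map_pow, map_pow]
      have hr2 : ∀ g, r (ι (bb g * cc g ^ (q - 1))) = g * γ g := by
        intro g
        have h1 : ι (bb g * cc g ^ (q - 1)) = σ g * ι (cc g) ^ q := by
          rw [map_mul, map_pow, ← hbc g, mul_assoc, ← pow_succ']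
          congr 2
          omega
        rw [h1, map_mul, hσ, map_pow]
      apply le_antisymm
      · rw [hF, IntermediateField.adjoin_le_iff]
        intro x hx
        simp only [G, Finset.coe_union, Set.mem_union, Finset.coe_image] at hx
        have hγmem : ∀ g ∈ G₁, γ g ∈ IntermediateField.adjoin k ((fun x => r (ι x)) ''
            ((G₁.image (fun g => cc g ^ q) ∪ G₁.image (fun g => bb g * cc g ^ (q - 1)) :
              Finset L) : Set L)) := by
          intro g hg
          apply IntermediateField.subset_adjoin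
          refine ⟨cc g ^ q, ?_, hr1 g⟩
          rw [Finset.mem_coe, Finset.mem_union]
          exact Or.inl (Finset.mem_image.mpr ⟨g, hg, rfl⟩)
        rcases hx with hx | ⟨g, hg, rfl⟩
        · have h2 : x * γ x ∈ IntermediateField.adjoin k ((fun x => r (ι x)) ''
              ((G₁.image (fun g => cc g ^ q) ∪ G₁.image (fun g => bb g * cc g ^ (q - 1)) :
                Finset L) : Set L)) := by
            apply IntermediateField.subset_adjoin
            refine ⟨bb x * cc x ^ (q - 1), ?_, hr2 x⟩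
            rw [Finset.mem_coe, Finset.mem_union]
            exact Or.inr (Finset.mem_image.mpr ⟨x, hx, rfl⟩)
          have h3 : x = x * γ x / γ x := by
            rw [mul_div_assoc, div_self (hγne x), mul_one]
          rw [SetLike.mem_coe, h3]
          exact IntermediateField.div_mem _ h2 (hγmem x hx)
        · exact hγmem g hg
      · rw [IntermediateField.adjoin_le_iff]
        rintro _ ⟨x, hx, rfl⟩
        rw [Finset.mem_coe, Finset.mem_union] at hx
        rcases hx with hx | hx
        · obtain ⟨g, hg, rfl⟩ := Finset.mem_image.mp hx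
          show r (ι (cc g ^ q)) ∈ F
          rw [hr1]
          exact hγF g hg
        · obtain ⟨g, hg, rfl⟩ := Finset.mem_image.mp hx
          show r (ι (bb g * cc g ^ (q - 1))) ∈ F
          rw [hr2]
          exact F.mul_mem (hG₁F g hg) (hγF g hg)

end Helper27.Insep
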