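import Mathlib

set_option autoImplicit false
universe u

namespace Helper27.Insep

theorem exists_extend {K V : Type*} [Field K] [AddCommGroup V] [Module K V] {c s : ℕ}
    (u : Fin c → V) (hu : LinearIndependent K u) (w : Fin s → V)
    (hw : Submodule.span K (Set.range w) = ⊤) :
    ∃ (e : ℕ) (l : Fin e → Fin s), LinearIndependent K (Sum.elim u (w ∘ l)) ∧
      Submodule.span K (Set.range (Sum.elim u (w ∘ l))) = ⊤ := by
  classical
  have hs : LinearIndepOn K id (Set.range u) := hu.linearIndepOn_id
  obtain ⟨b, hbt, hsb, htspan, hb⟩ := exists_linearIndepOn_id_extension hs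
    (Set.subset_union_left : Set.range u ⊆ Set.range u ∪ Set.range w)
  have hb'w : ∀ v : ↥(b \ Set.range u), ∃ i : Fin s, w i = (v : V) := by
    rintro ⟨v, hv1, hv2⟩
    rcases hbt hv1 with h | h
    · exact absurd h hv2
    · exact h
  choose l₀ hl₀ using hb'w
  have hfin : Finite ↥(b \ Set.range u) := by
    apply Finite.of_injective l₀
    intro x y hxy
    apply Subtype.ext
    rw [← hl₀ x, ← hl₀ y, hxy]
  obtain ⟨e, ⟨ε⟩⟩ : ∃ e : ℕ, Nonempty (Fin e ≃ ↥(b \ Set.range u)) :=
    ⟨Nat.card ↥(b \ Set.range u), ⟨(Finite.equivFin _).symm⟩⟩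
  refine ⟨e, fun i => l₀ (ε i), ?_, ?_⟩
  · let g : Fin c ⊕ Fin e → b := Sum.elim (fun j => ⟨u j, hsb ⟨j, rfl⟩⟩)
      (fun i => ⟨(ε i : V), (ε i).2.1⟩)
    have hg : Function.Injective g := by
      rintro (j | i) (j' | i') h
      · have : u j = u j' := congrArg (fun x : b => (x : V)) h
        rw [hu.injective this]
      · exfalso
        have : u j = (ε i' : V) := congrArg (fun x : b => (x : V)) h
        exact (ε i').2.2 ⟨j, this⟩
      · exfalso
        have : (ε i : V) = u j' := congrArg (fun x : b => (x : V)) h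
        exact (ε i).2.2 ⟨j', this.symm⟩
      · have : (ε i : V) = (ε i' : V) := congrArg (fun x : b => (x : V)) h
        rw [ε.injective (Subtype.ext this)]
    have h1 : LinearIndependent K (fun x : b => (x : V)) := hb
    have h2 := h1.comp g hg
    have h3 : (fun x : b => (x : V)) ∘ g = Sum.elim u (w ∘ fun i => l₀ (ε i)) := by
      funext x
      rcases x with j | i
      · rfl
      · show (ε i : V) = w (l₀ (ε i))
        rw [hl₀]
    rw [← h3]
    exact h2
  · rw [_root_.eq_top_iff, ← hw, Submodule.span_le]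
    have hbsub : b ⊆ Set.range (Sum.elim u (w ∘ fun i => l₀ (ε i))) := by
      intro v hv
      by_cases h : v ∈ Set.range u
      · obtain ⟨j, rfl⟩ := h
        exact ⟨Sum.inl j, rfl⟩
      · refine ⟨Sum.inr (ε.symm ⟨v, hv, h⟩), ?_⟩
        show w (l₀ (ε (ε.symm ⟨v, hv, h⟩))) = v
        rw [Equiv.apply_symm_apply, hl₀]
    intro x hx
    have h1 : x ∈ Submodule.span K b := htspan (Or.inr hx)
    exact Submodule.span_mono hbsub h1

open KaehlerDifferential in
theorem span_D_adjoin {k K : Type u} [Field k] [Field K] [Algebra k K] (S : Set K) :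
    Submodule.span (IntermediateField.adjoin k S)
      (Set.range fun s : S => D k (IntermediateField.adjoin k S)
        ⟨s.1, IntermediateField.subset_adjoin k S s.2⟩) = ⊤ := by
  set N := Submodule.span (IntermediateField.adjoin k S)
      (Set.range fun s : S => D k (IntermediateField.adjoin k S)
        ⟨s.1, IntermediateField.subset_adjoin k S s.2⟩) with hN
  rw [_root_.eq_top_iff, ← KaehlerDifferential.span_range_derivation, Submodule.span_le]
  rintro _ ⟨⟨x, hx⟩, rfl⟩
  show D k (IntermediateField.adjoin k S) ⟨x, hx⟩ ∈ N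
  induction hx using IntermediateField.adjoin_induction with
  | mem y hy => exact Submodule.subset_span ⟨⟨y, hy⟩, rfl⟩
  | algebraMap c =>
    have : (⟨algebraMap k K c, IntermediateField.algebraMap_mem _ c⟩ : IntermediateField.adjoin k S) =
        algebraMap k (IntermediateField.adjoin k S) c := rfl
    rw [this, Derivation.map_algebraMap]
    exact Submodule.zero_mem _
  | add y z hy hz ihy ihz =>
    have : (⟨y + z, add_mem hy hz⟩ : IntermediateField.adjoin k S) = ⟨y, hy⟩ + ⟨z, hz⟩ := rfl
    rw [this, map_add]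
    exact Submodule.add_mem _ ihy ihz
  | inv y hy ihy =>
    have : (⟨y⁻¹, inv_mem hy⟩ : IntermediateField.adjoin k S) = (⟨y, hy⟩ : IntermediateField.adjoin k S)⁻¹ := rfl
    rw [this, Derivation.leibniz_inv]
    exact Submodule.smul_mem _ _ ihy
  | mul y z hy hz ihy ihz =>
    have : (⟨y * z, mul_mem hy hz⟩ : IntermediateField.adjoin k S) = ⟨y, hy⟩ * ⟨z, hz⟩ := rfl
    rw [this, Derivation.leibniz]
    exact Submodule.add_mem _ (Submodule.smul_mem _ _ ihz) (Submodule.smul_mem _ _ ihy)

end Helper27.Insep
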