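import Mathlib

set_option autoImplicit false
universe u

namespace Helper27.SepRes

open MvPolynomial

section Mono

variable {k : Type*} [CommRing k] {d : ℕ} (e : ℕ)

theorem mem_span_X_pow_iff {ι : Type*} (v : ι → Fin d) (p : MvPolynomial (Fin d) k) :
    p ∈ Ideal.span (Set.range fun j : ι => (X (v j) : MvPolynomial (Fin d) k) ^ e) ↔
      ∀ α ∈ p.support, ∃ j, e ≤ α (v j) := by
  have h1 : (Set.range fun j : ι => (X (v j) : MvPolynomial (Fin d) k) ^ e) =
      (fun s => monomial s (1 : k)) '' (Set.range fun j : ι => Finsupp.single (v j) e) := by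
    rw [← Set.range_comp]
    congr 1
    funext j
    simp only [Function.comp_apply, X_pow_eq_monomial]
  rw [h1, mem_ideal_span_monomial_image]
  refine forall₂_congr fun α _ => ?_
  constructor
  · rintro ⟨_, ⟨j, rfl⟩, hj⟩
    exact ⟨j, Finsupp.single_le_iff.mp hj⟩
  · rintro ⟨j, hj⟩
    exact ⟨_, ⟨j, rfl⟩, Finsupp.single_le_iff.mpr hj⟩

theorem mem_of_X_pow_mul_mem {ι : Type*} (v : ι → Fin d) (i : Fin d) (hi : ∀ j, v j ≠ i) (a : ℕ)
    (p : MvPolynomial (Fin d) k)
    (h : (X i : MvPolynomial (Fin d) k) ^ a * p ∈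
      Ideal.span (Set.range fun j : ι => (X (v j) : MvPolynomial (Fin d) k) ^ e)) :
    p ∈ Ideal.span (Set.range fun j : ι => (X (v j) : MvPolynomial (Fin d) k) ^ e) := by
  rw [mem_span_X_pow_iff] at h ⊢
  intro α hα
  have h1 : Finsupp.single i a + α ∈ ((X i : MvPolynomial (Fin d) k) ^ a * p).support := by
    rw [mem_support_iff, X_pow_eq_monomial, coeff_monomial_mul, one_mul]
    exact mem_support_iff.mp hα
  obtain ⟨j, hj⟩ := h _ h1
  refine ⟨j, ?_⟩
  rw [Finsupp.add_apply, Finsupp.single_eq_of_ne (hi j), zero_add] at hj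
  exact hj

noncomputable def Ke : Ideal (MvPolynomial (Fin d) k) :=
  Ideal.span (Set.range fun i : Fin d => (X i : MvPolynomial (Fin d) k) ^ e)

theorem mem_Ke_iff (p : MvPolynomial (Fin d) k) :
    p ∈ Ke e ↔ ∀ α ∈ p.support, ∃ i, e ≤ α i :=
  mem_span_X_pow_iff e (fun i : Fin d => i) p

noncomputable def Etop (d : ℕ) : Fin d →₀ ℕ := Finsupp.equivFunOnFinite.symm (fun _ => e - 1)

theorem exists_mul_sub_mem {ι : Type*} (S : Finset ι)
    (p : ι → MvPolynomial (Fin d) k) (hp : ∃ b ∈ S, p b ∉ Ke e) :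
    ∃ (β : Fin d →₀ ℕ) (c : ι → k), (∃ b ∈ S, c b ≠ 0) ∧
      ∀ b ∈ S, monomial β 1 * p b - C (c b) * monomial (Etop e d) 1 ∈ Ke e := by
  classical
  let U : Finset (Fin d →₀ ℕ) := S.biUnion fun b => (p b).support.filter fun α => ∀ i, α i < e
  have hU : U.Nonempty := by
    obtain ⟨b, hb, hpb⟩ := hp
    rw [mem_Ke_iff] at hpb
    push Not at hpb
    obtain ⟨α, hα, hα'⟩ := hpb
    exact ⟨α, Finset.mem_biUnion.mpr ⟨b, hb, Finset.mem_filter.mpr ⟨hα, fun i => hα' i⟩⟩⟩
  obtain ⟨α₀, hα₀U, hmin⟩ := Finset.exists_min_image U (fun α => ∑ i, α i) hU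
  obtain ⟨b₀, hb₀, hα₀b⟩ := Finset.mem_biUnion.mp hα₀U
  rw [Finset.mem_filter] at hα₀b
  have hbox₀ : ∀ i, α₀ i < e := hα₀b.2
  have hE : ∀ i, Etop e d i = e - 1 := fun i => rfl
  have hα₀E : α₀ ≤ Etop e d := by
    intro i
    rw [hE]
    have := hbox₀ i
    omega
  refine ⟨Etop e d - α₀, fun b => coeff α₀ (p b), ⟨b₀, hb₀, mem_support_iff.mp hα₀b.1⟩, ?_⟩
  intro b hb
  rw [mem_Ke_iff]
  intro γ hγ
  by_contra hbox
  push Not at hbox
  apply mem_support_iff.mp hγ
  rw [coeff_sub, coeff_monomial_mul', coeff_C_mul, coeff_monomial]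
  by_cases hγE : Etop e d = γ
  · subst hγE
    have h1 : Etop e d - α₀ ≤ Etop e d := tsub_le_self
    rw [if_pos h1, if_pos rfl, one_mul, mul_one, tsub_tsub_cancel_of_le hα₀E, sub_self]
  · rw [if_neg hγE, mul_zero, sub_zero]
    split_ifs with hβγ
    · rw [one_mul]
      by_contra hne
      have hle : ∀ i, (γ - (Etop e d - α₀)) i ≤ α₀ i := by
        intro i
        rw [Finsupp.tsub_apply, Finsupp.tsub_apply, hE]
        have := hbox i
        have := hbox₀ i
        omega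
      have hαU : γ - (Etop e d - α₀) ∈ U :=
        Finset.mem_biUnion.mpr ⟨b, hb, Finset.mem_filter.mpr
          ⟨mem_support_iff.mpr hne, fun i => lt_of_le_of_lt (hle i) (hbox₀ i)⟩⟩
      have h2 := hmin _ hαU
      have h3 : ∑ i, (γ - (Etop e d - α₀)) i = ∑ i, α₀ i :=
        le_antisymm (Finset.sum_le_sum fun i _ => hle i) h2
      have h4 := (Finset.sum_eq_sum_iff_of_le fun i _ => hle i).mp h3
      apply hγE
      ext i
      have h5 := h4 i (Finset.mem_univ i)
      rw [Finsupp.tsub_apply, Finsupp.tsub_apply, hE] at h5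
      have h6 := hβγ i
      rw [Finsupp.tsub_apply, hE] at h6
      rw [hE]
      have := hbox i
      have := hbox₀ i
      omega
    · rfl

end Mono

end Helper27.SepRes
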