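import Mathlib
import Groth.Agent.Lib.Helper27.SepResB

set_option autoImplicit false
universe u

namespace Helper27.SepRes

open MvPolynomial

theorem top_le_of_sup_smul_of_isNilpotent {A M : Type*} [CommRing A] [AddCommGroup M] [Module A M]
    (I : Ideal A) (hI : IsNilpotent I) (N : Submodule A M) (h : ⊤ ≤ N ⊔ I • (⊤ : Submodule A M)) :
    ⊤ ≤ N := by
  obtain ⟨n, hn⟩ := hI
  have key : ∀ j : ℕ, ⊤ ≤ N ⊔ (I ^ j) • (⊤ : Submodule A M) := by
    intro j
    induction j with
    | zero => simp
    | succ j ih =>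
      refine ih.trans (sup_le le_sup_left ?_)
      calc (I ^ j) • (⊤ : Submodule A M) ≤ (I ^ j) • (N ⊔ I • (⊤ : Submodule A M)) :=
            Submodule.smul_mono le_rfl h
        _ = (I ^ j) • N ⊔ (I ^ j) • (I • (⊤ : Submodule A M)) := Submodule.smul_sup _ _ _
        _ ≤ N ⊔ (I ^ (j + 1)) • (⊤ : Submodule A M) := by
            refine sup_le_sup Submodule.smul_le_right ?_
            rw [← Submodule.mul_smul, ← pow_succ]
  have := key n
  rw [hn, Ideal.zero_eq_bot, Submodule.bot_smul, sup_bot_eq] at this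
  exact this

section Free

variable {k : Type*} [Field k] {d : ℕ} (e : ℕ) (K : Ideal (MvPolynomial (Fin d) k))
  {T : Type*} [CommRing T] [IsLocalRing T] [Algebra (MvPolynomial (Fin d) k ⧸ K) T] [Algebra k T]
  [IsScalarTower k (MvPolynomial (Fin d) k ⧸ K) T]

theorem theta_monomial (β : Fin d →₀ ℕ) :
    algebraMap (MvPolynomial (Fin d) k ⧸ K) T (Ideal.Quotient.mk K (monomial β 1)) =
      ∏ i, (algebraMap (MvPolynomial (Fin d) k ⧸ K) T (Ideal.Quotient.mk K (X i))) ^ (β i) := by
  rw [monomial_eq, map_one, one_mul, Finsupp.prod_fintype _ _ (fun i => pow_zero _), map_prod,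
    map_prod]
  simp only [map_pow]

theorem theta_C (c : k) :
    algebraMap (MvPolynomial (Fin d) k ⧸ K) T (Ideal.Quotient.mk K (C c)) = algebraMap k T c := by
  rw [IsScalarTower.algebraMap_apply k (MvPolynomial (Fin d) k ⧸ K) T]
  rfl

theorem free_of_socle (hK : K = Ke e)
    (hmax : IsLocalRing.maximalIdeal T = Ideal.span (Set.range fun i =>
      algebraMap (MvPolynomial (Fin d) k ⧸ K) T (Ideal.Quotient.mk K (X i))))
    (hσ : ∏ i, (algebraMap (MvPolynomial (Fin d) k ⧸ K) T (Ideal.Quotient.mk K (X i))) ^ (e - 1) ≠ 0) :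
    Module.Free (MvPolynomial (Fin d) k ⧸ K) T := by
  classical
  let m : Submodule k T := (IsLocalRing.maximalIdeal T).restrictScalars k
  obtain ⟨W, hW⟩ := Submodule.exists_isCompl m
  let bW := Module.Basis.ofVectorSpace k W
  let τ : Module.Basis.ofVectorSpaceIndex k W → T := fun b => (bW b : T)
  have hunit : ∀ (S : Finset (Module.Basis.ofVectorSpaceIndex k W))
      (c : Module.Basis.ofVectorSpaceIndex k W → k),
      (∃ b ∈ S, c b ≠ 0) → IsUnit (∑ b ∈ S, algebraMap k T (c b) * τ b) := by
    intro S c hc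
    by_contra hnu
    have h1 : (∑ b ∈ S, algebraMap k T (c b) * τ b) ∈ IsLocalRing.maximalIdeal T :=
      (IsLocalRing.mem_maximalIdeal _).mpr hnu
    have h2 : (∑ b ∈ S, algebraMap k T (c b) * τ b) = ((∑ b ∈ S, c b • bW b : W) : T) := by
      rw [Submodule.coe_sum]
      refine Finset.sum_congr rfl fun b _ => ?_
      rw [Submodule.coe_smul, Algebra.smul_def]
    have h3 : ((∑ b ∈ S, c b • bW b : W) : T) ∈ m ⊓ W :=
      ⟨by rw [← h2]; exact h1, (∑ b ∈ S, c b • bW b : W).2⟩
    rw [hW.inf_eq_bot, Submodule.mem_bot] at h3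
    have h4 : (∑ b ∈ S, c b • bW b : W) = 0 := Subtype.ext h3
    obtain ⟨b, hb, hcb⟩ := hc
    exact hcb (linearIndependent_iff'.mp bW.linearIndependent S c h4 b hb)
  have hli : LinearIndependent (MvPolynomial (Fin d) k ⧸ K) τ := by
    rw [linearIndependent_iff']
    intro S g hg
    by_contra hcon
    push Not at hcon
    obtain ⟨b₁, hb₁, hgb₁⟩ := hcon
    choose p hp using fun b => Ideal.Quotient.mk_surjective (I := K) (g b)
    have hp1 : ∃ b ∈ S, p b ∉ Ke e := by
      refine ⟨b₁, hb₁, fun hmem => hgb₁ ?_⟩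
      rw [← hp b₁, Ideal.Quotient.eq_zero_iff_mem, hK]
      exact hmem
    obtain ⟨β, c, hc, hβ⟩ := exists_mul_sub_mem e S p hp1
    have h1 : ∀ b ∈ S, algebraMap (MvPolynomial (Fin d) k ⧸ K) T (Ideal.Quotient.mk K (monomial β 1)) *
        (g b • τ b) = (∏ i, (algebraMap (MvPolynomial (Fin d) k ⧸ K) T
          (Ideal.Quotient.mk K (X i))) ^ (e - 1)) * (algebraMap k T (c b) * τ b) := by
      intro b hb
      have h2 : Ideal.Quotient.mk K (monomial β 1 * p b) =
          Ideal.Quotient.mk K (C (c b) * monomial (Etop e d) 1) := by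
        rw [Ideal.Quotient.eq, hK]
        exact hβ b hb
      rw [Algebra.smul_def, ← mul_assoc, ← map_mul, ← hp b, ← map_mul, h2, map_mul, map_mul,
        theta_C, theta_monomial]
      have h3 : ∀ i, Etop e d i = e - 1 := fun i => rfl
      simp only [h3]
      ring
    have h4 : (∏ i, (algebraMap (MvPolynomial (Fin d) k ⧸ K) T
        (Ideal.Quotient.mk K (X i))) ^ (e - 1)) * (∑ b ∈ S, algebraMap k T (c b) * τ b) = 0 := by
      rw [Finset.mul_sum, ← Finset.sum_congr rfl h1, ← Finset.mul_sum, hg, mul_zero]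
    exact hσ ((hunit S c hc).mul_left_eq_zero.mp h4)
  have hsp : ⊤ ≤ Submodule.span (MvPolynomial (Fin d) k ⧸ K) (Set.range τ) := by
    let I₀ : Ideal (MvPolynomial (Fin d) k ⧸ K) :=
      Ideal.span (Set.range fun i : Fin d => Ideal.Quotient.mk K (X i))
    have hI₀ : IsNilpotent I₀ := by
      have hfg : I₀.FG := ⟨(Finset.univ.image fun i : Fin d => Ideal.Quotient.mk K (X i)), by
        rw [Finset.coe_image, Finset.coe_univ, Set.image_univ]⟩
      rw [hfg.isNilpotent_iff_le_nilradical]
      refine Ideal.span_le.mpr ?_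
      rintro _ ⟨i, rfl⟩
      show IsNilpotent (Ideal.Quotient.mk K (X i))
      refine ⟨e, ?_⟩
      rw [← map_pow, Ideal.Quotient.eq_zero_iff_mem, hK]
      exact Ideal.subset_span ⟨i, rfl⟩
    apply top_le_of_sup_smul_of_isNilpotent I₀ hI₀
    intro x _
    have hx : x ∈ m ⊔ W := by rw [hW.sup_eq_top]; trivial
    obtain ⟨y, hy, w, hw, rfl⟩ := Submodule.mem_sup.mp hx
    rw [add_comm]
    refine Submodule.add_mem_sup ?_ ?_
    · have h1 : W = Submodule.span k (Set.range τ) := by
        have h2 := bW.span_eq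
        have h3 : Submodule.map W.subtype (Submodule.span k (Set.range bW)) =
            Submodule.span k (Set.range τ) := by
          rw [Submodule.map_span, ← Set.range_comp]
          rfl
        rw [← h3, h2, Submodule.map_top, Submodule.range_subtype]
      have h4 : w ∈ Submodule.span k (Set.range τ) := by
        rw [← h1]
        exact hw
      exact Submodule.span_le_restrictScalars k (MvPolynomial (Fin d) k ⧸ K) _ h4
    · have hy' : y ∈ IsLocalRing.maximalIdeal T := hy
      rw [hmax] at hy'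
      refine Submodule.span_induction ?_ ?_ ?_ ?_ hy'
      · rintro _ ⟨i, rfl⟩
        have : algebraMap (MvPolynomial (Fin d) k ⧸ K) T (Ideal.Quotient.mk K (X i)) =
            (Ideal.Quotient.mk K (X i)) • (1 : T) := by rw [Algebra.smul_def, mul_one]
        show algebraMap (MvPolynomial (Fin d) k ⧸ K) T (Ideal.Quotient.mk K (X i)) ∈ _
        rw [this]
        exact Submodule.smul_mem_smul (Ideal.subset_span ⟨i, rfl⟩) trivial
      · exact Submodule.zero_mem _
      · intro a b _ _ ha hb
        exact Submodule.add_mem _ ha hb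
      · intro a b _ hb
        have h5 : a • b = b * a := by rw [smul_eq_mul, mul_comm]
        rw [h5]
        refine Submodule.smul_induction_on hb ?_ ?_
        · intro r hr n _
          have : r • n * a = r • (n * a) := by rw [smul_mul_assoc]
          rw [this]
          exact Submodule.smul_mem_smul hr trivial
        · intro x y hx hy
          rw [add_mul]
          exact Submodule.add_mem _ hx hy
  exact Module.Free.of_basis (Module.Basis.mk hli hsp)

end Free

end Helper27.SepRes
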