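import Mathlib

set_option autoImplicit false

namespace Helper27.RegPow

open RingTheory.Sequence IsLocalRing

section

variable {R : Type*} [CommRing R] [IsLocalRing R] {M : Type*} [AddCommGroup M] [Module R M]
  [IsNoetherian R M]

omit [IsNoetherian R M] in
theorem mem_maximalIdeal_of_isRegular {rs : List R} (h : IsRegular M rs) :
    ∀ r ∈ rs, r ∈ maximalIdeal R := by
  intro x hx
  have hx' : x ∈ {r | r ∈ rs} := hx
  refine IsLocalRing.le_maximalIdeal (J := Ideal.ofList rs) ?_ (Ideal.subset_span hx')
  intro htop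
  apply h.top_ne_smul
  rw [htop, Submodule.top_smul]

theorem isRegular_pow_cons {a : R} {rs : List R} (e : ℕ) (he : 0 < e)
    (h : IsRegular M (a :: rs)) : IsRegular M (a ^ e :: rs) := by
  have hmem := mem_maximalIdeal_of_isRegular h
  have hnt : Nontrivial M := h.nontrivial
  have h1 : IsRegular M (rs ++ [a]) :=
    IsLocalRing.isRegular_of_perm h (List.perm_append_singleton a rs).symm
  obtain ⟨h2, h3⟩ := (isWeaklyRegular_append_iff M rs [a]).mp h1.toIsWeaklyRegular
  rw [isWeaklyRegular_singleton_iff] at h3
  have h4 : IsWeaklyRegular M (rs ++ [a ^ e]) :=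
    (isWeaklyRegular_append_iff M rs [a ^ e]).mpr
      ⟨h2, (isWeaklyRegular_singleton_iff _ _).mpr (h3.pow e)⟩
  have h5 : IsRegular M (rs ++ [a ^ e]) := by
    refine IsRegular.of_isWeaklyRegular_of_mem_maximalIdeal M (fun r hr => ?_) h4
    rcases List.mem_append.mp hr with hr | hr
    · exact hmem r (List.mem_cons_of_mem _ hr)
    · rw [List.mem_singleton] at hr
      rw [hr]
      exact Ideal.pow_mem_of_mem _ (hmem a List.mem_cons_self) e he
  exact IsLocalRing.isRegular_of_perm h5 (List.perm_append_singleton (a ^ e) rs)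

theorem isRegular_map_pow_take (ys : List R) (e : ℕ) (he : 0 < e) (h : IsRegular M ys) (k : ℕ) :
    IsRegular M ((ys.take k).map (· ^ e) ++ ys.drop k) := by
  induction k with
  | zero => simpa using h
  | succ k ih =>
    by_cases hk : k < ys.length
    · have h1 : ys.drop k = ys[k] :: ys.drop (k + 1) := List.drop_eq_getElem_cons hk
      have h2 : ys.take (k + 1) = ys.take k ++ [ys[k]] := List.take_succ_eq_append_getElem hk
      rw [h1] at ih
      have h3 : IsRegular M (ys[k] :: ((ys.take k).map (· ^ e) ++ ys.drop (k + 1))) :=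
        IsLocalRing.isRegular_of_perm ih List.perm_middle
      have h4 := isRegular_pow_cons e he h3
      have h5 : IsRegular M ((ys.take k).map (· ^ e) ++ (ys[k] ^ e :: ys.drop (k + 1))) :=
        IsLocalRing.isRegular_of_perm h4 List.perm_middle.symm
      rw [h2, List.map_append, List.map_singleton, List.append_assoc, List.singleton_append]
      exact h5
    · have hk' : ys.length ≤ k := not_lt.mp hk
      rw [List.take_of_length_le hk', List.drop_of_length_le hk'] at ih
      rw [List.take_of_length_le (by omega), List.drop_of_length_le (by omega)]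
      exact ih

theorem isSMulRegular_of_map_pow_take (ys : List R) (e : ℕ) (he : 0 < e) (h : IsRegular M ys)
    (k : ℕ) (hk : k < ys.length) :
    IsSMulRegular (M ⧸ (Ideal.ofList ((ys.take k).map (· ^ e)) • ⊤ : Submodule R M)) ys[k] := by
  have h0 := isRegular_map_pow_take ys e he h k
  rw [List.drop_eq_getElem_cons hk] at h0
  have h1 := ((isWeaklyRegular_append_iff M _ _).mp h0.toIsWeaklyRegular).2
  exact ((isWeaklyRegular_cons_iff _ _ _).mp h1).1

end

theorem mul_mem_of_map_pow_take {R : Type*} [CommRing R] [IsLocalRing R] [IsNoetherianRing R]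
    (ys : List R) (e : ℕ) (he : 0 < e) (h : IsRegular R ys)
    (k : ℕ) (hk : k < ys.length) (z : R)
    (hz : ys[k] * z ∈ Ideal.ofList ((ys.take k).map (· ^ e))) :
    z ∈ Ideal.ofList ((ys.take k).map (· ^ e)) := by
  have h1 := isSMulRegular_of_map_pow_take (M := R) ys e he h k hk
  have htop : (Ideal.ofList ((ys.take k).map (· ^ e)) • ⊤ : Submodule R R) =
      Ideal.ofList ((ys.take k).map (· ^ e)) := by
    rw [Ideal.smul_eq_mul, Ideal.mul_top]
  have h2 : ys[k] • (Submodule.Quotient.mk z :
      R ⧸ (Ideal.ofList ((ys.take k).map (· ^ e)) • ⊤ : Submodule R R)) = ys[k] • 0 := by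
    rw [smul_zero, ← Submodule.Quotient.mk_smul, Submodule.Quotient.mk_eq_zero, htop, smul_eq_mul]
    exact hz
  have h3 := h1 h2
  rw [Submodule.Quotient.mk_eq_zero, htop] at h3
  exact h3

end Helper27.RegPow
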