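import Mathlib
import Groth.Agent.Lib.Helper27.RegPow

set_option autoImplicit false
universe u

namespace Helper27.SepRes

open RingTheory.Sequence IsLocalRing

theorem mem_of_pow_mul_mem {A : Type*} [CommRing A] [IsLocalRing A] [IsNoetherianRing A]
    (L : List A) (a : A) (h : IsRegular A (L ++ [a])) (n : ℕ) (z : A)
    (hz : a ^ n * z ∈ Ideal.ofList L) : z ∈ Ideal.ofList L := by
  have h1 := ((isWeaklyRegular_append_iff A L [a]).mp h.toIsWeaklyRegular).2
  rw [isWeaklyRegular_singleton_iff] at h1
  have h1' := h1.pow n
  have htop : (Ideal.ofList L • ⊤ : Submodule A A) = Ideal.ofList L := by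
    rw [Ideal.smul_eq_mul, Ideal.mul_top]
  have h2 : (a ^ n) • (Submodule.Quotient.mk z : A ⧸ (Ideal.ofList L • ⊤ : Submodule A A)) =
      (a ^ n) • 0 := by
    rw [smul_zero, ← Submodule.Quotient.mk_smul, Submodule.Quotient.mk_eq_zero, htop, smul_eq_mul]
    exact hz
  have h3 := h1' h2
  rw [Submodule.Quotient.mk_eq_zero, htop] at h3
  exact h3

theorem prod_notMem_ofList {A : Type*} [CommRing A] [IsLocalRing A] [IsNoetherianRing A] (e : ℕ)
    (he : 0 < e) (pre : List A) :
    ∀ post : List A, IsRegular A (pre ++ post) →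
      (pre.map (· ^ (e - 1))).prod ∉ Ideal.ofList (pre.map (· ^ e) ++ post) := by
  induction pre using List.reverseRecOn with
  | nil =>
    intro post h hmem
    simp only [List.map_nil, List.prod_nil, List.nil_append] at hmem h
    apply h.top_ne_smul
    rw [(Ideal.eq_top_iff_one _).mpr hmem, Submodule.top_smul]
  | append_singleton pre' a ih =>
    intro post h hmem
    have h' : IsRegular A (pre' ++ a :: post) := by
      rw [List.append_assoc, List.singleton_append] at h
      exact h
    have ih' := ih (a :: post) h'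
    have h1 : IsRegular A (pre'.map (· ^ e) ++ a :: post) := by
      have := Helper27.RegPow.isRegular_map_pow_take (M := A) (pre' ++ a :: post) e he h' pre'.length
      rw [List.take_left', List.drop_left'] at this
      · exact this
      · rfl
      · rfl
    have h2 : IsRegular A ((pre'.map (· ^ e) ++ post) ++ [a]) :=
      IsLocalRing.isRegular_of_perm h1
        (List.perm_middle.trans (List.perm_append_singleton a _).symm)
    apply ih'
    simp only [List.map_append, List.map_cons, List.map_nil, List.prod_append, List.prod_cons,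
      List.prod_nil, mul_one] at hmem
    have hI : Ideal.ofList (pre'.map (· ^ e) ++ [a ^ e] ++ post) =
        Ideal.ofList (pre'.map (· ^ e) ++ post) ⊔ Ideal.span {a ^ e} := by
      rw [Ideal.ofList_append, Ideal.ofList_append, Ideal.ofList_append, Ideal.ofList_singleton]
      rw [sup_assoc, sup_assoc, sup_comm (Ideal.span {a ^ e})]
    rw [hI] at hmem
    obtain ⟨u, hu, v, hv, huv⟩ := Submodule.mem_sup.mp hmem
    obtain ⟨c, rfl⟩ := Ideal.mem_span_singleton'.mp hv
    have hae : a ^ e = a ^ (e - 1) * a := by
      rw [← pow_succ, Nat.sub_add_cancel he]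
    have h3 : a ^ (e - 1) * ((pre'.map (· ^ (e - 1))).prod - c * a) ∈
        Ideal.ofList (pre'.map (· ^ e) ++ post) := by
      have : a ^ (e - 1) * ((pre'.map (· ^ (e - 1))).prod - c * a) = u := by
        rw [hae] at huv
        linear_combination -huv
      rw [this]
      exact hu
    have h4 := mem_of_pow_mul_mem _ a h2 (e - 1) _ h3
    have hI2 : Ideal.ofList (pre'.map (· ^ e) ++ a :: post) =
        Ideal.ofList (pre'.map (· ^ e) ++ post) ⊔ Ideal.span {a} := by
      rw [Ideal.ofList_append, Ideal.ofList_append, Ideal.ofList_cons]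
      rw [sup_assoc, sup_comm (Ideal.span {a})]
    rw [hI2]
    have : (pre'.map (· ^ (e - 1))).prod =
        ((pre'.map (· ^ (e - 1))).prod - c * a) + c * a := by ring
    rw [this]
    exact Submodule.add_mem_sup h4 (Ideal.mem_span_singleton'.mpr ⟨c, rfl⟩)

theorem prod_pow_notMem_span {A : Type*} [CommRing A] [IsLocalRing A] [IsNoetherianRing A] (e : ℕ)
    (he : 0 < e) {d : ℕ} (x : Fin d → A) (h : IsRegular A (List.ofFn x)) :
    ∏ i, x i ^ (e - 1) ∉ Ideal.span (Set.range fun i => x i ^ e) := by
  have h1 := prod_notMem_ofList e he (List.ofFn x) [] (by rw [List.append_nil]; exact h)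
  rw [List.append_nil] at h1
  have h2 : ((List.ofFn x).map (· ^ (e - 1))).prod = ∏ i, x i ^ (e - 1) := by
    rw [List.map_ofFn, List.prod_ofFn]
    rfl
  have h3 : Ideal.ofList ((List.ofFn x).map (· ^ e)) = Ideal.span (Set.range fun i => x i ^ e) := by
    unfold Ideal.ofList
    congr 1
    ext r
    simp only [Set.mem_setOf_eq, List.map_ofFn, List.mem_ofFn, Set.mem_range, Function.comp_apply]
  rw [h2, h3] at h1
  exact h1

end Helper27.SepRes
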