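import Mathlib
import Groth.Agent.S2451
import Groth.Prelude.Def_Smoothing

set_option autoImplicit false
universe u

namespace Helper27.SepRes

open Smoothing

theorem smooth_of_equiv {R A B : Type u} [CommRing R] [CommRing A] [CommRing B] [Algebra R A]
    [Algebra R B] (e : A ≃ₐ[R] B) [Algebra.Smooth R A] : Algebra.Smooth R B := by
  have h1 : Algebra.FormallySmooth R B := Algebra.FormallySmooth.of_equiv e
  have h2 : Algebra.FinitePresentation R B := Algebra.FinitePresentation.equiv e
  exact ⟨h1, h2⟩

theorem indSmooth_of_formallySmooth {F L : Type u} [Field F] [Field L] [Algebra F L]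
    [Algebra.FormallySmooth F L] : IndSmooth F L := by
  intro A _ _ hA f
  have hgr : Algebra.IsGeometricallyReduced F L := Groth.Agent.S2451.result.mp inferInstance
  let B₀ : Subalgebra F L := f.range
  have hft : Algebra.FiniteType F B₀ := by
    have : Algebra.FiniteType F A := inferInstance
    exact Algebra.FiniteType.of_surjective f.rangeRestrict f.rangeRestrict_surjective
  have hfp : Algebra.FinitePresentation F B₀ := Algebra.FinitePresentation.of_finiteType.mp hft
  let Q := Localization.AtPrime (⊥ : Ideal B₀)
  have hmax : IsLocalRing.maximalIdeal Q = ⊥ := by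
    rw [← Localization.AtPrime.map_eq_maximalIdeal, Ideal.map_bot]
  have hfield : IsField Q := (IsLocalRing.isField_iff_maximalIdeal_eq).mpr hmax
  let fQ : Field Q := hfield.toField
  have hunit : ∀ y : (⊥ : Ideal B₀).primeCompl, IsUnit (B₀.val (y : B₀)) := by
    intro y
    have hy : (y : B₀) ≠ 0 := fun h => y.2 (by rw [h]; exact Submodule.zero_mem _)
    have : ((y : B₀) : L) ≠ 0 := fun h => hy (Subtype.ext h)
    exact IsUnit.mk0 _ this
  let ι : Q →ₐ[F] L := IsLocalization.liftAlgHom (M := (⊥ : Ideal B₀).primeCompl) (f := B₀.val) hunit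
  have hιinj : Function.Injective ι := (ι : Q →+* L).injective
  have hgrQ : Algebra.IsGeometricallyReduced F Q := Algebra.IsGeometricallyReduced.of_injective ι hιinj
  have hfsQ : Algebra.FormallySmooth F Q := Groth.Agent.S2451.result.mpr hgrQ
  have hsm : Algebra.IsSmoothAt F (⊥ : Ideal B₀) := hfsQ
  obtain ⟨g, hg, hsmg⟩ := Algebra.IsSmoothAt.exists_notMem_smooth F (⊥ : Ideal B₀)
  have hg0 : ((g : B₀) : L) ≠ 0 := fun h => hg (by
    have : g = 0 := Subtype.ext h
    rw [this]; exact Submodule.zero_mem _)
  have hgunit : IsUnit (B₀.val g) := IsUnit.mk0 _ hg0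
  let h : Localization.Away g →ₐ[F] L :=
    IsLocalization.Away.liftAlgHom (A := F) (S := Localization.Away g) g (f := B₀.val) hgunit
  refine ⟨Localization.Away g, inferInstance, inferInstance, hsmg,
    (IsScalarTower.toAlgHom F B₀ (Localization.Away g)).comp f.rangeRestrict, h, ?_⟩
  ext a
  simp only [AlgHom.comp_apply]
  show h (algebraMap B₀ (Localization.Away g) (f.rangeRestrict a)) = f a
  have h1 : h (algebraMap B₀ (Localization.Away g) (f.rangeRestrict a)) = B₀.val (f.rangeRestrict a) :=
    IsLocalization.Away.lift_eq g hgunit _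
  rw [h1]
  rfl

end Helper27.SepRes
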