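import Mathlib

set_option autoImplicit false

namespace Groth.Agent.Lib.Helper27.LiftOnce

universe u

section A
variable {R Λ A B' : Type u} [CommRing R] [CommRing Λ] [Algebra R Λ] (I : Ideal R)
  [CommRing A] [Algebra R A] [CommRing B'] [Algebra R B']

theorem lift_once_core [Algebra.Smooth R B'] (φ : A →ₐ[R] Λ) (ψ : B' →ₐ[R] Λ)
    (n : ℕ) (fA : MvPolynomial (Fin n) R →ₐ[R] A) (hfA : Function.Surjective fA)
    (hker : (RingHom.ker fA.toRingHom).FG) (b : Fin n → B')
    (h1 : ∀ i, φ (fA (MvPolynomial.X i)) - ψ (b i) ∈ I.map (algebraMap R Λ))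
    (h2 : ∀ P₀ ∈ RingHom.ker fA.toRingHom,
      MvPolynomial.aeval b P₀ ∈ I.map (algebraMap R B')) :
    ∃ (B : Type u) (_ : CommRing B) (_ : Algebra R B), Algebra.Smooth R B ∧
      ∃ J : Ideal B, J ≤ I.map (algebraMap R B) ∧ J.FG ∧
        ∃ (g : A →ₐ[R] B ⧸ J) (k : (B ⧸ J) →ₐ[R] Λ), k.comp g = φ := by
  classical
  have hspan : ∀ i, φ (fA (MvPolynomial.X i)) - ψ (b i) ∈
      Submodule.span Λ ((algebraMap R Λ) '' (I : Set R)) := fun i => h1 i
  choose N c g0 hd using fun i => Submodule.mem_span_set'.mp (hspan i)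
  have hg0 : ∀ i k, ∃ t ∈ I, algebraMap R Λ t = (g0 i k : Λ) := fun i k => (g0 i k).2
  choose t ht ht' using hg0
  let σ := Σ i : Fin n, Fin (N i)
  let B := MvPolynomial σ B'
  haveI : Algebra.Smooth B' B := ⟨inferInstance, inferInstance⟩
  haveI : Algebra.Smooth R B := Algebra.Smooth.comp R B' B
  letI : Algebra B' Λ := ψ.toRingHom.toAlgebra
  haveI : IsScalarTower R B' Λ := IsScalarTower.of_algebraMap_eq (fun r => (ψ.commutes r).symm)
  have halg : ∀ x : B', algebraMap B' Λ x = ψ x := fun x => rfl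
  let ψB' : B →ₐ[B'] Λ := MvPolynomial.aeval (fun ik : σ => c ik.1 ik.2)
  let ψB : B →ₐ[R] Λ := ψB'.restrictScalars R
  have hψB : ∀ x, ψB x = ψB' x := fun x => rfl
  let b' : Fin n → B := fun i => MvPolynomial.C (b i) +
    ∑ k : Fin (N i), MvPolynomial.C (algebraMap R B' (t i k)) * MvPolynomial.X (⟨i, k⟩ : σ)
  have hb' : ∀ i, ψB (b' i) = φ (fA (MvPolynomial.X i)) := by
    intro i
    rw [hψB]
    change ψB' (MvPolynomial.C (b i) +
      ∑ k : Fin (N i), MvPolynomial.C (algebraMap R B' (t i k)) * MvPolynomial.X (⟨i, k⟩ : σ)) = _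
    rw [map_add, map_sum]
    have h3 : ∀ k : Fin (N i), ψB' (MvPolynomial.C (algebraMap R B' (t i k)) *
        MvPolynomial.X (⟨i, k⟩ : σ)) = c i k • (g0 i k : Λ) := by
      intro k
      rw [map_mul, MvPolynomial.aeval_X, MvPolynomial.aeval_C,
        ← IsScalarTower.algebraMap_apply, ht', smul_eq_mul, mul_comm]
    rw [Finset.sum_congr rfl (fun k _ => h3 k), hd, MvPolynomial.aeval_C, halg]
    ring
  let g₀ : MvPolynomial (Fin n) R →ₐ[R] B := MvPolynomial.aeval b'
  let J : Ideal B := (RingHom.ker fA.toRingHom).map g₀.toRingHom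
  have hcomp : ψB.comp g₀ = φ.comp fA := by
    apply MvPolynomial.algHom_ext
    intro i
    change ψB (g₀ (MvPolynomial.X i)) = φ (fA (MvPolynomial.X i))
    rw [← hb']
    congr 1
    exact MvPolynomial.aeval_X b' i
  have hJψ : ∀ x ∈ J, ψB x = 0 := by
    intro x hx
    have hle : J ≤ RingHom.ker ψB.toRingHom := by
      rw [Ideal.map_le_iff_le_comap]
      intro P₀ hP₀
      rw [Ideal.mem_comap, RingHom.mem_ker]
      change (ψB.comp g₀) P₀ = 0
      rw [hcomp]
      change φ (fA P₀) = 0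
      rw [show fA P₀ = 0 from hP₀, map_zero]
    exact hle hx
  have hJI : J ≤ I.map (algebraMap R B) := by
    rw [Ideal.map_le_iff_le_comap]
    intro P₀ hP₀
    rw [Ideal.mem_comap, ← Ideal.Quotient.eq_zero_iff_mem]
    let mkI := Ideal.Quotient.mkₐ R (I.map (algebraMap R B))
    have h4 : mkI.comp g₀ = mkI.comp ((IsScalarTower.toAlgHom R B' B).comp
        (MvPolynomial.aeval b : MvPolynomial (Fin n) R →ₐ[R] B')) := by
      apply MvPolynomial.algHom_ext
      intro i
      change Ideal.Quotient.mk _ (g₀ (MvPolynomial.X i)) =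
        Ideal.Quotient.mk _ (algebraMap B' B (MvPolynomial.aeval b (MvPolynomial.X i)))
      have hX : g₀ (MvPolynomial.X i) = b' i := MvPolynomial.aeval_X b' i
      rw [hX, MvPolynomial.aeval_X, ← sub_eq_zero, ← map_sub, Ideal.Quotient.eq_zero_iff_mem]
      change MvPolynomial.C (b i) +
        ∑ k : Fin (N i), MvPolynomial.C (algebraMap R B' (t i k)) * MvPolynomial.X (⟨i, k⟩ : σ) -
          MvPolynomial.C (b i) ∈ _
      rw [add_sub_cancel_left]
      refine Ideal.sum_mem _ fun k _ => Ideal.mul_mem_right _ _ ?_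
      have : MvPolynomial.C (algebraMap R B' (t i k)) = algebraMap R B (t i k) := rfl
      rw [this]
      exact Ideal.mem_map_of_mem _ (ht i k)
    have h5 := AlgHom.congr_fun h4 P₀
    change Ideal.Quotient.mk _ (g₀ P₀) = Ideal.Quotient.mk _ (algebraMap B' B
      (MvPolynomial.aeval b P₀)) at h5
    change Ideal.Quotient.mk _ (g₀ P₀) = 0
    rw [h5, Ideal.Quotient.eq_zero_iff_mem]
    have h6 : (I.map (algebraMap R B')).map (algebraMap B' B) = I.map (algebraMap R B) := by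
      rw [Ideal.map_map, ← IsScalarTower.algebraMap_eq R B' B]
    rw [← h6]
    exact Ideal.mem_map_of_mem _ (h2 P₀ hP₀)
  have hJfg : J.FG := hker.map _
  have hgker : RingHom.ker fA.toRingHom ≤
      RingHom.ker ((Ideal.Quotient.mkₐ R J).comp g₀).toRingHom := by
    intro P₀ hP₀
    rw [RingHom.mem_ker]
    change Ideal.Quotient.mk J (g₀ P₀) = 0
    rw [Ideal.Quotient.eq_zero_iff_mem]
    exact Ideal.mem_map_of_mem _ hP₀
  let g : A →ₐ[R] B ⧸ J := AlgHom.liftOfSurjective fA hfA ((Ideal.Quotient.mkₐ R J).comp g₀) hgker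
  have hg : ∀ P₀, g (fA P₀) = Ideal.Quotient.mk J (g₀ P₀) := by
    intro P₀
    exact AlgHom.liftOfSurjective_apply fA hfA ((Ideal.Quotient.mkₐ R J).comp g₀) hgker P₀
  let k : (B ⧸ J) →ₐ[R] Λ := Ideal.Quotient.liftₐ J ψB hJψ
  refine ⟨B, inferInstance, inferInstance, inferInstance, J, hJI, hJfg, g, k, ?_⟩
  apply AlgHom.ext
  intro a
  obtain ⟨P₀, rfl⟩ := hfA a
  change k (g (fA P₀)) = φ (fA P₀)
  rw [hg]
  change ψB (g₀ P₀) = _
  exact AlgHom.congr_fun hcomp P₀

end A

end Groth.Agent.Lib.Helper27.LiftOnce
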