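import Mathlib

set_option autoImplicit false

namespace Groth.Agent.Lib.Helper27.SmoothLift
open KaehlerDifferential TensorProduct

universe u

section A
variable {R C A₀ : Type u} [CommRing R] [CommRing C] [Algebra R C] [CommRing A₀]
  [Algebra C A₀]

theorem mem_smul_top_of_one_tmul_eq_zero {M : Type u} [AddCommGroup M] [Module C M]
    (hπ : Function.Surjective (algebraMap C A₀)) (η : M)
    (h : (1 : A₀) ⊗ₜ[C] η = 0) :
    η ∈ (RingHom.ker (algebraMap C A₀)) • (⊤ : Submodule C M) := by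
  let e : (C ⧸ RingHom.ker (algebraMap C A₀)) ≃ₐ[C] A₀ :=
    Ideal.quotientKerAlgEquivOfSurjective (f := Algebra.ofId C A₀) hπ
  have h1 : LinearMap.rTensor M e.symm.toLinearMap ((1 : A₀) ⊗ₜ[C] η) = 0 := by
    rw [h, map_zero]
  rw [LinearMap.rTensor_tmul] at h1
  have h2 : e.symm.toLinearMap (1 : A₀) = 1 := by
    simp
  rw [h2] at h1
  rw [← LinearMap.ker_tensorProductMk (I := RingHom.ker (algebraMap C A₀)) (Q := M)]
  exact h1

variable [Algebra R A₀] [IsScalarTower R C A₀]

theorem exists_sub_D_mem_of_map_eq_zero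
    (hπ : Function.Surjective (algebraMap C A₀)) (ω : Ω[C⁄R])
    (h : KaehlerDifferential.map R R C A₀ ω = 0) :
    ∃ k ∈ RingHom.ker (algebraMap C A₀),
      ω - D R C k ∈ (RingHom.ker (algebraMap C A₀)) • (⊤ : Submodule C Ω[C⁄R]) := by
  have hex := KaehlerDifferential.exact_kerCotangentToTensor_mapBaseChange R C A₀ hπ
  have h1 : KaehlerDifferential.mapBaseChange R C A₀ ((1 : A₀) ⊗ₜ[C] ω) = 0 := by
    rw [KaehlerDifferential.mapBaseChange_tmul, h, smul_zero]
  obtain ⟨z, hz⟩ := (hex _).mp h1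
  obtain ⟨k, rfl⟩ := Ideal.toCotangent_surjective _ z
  rw [KaehlerDifferential.kerCotangentToTensor_toCotangent] at hz
  refine ⟨k.1, k.2, ?_⟩
  apply mem_smul_top_of_one_tmul_eq_zero hπ
  rw [TensorProduct.tmul_sub, hz, sub_self]

end A

end Groth.Agent.Lib.Helper27.SmoothLift
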