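import Mathlib

set_option autoImplicit false

namespace Groth.Agent.Lib.Helper27.SmoothLift
open KaehlerDifferential TensorProduct

universe u

section B
variable {R C A₀ : Type u} [CommRing R] (I : Ideal R) [CommRing C] [Algebra R C] [CommRing A₀]
  [Algebra R A₀] [Algebra (R ⧸ I) A₀] [IsScalarTower R (R ⧸ I) A₀]
  [Algebra C A₀] [IsScalarTower R C A₀]

include I in
theorem map_le_ker : I.map (algebraMap R C) ≤ RingHom.ker (algebraMap C A₀) := by
  rw [Ideal.map_le_iff_le_comap]
  intro a ha
  rw [Ideal.mem_comap, RingHom.mem_ker, ← IsScalarTower.algebraMap_apply,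
    IsScalarTower.algebraMap_apply R (R ⧸ I) A₀, Ideal.Quotient.algebraMap_eq,
    Ideal.Quotient.eq_zero_iff_mem.mpr ha, map_zero]

theorem mem_sup_sq_of_D_mem [Algebra.FormallySmooth (R ⧸ I) A₀]
    (hπ : Function.Surjective (algebraMap C A₀)) (k : C)
    (hk : k ∈ RingHom.ker (algebraMap C A₀))
    (hD : D R C k ∈ (RingHom.ker (algebraMap C A₀)) • (⊤ : Submodule C Ω[C⁄R])) :
    k ∈ I.map (algebraMap R C) ⊔ (RingHom.ker (algebraMap C A₀)) ^ 2 := by
  let K : Ideal C := RingHom.ker (algebraMap C A₀)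
  let Q : Ideal C := I.map (algebraMap R C) ⊔ K ^ 2
  have hQK : Q ≤ K := sup_le (map_le_ker I) (Ideal.pow_le_self two_ne_zero)
  let T := C ⧸ Q
  have h0 : ∀ a ∈ I, algebraMap R T a = 0 := by
    intro a ha
    rw [IsScalarTower.algebraMap_apply R C T, Ideal.Quotient.algebraMap_eq,
      Ideal.Quotient.eq_zero_iff_mem]
    exact le_sup_left (a := I.map (algebraMap R C)) (Ideal.mem_map_of_mem _ ha)
  letI : Algebra (R ⧸ I) T := (Ideal.Quotient.lift I (algebraMap R T) h0).toAlgebra
  haveI : IsScalarTower R (R ⧸ I) T := IsScalarTower.of_algebraMap_eq (fun r => rfl)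
  let f0 : T →+* A₀ := Ideal.Quotient.lift Q (algebraMap C A₀) (fun c hc => hQK hc)
  let f : T →ₐ[R ⧸ I] A₀ :=
    { f0 with
      commutes' := by
        intro r
        obtain ⟨r, rfl⟩ := Ideal.Quotient.mk_surjective r
        change f0 (algebraMap R T r) = _
        rw [IsScalarTower.algebraMap_apply R C T, Ideal.Quotient.algebraMap_eq]
        change algebraMap C A₀ (algebraMap R C r) = _
        rw [← IsScalarTower.algebraMap_apply, IsScalarTower.algebraMap_apply R (R ⧸ I) A₀]
        rfl }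
  have hfmk : ∀ c : C, f (Ideal.Quotient.mk Q c) = algebraMap C A₀ c := fun c => rfl
  have hf : Function.Surjective f := by
    intro a
    obtain ⟨c, rfl⟩ := hπ a
    exact ⟨Ideal.Quotient.mk Q c, rfl⟩
  have hker : ∀ x y : T, f x = 0 → f y = 0 → x * y = 0 := by
    intro x y hx hy
    obtain ⟨c, rfl⟩ := Ideal.Quotient.mk_surjective x
    obtain ⟨c', rfl⟩ := Ideal.Quotient.mk_surjective y
    rw [hfmk] at hx hy
    rw [← map_mul, Ideal.Quotient.eq_zero_iff_mem]
    refine le_sup_right (a := I.map (algebraMap R C)) ?_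
    rw [pow_two]
    exact Ideal.mul_mem_mul hx hy
  have hnil : IsNilpotent (RingHom.ker (f : T →+* A₀)) := by
    refine ⟨2, ?_⟩
    rw [Ideal.zero_eq_bot, eq_bot_iff, pow_two, Ideal.mul_le]
    intro x hx y hy
    rw [Ideal.mem_bot]
    exact hker x y hx hy
  let σ : A₀ →ₐ[R ⧸ I] T :=
    Algebra.FormallySmooth.liftOfSurjective (AlgHom.id (R ⧸ I) A₀) f hf hnil
  have hσ : ∀ a, f (σ a) = a := fun a =>
    Algebra.FormallySmooth.liftOfSurjective_apply (AlgHom.id (R ⧸ I) A₀) f hf hnil a
  let σR : A₀ →ₐ[R] T := σ.restrictScalars R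
  let D0 : C →ₗ[R] T := (IsScalarTower.toAlgHom R C T).toLinearMap -
    (σR.comp (IsScalarTower.toAlgHom R C A₀)).toLinearMap
  have hD0 : ∀ c, D0 c = Ideal.Quotient.mk Q c - σ (algebraMap C A₀ c) := fun c => rfl
  have hD0ker : ∀ c, f (D0 c) = 0 := by
    intro c
    rw [hD0, map_sub, hσ, hfmk, sub_self]
  let D' : Derivation R C T := Derivation.mk' D0 (by
    intro a b
    have h1 := hker _ _ (hD0ker a) (hD0ker b)
    rw [hD0, hD0] at h1
    rw [hD0, hD0, hD0, Algebra.smul_def, Algebra.smul_def, Ideal.Quotient.algebraMap_eq,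
      map_mul, map_mul, map_mul]
    linear_combination (-1 : T) * h1)
  let L : Ω[C⁄R] →ₗ[C] T := D'.liftKaehlerDifferential
  have hLD : ∀ c, L (D R C c) = D0 c := fun c => Derivation.liftKaehlerDifferential_comp_D D' c
  have hLker : ∀ ω, f (L ω) = 0 := by
    intro ω
    have : ω ∈ Submodule.span C (Set.range (D R C)) := by
      rw [KaehlerDifferential.span_range_derivation]; trivial
    induction this using Submodule.span_induction with
    | mem x hx =>
      obtain ⟨c, rfl⟩ := hx
      rw [hLD, hD0ker]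
    | zero => simp
    | add x y _ _ hx hy => rw [map_add, map_add, hx, hy, add_zero]
    | smul c x _ hx =>
      rw [map_smul, Algebra.smul_def, map_mul, hx, mul_zero]
  have hLK : ∀ η ∈ K • (⊤ : Submodule C Ω[C⁄R]), L η = 0 := by
    intro η hη
    induction hη using Submodule.smul_induction_on' with
    | smul c hc ω _ =>
      rw [map_smul, Algebra.smul_def, Ideal.Quotient.algebraMap_eq]
      exact hker _ _ (by rw [hfmk]; exact hc) (hLker ω)
    | add x _ y _ hx hy => rw [map_add, hx, hy, add_zero]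
  have h1 := hLK _ hD
  rw [hLD, hD0, RingHom.mem_ker.mp hk, map_zero, sub_zero, Ideal.Quotient.eq_zero_iff_mem] at h1
  exact h1

end B

end Groth.Agent.Lib.Helper27.SmoothLift
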