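import Mathlib
import Groth.Agent.Lib.Helper27.SmoothLiftB

set_option autoImplicit false

namespace Groth.Agent.Lib.Helper27.SmoothLift
open KaehlerDifferential TensorProduct

universe u

section C
variable {R C A₀ : Type u} [CommRing R] (I : Ideal R) [CommRing C] [Algebra R C] [CommRing A₀]
  [Algebra R A₀] [Algebra (R ⧸ I) A₀] [IsScalarTower R (R ⧸ I) A₀]
  [Algebra C A₀] [IsScalarTower R C A₀]

theorem exists_finset_ker_le [Algebra.FiniteType R C] [Algebra.FinitePresentation (R ⧸ I) A₀]
    (hπ : Function.Surjective (algebraMap C A₀)) :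
    ∃ s : Finset C, (∀ x ∈ s, x ∈ RingHom.ker (algebraMap C A₀)) ∧
      RingHom.ker (algebraMap C A₀) ≤ Ideal.span (s : Set C) ⊔ I.map (algebraMap R C) := by
  classical
  obtain ⟨N, F, hF⟩ := Algebra.FiniteType.iff_quotient_mvPolynomial''.mp
    (inferInstance : Algebra.FiniteType R C)
  let a : Fin N → A₀ := fun i => algebraMap C A₀ (F (MvPolynomial.X i))
  let f₀ : MvPolynomial (Fin N) (R ⧸ I) →ₐ[R ⧸ I] A₀ := MvPolynomial.aeval a
  let mp : MvPolynomial (Fin N) R →+* MvPolynomial (Fin N) (R ⧸ I) :=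
    MvPolynomial.map (Ideal.Quotient.mk I)
  have hmp : Function.Surjective mp := MvPolynomial.map_surjective _ Ideal.Quotient.mk_surjective
  have key : ∀ P : MvPolynomial (Fin N) R, f₀ (mp P) = algebraMap C A₀ (F P) := by
    intro P
    have h1 : f₀ (mp P) = MvPolynomial.aeval a P :=
      MvPolynomial.aeval_map_algebraMap (R := R) (A := R ⧸ I) (B := A₀) a P
    rw [h1]
    have h2 : (MvPolynomial.aeval a : MvPolynomial (Fin N) R →ₐ[R] A₀) =
        (IsScalarTower.toAlgHom R C A₀).comp F := by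
      apply MvPolynomial.algHom_ext
      intro i
      simp [a]
    rw [h2]
    rfl
  have hf₀ : Function.Surjective f₀ := by
    intro x
    obtain ⟨c, rfl⟩ := hπ x
    obtain ⟨P, rfl⟩ := hF c
    exact ⟨mp P, key P⟩
  obtain ⟨S₀, hS₀⟩ := Algebra.FinitePresentation.ker_fg_of_mvPolynomial f₀ hf₀
  let lift : MvPolynomial (Fin N) (R ⧸ I) → MvPolynomial (Fin N) R := fun h => (hmp h).choose
  have hlift : ∀ h, mp (lift h) = h := fun h => (hmp h).choose_spec
  refine ⟨S₀.image (fun h => F (lift h)), ?_, ?_⟩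
  · intro x hx
    obtain ⟨h, hh, rfl⟩ := Finset.mem_image.mp hx
    rw [RingHom.mem_ker, ← key, hlift]
    have : h ∈ RingHom.ker f₀.toRingHom := by
      rw [← hS₀]; exact Ideal.subset_span hh
    exact this
  · intro k hk
    obtain ⟨P, rfl⟩ := hF k
    let 𝔞 : Ideal (MvPolynomial (Fin N) R) :=
      (Ideal.span ((S₀.image (fun h => F (lift h)) : Finset C) : Set C) ⊔
        I.map (algebraMap R C)).comap (F : MvPolynomial (Fin N) R →+* C)
    have h1 : mp P ∈ RingHom.ker f₀.toRingHom := by
      rw [RingHom.mem_ker]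
      change f₀ (mp P) = 0
      rw [key]; exact hk
    have h2 : RingHom.ker f₀.toRingHom ≤ 𝔞.map mp := by
      rw [← hS₀, Ideal.span_le]
      intro h hh
      rw [← hlift h]
      apply Ideal.mem_map_of_mem
      change F (lift h) ∈ Ideal.span ((S₀.image (fun h => F (lift h)) : Finset C) : Set C) ⊔
        I.map (algebraMap R C)
      refine Ideal.mem_sup_left ?_
      apply Ideal.subset_span
      exact Finset.mem_image_of_mem _ hh
    obtain ⟨P', hP', hPP'⟩ := (Ideal.mem_map_iff_of_surjective mp hmp).mp (h2 h1)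
    have h3 : P - P' ∈ RingHom.ker mp := by
      rw [RingHom.mem_ker, map_sub, hPP', sub_self]
    rw [MvPolynomial.ker_map, Ideal.mk_ker] at h3
    have h4 : F (P - P') ∈ I.map (algebraMap R C) := by
      have : (I.map (MvPolynomial.C : R →+* MvPolynomial (Fin N) R)).map
          (F : MvPolynomial (Fin N) R →+* C) = I.map (algebraMap R C) := by
        rw [Ideal.map_map]
        congr 1
        ext r
        simp
      rw [← this]
      exact Ideal.mem_map_of_mem _ h3
    have h5 : F P = F P' + F (P - P') := by rw [map_sub]; ring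
    rw [h5]
    exact add_mem hP' (Ideal.mem_sup_right h4)

open scoped Pointwise in
theorem exists_nakayama_elt [Algebra.FiniteType R C] [Algebra.FinitePresentation (R ⧸ I) A₀]
    (hπ : Function.Surjective (algebraMap C A₀)) (J : Ideal C)
    (hJ : RingHom.ker (algebraMap C A₀) ≤
      (J ⊔ I.map (algebraMap R C)) ⊔ (RingHom.ker (algebraMap C A₀)) ^ 2) :
    ∃ g : C, g - 1 ∈ RingHom.ker (algebraMap C A₀) ∧
      ∀ k ∈ RingHom.ker (algebraMap C A₀), g * k ∈ J ⊔ I.map (algebraMap R C) := by
  obtain ⟨s, hs, hsK⟩ := exists_finset_ker_le I hπ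
  have hIK : I.map (algebraMap R C) ≤ RingHom.ker (algebraMap C A₀) := map_le_ker I
  have h1 : Ideal.span (s : Set C) ≤ RingHom.ker (algebraMap C A₀) := by
    rw [Ideal.span_le]; exact hs
  have h2 : RingHom.ker (algebraMap C A₀) ≤
      (J ⊔ I.map (algebraMap R C)) ⊔
        (RingHom.ker (algebraMap C A₀)) • (Ideal.span (s : Set C)) := by
    intro k hk
    obtain ⟨y, hy, z, hz, rfl⟩ := Submodule.mem_sup.mp (hJ hk)
    refine Submodule.add_mem _ (Ideal.mem_sup_left hy) ?_
    rw [pow_two] at hz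
    refine Submodule.mul_induction_on hz ?_ ?_
    · intro m hm n hn
      obtain ⟨y', hy', z', hz', rfl⟩ := Submodule.mem_sup.mp (hsK hn)
      rw [mul_add]
      refine Submodule.add_mem _ (Ideal.mem_sup_right ?_) (Ideal.mem_sup_left ?_)
      · rw [smul_eq_mul]; exact Ideal.mul_mem_mul hm hy'
      · exact Ideal.mem_sup_right (Ideal.mul_mem_left _ _ hz')
    · intro x y hx hy
      exact Submodule.add_mem _ hx hy
  obtain ⟨g, hg1, hg2⟩ := Submodule.exists_sub_one_mem_and_smul_le_of_fg_of_le_sup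
    (I := RingHom.ker (algebraMap C A₀)) (N := J ⊔ I.map (algebraMap R C))
    (N' := Ideal.span (s : Set C)) (P := RingHom.ker (algebraMap C A₀))
    ⟨s, rfl⟩ h1 h2
  refine ⟨g, hg1, fun k hk => ?_⟩
  have := hg2 (Submodule.smul_mem_pointwise_smul k g _ hk)
  simpa using this

end C

end Groth.Agent.Lib.Helper27.SmoothLift
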