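import Mathlib

set_option autoImplicit false

namespace Groth.Agent.Lib.Helper27.SmoothLift
open Polynomial

universe u

section D
variable {S : Type u} [CommRing S] {M : Type u} [AddCommGroup M] [Module S M]

theorem eval_neg_one_sub_mem (K : Ideal S) (p : S[X]) (hp : p.Monic)
    (hc : ∀ k, p.coeff k ∈ K ^ (p.natDegree - k)) :
    (-1 : S) ^ p.natDegree * p.eval (-1) - 1 ∈ K := by
  rw [Polynomial.eval_eq_sum_range, Finset.sum_range_succ, hp.coeff_natDegree, one_mul, mul_add,
    ← mul_pow]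
  have h1 : ((-1 : S) * (-1)) ^ p.natDegree = 1 := by simp
  rw [h1, add_sub_cancel_right]
  refine Ideal.mul_mem_left _ _ (Ideal.sum_mem _ fun k hk => ?_)
  refine Ideal.mul_mem_right _ _ ?_
  have hk' : k < p.natDegree := Finset.mem_range.mp hk
  have : p.natDegree - k ≠ 0 := by omega
  exact Ideal.pow_le_self this (hc k)

theorem exists_quasi_inverse [Module.Finite S M] [Module.Projective S M] (K J : Ideal S)
    (E : M → M) (hadd : ∀ m m', E (m + m') = E m + E m')
    (hsmul : ∀ (c : S) m, E (c • m) - c • E m ∈ J • (⊤ : Submodule S M))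
    (hK : ∀ m, E m - m ∈ K • (⊤ : Submodule S M)) :
    ∃ (H : M →ₗ[S] M) (y : S), y - 1 ∈ K ∧
      ∀ m, H (E m) - y • m ∈ J • (⊤ : Submodule S M) := by
  let JM : Submodule S M := J • ⊤
  let E1 : M →ₗ[S] M ⧸ JM :=
    { toFun := fun m => JM.mkQ (E m)
      map_add' := fun m m' => by rw [hadd, map_add]
      map_smul' := fun c m => by
        rw [RingHom.id_apply, ← map_smul, ← sub_eq_zero, ← map_sub]
        exact (Submodule.Quotient.mk_eq_zero _).mpr (hsmul c m) }
  have hE1 : JM ≤ LinearMap.ker E1 := by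
    intro x hx
    refine Submodule.smul_induction_on hx ?_ ?_
    · intro j hj m _
      rw [LinearMap.mem_ker, map_smul]
      change j • JM.mkQ (E m) = 0
      rw [← map_smul]
      exact (Submodule.Quotient.mk_eq_zero _).mpr (Submodule.smul_mem_smul hj trivial)
    · intro x y hx hy
      exact Submodule.add_mem _ hx hy
  let E' : Module.End S (M ⧸ JM) := JM.liftQ E1 hE1
  have hE' : ∀ m, E' (JM.mkQ m) = JM.mkQ (E m) := fun m => rfl
  let F' : Module.End S (M ⧸ JM) := E' - 1
  have hF' : LinearMap.range F' ≤ K • (⊤ : Submodule S (M ⧸ JM)) := by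
    rintro _ ⟨x, rfl⟩
    obtain ⟨m, rfl⟩ := JM.mkQ_surjective x
    change E' (JM.mkQ m) - JM.mkQ m ∈ _
    rw [hE', ← map_sub]
    refine Submodule.smul_induction_on (hK m) ?_ ?_
    · intro k hk m _
      rw [map_smul]
      exact Submodule.smul_mem_smul hk trivial
    · intro x y hx hy
      rw [map_add]
      exact Submodule.add_mem _ hx hy
  obtain ⟨p, hp, -, hc, hpF⟩ :=
    LinearMap.exists_monic_and_natDegree_eq_and_coeff_mem_pow_and_aeval_eq_zero S F' K hF'
  have hy := eval_neg_one_sub_mem K p hp hc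
  obtain ⟨h, hdiv⟩ : ∃ h : S[X], p = h * (X + 1) + C (p.eval (-1)) := by
    refine ⟨p /ₘ (X - C (-1 : S)), ?_⟩
    have := Polynomial.modByMonic_add_div p (X - C (-1 : S))
    rw [Polynomial.modByMonic_X_sub_C_eq_C_eval] at this
    have h0 : (X - C (-1 : S)) = X + 1 := by simp
    rw [h0] at this ⊢
    rw [mul_comm, add_comm]
    exact this.symm
  have h1 : Polynomial.aeval F' h * E' +
      (p.eval (-1)) • (1 : Module.End S (M ⧸ JM)) = 0 := by
    have h2 := congrArg (Polynomial.aeval F') hdiv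
    rw [hpF, map_add, map_mul, map_add, Polynomial.aeval_X, Polynomial.aeval_C,
      map_one, Algebra.algebraMap_eq_smul_one] at h2
    have h5 : F' + 1 = E' := sub_add_cancel E' 1
    rw [h5] at h2
    exact h2.symm
  let H' : Module.End S (M ⧸ JM) :=
    (-(-1 : S) ^ p.natDegree) • Polynomial.aeval F' h
  have hH' : H' * E' = ((-1 : S) ^ p.natDegree * p.eval (-1)) • (1 : Module.End S (M ⧸ JM)) := by
    have h3 : Polynomial.aeval F' h * E' =
        - ((p.eval (-1)) • (1 : Module.End S (M ⧸ JM))) := eq_neg_of_add_eq_zero_left h1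
    change ((-(-1 : S) ^ p.natDegree) • Polynomial.aeval F' h) * E' = _
    rw [smul_mul_assoc, h3, smul_neg, neg_smul, neg_neg, smul_smul]
  obtain ⟨H, hH⟩ := Module.projective_lifting_property JM.mkQ (H' ∘ₗ JM.mkQ)
    JM.mkQ_surjective
  refine ⟨H, (-1 : S) ^ p.natDegree * p.eval (-1), hy, fun m => ?_⟩
  rw [← Submodule.Quotient.mk_eq_zero, Submodule.Quotient.mk_sub, sub_eq_zero]
  have h4 : JM.mkQ (H (E m)) = H' (JM.mkQ (E m)) := LinearMap.congr_fun hH (E m)
  change JM.mkQ (H (E m)) = JM.mkQ (_ • m)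
  rw [h4, ← hE', ← Module.End.mul_apply, hH', map_smul]
  rfl

end D

end Groth.Agent.Lib.Helper27.SmoothLift
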