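import Mathlib

set_option autoImplicit false

namespace Groth.Agent.Lib.Helper27.SmoothLift
open KaehlerDifferential

universe u

section E
variable {R C : Type u} [CommRing R] [CommRing C] [Algebra R C]
  {M : Type u} [AddCommGroup M] [Module C M]

theorem formallySmooth_away_quotient [Algebra.FormallySmooth R C]
    (lam : M →ₗ[C] C) (ρ : Ω[C⁄R] →ₗ[C] M) (x : C)
    (hρ : ∀ m, ρ (D R C (lam m)) - x • m ∈
      (LinearMap.range lam : Ideal C) • (⊤ : Submodule C M)) :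
    Algebra.FormallySmooth R
      (Localization.Away (Ideal.Quotient.mk (LinearMap.range lam : Ideal C) x)) := by
  refine Algebra.FormallySmooth.of_comp_surjective fun T _ _ N hN ψ' => ?_
  let J : Ideal C := LinearMap.range lam
  let A := Localization.Away (Ideal.Quotient.mk J x)
  let ιA : C →ₐ[R] A := (IsScalarTower.toAlgHom R (C ⧸ J) A).comp (Ideal.Quotient.mkₐ R J)
  have hιA : ∀ c, ιA c = algebraMap (C ⧸ J) A (Ideal.Quotient.mk J c) := fun c => rfl
  let φ : C →ₐ[R] T := Algebra.FormallySmooth.lift N ⟨2, hN⟩ (ψ'.comp ιA)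
  have hφ : ∀ c, Ideal.Quotient.mk N (φ c) = ψ' (ιA c) := fun c =>
    Algebra.FormallySmooth.mk_lift N ⟨2, hN⟩ (ψ'.comp ιA) c
  have hφJ : ∀ m, φ (lam m) ∈ N := by
    intro m
    rw [← Ideal.Quotient.eq_zero_iff_mem, hφ, hιA]
    have : Ideal.Quotient.mk J (lam m) = 0 :=
      Ideal.Quotient.eq_zero_iff_mem.mpr (LinearMap.mem_range_self lam m)
    rw [this, map_zero, map_zero]
  have hNN : ∀ a b : T, a ∈ N → b ∈ N → a * b = 0 := by
    intro a b ha hb
    have := Ideal.mul_mem_mul ha hb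
    rwa [← pow_two, hN, Ideal.mem_bot] at this
  have hunitA : IsUnit (ψ' (ιA x)) := by
    rw [hιA]
    exact (IsLocalization.Away.algebraMap_isUnit (S := A) (Ideal.Quotient.mk J x)).map ψ'
  have hux : IsUnit (φ x) := by
    apply (IsNilpotent.isUnit_quotient_mk_iff (I := N) ⟨2, hN⟩).mp
    rw [hφ]
    exact hunitA
  obtain ⟨u, hu⟩ := hux
  letI : Algebra C T := φ.toRingHom.toAlgebra
  haveI : IsScalarTower R C T := IsScalarTower.of_algebraMap_eq (fun r => (φ.commutes r).symm)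
  have halg : ∀ c : C, algebraMap C T c = φ c := fun c => rfl
  let L : Ω[C⁄R] →ₗ[C] T :=
    (LinearMap.mulLeft C ((↑u⁻¹ : T))) ∘ₗ (Algebra.linearMap C T) ∘ₗ lam ∘ₗ ρ
  let δ : Derivation R C T := L.compDer (D R C)
  have hδ : ∀ c, δ c = ↑u⁻¹ * φ (lam (ρ (D R C c))) := fun c => rfl
  have hδN : ∀ c, δ c ∈ N := fun c => by
    rw [hδ]; exact N.mul_mem_left _ (hφJ _)
  have hJJ : ∀ e ∈ (J • (⊤ : Submodule C M)), φ (lam e) = 0 := by
    intro e he
    refine Submodule.smul_induction_on he ?_ ?_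
    · intro j hj m _
      obtain ⟨m', rfl⟩ := hj
      rw [map_smul, smul_eq_mul, map_mul]
      exact hNN _ _ (hφJ m') (hφJ m)
    · intro a b ha hb
      rw [map_add, map_add, ha, hb, add_zero]
  have hδlam : ∀ m, δ (lam m) = φ (lam m) := by
    intro m
    have h1 := hJJ _ (hρ m)
    rw [map_sub, map_sub, sub_eq_zero, map_smul, smul_eq_mul, map_mul, ← hu] at h1
    rw [hδ, h1, ← mul_assoc, Units.inv_mul, one_mul]
  let ψ₁ : C →ₐ[R] T := AlgHom.ofLinearMap (φ.toLinearMap - (δ : C →ₗ[R] T))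
    (by
      change φ 1 - δ 1 = 1
      rw [map_one, Derivation.map_one_eq_zero, sub_zero])
    (by
      intro a b
      change φ (a * b) - δ (a * b) = (φ a - δ a) * (φ b - δ b)
      have h0 := hNN _ _ (hδN a) (hδN b)
      rw [Derivation.leibniz, Algebra.smul_def, Algebra.smul_def, halg, halg, map_mul]
      linear_combination (-1 : T) * h0)
  have hψ₁ : ∀ c, ψ₁ c = φ c - δ c := fun c => rfl
  have hψ₁J : ∀ a ∈ J, ψ₁ a = 0 := by
    rintro _ ⟨m, rfl⟩
    rw [hψ₁, hδlam, sub_self]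
  have hψ₁mk : ∀ c, Ideal.Quotient.mk N (ψ₁ c) = ψ' (ιA c) := by
    intro c
    rw [hψ₁, map_sub, Ideal.Quotient.eq_zero_iff_mem.mpr (hδN c), sub_zero, hφ]
  let ψ₂ : C ⧸ J →ₐ[R] T := Ideal.Quotient.liftₐ J ψ₁ hψ₁J
  have hψ₂ : ∀ c, ψ₂ (Ideal.Quotient.mk J c) = ψ₁ c := fun c => rfl
  have hunit2 : IsUnit (ψ₂ (Ideal.Quotient.mk J x)) := by
    apply (IsNilpotent.isUnit_quotient_mk_iff (I := N) ⟨2, hN⟩).mp
    rw [hψ₂, hψ₁mk]
    exact hunitA
  let ψ : A →ₐ[R] T := IsLocalization.Away.liftAlgHom (S := A) (Ideal.Quotient.mk J x)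
    (f := ψ₂) hunit2
  refine ⟨ψ, ?_⟩
  apply IsLocalization.algHom_ext (Submonoid.powers (Ideal.Quotient.mk J x))
  apply Ideal.Quotient.algHom_ext
  ext c
  change Ideal.Quotient.mk N (ψ (algebraMap (C ⧸ J) A (Ideal.Quotient.mk J c))) =
    ψ' (algebraMap (C ⧸ J) A (Ideal.Quotient.mk J c))
  have h9 : ψ (algebraMap (C ⧸ J) A (Ideal.Quotient.mk J c)) = ψ₂ (Ideal.Quotient.mk J c) :=
    IsLocalization.Away.lift_eq (Ideal.Quotient.mk J x) (g := ψ₂.toRingHom) hunit2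
      (Ideal.Quotient.mk J c)
  rw [h9, ← hιA, ← hψ₁mk, ← hψ₂]

end E

end Groth.Agent.Lib.Helper27.SmoothLift
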