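import Mathlib
import Groth.Agent.Lib.Helper27.SmoothLiftA
import Groth.Agent.Lib.Helper27.SmoothLiftB
import Groth.Agent.Lib.Helper27.SmoothLiftC
import Groth.Agent.Lib.Helper27.SmoothLiftD
import Groth.Agent.Lib.Helper27.SmoothLiftE

set_option autoImplicit false

namespace Groth.Agent.Lib.Helper27.SmoothLift
open KaehlerDifferential

universe u

section F
variable {R : Type u} [CommRing R] {C A₀ : Type u} [CommRing C] [Algebra R C] [CommRing A₀]
  [Algebra C A₀]

variable (R C A₀) in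
noncomputable def dBar : (RingHom.ker (algebraMap C A₀)) →ₗ[C]
    (Ω[C⁄R] ⧸ ((RingHom.ker (algebraMap C A₀)) • (⊤ : Submodule C Ω[C⁄R]))) where
  toFun k := Submodule.Quotient.mk (D R C k.1)
  map_add' k k' := by
    rw [Submodule.coe_add, map_add, Submodule.Quotient.mk_add]
  map_smul' c k := by
    rw [RingHom.id_apply, ← Submodule.Quotient.mk_smul, ← sub_eq_zero,
      ← Submodule.Quotient.mk_sub, Submodule.Quotient.mk_eq_zero]
    have : D R C ((c • k : RingHom.ker (algebraMap C A₀)) : C) - c • D R C k.1 =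
        k.1 • D R C c := by
      rw [Submodule.coe_smul, smul_eq_mul, Derivation.leibniz]
      abel
    rw [this]
    exact Submodule.smul_mem_smul k.2 trivial

theorem exists_lam (M : Submodule C Ω[C⁄R]) [Module.Projective C M]
    (hM : ∀ m ∈ M, ∃ k ∈ RingHom.ker (algebraMap C A₀),
      m - D R C k ∈ (RingHom.ker (algebraMap C A₀)) • (⊤ : Submodule C Ω[C⁄R])) :
    ∃ lam : M →ₗ[C] C, (∀ m, lam m ∈ RingHom.ker (algebraMap C A₀)) ∧
      ∀ m : M, D R C (lam m) - (m : Ω[C⁄R]) ∈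
        (RingHom.ker (algebraMap C A₀)) • (⊤ : Submodule C Ω[C⁄R]) := by
  let KΩ : Submodule C Ω[C⁄R] := (RingHom.ker (algebraMap C A₀)) • ⊤
  let f := dBar R C A₀
  let g : M →ₗ[C] Ω[C⁄R] ⧸ KΩ := KΩ.mkQ ∘ₗ M.subtype
  have hg : ∀ m, g m ∈ LinearMap.range f := by
    intro m
    obtain ⟨k, hk, hmk⟩ := hM m.1 m.2
    refine ⟨⟨k, hk⟩, ?_⟩
    change Submodule.Quotient.mk (D R C k) = Submodule.Quotient.mk (m : Ω[C⁄R])
    rw [eq_comm, ← sub_eq_zero, ← Submodule.Quotient.mk_sub, Submodule.Quotient.mk_eq_zero]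
    exact hmk
  obtain ⟨l, hl⟩ := Module.projective_lifting_property f.rangeRestrict
    (g.codRestrict (LinearMap.range f) hg) f.surjective_rangeRestrict
  refine ⟨(Submodule.subtype _) ∘ₗ l, fun m => (l m).2, fun m => ?_⟩
  have h1 := congrArg Subtype.val (LinearMap.congr_fun hl m)
  change Submodule.Quotient.mk (D R C (l m).1) = Submodule.Quotient.mk (m : Ω[C⁄R]) at h1
  rw [← sub_eq_zero, ← Submodule.Quotient.mk_sub, Submodule.Quotient.mk_eq_zero] at h1
  exact h1

theorem map_smul_top_le {S : Type u} [CommRing S] {M N : Type u} [AddCommGroup M] [Module S M]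
    [AddCommGroup N] [Module S N] (K : Ideal S) (f : M →ₗ[S] N) (m : M)
    (hm : m ∈ K • (⊤ : Submodule S M)) : f m ∈ K • (⊤ : Submodule S N) := by
  refine Submodule.smul_induction_on hm ?_ ?_
  · intro k hk m _
    rw [map_smul]
    exact Submodule.smul_mem_smul hk trivial
  · intro x y hx hy
    rw [map_add]
    exact Submodule.add_mem _ hx hy

end F

section G
variable {R : Type u} [CommRing R] (I : Ideal R) {C A₀ : Type u} [CommRing C] [Algebra R C]
  [CommRing A₀] [Algebra R A₀] [Algebra (R ⧸ I) A₀] [IsScalarTower R (R ⧸ I) A₀]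
  [Algebra C A₀] [IsScalarTower R C A₀]

theorem cutting_data [Algebra.Smooth R C] [Algebra.Smooth (R ⧸ I) A₀]
    (hπ : Function.Surjective (algebraMap C A₀))
    (q : Ω[C⁄R] →ₗ[C] Ω[C⁄R]) (hq : ∀ ω, q (q ω) = q ω)
    (h1 : ∀ ω, KaehlerDifferential.map R R C A₀ (q ω) = KaehlerDifferential.map R R C A₀ ω)
    (h2 : ∀ ω, KaehlerDifferential.map R R C A₀ ω = 0 →
      q ω ∈ (RingHom.ker (algebraMap C A₀)) • (⊤ : Submodule C Ω[C⁄R])) :
    ∃ (M : Type u) (_ : AddCommGroup M) (_ : Module C M) (_ : Module.Finite C M)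
      (lam : M →ₗ[C] C) (ρ : Ω[C⁄R] →ₗ[C] M) (g y : C),
      (∀ m, lam m ∈ RingHom.ker (algebraMap C A₀)) ∧
      g - 1 ∈ RingHom.ker (algebraMap C A₀) ∧ y - 1 ∈ RingHom.ker (algebraMap C A₀) ∧
      (∀ k ∈ RingHom.ker (algebraMap C A₀),
        g * k ∈ (LinearMap.range lam : Ideal C) ⊔ I.map (algebraMap R C)) ∧
      ∀ m, ρ (D R C (lam m)) - (g * y) • m ∈
        (LinearMap.range lam : Ideal C) • (⊤ : Submodule C M) := by
  let K : Ideal C := RingHom.ker (algebraMap C A₀)
  let KΩ : Submodule C Ω[C⁄R] := K • ⊤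
  let p : Ω[C⁄R] →ₗ[C] Ω[C⁄R] := LinearMap.id - q
  have hp : ∀ ω, p ω = ω - q ω := fun ω => rfl
  have hpp : ∀ ω, p (p ω) = p ω := by
    intro ω
    rw [hp, hp, map_sub, hq, sub_self, sub_zero]
  let M : Submodule C Ω[C⁄R] := LinearMap.range p
  let r : Ω[C⁄R] →ₗ[C] M := p.rangeRestrict
  have hr : ∀ ω, ((r ω : M) : Ω[C⁄R]) = ω - q ω := fun ω => rfl
  have hrM : ∀ m : M, r (m : Ω[C⁄R]) = m := by
    intro m
    obtain ⟨ω, hω⟩ := m.2
    apply Subtype.ext
    change p (m : Ω[C⁄R]) = m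
    rw [← hω, hpp]
  haveI : Module.Projective C M := Module.Projective.of_split M.subtype r
    (LinearMap.ext fun m => hrM m)
  haveI : Module.Finite C M := Module.Finite.range p
  have hM : ∀ m ∈ M, ∃ k ∈ K, m - D R C k ∈ KΩ := by
    rintro _ ⟨ω, rfl⟩
    apply exists_sub_D_mem_of_map_eq_zero hπ
    rw [hp, map_sub, h1, sub_self]
  obtain ⟨lam, hlamK, hlam⟩ := exists_lam (A₀ := A₀) M hM
  let J : Ideal C := LinearMap.range lam
  have hJK : K ≤ (J ⊔ I.map (algebraMap R C)) ⊔ K ^ 2 := by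
    intro k hk
    have hk0 : KaehlerDifferential.map R R C A₀ (D R C k) = 0 := by
      rw [KaehlerDifferential.map_D, RingHom.mem_ker.mp hk, map_zero]
    have hqk := h2 _ hk0
    let m : M := r (D R C k)
    have h3 : D R C (k - lam m) ∈ KΩ := by
      have : D R C (k - lam m) = q (D R C k) - (D R C (lam m) - (m : Ω[C⁄R])) := by
        rw [map_sub, hr]; abel
      rw [this]
      exact Submodule.sub_mem _ hqk (hlam m)
    have h4 : k - lam m ∈ K := Ideal.sub_mem _ hk (hlamK m)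
    have h5 := mem_sup_sq_of_D_mem I hπ _ h4 h3
    have h6 : k = lam m + (k - lam m) := by ring
    rw [h6]
    obtain ⟨a, ha, b, hb, hab⟩ := Submodule.mem_sup.mp h5
    rw [← hab, ← add_assoc]
    refine Submodule.add_mem _ (Ideal.mem_sup_left ?_) (Ideal.mem_sup_right hb)
    exact Submodule.add_mem _ (Ideal.mem_sup_left ⟨m, rfl⟩) (Ideal.mem_sup_right ha)
  obtain ⟨g, hg1, hg2⟩ := exists_nakayama_elt I hπ J hJK
  let E : M → M := fun m => r (D R C (lam m))
  have hEadd : ∀ m m', E (m + m') = E m + E m' := by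
    intro m m'
    change r (D R C (lam (m + m'))) = _
    rw [map_add, map_add, map_add]
  have hEsmul : ∀ (c : C) m, E (c • m) - c • E m ∈ J • (⊤ : Submodule C M) := by
    intro c m
    have : E (c • m) - c • E m = lam m • r (D R C c) := by
      change r (D R C (lam (c • m))) - c • r (D R C (lam m)) = _
      rw [map_smul, smul_eq_mul, Derivation.leibniz, map_add, map_smul, map_smul]
      abel
    rw [this]
    exact Submodule.smul_mem_smul ⟨m, rfl⟩ trivial
  have hEK : ∀ m, E m - m ∈ K • (⊤ : Submodule C M) := by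
    intro m
    have : E m - m = r (D R C (lam m) - (m : Ω[C⁄R])) := by
      rw [map_sub, hrM]
    rw [this]
    exact map_smul_top_le K r _ (hlam m)
  obtain ⟨H, y, hy, hH⟩ := exists_quasi_inverse K J E hEadd hEsmul hEK
  refine ⟨M, inferInstance, inferInstance, inferInstance, lam, (g • H) ∘ₗ r, g, y,
    hlamK, hg1, hy, hg2, fun m => ?_⟩
  have : ((g • H) ∘ₗ r) (D R C (lam m)) - (g * y) • m = g • (H (E m) - y • m) := by
    change g • H (r (D R C (lam m))) - (g * y) • m = _
    rw [smul_sub, mul_smul]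
  rw [this]
  exact Submodule.smul_mem _ _ (hH m)

end G

end Groth.Agent.Lib.Helper27.SmoothLift
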