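import Mathlib
import Groth.Agent.Lib.Helper27.SmoothLiftB
import Groth.Agent.Lib.Helper27.SmoothLiftE

set_option autoImplicit false

namespace Groth.Agent.Lib.Helper27.SmoothLift
open KaehlerDifferential

universe u

section H
variable {R : Type u} [CommRing R] (I : Ideal R) {C A₀ : Type u} [CommRing C] [Algebra R C]
  [CommRing A₀] [Algebra R A₀] [Algebra (R ⧸ I) A₀] [IsScalarTower R (R ⧸ I) A₀]
  [Algebra C A₀] [IsScalarTower R C A₀]

theorem cutting_of_data [Algebra.Smooth R C]
    (hπ : Function.Surjective (algebraMap C A₀))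
    {M : Type u} [AddCommGroup M] [Module C M] [Module.Finite C M]
    (lam : M →ₗ[C] C) (ρ : Ω[C⁄R] →ₗ[C] M) (g y : C)
    (hlamK : ∀ m, lam m ∈ RingHom.ker (algebraMap C A₀))
    (hg : g - 1 ∈ RingHom.ker (algebraMap C A₀)) (hy : y - 1 ∈ RingHom.ker (algebraMap C A₀))
    (hg2 : ∀ k ∈ RingHom.ker (algebraMap C A₀),
        g * k ∈ (LinearMap.range lam : Ideal C) ⊔ I.map (algebraMap R C))
    (hρ : ∀ m, ρ (D R C (lam m)) - (g * y) • m ∈
        (LinearMap.range lam : Ideal C) • (⊤ : Submodule C M)) :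
    ∃ (A : Type u) (_ : CommRing A) (_ : Algebra R A), Algebra.Smooth R A ∧
      Nonempty ((A ⧸ I.map (algebraMap R A)) ≃ₐ[R ⧸ I] A₀) := by
  let J : Ideal C := LinearMap.range lam
  let x : C := g * y
  let A := Localization.Away (Ideal.Quotient.mk J x)
  have hJfg : J.FG := by
    have : J = Submodule.map lam ⊤ := (Submodule.map_top lam).symm
    rw [this]
    exact (Module.Finite.fg_top).map lam
  haveI : Algebra.FinitePresentation R (C ⧸ J) := Algebra.FinitePresentation.quotient hJfg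
  haveI : Algebra.FinitePresentation (C ⧸ J) A :=
    IsLocalization.Away.finitePresentation (Ideal.Quotient.mk J x)
  haveI : Algebra.FinitePresentation R A := Algebra.FinitePresentation.trans R (C ⧸ J) A
  haveI : Algebra.FormallySmooth R A := formallySmooth_away_quotient lam ρ x hρ
  refine ⟨A, inferInstance, inferInstance, ⟨inferInstance, inferInstance⟩, ?_⟩
  have hJK : ∀ a ∈ J, (IsScalarTower.toAlgHom R C A₀) a = 0 := by
    rintro _ ⟨m, rfl⟩
    exact hlamK m
  let θ₁ : C ⧸ J →ₐ[R] A₀ := Ideal.Quotient.liftₐ J (IsScalarTower.toAlgHom R C A₀) hJK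
  have hθ₁ : ∀ c, θ₁ (Ideal.Quotient.mk J c) = algebraMap C A₀ c := fun c => rfl
  have hone : ∀ c : C, c - 1 ∈ RingHom.ker (algebraMap C A₀) → algebraMap C A₀ c = 1 := by
    intro c hc
    rw [RingHom.mem_ker, map_sub, map_one, sub_eq_zero] at hc
    exact hc
  have hx1 : θ₁ (Ideal.Quotient.mk J x) = 1 := by
    rw [hθ₁, map_mul, hone g hg, hone y hy, one_mul]
  have hunit : IsUnit (θ₁ (Ideal.Quotient.mk J x)) := by rw [hx1]; exact isUnit_one
  let θ : A →ₐ[R] A₀ := IsLocalization.Away.liftAlgHom (S := A) (Ideal.Quotient.mk J x)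
    (f := θ₁) hunit
  have hθ : ∀ c : C ⧸ J, θ (algebraMap (C ⧸ J) A c) = θ₁ c := fun c =>
    IsLocalization.Away.lift_eq (Ideal.Quotient.mk J x) (g := θ₁.toRingHom) hunit c
  have hθsurj : Function.Surjective θ := by
    intro a
    obtain ⟨c, rfl⟩ := hπ a
    exact ⟨algebraMap (C ⧸ J) A (Ideal.Quotient.mk J c), by rw [hθ, hθ₁]⟩
  have hxunit : IsUnit (algebraMap (C ⧸ J) A (Ideal.Quotient.mk J x)) :=
    IsLocalization.Away.algebraMap_isUnit (S := A) (Ideal.Quotient.mk J x)
  have hgunit : IsUnit (algebraMap (C ⧸ J) A (Ideal.Quotient.mk J g)) := by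
    have : algebraMap (C ⧸ J) A (Ideal.Quotient.mk J x) =
        algebraMap (C ⧸ J) A (Ideal.Quotient.mk J g) *
          algebraMap (C ⧸ J) A (Ideal.Quotient.mk J y) := by
      rw [← map_mul, ← map_mul]
    rw [this] at hxunit
    exact isUnit_of_mul_isUnit_left hxunit
  have hIA : ∀ c ∈ I.map (algebraMap R C),
      algebraMap (C ⧸ J) A (Ideal.Quotient.mk J c) ∈ I.map (algebraMap R A) := by
    intro c hc
    have h1 : (I.map (algebraMap R C)).map
        ((algebraMap (C ⧸ J) A).comp (Ideal.Quotient.mk J)) = I.map (algebraMap R A) := by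
      rw [Ideal.map_map]
      congr 1
    rw [← h1]
    exact Ideal.mem_map_of_mem _ hc
  have hker : RingHom.ker (θ : A →+* A₀) = I.map (algebraMap R A) := by
    apply le_antisymm
    · intro z hz
      obtain ⟨n, c, hc⟩ := IsLocalization.Away.surj (Ideal.Quotient.mk J x) z
      obtain ⟨c, rfl⟩ := Ideal.Quotient.mk_surjective c
      have h1 : algebraMap C A₀ c = 0 := by
        have := congrArg θ hc
        rw [map_mul, map_pow, hθ, hθ, hx1, one_pow, mul_one, hθ₁] at this
        rw [← this]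
        exact hz
      obtain ⟨j, hj, i, hi, hji⟩ := Submodule.mem_sup.mp (hg2 c h1)
      have h2 : algebraMap (C ⧸ J) A (Ideal.Quotient.mk J g) *
          algebraMap (C ⧸ J) A (Ideal.Quotient.mk J c) ∈ I.map (algebraMap R A) := by
        rw [← map_mul, ← map_mul, ← hji, map_add, Ideal.Quotient.eq_zero_iff_mem.mpr hj, zero_add]
        exact hIA i hi
      have h3 : algebraMap (C ⧸ J) A (Ideal.Quotient.mk J c) ∈ I.map (algebraMap R A) :=
        (Ideal.unit_mul_mem_iff_mem _ hgunit).mp h2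
      rw [← hc] at h3
      exact (Ideal.mul_unit_mem_iff_mem _ (hxunit.pow n)).mp h3
    · rw [Ideal.map_le_iff_le_comap]
      intro a ha
      rw [Ideal.mem_comap, RingHom.mem_ker]
      change θ (algebraMap R A a) = 0
      rw [θ.commutes, IsScalarTower.algebraMap_apply R (R ⧸ I) A₀, Ideal.Quotient.algebraMap_eq,
        Ideal.Quotient.eq_zero_iff_mem.mpr ha, map_zero]
  let e₁ : (A ⧸ I.map (algebraMap R A)) ≃ₐ[R] A₀ :=
    (Ideal.quotientEquivAlgOfEq R hker.symm).trans (Ideal.quotientKerAlgEquivOfSurjective hθsurj)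
  refine ⟨AlgEquiv.ofRingEquiv (f := e₁.toRingEquiv) ?_⟩
  intro r
  obtain ⟨r, rfl⟩ := Ideal.Quotient.mk_surjective r
  have h1 : algebraMap (R ⧸ I) (A ⧸ I.map (algebraMap R A)) (Ideal.Quotient.mk I r) =
      algebraMap R (A ⧸ I.map (algebraMap R A)) r := by
    rw [IsScalarTower.algebraMap_apply R (R ⧸ I) (A ⧸ I.map (algebraMap R A))]
    rfl
  have h2 : algebraMap (R ⧸ I) A₀ (Ideal.Quotient.mk I r) = algebraMap R A₀ r := by
    rw [IsScalarTower.algebraMap_apply R (R ⧸ I) A₀]
    rfl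
  rw [h1, h2]
  exact e₁.commutes r

end H

end Groth.Agent.Lib.Helper27.SmoothLift
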