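import Mathlib

set_option autoImplicit false

namespace Groth.Agent.Lib.Helper27.SmoothLift

universe u

section Idem

theorem idem_lift_identity {S : Type*} [Ring S] (b : S) :
    (3 * b ^ 2 - 2 * b ^ 3) * (3 * b ^ 2 - 2 * b ^ 3) - (3 * b ^ 2 - 2 * b ^ 3) =
      ((b * b - b) * (b * b - b)) * (4 * b ^ 2 - 4 * b - 3) := by
  noncomm_ring

variable (R : Type u) [CommRing R] (n : ℕ)

noncomputable def idemRel : Ideal (MvPolynomial (Fin n × Fin n) R) :=
  Ideal.span (Set.range fun ij : Fin n × Fin n =>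
    (∑ k, MvPolynomial.X (ij.1, k) * MvPolynomial.X (k, ij.2)) - MvPolynomial.X ij)

abbrev IdemAlg : Type u := MvPolynomial (Fin n × Fin n) R ⧸ idemRel R n

noncomputable def idemMat : Matrix (Fin n) (Fin n) (IdemAlg R n) :=
  Matrix.of fun i j => Ideal.Quotient.mk (idemRel R n) (MvPolynomial.X (i, j))

theorem idemMat_mul_self : idemMat R n * idemMat R n = idemMat R n := by
  ext i j
  rw [Matrix.mul_apply]
  simp only [idemMat, Matrix.of_apply]
  rw [← sub_eq_zero]
  simp only [← map_mul, ← map_sum, ← map_sub]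
  rw [Ideal.Quotient.eq_zero_iff_mem]
  exact Ideal.subset_span ⟨(i, j), rfl⟩

variable {R n}

noncomputable def liftIdem {B : Type*} [CommRing B] [Algebra R B] (b : Matrix (Fin n) (Fin n) B)
    (hb : b * b = b) : IdemAlg R n →ₐ[R] B :=
  Ideal.Quotient.liftₐ (idemRel R n) (MvPolynomial.aeval fun ij : Fin n × Fin n => b ij.1 ij.2)
    (by
      intro a ha
      have hle : idemRel R n ≤ RingHom.ker
          (MvPolynomial.aeval (R := R) fun ij : Fin n × Fin n => b ij.1 ij.2).toRingHom := by
        rw [idemRel, Ideal.span_le]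
        rintro _ ⟨ij, rfl⟩
        rw [SetLike.mem_coe, RingHom.mem_ker]
        change MvPolynomial.aeval (R := R) (fun ij : Fin n × Fin n => b ij.1 ij.2) _ = 0
        simp only [map_sub, map_sum, map_mul, MvPolynomial.aeval_X]
        rw [sub_eq_zero, ← Matrix.mul_apply, hb]
      exact hle ha)

theorem liftIdem_mk_X {B : Type*} [CommRing B] [Algebra R B] (b : Matrix (Fin n) (Fin n) B)
    (hb : b * b = b) (i j : Fin n) :
    liftIdem b hb (Ideal.Quotient.mk (idemRel R n) (MvPolynomial.X (i, j))) = b i j := by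
  change MvPolynomial.aeval (R := R) (fun ij : Fin n × Fin n => b ij.1 ij.2) _ = _
  rw [MvPolynomial.aeval_X]

theorem liftIdem_idemMat {B : Type*} [CommRing B] [Algebra R B] (b : Matrix (Fin n) (Fin n) B)
    (hb : b * b = b) (i j : Fin n) :
    liftIdem b hb (idemMat R n i j) = b i j :=
  liftIdem_mk_X b hb i j

instance : Algebra.FinitePresentation R (IdemAlg R n) :=
  Algebra.FinitePresentation.quotient (Submodule.fg_span (Set.finite_range _))

instance : Algebra.FormallySmooth R (IdemAlg R n) := by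
  refine Algebra.FormallySmooth.of_comp_surjective fun T _ _ N hN ψ' => ?_
  have hNN : ∀ a b : T, a ∈ N → b ∈ N → a * b = 0 := by
    intro a b ha hb
    have := Ideal.mul_mem_mul ha hb
    rwa [← pow_two, hN, Ideal.mem_bot] at this
  let mkM : Matrix (Fin n) (Fin n) T →+* Matrix (Fin n) (Fin n) (T ⧸ N) :=
    (Ideal.Quotient.mk N).mapMatrix
  let bbar : Matrix (Fin n) (Fin n) (T ⧸ N) := Matrix.of fun i j => ψ' (idemMat R n i j)
  have hbbar : bbar * bbar = bbar := by
    have h1 : bbar = (ψ' : IdemAlg R n →+* T ⧸ N).mapMatrix (idemMat R n) := by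
      ext i j; rfl
    rw [h1, ← map_mul, idemMat_mul_self]
  have hsurj : Function.Surjective mkM := by
    intro m
    refine ⟨Matrix.of fun i j => (Ideal.Quotient.mk_surjective (m i j)).choose, ?_⟩
    ext i j
    exact (Ideal.Quotient.mk_surjective (m i j)).choose_spec
  obtain ⟨b, hb⟩ := hsurj bbar
  have hmem : ∀ i j, (b * b - b) i j ∈ N := by
    intro i j
    rw [← Ideal.Quotient.eq_zero_iff_mem]
    have h1 : mkM (b * b - b) = 0 := by
      rw [map_sub, map_mul, hb, hbbar, sub_self]
    exact congrFun (congrFun h1 i) j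
  have hsq : (b * b - b) * (b * b - b) = 0 := by
    ext i j
    rw [Matrix.mul_apply, Matrix.zero_apply]
    exact Finset.sum_eq_zero fun k _ => hNN _ _ (hmem i k) (hmem k j)
  let e : Matrix (Fin n) (Fin n) T := 3 * b ^ 2 - 2 * b ^ 3
  have he : e * e = e := by
    rw [← sub_eq_zero]
    change (3 * b ^ 2 - 2 * b ^ 3) * (3 * b ^ 2 - 2 * b ^ 3) - (3 * b ^ 2 - 2 * b ^ 3) = 0
    rw [idem_lift_identity, hsq, zero_mul]
  have hemk : mkM e = bbar := by
    change mkM (3 * b ^ 2 - 2 * b ^ 3) = bbar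
    have h2 : bbar ^ 2 = bbar := by rw [pow_two, hbbar]
    have h3 : bbar ^ 3 = bbar := by rw [pow_succ, h2, hbbar]
    rw [map_sub, map_mul, map_mul, map_pow, map_pow, hb, h2, h3, map_ofNat, map_ofNat]
    noncomm_ring
  refine ⟨liftIdem e he, ?_⟩
  apply Ideal.Quotient.algHom_ext
  apply MvPolynomial.algHom_ext
  rintro ⟨i, j⟩
  change Ideal.Quotient.mk N (liftIdem e he (Ideal.Quotient.mk _ (MvPolynomial.X (i, j)))) =
    ψ' (Ideal.Quotient.mk _ (MvPolynomial.X (i, j)))
  rw [liftIdem_mk_X]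
  exact congrFun (congrFun hemk i) j

instance : Algebra.Smooth R (IdemAlg R n) := ⟨inferInstance, inferInstance⟩

end Idem

end Groth.Agent.Lib.Helper27.SmoothLift
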