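import Mathlib

set_option autoImplicit false
universe u

namespace Groth.Agent.Lib.Helper27.SmoothRetract

section constr

variable {A : Type u} [CommRing A] {N : ℕ} (E : (Fin N → A) →ₗ[A] (Fin N → A))

noncomputable def lin : (Fin N → A) →ₗ[A] MvPolynomial (Fin N) A :=
  Fintype.linearCombination A (fun k => (MvPolynomial.X k : MvPolynomial (Fin N) A))

lemma lin_apply (v : Fin N → A) :
    lin v = ∑ k, MvPolynomial.C (v k) * (MvPolynomial.X k : MvPolynomial (Fin N) A) := by
  simp [lin, Fintype.linearCombination_apply, MvPolynomial.smul_eq_C_mul]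

lemma lin_single (k : Fin N) :
    lin (Pi.single k (1 : A)) = (MvPolynomial.X k : MvPolynomial (Fin N) A) := by
  simp [lin, Fintype.linearCombination_apply, Pi.single_apply]

lemma aeval_lin {T : Type u} [CommRing T] [Algebra A T] (g : Fin N → T) (v : Fin N → A) :
    MvPolynomial.aeval g (lin v) = ∑ k, v k • g k := by
  simp [lin_apply, Algebra.smul_def]

noncomputable def relIdeal : Ideal (MvPolynomial (Fin N) A) :=
  Ideal.span (Set.range fun i : Fin N => lin (E (Pi.single i 1)))

lemma lin_E_mem (v : Fin N → A) : lin (E v) ∈ relIdeal E := by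
  have hv : v = ∑ i, v i • (Pi.single i (1 : A) : Fin N → A) := by
    ext j
    simp [Finset.sum_apply, Pi.single_apply]
  rw [hv, map_sum, map_sum]
  refine Ideal.sum_mem _ fun i _ => ?_
  rw [map_smul, map_smul, MvPolynomial.smul_eq_C_mul]
  exact Ideal.mul_mem_left _ _ (Ideal.subset_span ⟨i, rfl⟩)

abbrev B1 : Type u := MvPolynomial (Fin N) A ⧸ relIdeal E

noncomputable def r1 : MvPolynomial (Fin N) A →ₐ[A] B1 E := Ideal.Quotient.mkₐ A (relIdeal E)

lemma r1_surjective : Function.Surjective (r1 E) := Ideal.Quotient.mkₐ_surjective A _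

lemma r1_lin_E (v : Fin N → A) : r1 E (lin (E v)) = 0 :=
  Ideal.Quotient.eq_zero_iff_mem.mpr (lin_E_mem E v)

def compl : (Fin N → A) →ₗ[A] (Fin N → A) := LinearMap.id - E

lemma compl_apply (v : Fin N → A) : compl E v = v - E v := rfl

noncomputable def phi : MvPolynomial (Fin N) A →ₐ[A] MvPolynomial (Fin N) A :=
  MvPolynomial.aeval (fun k => lin ((compl E) (Pi.single k 1)))

lemma phi_lin (v : Fin N → A) : phi E (lin v) = lin ((compl E) v) := by
  unfold phi
  rw [aeval_lin]
  have hv : v = ∑ i, v i • (Pi.single i (1 : A) : Fin N → A) := by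
    ext j
    simp [Finset.sum_apply, Pi.single_apply]
  conv_rhs => rw [hv]
  simp only [map_sum, map_smul]

variable (hE : E ∘ₗ E = E)

include hE in
lemma phi_mem : ∀ a ∈ relIdeal E, phi E a = 0 := by
  intro a ha
  have : relIdeal E ≤ RingHom.ker (phi E).toRingHom := by
    unfold relIdeal
    rw [Ideal.span_le]
    rintro _ ⟨i, rfl⟩
    change phi E (lin (E (Pi.single i 1))) = 0
    rw [phi_lin]
    have : (compl E) (E (Pi.single i 1)) = 0 := by
      rw [compl_apply, ← LinearMap.comp_apply, hE, sub_self]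
    rw [this, map_zero]
  exact this ha

noncomputable def i1 : B1 E →ₐ[A] MvPolynomial (Fin N) A :=
  Ideal.Quotient.liftₐ (relIdeal E) (phi E) (phi_mem E hE)

lemma i1_r1 (p : MvPolynomial (Fin N) A) : i1 E hE (r1 E p) = phi E p :=
  AlgHom.congr_fun (Ideal.Quotient.liftₐ_comp (relIdeal E) (phi E) (phi_mem E hE)) p

lemma r1_phi_X (k : Fin N) : r1 E (phi E (MvPolynomial.X k)) = r1 E (MvPolynomial.X k) := by
  have : phi E (MvPolynomial.X k) = lin ((compl E) (Pi.single k 1)) := by
    simp [phi]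
  rw [this, compl_apply, map_sub, map_sub, r1_lin_E, sub_zero, lin_single]

lemma r1_comp_i1 : (r1 E).comp (i1 E hE) = AlgHom.id A (B1 E) := by
  have h : ((r1 E).comp (i1 E hE)).comp (r1 E) = (AlgHom.id A (B1 E)).comp (r1 E) := by
    apply MvPolynomial.algHom_ext
    intro k
    simp only [AlgHom.comp_apply, AlgHom.id_apply, i1_r1]
    exact r1_phi_X E k
  ext b
  obtain ⟨p, rfl⟩ := r1_surjective E b
  exact AlgHom.congr_fun h p

lemma ev0_mem : ∀ a ∈ relIdeal E,
    (MvPolynomial.aeval (fun _ => (0 : A)) : MvPolynomial (Fin N) A →ₐ[A] A) a = 0 := by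
  intro a ha
  have : relIdeal E ≤ RingHom.ker
      (MvPolynomial.aeval (fun _ => (0 : A)) : MvPolynomial (Fin N) A →ₐ[A] A).toRingHom := by
    unfold relIdeal
    rw [Ideal.span_le]
    rintro _ ⟨i, rfl⟩
    change MvPolynomial.aeval (fun _ => (0 : A)) (lin (E (Pi.single i 1))) = 0
    rw [aeval_lin]
    simp
  exact RingHom.mem_ker.mp (this ha)

noncomputable def sigma1 : B1 E →ₐ[A] A :=
  Ideal.Quotient.liftₐ (relIdeal E) (MvPolynomial.aeval (fun _ => (0 : A))) (ev0_mem E)

lemma sigma1_r1 (p : MvPolynomial (Fin N) A) :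
    sigma1 E (r1 E p) = MvPolynomial.aeval (fun _ => (0 : A)) p :=
  AlgHom.congr_fun (Ideal.Quotient.liftₐ_comp (relIdeal E) _ (ev0_mem E)) p

lemma sigma1_X (k : Fin N) : sigma1 E (r1 E (MvPolynomial.X k)) = 0 := by
  rw [sigma1_r1]; simp

include hE in
lemma formallySmooth_B1 : Algebra.FormallySmooth A (B1 E) := by
  refine Algebra.FormallySmooth.of_split (r1 E)
    ((Ideal.Quotient.mkₐ A (RingHom.ker (r1 E).toRingHom ^ 2)).comp (i1 E hE)) ?_
  ext b
  simp only [AlgHom.comp_apply, AlgHom.id_apply]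
  rw [Ideal.Quotient.mkₐ_eq_mk, AlgHom.kerSquareLift_mk]
  exact AlgHom.congr_fun (r1_comp_i1 E hE) b

lemma finitePresentation_B1 : Algebra.FinitePresentation A (B1 E) := by
  apply Algebra.FinitePresentation.quotient
  unfold relIdeal
  exact (Submodule.fg_span (Set.finite_range _))

include hE in
lemma smooth_B1 : Algebra.Smooth A (B1 E) :=
  { formallySmooth := formallySmooth_B1 E hE
    finitePresentation := finitePresentation_B1 E }

end constr

end Groth.Agent.Lib.Helper27.SmoothRetract
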