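import Mathlib
import Groth.Agent.Lib.Helper27.SmoothRetractC

set_option autoImplicit false
universe u

namespace Groth.Agent.Lib.Helper27.SmoothRetract

section deriv

variable {R A : Type u} [CommRing R] [CommRing A] [Algebra R A] {N : ℕ}
  (E : (Fin N → A) →ₗ[A] (Fin N → A)) (hE : E ∘ₗ E = E)

noncomputable def ev0 : MvPolynomial (Fin N) A →ₐ[A] A := MvPolynomial.aeval (fun _ => (0 : A))

@[reducible] noncomputable def algCA : Algebra (MvPolynomial (Fin N) A) A :=
  (ev0 : MvPolynomial (Fin N) A →ₐ[A] A).toRingHom.toAlgebra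

@[reducible] noncomputable def algB1A : Algebra (B1 E) A := (sigma1 E).toRingHom.toAlgebra

attribute [local instance] algCA algB1A

lemma algebraMap_CA (p : MvPolynomial (Fin N) A) :
    algebraMap (MvPolynomial (Fin N) A) A p = ev0 p := rfl

lemma algebraMap_B1A (b : B1 E) : algebraMap (B1 E) A b = sigma1 E b := rfl

instance towerACA : IsScalarTower A (MvPolynomial (Fin N) A) A :=
  IsScalarTower.of_algebraMap_eq (fun a => by
    rw [algebraMap_CA, MvPolynomial.algebraMap_eq]
    simp [ev0])

instance towerRCA : IsScalarTower R (MvPolynomial (Fin N) A) A :=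
  IsScalarTower.of_algebraMap_eq (fun r => by
    rw [algebraMap_CA, IsScalarTower.algebraMap_apply R A (MvPolynomial (Fin N) A),
      MvPolynomial.algebraMap_eq]
    simp [ev0])

instance towerAB1A : IsScalarTower A (B1 E) A :=
  IsScalarTower.of_algebraMap_eq (R := A) (S := B1 E) (A := A) (fun a => by
    rw [algebraMap_B1A, AlgHom.commutes])

instance towerRB1A : IsScalarTower R (B1 E) A :=
  IsScalarTower.of_algebraMap_eq (R := R) (S := B1 E) (A := A) (fun r => by
    rw [algebraMap_B1A, IsScalarTower.algebraMap_apply R A (B1 E), AlgHom.commutes]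
    rfl)

variable (δ : Derivation R A (Fin N → A))

noncomputable def DC : Derivation R (MvPolynomial (Fin N) A) (Fin N → A) :=
  δ.compAlgebraMap (MvPolynomial (Fin N) A) +
    (MvPolynomial.mkDerivation A (fun k => compl E (Pi.single k 1))).restrictScalars R

lemma DC_C (a : A) : DC E δ (MvPolynomial.C a) = δ a := by
  unfold DC
  rw [Derivation.add_apply, Derivation.compAlgebraMap_apply, Derivation.restrictScalars_apply,
    algebraMap_CA]
  have h1 : (MvPolynomial.mkDerivation A fun k => (compl E) (Pi.single k 1))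
      (MvPolynomial.C a : MvPolynomial (Fin N) A) = 0 := by
    rw [← MvPolynomial.algebraMap_eq]
    exact Derivation.map_algebraMap _ a
  rw [h1, add_zero]
  simp [ev0]

lemma DC_X (k : Fin N) : DC E δ (MvPolynomial.X k) = compl E (Pi.single k 1) := by
  unfold DC
  rw [Derivation.add_apply, Derivation.compAlgebraMap_apply, Derivation.restrictScalars_apply,
    MvPolynomial.mkDerivation_X, algebraMap_CA]
  simp [ev0]

lemma DC_lin (v : Fin N → A) : DC E δ (lin v) = compl E v := by
  rw [lin_apply, map_sum]
  have : ∀ k, DC E δ (MvPolynomial.C (v k) * MvPolynomial.X k) =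
      v k • compl E (Pi.single k 1) := by
    intro k
    rw [Derivation.leibniz, DC_C, DC_X]
    have h1 : (MvPolynomial.X k : MvPolynomial (Fin N) A) • δ (v k) = 0 := by
      rw [← algebraMap_smul A, algebraMap_CA]
      simp [ev0]
    have h2 : (MvPolynomial.C (v k) : MvPolynomial (Fin N) A) • compl E (Pi.single k 1) =
        v k • compl E (Pi.single k 1) := by
      rw [← algebraMap_smul A (MvPolynomial.C (v k) : MvPolynomial (Fin N) A), algebraMap_CA]
      simp [ev0]
    rw [h1, h2, add_zero]
  simp_rw [this]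
  have hv : v = ∑ i, v i • (Pi.single i (1 : A) : Fin N → A) := by
    ext j
    simp [Finset.sum_apply, Pi.single_apply]
  conv_rhs => rw [hv]
  simp only [map_sum, map_smul]

lemma ev0_lin (v : Fin N → A) : (ev0 : MvPolynomial (Fin N) A →ₐ[A] A) (lin v) = 0 := by
  unfold ev0
  rw [aeval_lin]
  simp

lemma ev0_comp_i1 : (ev0 : MvPolynomial (Fin N) A →ₐ[A] A).comp (i1 E hE) = sigma1 E := by
  have h : ((ev0 : MvPolynomial (Fin N) A →ₐ[A] A).comp (i1 E hE)).comp (r1 E) =
      (sigma1 E).comp (r1 E) := by
    apply MvPolynomial.algHom_ext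
    intro k
    simp only [AlgHom.comp_apply, i1_r1, sigma1_r1]
    have : phi E (MvPolynomial.X k) = lin ((compl E) (Pi.single k 1)) := by
      simp [phi]
    rw [this, ev0_lin]
    simp
  ext b
  obtain ⟨p, rfl⟩ := r1_surjective E b
  exact AlgHom.congr_fun h p

lemma i1_smul (b : B1 E) (m : Fin N → A) : (i1 E hE b) • m = b • m := by
  rw [← algebraMap_smul A (i1 E hE b), ← algebraMap_smul A b, algebraMap_CA, algebraMap_B1A]
  congr 1
  exact AlgHom.congr_fun (ev0_comp_i1 E hE) b

noncomputable def D0 : Derivation R (B1 E) (Fin N → A) :=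
  { toLinearMap := (DC E δ).toLinearMap ∘ₗ ((i1 E hE).toLinearMap.restrictScalars R)
    map_one_eq_zero' := by
      change DC E δ (i1 E hE 1) = 0
      rw [map_one, Derivation.map_one_eq_zero]
    leibniz' := by
      intro a b
      change DC E δ (i1 E hE (a * b)) = a • DC E δ (i1 E hE b) + b • DC E δ (i1 E hE a)
      rw [map_mul, Derivation.leibniz, i1_smul, i1_smul] }

lemma D0_apply (b : B1 E) : D0 E hE δ b = DC E δ (i1 E hE b) := rfl

lemma D0_algebraMap (a : A) : D0 E hE δ (algebraMap A (B1 E) a) = δ a := by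
  rw [D0_apply, AlgHom.commutes, MvPolynomial.algebraMap_eq, DC_C]

include hE in
lemma compl_compl (v : Fin N → A) : compl E (compl E v) = compl E v := by
  simp only [compl_apply, map_sub]
  rw [← LinearMap.comp_apply, hE]
  abel

lemma D0_X (k : Fin N) :
    D0 E hE δ (r1 E (MvPolynomial.X k)) = compl E (Pi.single k 1) := by
  rw [D0_apply, i1_r1]
  have : phi E (MvPolynomial.X k) = lin ((compl E) (Pi.single k 1)) := by
    simp [phi]
  rw [this, DC_lin, compl_compl E hE]

end deriv

end Groth.Agent.Lib.Helper27.SmoothRetract
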