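import Mathlib
import Groth.Agent.Lib.Helper27.SmoothRetractD

set_option autoImplicit false
universe u

open KaehlerDifferential

namespace Groth.Agent.Lib.Helper27.SmoothRetract

section kaehler

variable {R A : Type u} [CommRing R] [CommRing A] [Algebra R A] {N : ℕ} (a : Fin N → A)

noncomputable def pmap : (Fin N → A) →ₗ[A] Ω[A⁄R] :=
  Fintype.linearCombination A (fun j => D R A (a j))

lemma pmap_apply (v : Fin N → A) : pmap (R := R) a v = ∑ j, v j • D R A (a j) := by
  simp [pmap, Fintype.linearCombination_apply]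

lemma pmap_single (j : Fin N) : pmap (R := R) a (Pi.single j 1) = D R A (a j) := by
  simp [pmap, Fintype.linearCombination_apply, Pi.single_apply]

lemma pmap_surjective (f : MvPolynomial (Fin N) R →ₐ[R] A) (hf : Function.Surjective f)
    (ha : ∀ j, a j = f (MvPolynomial.X j)) : Function.Surjective (pmap (R := R) a) := by
  rw [← LinearMap.range_eq_top, ← top_le_iff, ← span_range_derivation R A, Submodule.span_le]
  rintro _ ⟨x, rfl⟩
  obtain ⟨P, rfl⟩ := hf x
  induction P using MvPolynomial.induction_on with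
  | C r =>
    rw [← MvPolynomial.algebraMap_eq, AlgHom.commutes, Derivation.map_algebraMap]
    exact zero_mem _
  | add p q hp hq =>
    rw [map_add, map_add]
    exact add_mem hp hq
  | mul_X p j hp =>
    rw [map_mul, Derivation.leibniz, ← ha j]
    refine add_mem (Submodule.smul_mem _ _ ⟨Pi.single j 1, pmap_single a j⟩)
      (Submodule.smul_mem _ _ hp)

variable (s : Ω[A⁄R] →ₗ[A] (Fin N → A)) (hs : pmap (R := R) a ∘ₗ s = LinearMap.id)

noncomputable def Emap : (Fin N → A) →ₗ[A] (Fin N → A) := s ∘ₗ pmap (R := R) a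

include hs in
lemma Emap_idem : Emap a s ∘ₗ Emap a s = Emap a s := by
  unfold Emap
  rw [LinearMap.comp_assoc, ← LinearMap.comp_assoc (pmap a) s, hs, LinearMap.id_comp]

include hs in
lemma pmap_compl (v : Fin N → A) : pmap (R := R) a (compl (Emap a s) v) = 0 := by
  rw [compl_apply, map_sub]
  have : pmap (R := R) a (Emap a s v) = pmap a v := by
    change (pmap (R := R) a ∘ₗ s) (pmap a v) = _
    rw [hs, LinearMap.id_apply]
  rw [this, sub_self]

noncomputable def gel (j : Fin N) : B1 (Emap a s) :=
  algebraMap A (B1 (Emap a s)) (a j) + r1 (Emap a s) (MvPolynomial.X j)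

noncomputable def Psi : (Fin N → B1 (Emap a s)) →ₗ[B1 (Emap a s)] Ω[B1 (Emap a s)⁄R] :=
  Fintype.linearCombination (B1 (Emap a s)) (fun j => D R (B1 (Emap a s)) (gel a s j))

lemma Psi_apply (x : Fin N → B1 (Emap a s)) :
    Psi a s x = ∑ j, x j • D R (B1 (Emap a s)) (gel a s j) := by
  simp [Psi, Fintype.linearCombination_apply]

lemma Psi_single (j : Fin N) : Psi a s (Pi.single j 1) = D R (B1 (Emap a s)) (gel a s j) := by
  rw [Psi_apply, Finset.sum_eq_single j]
  · rw [Pi.single_eq_same]
    exact one_smul (B1 (Emap a s)) (D R (B1 (Emap a s)) (gel a s j))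
  · intro k _ hk
    rw [Pi.single_eq_of_ne hk]
    exact zero_smul (B1 (Emap a s)) (D R (B1 (Emap a s)) (gel a s k))
  · intro h
    exact absurd (Finset.mem_univ j) h

attribute [local instance] algCA algB1A

noncomputable def delta : Derivation R A (Fin N → A) := s.compDer (D R A)

include hs in
lemma D0_gel (j : Fin N) :
    D0 (Emap a s) (Emap_idem a s hs) (delta (R := R) s) (gel a s j) = Pi.single j 1 := by
  unfold gel
  rw [map_add, D0_algebraMap, D0_X, compl_apply]
  have : delta (R := R) s (a j) = Emap a s (Pi.single j 1) := by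
    change s (D R A (a j)) = s (pmap a (Pi.single j 1))
    rw [pmap_single]
  rw [this]
  abel

include hs in
lemma ker_Psi_le : LinearMap.ker (Psi a s) ≤
    (RingHom.ker (sigma1 (Emap a s))) • (⊤ : Submodule (B1 (Emap a s)) (Fin N → B1 (Emap a s))) := by
  intro x hx
  rw [LinearMap.mem_ker] at hx
  let Φ := (D0 (Emap a s) (Emap_idem a s hs) (delta (R := R) s)).liftKaehlerDifferential
  have h1 : Φ (Psi a s x) = fun j => sigma1 (Emap a s) (x j) := by
    rw [Psi_apply, map_sum]
    have : ∀ j, Φ (x j • D R (B1 (Emap a s)) (gel a s j)) =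
        sigma1 (Emap a s) (x j) • (Pi.single j (1 : A) : Fin N → A) := by
      intro j
      rw [map_smul, Derivation.liftKaehlerDifferential_comp_D, D0_gel a s hs,
        ← algebraMap_smul A (x j), algebraMap_B1A]
    simp_rw [this]
    ext i
    simp [Finset.sum_apply, Pi.single_apply]
  rw [hx, map_zero] at h1
  have h2 : ∀ j, x j ∈ RingHom.ker (sigma1 (Emap a s)) := fun j =>
    (congrFun h1 j).symm
  have hx' : x = ∑ j, x j • (Pi.single j (1 : B1 (Emap a s)) : Fin N → B1 (Emap a s)) := by
    ext i
    simp [Finset.sum_apply, Pi.single_apply]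
  rw [hx']
  exact Submodule.sum_mem _ fun j _ => Submodule.smul_mem_smul (h2 j) Submodule.mem_top

end kaehler

end Groth.Agent.Lib.Helper27.SmoothRetract
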