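import Mathlib
import Groth.Agent.Lib.Helper27.SmoothRetractE
import Groth.Agent.Lib.Helper27.SmoothLiftF
import Groth.Agent.Lib.Helper27.SmoothLiftG
import Groth.Agent.Lib.Helper27.SmoothLiftI

set_option autoImplicit false

namespace Groth.Agent.Lib.Helper27.SmoothLift
open KaehlerDifferential
open Groth.Agent.Lib.Helper27.SmoothRetract (pmap pmap_apply pmap_single pmap_surjective)

universe u

section J
variable {R : Type u} [CommRing R] (I : Ideal R) {A₀ : Type u}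
  [CommRing A₀] [Algebra R A₀] [Algebra (R ⧸ I) A₀] [IsScalarTower R (R ⧸ I) A₀]

theorem cutting {C : Type u} [CommRing C] [Algebra R C] [Algebra C A₀] [IsScalarTower R C A₀]
    [Algebra.Smooth R C] [Algebra.Smooth (R ⧸ I) A₀]
    (hπ : Function.Surjective (algebraMap C A₀))
    (q : Ω[C⁄R] →ₗ[C] Ω[C⁄R]) (hq : ∀ ω, q (q ω) = q ω)
    (h1 : ∀ ω, KaehlerDifferential.map R R C A₀ (q ω) = KaehlerDifferential.map R R C A₀ ω)
    (h2 : ∀ ω, KaehlerDifferential.map R R C A₀ ω = 0 →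
      q ω ∈ (RingHom.ker (algebraMap C A₀)) • (⊤ : Submodule C Ω[C⁄R])) :
    ∃ (A : Type u) (_ : CommRing A) (_ : Algebra R A), Algebra.Smooth R A ∧
      Nonempty ((A ⧸ I.map (algebraMap R A)) ≃ₐ[R ⧸ I] A₀) := by
  obtain ⟨M, _, _, _, lam, ρ, g, y, hlamK, hg, hy, hg2, hρ⟩ := cutting_data I hπ q hq h1 h2
  exact cutting_of_data I hπ lam ρ g y hlamK hg hy hg2 hρ

include I in
theorem projective_kaehler [Algebra.FormallySmooth (R ⧸ I) A₀] :
    Module.Projective A₀ Ω[A₀⁄R] := by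
  have hsub : Subsingleton Ω[(R ⧸ I)⁄R] :=
    KaehlerDifferential.subsingleton_of_surjective R (R ⧸ I) Ideal.Quotient.mk_surjective
  have hinj : Function.Injective (KaehlerDifferential.map R (R ⧸ I) A₀ A₀) := by
    rw [← LinearMap.ker_eq_bot, eq_bot_iff]
    intro ω hω
    obtain ⟨z, rfl⟩ := (KaehlerDifferential.exact_mapBaseChange_map R (R ⧸ I) A₀ ω).mp hω
    have : z = 0 := Subsingleton.elim _ _
    rw [this, map_zero]
    exact Submodule.zero_mem _
  have hsurj := KaehlerDifferential.map_surjective R (R ⧸ I) A₀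
  let e : Ω[A₀⁄R] ≃ₗ[A₀] Ω[A₀⁄(R ⧸ I)] :=
    LinearEquiv.ofBijective (KaehlerDifferential.map R (R ⧸ I) A₀ A₀) ⟨hinj, hsurj⟩
  exact Module.Projective.of_equiv e.symm

end J

section K
variable {R : Type u} [CommRing R] (I : Ideal R) {A₀ G : Type u}
  [CommRing A₀] [Algebra R A₀] [Algebra (R ⧸ I) A₀] [IsScalarTower R (R ⧸ I) A₀]
  [CommRing G] [Algebra R G] [Algebra G A₀] [IsScalarTower R G A₀]

theorem main_of_presentation [Algebra.Smooth (R ⧸ I) A₀] [Algebra.Smooth R G]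
    (n : ℕ) (a : Fin n → A₀)
    (hsurj : Function.Surjective (MvPolynomial.aeval a : MvPolynomial (Fin n) G →ₐ[G] A₀))
    (E : Matrix (Fin n) (Fin n) G) (hE : E * E = E)
    (s : Ω[A₀⁄R] →ₗ[A₀] (Fin n → A₀)) (hs : ∀ ω, pmap (R := R) a (s ω) = ω)
    (hEs : ∀ (v : Fin n → A₀), (E.map (algebraMap G A₀)).mulVec v = s (pmap (R := R) a v)) :
    ∃ (A : Type u) (_ : CommRing A) (_ : Algebra R A), Algebra.Smooth R A ∧
      Nonempty ((A ⧸ I.map (algebraMap R A)) ≃ₐ[R ⧸ I] A₀) := by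
  let C := MvPolynomial (Fin n) G
  letI : Algebra C A₀ := (MvPolynomial.aeval a : C →ₐ[G] A₀).toRingHom.toAlgebra
  have halg : ∀ c : C, algebraMap C A₀ c = MvPolynomial.aeval a c := fun c => rfl
  haveI : IsScalarTower G C A₀ := IsScalarTower.of_algebraMap_eq (fun g => by
    rw [halg, MvPolynomial.algebraMap_eq, MvPolynomial.aeval_C])
  haveI : IsScalarTower R C A₀ := IsScalarTower.of_algebraMap_eq (fun r => by
    rw [IsScalarTower.algebraMap_apply R G C, ← IsScalarTower.algebraMap_apply G C A₀,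
      ← IsScalarTower.algebraMap_apply R G A₀])
  haveI : Algebra.Smooth G C := ⟨inferInstance, inferInstance⟩
  haveI : Algebra.Smooth R C := Algebra.Smooth.comp R G C
  have hπ : Function.Surjective (algebraMap C A₀) := hsurj
  let κ : Ω[C⁄R] →ₗ[C] Ω[A₀⁄R] := KaehlerDifferential.map R R C A₀
  let ι : (Fin n → C) →ₗ[C] Ω[C⁄R] := pmap (R := R) (fun i => (MvPolynomial.X i : C))
  let ρ₀ : Ω[C⁄R] →ₗ[C] (Fin n → C) :=
    ((MvPolynomial.mkDerivation G
      (fun i => (Pi.single i 1 : Fin n → C))).restrictScalars R).liftKaehlerDifferential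
  have hρ₀D : ∀ i, ρ₀ (D R C (MvPolynomial.X i)) = Pi.single i 1 := by
    intro i
    change ((MvPolynomial.mkDerivation G
      (fun i => (Pi.single i 1 : Fin n → C))).restrictScalars R).liftKaehlerDifferential
        (D R C (MvPolynomial.X i)) = _
    rw [Derivation.liftKaehlerDifferential_comp_D]
    exact MvPolynomial.mkDerivation_X G _ i
  have hρ₀ι : ∀ v, ρ₀ (ι v) = v := by
    intro v
    change ρ₀ (pmap (R := R) (fun i => (MvPolynomial.X i : C)) v) = v
    rw [pmap_apply, map_sum]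
    have h0 : ∀ x, ρ₀ (v x • D R C (MvPolynomial.X x)) = v x • (Pi.single x 1 : Fin n → C) :=
      fun x => by rw [map_smul, hρ₀D]
    rw [Finset.sum_congr rfl (fun x _ => h0 x)]
    funext j
    rw [Finset.sum_apply]
    simp [Pi.single_apply]
  let πv : (Fin n → C) →ₗ[C] (Fin n → A₀) := (Algebra.linearMap C A₀).compLeft (Fin n)
  have hπv : ∀ v j, πv v j = algebraMap C A₀ (v j) := fun v j => rfl
  have hπvsurj : Function.Surjective πv := by
    intro w
    refine ⟨fun j => (hπ (w j)).choose, ?_⟩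
    ext j
    exact (hπ (w j)).choose_spec
  let sC : Ω[A₀⁄R] →ₗ[C] (Fin n → A₀) := s.restrictScalars C
  obtain ⟨τ, hτ⟩ := Module.projective_lifting_property πv (sC ∘ₗ κ) hπvsurj
  have hτ' : ∀ ω, πv (τ ω) = s (κ ω) := fun ω => LinearMap.congr_fun hτ ω
  let ρ' : Ω[C⁄R] →ₗ[C] (Fin n → C) := ρ₀ + τ - τ ∘ₗ ι ∘ₗ ρ₀
  have hρ' : ∀ ω, ρ' ω = ρ₀ ω + τ ω - τ (ι (ρ₀ ω)) := fun ω => rfl
  have hρ'ι : ∀ v, ρ' (ι v) = v := by
    intro v
    rw [hρ', hρ₀ι]
    abel
  have hκι : ∀ v, κ (ι v) = pmap (R := R) a (πv v) := by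
    intro v
    change κ (pmap (R := R) (fun i => (MvPolynomial.X i : C)) v) = _
    rw [pmap_apply, pmap_apply, map_sum]
    refine Finset.sum_congr rfl fun j _ => ?_
    rw [map_smul]
    change v j • KaehlerDifferential.map R R C A₀ (D R C (MvPolynomial.X j)) = _
    rw [KaehlerDifferential.map_D, halg, MvPolynomial.aeval_X, hπv, algebraMap_smul]
  have hκιτ : ∀ ω, κ (ι (τ ω)) = κ ω := by
    intro ω
    rw [hκι, hτ', hs]
  have hκιρ' : ∀ ω, κ (ι (ρ' ω)) = κ ω := by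
    intro ω
    rw [hρ', map_sub, map_add, map_sub, map_add, hκιτ, hκιτ]
    abel
  let eC : (Fin n → C) →ₗ[C] (Fin n → C) := Matrix.mulVecLin (E.map (algebraMap G C))
  have heC : ∀ v, eC (eC v) = eC v := by
    intro v
    change (E.map (algebraMap G C)).mulVec ((E.map (algebraMap G C)).mulVec v) = _
    rw [Matrix.mulVec_mulVec, ← Matrix.map_mul, hE]
    rfl
  have hπveC : ∀ v, πv (eC v) = s (pmap (R := R) a (πv v)) := by
    intro v
    rw [← hEs]
    ext i
    rw [hπv]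
    change algebraMap C A₀ ((E.map (algebraMap G C)).mulVec v i) = _
    rw [Matrix.mulVec, Matrix.mulVec, dotProduct, dotProduct, map_sum]
    refine Finset.sum_congr rfl fun j _ => ?_
    rw [map_mul, Matrix.map_apply, Matrix.map_apply, ← IsScalarTower.algebraMap_apply, hπv]
  let q : Ω[C⁄R] →ₗ[C] Ω[C⁄R] := ι ∘ₗ eC ∘ₗ ρ'
  have hqdef : ∀ ω, q ω = ι (eC (ρ' ω)) := fun ω => rfl
  have hπvq : ∀ ω, πv (eC (ρ' ω)) = s (κ ω) := by
    intro ω
    rw [hπveC, ← hκι, hκιρ']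
  have hq : ∀ ω, q (q ω) = q ω := by
    intro ω
    rw [hqdef, hqdef, hρ'ι, heC]
  have h1 : ∀ ω, κ (q ω) = κ ω := by
    intro ω
    rw [hqdef, hκι, hπvq, hs]
  have h2 : ∀ ω, κ ω = 0 →
      q ω ∈ (RingHom.ker (algebraMap C A₀)) • (⊤ : Submodule C Ω[C⁄R]) := by
    intro ω hω
    have h3 := hπvq ω
    rw [hω, map_zero] at h3
    rw [hqdef]
    change pmap (R := R) (fun i => (MvPolynomial.X i : C)) (eC (ρ' ω)) ∈ _
    rw [pmap_apply]
    refine Submodule.sum_mem _ fun j _ => ?_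
    refine Submodule.smul_mem_smul ?_ trivial
    rw [RingHom.mem_ker, ← hπv, h3]
    rfl
  exact cutting I hπ q hq h1 h2

end K

end Groth.Agent.Lib.Helper27.SmoothLift
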