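import Mathlib
import Groth.Agent.Lib.Helper27.SmoothLiftJ

set_option autoImplicit false

namespace Groth.Agent.Lib.Helper27.SmoothLift
open KaehlerDifferential
open Groth.Agent.Lib.Helper27.SmoothRetract (pmap pmap_apply pmap_single pmap_surjective)

universe u

section L
variable {R : Type u} [CommRing R] (I : Ideal R) {A₀ : Type u}
  [CommRing A₀] [Algebra R A₀] [Algebra (R ⧸ I) A₀] [IsScalarTower R (R ⧸ I) A₀]

theorem exists_smooth_lift [Algebra.Smooth (R ⧸ I) A₀] :
    ∃ (A : Type u) (_ : CommRing A) (_ : Algebra R A), Algebra.Smooth R A ∧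
      Nonempty ((A ⧸ I.map (algebraMap R A)) ≃ₐ[R ⧸ I] A₀) := by
  haveI : Algebra.FiniteType R A₀ := Algebra.FiniteType.trans
    (inferInstance : Algebra.FiniteType R (R ⧸ I)) (inferInstance : Algebra.FiniteType (R ⧸ I) A₀)
  obtain ⟨n, f₀, hf₀⟩ := Algebra.FiniteType.iff_quotient_mvPolynomial''.mp
    (inferInstance : Algebra.FiniteType R A₀)
  let a : Fin n → A₀ := fun j => f₀ (MvPolynomial.X j)
  haveI : Module.Projective A₀ Ω[A₀⁄R] := projective_kaehler I
  have hp : Function.Surjective (pmap (R := R) a) := pmap_surjective a f₀ hf₀ (fun _ => rfl)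
  obtain ⟨s, hs⟩ := Module.projective_lifting_property (pmap (R := R) a) LinearMap.id hp
  let ε₀ : (Fin n → A₀) →ₗ[A₀] (Fin n → A₀) := s ∘ₗ pmap (R := R) a
  have hε₀ : ε₀ ∘ₗ ε₀ = ε₀ := by
    apply LinearMap.ext
    intro v
    change s (pmap (R := R) a (s (pmap (R := R) a v))) = s (pmap (R := R) a v)
    rw [show pmap (R := R) a (s (pmap (R := R) a v)) = pmap (R := R) a v from
      LinearMap.congr_fun hs _]
  let ε₀M : Matrix (Fin n) (Fin n) A₀ := LinearMap.toMatrix' ε₀
  have hε₀M : ε₀M * ε₀M = ε₀M := by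
    change LinearMap.toMatrix' ε₀ * LinearMap.toMatrix' ε₀ = LinearMap.toMatrix' ε₀
    rw [← LinearMap.toMatrix'_comp, hε₀]
  let γ₀ : IdemAlg R n →ₐ[R] A₀ := liftIdem ε₀M hε₀M
  letI : Algebra (IdemAlg R n) A₀ := γ₀.toRingHom.toAlgebra
  haveI : IsScalarTower R (IdemAlg R n) A₀ :=
    IsScalarTower.of_algebraMap_eq (fun r => (γ₀.commutes r).symm)
  have hsurj : Function.Surjective
      (MvPolynomial.aeval a : MvPolynomial (Fin n) (IdemAlg R n) →ₐ[IdemAlg R n] A₀) := by
    intro x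
    obtain ⟨P, rfl⟩ := hf₀ x
    refine ⟨MvPolynomial.map (algebraMap R (IdemAlg R n)) P, ?_⟩
    rw [MvPolynomial.aeval_map_algebraMap]
    exact (AlgHom.congr_fun (MvPolynomial.aeval_unique f₀) P).symm
  refine main_of_presentation I n a hsurj (idemMat R n) (idemMat_mul_self R n) s
    (fun ω => LinearMap.congr_fun hs ω) ?_
  intro v
  have h1 : (idemMat R n).map (algebraMap (IdemAlg R n) A₀) = ε₀M := by
    ext i j
    exact liftIdem_idemMat ε₀M hε₀M i j
  rw [h1]
  exact LinearMap.toMatrix'_mulVec ε₀ v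

end L

end Groth.Agent.Lib.Helper27.SmoothLift
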