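import Mathlib
import Groth.Prelude.Def_Smoothing
import Groth.Agent.S6827
import Groth.Agent.Lib.Helper27.LiftOnceA

set_option autoImplicit false

namespace Groth.Agent.Lib.Helper27.LiftOnce

universe u
open TensorProduct

section B
variable {R Λ A : Type u} [CommRing R] [CommRing Λ] [Algebra R Λ] (I : Ideal R)
  [CommRing A] [Algebra R A]

theorem lift_once (hI : I ^ 2 = ⊥)
    (h : Smoothing.IndSmooth (R ⧸ I) (Λ ⧸ I.map (algebraMap R Λ)))
    [Algebra.FinitePresentation R A] (φ : A →ₐ[R] Λ) :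
    ∃ (B : Type u) (_ : CommRing B) (_ : Algebra R B), Algebra.Smooth R B ∧
      ∃ J : Ideal B, J ≤ I.map (algebraMap R B) ∧ J.FG ∧
        ∃ (g : A →ₐ[R] B ⧸ J) (k : (B ⧸ J) →ₐ[R] Λ), k.comp g = φ := by
  let IΛ : Ideal Λ := I.map (algebraMap R Λ)
  let φbar : (R ⧸ I) ⊗[R] A →ₐ[R ⧸ I] Λ ⧸ IΛ :=
    Algebra.TensorProduct.lift (Algebra.ofId (R ⧸ I) (Λ ⧸ IΛ))
      ((Ideal.Quotient.mkₐ R IΛ).comp φ) (fun _ _ => Commute.all _ _)
  have hφbar : ∀ a : A, φbar (1 ⊗ₜ a) = Ideal.Quotient.mk IΛ (φ a) := by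
    intro a
    change Algebra.TensorProduct.lift (Algebra.ofId (R ⧸ I) (Λ ⧸ IΛ))
      ((Ideal.Quotient.mkₐ R IΛ).comp φ) (fun _ _ => Commute.all _ _) (1 ⊗ₜ a) = _
    rw [Algebra.TensorProduct.lift_tmul, map_one, one_mul]
    rfl
  obtain ⟨Bbar, _, _, hBsm, gbar, hbar, hcomp⟩ := h ((R ⧸ I) ⊗[R] A) inferInstance φbar
  obtain ⟨B', _, _, hB'sm, ⟨e⟩⟩ := Groth.Agent.S6827.result I (A₀ := Bbar)
  have hcomm : ∀ r : R, e (Ideal.Quotient.mk _ (algebraMap R B' r)) =
      algebraMap (R ⧸ I) Bbar (Ideal.Quotient.mk I r) := by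
    intro r
    have : Ideal.Quotient.mk (I.map (algebraMap R B')) (algebraMap R B' r) =
        algebraMap (R ⧸ I) (B' ⧸ I.map (algebraMap R B')) (Ideal.Quotient.mk I r) := rfl
    rw [this, e.commutes]
  let β : B' →ₐ[R] Λ ⧸ IΛ :=
    { toRingHom := (hbar : Bbar →+* Λ ⧸ IΛ).comp
        ((e : (B' ⧸ I.map (algebraMap R B')) →+* Bbar).comp (Ideal.Quotient.mk _))
      commutes' := by
        intro r
        change hbar (e (Ideal.Quotient.mk _ (algebraMap R B' r))) = _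
        rw [hcomm, hbar.commutes]
        rfl }
  have hβ : ∀ x : B', β x = hbar (e (Ideal.Quotient.mk _ x)) := fun x => rfl
  have hsq : IΛ ^ 2 = ⊥ := by
    change (I.map (algebraMap R Λ)) ^ 2 = ⊥
    rw [← Ideal.map_pow, hI, Ideal.map_bot]
  let ψ : B' →ₐ[R] Λ := Algebra.FormallySmooth.lift IΛ ⟨2, hsq⟩ β
  have hψ : ∀ x, Ideal.Quotient.mk IΛ (ψ x) = β x := fun x =>
    Algebra.FormallySmooth.mk_lift IΛ ⟨2, hsq⟩ β x
  obtain ⟨n, fA, hfA, hker⟩ := Algebra.FinitePresentation.out (R := R) (A := A)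
  have hb : ∀ i, ∃ bi : B', e (Ideal.Quotient.mk _ bi) = gbar (1 ⊗ₜ fA (MvPolynomial.X i)) := by
    intro i
    obtain ⟨z, hz⟩ := e.surjective (gbar (1 ⊗ₜ fA (MvPolynomial.X i)))
    obtain ⟨bi, rfl⟩ := Ideal.Quotient.mk_surjective z
    exact ⟨bi, hz⟩
  choose b hb using hb
  have hgh : ∀ z, hbar (gbar z) = φbar z := fun z => AlgHom.congr_fun hcomp z
  refine lift_once_core I φ ψ n fA hfA hker b ?_ ?_
  · intro i
    rw [← Ideal.Quotient.eq, hψ, hβ, hb, hgh, hφbar]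
  · intro P₀ hP₀
    rw [← Ideal.Quotient.eq_zero_iff_mem]
    apply e.injective
    rw [map_zero]
    let F1 : MvPolynomial (Fin n) R →+* Bbar :=
      (e : (B' ⧸ I.map (algebraMap R B')) →+* Bbar).comp
        ((Ideal.Quotient.mk _).comp
          (MvPolynomial.aeval b : MvPolynomial (Fin n) R →ₐ[R] B').toRingHom)
    let F2 : MvPolynomial (Fin n) R →+* Bbar :=
      (gbar : (R ⧸ I) ⊗[R] A →+* Bbar).comp
        ((Algebra.TensorProduct.includeRight : A →ₐ[R] (R ⧸ I) ⊗[R] A).toRingHom.comp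
          fA.toRingHom)
    have hF : F1 = F2 := by
      apply MvPolynomial.ringHom_ext
      · intro r
        change e (Ideal.Quotient.mk _ (MvPolynomial.aeval b (MvPolynomial.C r))) =
          gbar (1 ⊗ₜ fA (MvPolynomial.C r))
        rw [← MvPolynomial.algebraMap_eq, AlgHom.commutes, AlgHom.commutes, hcomm]
        have h3 : (1 : R ⧸ I) ⊗ₜ[R] (algebraMap R A r) =
            algebraMap (R ⧸ I) ((R ⧸ I) ⊗[R] A) (Ideal.Quotient.mk I r) := by
          rw [Algebra.TensorProduct.algebraMap_apply, Algebra.algebraMap_eq_smul_one,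
            TensorProduct.tmul_smul, TensorProduct.smul_tmul']
          congr 1
          rw [Algebra.algebraMap_self, RingHom.id_apply, ← Algebra.algebraMap_eq_smul_one]
          rfl
        rw [h3, gbar.commutes]
      · intro i
        change e (Ideal.Quotient.mk _ (MvPolynomial.aeval b (MvPolynomial.X i))) =
          gbar (1 ⊗ₜ fA (MvPolynomial.X i))
        rw [MvPolynomial.aeval_X, hb]
    have h4 := RingHom.congr_fun hF P₀
    change e (Ideal.Quotient.mk _ (MvPolynomial.aeval b P₀)) = gbar (1 ⊗ₜ fA P₀) at h4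
    rw [h4, show fA P₀ = 0 from hP₀, TensorProduct.tmul_zero, map_zero]

end B

end Groth.Agent.Lib.Helper27.LiftOnce
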