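import Mathlib
import Groth.Prelude.Def_Smoothing
import Groth.Agent.Lib.Helper27.LiftOnceB

set_option autoImplicit false

namespace Groth.Agent.Lib.Helper27.LiftOnce

universe u

section C
variable {R Λ B : Type u} [CommRing R] [CommRing Λ] [Algebra R Λ] (I : Ideal R)
  [CommRing B] [Algebra R B]

theorem kill_one [Module.Flat R Λ] (hI : I ^ 2 = ⊥)
    (hΛ : Smoothing.IndSmooth (R ⧸ I) (Λ ⧸ I.map (algebraMap R Λ)))
    [Algebra.Smooth R B] (φ : B →ₐ[R] Λ) (h : B) (hh : h ∈ I.map (algebraMap R B))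
    (hφh : φ h = 0) :
    ∃ (B' : Type u) (_ : CommRing B') (_ : Algebra R B'), Algebra.Smooth R B' ∧
      ∃ (α : B →ₐ[R] B') (β : B' →ₐ[R] Λ), α h = 0 ∧ β.comp α = φ := by
  classical
  have hspan : h ∈ Submodule.span B ((algebraMap R B) '' (I : Set R)) := hh
  obtain ⟨N, c, g0, hd⟩ := Submodule.mem_span_set'.mp hspan
  have hg0 : ∀ i, ∃ t ∈ I, algebraMap R B t = (g0 i : B) := fun i => (g0 i).2
  choose ε hε hε' using hg0
  have hh' : h = ∑ i, c i * algebraMap R B (ε i) := by
    rw [← hd]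
    refine Finset.sum_congr rfl fun i _ => ?_
    rw [smul_eq_mul, hε']
  have hrel : ∑ i, ε i • φ (c i) = 0 := by
    rw [← hφh, hh', map_sum]
    refine Finset.sum_congr rfl fun i _ => ?_
    rw [map_mul, AlgHom.commutes, Algebra.smul_def, mul_comm]
  obtain ⟨m, a, y, hy, hz⟩ := Module.Flat.isTrivialRelation_of_sum_smul_eq_zero (R := R) (M := Λ)
    (f := ε) (x := fun i => φ (c i)) hrel
  replace hy : ∀ i, φ (c i) = ∑ j, a i j • y j := hy
  let P := MvPolynomial (Fin m) B
  let rel : Fin N → P := fun i => MvPolynomial.C (c i) -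
    ∑ j, algebraMap R P (a i j) * MvPolynomial.X j
  let K : Ideal P := Ideal.span (Set.range rel)
  haveI : Algebra.FinitePresentation R P := Algebra.FinitePresentation.trans R B P
  haveI : Algebra.FinitePresentation R (P ⧸ K) :=
    Algebra.FinitePresentation.quotient (Submodule.fg_span (Set.finite_range rel))
  letI : Algebra B Λ := φ.toRingHom.toAlgebra
  haveI : IsScalarTower R B Λ := IsScalarTower.of_algebraMap_eq (fun r => (φ.commutes r).symm)
  have halg : ∀ x : B, algebraMap B Λ x = φ x := fun x => rfl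
  let χP' : P →ₐ[B] Λ := MvPolynomial.aeval y
  let χP : P →ₐ[R] Λ := χP'.restrictScalars R
  have hχP : ∀ x, χP x = χP' x := fun x => rfl
  have hχrel : ∀ x ∈ K, χP x = 0 := by
    intro x hx
    have hle : K ≤ RingHom.ker χP.toRingHom := by
      rw [Ideal.span_le]
      rintro _ ⟨i, rfl⟩
      rw [SetLike.mem_coe, RingHom.mem_ker]
      change χP (MvPolynomial.C (c i) - ∑ j, algebraMap R P (a i j) * MvPolynomial.X j) = 0
      rw [map_sub, map_sum, hχP, MvPolynomial.aeval_C, halg, hy i, sub_eq_zero]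
      refine Finset.sum_congr rfl fun j _ => ?_
      rw [map_mul, AlgHom.commutes, hχP, MvPolynomial.aeval_X, Algebra.smul_def]
    exact hle hx
  let χ : (P ⧸ K) →ₐ[R] Λ := Ideal.Quotient.liftₐ K χP hχrel
  obtain ⟨B'', _, _, hB''sm, J', hJ', -, g, k, hkg⟩ := lift_once I hI hΛ χ
  have hIIzero : ∀ x y : B'', x ∈ I.map (algebraMap R B'') → y ∈ I.map (algebraMap R B'') →
      x * y = 0 := by
    intro x y hx hy
    have := Ideal.mul_mem_mul hx hy
    rwa [← pow_two, ← Ideal.map_pow, hI, Ideal.map_bot, Ideal.mem_bot] at this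
  have hJ'sq : J' ^ 2 = ⊥ := by
    rw [eq_bot_iff, pow_two, Ideal.mul_le]
    intro x hx y hy
    rw [Ideal.mem_bot]
    exact hIIzero x y (hJ' hx) (hJ' hy)
  let ιB : B →ₐ[R] P ⧸ K := (Ideal.Quotient.mkₐ R K).comp (IsScalarTower.toAlgHom R B P)
  have hιB : ∀ x, ιB x = Ideal.Quotient.mk K (MvPolynomial.C x) := fun x => rfl
  let ψ : B →ₐ[R] B'' := Algebra.FormallySmooth.lift J' ⟨2, hJ'sq⟩ (g.comp ιB)
  have hψ : ∀ x, Ideal.Quotient.mk J' (ψ x) = g (ιB x) := fun x =>
    Algebra.FormallySmooth.mk_lift J' ⟨2, hJ'sq⟩ (g.comp ιB) x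
  refine ⟨B'', inferInstance, inferInstance, hB''sm, ψ, k.comp (Ideal.Quotient.mkₐ R J'), ?_, ?_⟩
  · have hξ : ∀ j : Fin m, ∃ ξ : B'', Ideal.Quotient.mk J' ξ =
        g (Ideal.Quotient.mk K (MvPolynomial.X j)) := fun j => Ideal.Quotient.mk_surjective _
    choose ξ hξ using hξ
    have hθ : ∀ i, ψ (c i) - ∑ j, algebraMap R B'' (a i j) * ξ j ∈ J' := by
      intro i
      rw [← Ideal.Quotient.eq_zero_iff_mem, map_sub, map_sum, hψ, hιB]
      have h1 : ∀ j, Ideal.Quotient.mk J' (algebraMap R B'' (a i j) * ξ j) =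
          g (Ideal.Quotient.mk K (algebraMap R P (a i j) * MvPolynomial.X j)) := by
        intro j
        rw [map_mul, map_mul, map_mul, hξ]
        congr 1
        change algebraMap R (B'' ⧸ J') (a i j) = g (algebraMap R (P ⧸ K) (a i j))
        rw [g.commutes]
      rw [Finset.sum_congr rfl (fun j _ => h1 j), ← map_sum, ← map_sum, ← map_sub, ← map_sub]
      have h2 : Ideal.Quotient.mk K (MvPolynomial.C (c i) -
          ∑ j, algebraMap R P (a i j) * MvPolynomial.X j) = 0 :=
        Ideal.Quotient.eq_zero_iff_mem.mpr (Ideal.subset_span ⟨i, rfl⟩)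
      rw [h2, map_zero]
    have hψc : ∀ i, ψ (c i) * algebraMap R B'' (ε i) =
        ∑ j, algebraMap R B'' (ε i * a i j) * ξ j := by
      intro i
      have h3 : (ψ (c i) - ∑ j, algebraMap R B'' (a i j) * ξ j) * algebraMap R B'' (ε i) = 0 :=
        hIIzero _ _ (hJ' (hθ i)) (Ideal.mem_map_of_mem _ (hε i))
      rw [sub_mul, sub_eq_zero] at h3
      rw [h3, Finset.sum_mul]
      refine Finset.sum_congr rfl fun j _ => ?_
      rw [map_mul]
      ring
    rw [hh', map_sum]
    have h4 : ∀ i, ψ (c i * algebraMap R B (ε i)) =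
        ∑ j, algebraMap R B'' (ε i * a i j) * ξ j := by
      intro i
      rw [map_mul, AlgHom.commutes, hψc]
    rw [Finset.sum_congr rfl (fun i _ => h4 i), Finset.sum_comm]
    refine Finset.sum_eq_zero fun j _ => ?_
    rw [← Finset.sum_mul, ← map_sum, hz j, map_zero, zero_mul]
  · apply AlgHom.ext
    intro x
    change k (Ideal.Quotient.mk J' (ψ x)) = φ x
    rw [hψ]
    have := AlgHom.congr_fun hkg (ιB x)
    change k (g (ιB x)) = χ (ιB x) at this
    rw [this, hιB]
    change χP (MvPolynomial.C x) = φ x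
    rw [hχP, MvPolynomial.aeval_C, halg]

end C

end Groth.Agent.Lib.Helper27.LiftOnce
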