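import Mathlib
import Groth.Prelude.Def_Smoothing
import Groth.Agent.Lib.Helper27.LiftOnceC

set_option autoImplicit false

namespace Groth.Agent.Lib.Helper27.LiftOnce

universe u

section D
variable {R Λ : Type u} [CommRing R] [CommRing Λ] [Algebra R Λ] (I : Ideal R)

theorem kill_fin [Module.Flat R Λ] (hI : I ^ 2 = ⊥)
    (hΛ : Smoothing.IndSmooth (R ⧸ I) (Λ ⧸ I.map (algebraMap R Λ))) :
    ∀ (n : ℕ) (B : Type u) [CommRing B] [Algebra R B] [Algebra.Smooth R B] (φ : B →ₐ[R] Λ)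
      (hs : Fin n → B), (∀ i, hs i ∈ I.map (algebraMap R B)) → (∀ i, φ (hs i) = 0) →
      ∃ (B' : Type u) (_ : CommRing B') (_ : Algebra R B'), Algebra.Smooth R B' ∧
        ∃ (α : B →ₐ[R] B') (β : B' →ₐ[R] Λ), (∀ i, α (hs i) = 0) ∧ β.comp α = φ := by
  intro n
  induction n with
  | zero =>
    intro B _ _ _ φ hs _ _
    exact ⟨B, inferInstance, inferInstance, inferInstance, AlgHom.id R B, φ,
      fun i => i.elim0, AlgHom.comp_id φ⟩
  | succ n ih =>
    intro B _ _ _ φ hs h1 h2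
    obtain ⟨B₁, _, _, hsm, α₁, β₁, hα₁, hβ₁⟩ := kill_one I hI hΛ φ (hs 0) (h1 0) (h2 0)
    haveI := hsm
    have hmem : ∀ i : Fin n, α₁ (hs i.succ) ∈ I.map (algebraMap R B₁) := by
      intro i
      have h3 : (I.map (algebraMap R B)).map (α₁ : B →+* B₁) = I.map (algebraMap R B₁) := by
        rw [Ideal.map_map]
        congr 1
        exact α₁.comp_algebraMap
      rw [← h3]
      exact Ideal.mem_map_of_mem _ (h1 i.succ)
    have hzero : ∀ i : Fin n, β₁ (α₁ (hs i.succ)) = 0 := by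
      intro i
      have := AlgHom.congr_fun hβ₁ (hs i.succ)
      change β₁ (α₁ (hs i.succ)) = φ (hs i.succ) at this
      rw [this, h2]
    obtain ⟨B₂, _, _, hsm₂, α₂, β₂, hα₂, hβ₂⟩ := ih B₁ β₁ (fun i => α₁ (hs i.succ)) hmem hzero
    refine ⟨B₂, inferInstance, inferInstance, hsm₂, α₂.comp α₁, β₂, ?_, ?_⟩
    · intro i
      refine Fin.cases ?_ (fun j => ?_) i
      · change α₂ (α₁ (hs 0)) = 0
        rw [hα₁, map_zero]
      · exact hα₂ j
    · rw [← AlgHom.comp_assoc, hβ₂, hβ₁]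

theorem lift_twice {B : Type u} [CommRing B] [Algebra R B] [Module.Flat R Λ] (hI : I ^ 2 = ⊥)
    (hΛ : Smoothing.IndSmooth (R ⧸ I) (Λ ⧸ I.map (algebraMap R Λ)))
    [Algebra.Smooth R B] (φ : B →ₐ[R] Λ) (J : Ideal B)
    (hJ : J ≤ I.map (algebraMap R B)) (hJfg : J.FG) (hφJ : ∀ x ∈ J, φ x = 0) :
    ∃ (B' : Type u) (_ : CommRing B') (_ : Algebra R B'), Algebra.Smooth R B' ∧
      ∃ (α : B →ₐ[R] B') (β : B' →ₐ[R] Λ), (∀ x ∈ J, α x = 0) ∧ β.comp α = φ := by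
  obtain ⟨n, hs, hspan⟩ := Submodule.fg_iff_exists_fin_generating_family.mp hJfg
  have hsJ : ∀ i, hs i ∈ J := by
    intro i
    rw [← hspan]
    exact Submodule.subset_span ⟨i, rfl⟩
  obtain ⟨B', _, _, hsm, α, β, hα, hβ⟩ := kill_fin I hI hΛ n B φ hs
    (fun i => hJ (hsJ i)) (fun i => hφJ _ (hsJ i))
  refine ⟨B', inferInstance, inferInstance, hsm, α, β, ?_, hβ⟩
  intro x hx
  have hle : J ≤ RingHom.ker (α : B →+* B') := by
    rw [← hspan]
    change Ideal.span (Set.range hs) ≤ _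
    rw [Ideal.span_le]
    rintro _ ⟨i, rfl⟩
    exact hα i
  exact hle hx

end D

end Groth.Agent.Lib.Helper27.LiftOnce
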