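import Mathlib
import Groth.Prelude.Def_Smoothing
import Groth.Agent.Lib.Helper27.LiftOnceD

set_option autoImplicit false

namespace Groth.Agent.Lib.Helper27.LiftOnce

universe u
open TensorProduct

section E

theorem indSmooth_of_equiv {R Λ R' Λ' : Type u} [CommRing R] [CommRing Λ] [Algebra R Λ]
    [CommRing R'] [CommRing Λ'] [Algebra R' Λ'] (eR : R ≃+* R') (eΛ : Λ ≃+* Λ')
    (hcomm : ∀ r, eΛ (algebraMap R Λ r) = algebraMap R' Λ' (eR r))
    (h : Smoothing.IndSmooth R Λ) : Smoothing.IndSmooth R' Λ' := by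
  intro A' _ _ hfp f
  letI : Algebra R R' := eR.toRingHom.toAlgebra
  letI : Algebra R A' := ((algebraMap R' A').comp eR.toRingHom).toAlgebra
  haveI : IsScalarTower R R' A' := IsScalarTower.of_algebraMap_eq (fun r => rfl)
  have hRA' : ∀ r : R, algebraMap R A' r = algebraMap R' A' (eR r) := fun r => rfl
  haveI : Algebra.FinitePresentation R R' :=
    Algebra.FinitePresentation.equiv (AlgEquiv.ofRingEquiv (f := eR) (fun r => rfl))
  haveI : Algebra.FinitePresentation R A' := Algebra.FinitePresentation.trans R R' A'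
  let f' : A' →ₐ[R] Λ :=
    { toRingHom := eΛ.symm.toRingHom.comp f.toRingHom
      commutes' := by
        intro r
        change eΛ.symm (f (algebraMap R A' r)) = _
        rw [hRA', f.commutes, ← hcomm, RingEquiv.symm_apply_apply] }
  have hf' : ∀ a, f' a = eΛ.symm (f a) := fun a => rfl
  obtain ⟨B, _, _, hsm, g, k, hkg⟩ := h A' inferInstance f'
  letI : Algebra R' R := eR.symm.toRingHom.toAlgebra
  letI : Algebra R' B := ((algebraMap R B).comp eR.symm.toRingHom).toAlgebra
  haveI : IsScalarTower R' R B := IsScalarTower.of_algebraMap_eq (fun r => rfl)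
  have hR'B : ∀ r : R', algebraMap R' B r = algebraMap R B (eR.symm r) := fun r => rfl
  haveI : Algebra.Smooth R' R :=
    Algebra.Smooth.of_equiv (AlgEquiv.ofRingEquiv (f := eR.symm) (fun r => rfl))
  haveI : Algebra.Smooth R' B := Algebra.Smooth.comp R' R B
  let g' : A' →ₐ[R'] B :=
    { toRingHom := g.toRingHom
      commutes' := by
        intro r
        change g (algebraMap R' A' r) = algebraMap R' B r
        rw [hR'B, ← g.commutes, hRA', RingEquiv.apply_symm_apply] }
  let k' : B →ₐ[R'] Λ' :=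
    { toRingHom := eΛ.toRingHom.comp k.toRingHom
      commutes' := by
        intro r
        change eΛ (k (algebraMap R' B r)) = _
        rw [hR'B, k.commutes, hcomm, RingEquiv.apply_symm_apply] }
  refine ⟨B, inferInstance, inferInstance, inferInstance, g', k', ?_⟩
  apply AlgHom.ext
  intro a
  change eΛ (k (g a)) = f a
  have h1 : k (g a) = f' a := AlgHom.congr_fun hkg a
  rw [h1, hf', RingEquiv.apply_symm_apply]

theorem flat_quotient {S Λ : Type u} [CommRing S] [CommRing Λ] [Algebra S Λ] [Module.Flat S Λ]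
    (I : Ideal S) : Module.Flat (S ⧸ I) (Λ ⧸ I.map (algebraMap S Λ)) := by
  let e : ((S ⧸ I) ⊗[S] Λ) ≃ₗ[S] Λ ⧸ I.map (algebraMap S Λ) :=
    (TensorProduct.quotTensorEquivQuotSMul Λ I) ≪≫ₗ
      (Submodule.quotEquivOfEq _ _ (Ideal.smul_top_eq_map I)) ≪≫ₗ
        (Submodule.Quotient.restrictScalarsEquiv S (I.map (algebraMap S Λ)))
  let e' : ((S ⧸ I) ⊗[S] Λ) ≃ₗ[S ⧸ I] Λ ⧸ I.map (algebraMap S Λ) :=
    e.extendScalarsOfSurjective Ideal.Quotient.mk_surjective
  exact Module.Flat.of_linearEquiv e'.symm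

end E

section F
variable {R Λ : Type u} [CommRing R] [CommRing Λ] [Algebra R Λ] (I : Ideal R)

theorem indSmooth_of_sq_zero [Module.Flat R Λ] (hI : I ^ 2 = ⊥)
    (hΛ : Smoothing.IndSmooth (R ⧸ I) (Λ ⧸ I.map (algebraMap R Λ))) :
    Smoothing.IndSmooth R Λ := by
  intro A _ _ hfp f
  haveI := hfp
  obtain ⟨B, _, _, hsm, J, hJ, hJfg, g, k, hkg⟩ := lift_once I hI hΛ f
  haveI := hsm
  let φ : B →ₐ[R] Λ := k.comp (Ideal.Quotient.mkₐ R J)
  have hφJ : ∀ x ∈ J, φ x = 0 := by
    intro x hx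
    change k (Ideal.Quotient.mk J x) = 0
    rw [Ideal.Quotient.eq_zero_iff_mem.mpr hx, map_zero]
  obtain ⟨B', _, _, hsm', α, β, hα, hβ⟩ := lift_twice I hI hΛ φ J hJ hJfg hφJ
  let αbar : (B ⧸ J) →ₐ[R] B' := Ideal.Quotient.liftₐ J α hα
  refine ⟨B', inferInstance, inferInstance, hsm', αbar.comp g, β, ?_⟩
  apply AlgHom.ext
  intro a
  change β (αbar (g a)) = f a
  obtain ⟨b, hb⟩ := Ideal.Quotient.mk_surjective (g a)
  rw [← hb]
  change β (α b) = f a
  have h1 : β (α b) = φ b := AlgHom.congr_fun hβ b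
  rw [h1]
  change k (Ideal.Quotient.mk J b) = f a
  rw [hb]
  exact AlgHom.congr_fun hkg a

end F

end Groth.Agent.Lib.Helper27.LiftOnce
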