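import Mathlib
import Groth.Prelude.Def_Smoothing
import Groth.Agent.Lib.Helper27.LiftOnceE

set_option autoImplicit false

namespace Groth.Agent.Lib.Helper27.LiftOnce

universe u

section G

theorem indSmooth_step {S Λ : Type u} [CommRing S] [CommRing Λ] [Algebra S Λ]
    (I J : Ideal S) (hIJ : I ≤ J)
    (h : Smoothing.IndSmooth (S ⧸ J) (Λ ⧸ J.map (algebraMap S Λ))) :
    Smoothing.IndSmooth ((S ⧸ I) ⧸ J.map (Ideal.Quotient.mk I))
      ((Λ ⧸ I.map (algebraMap S Λ)) ⧸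
        (J.map (Ideal.Quotient.mk I)).map
          (algebraMap (S ⧸ I) (Λ ⧸ I.map (algebraMap S Λ)))) := by
  let IΛ : Ideal Λ := I.map (algebraMap S Λ)
  let JΛ : Ideal Λ := J.map (algebraMap S Λ)
  have hle : IΛ ≤ JΛ := Ideal.map_mono hIJ
  have hideal : (J.map (Ideal.Quotient.mk I)).map (algebraMap (S ⧸ I) (Λ ⧸ IΛ)) =
      JΛ.map (Ideal.Quotient.mk IΛ) := by
    change (J.map (Ideal.Quotient.mk I)).map (algebraMap (S ⧸ I) (Λ ⧸ IΛ)) =
      (J.map (algebraMap S Λ)).map (Ideal.Quotient.mk IΛ)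
    rw [Ideal.map_map, Ideal.map_map]
    congr 1
  let eR : (S ⧸ J) ≃+* ((S ⧸ I) ⧸ J.map (Ideal.Quotient.mk I)) :=
    (DoubleQuot.quotQuotEquivQuotOfLE hIJ).symm
  let eΛ : (Λ ⧸ JΛ) ≃+* ((Λ ⧸ IΛ) ⧸
      (J.map (Ideal.Quotient.mk I)).map (algebraMap (S ⧸ I) (Λ ⧸ IΛ))) :=
    (DoubleQuot.quotQuotEquivQuotOfLE hle).symm.trans (Ideal.quotEquivOfEq hideal.symm)
  refine indSmooth_of_equiv eR eΛ ?_ h
  intro r
  obtain ⟨s, rfl⟩ := Ideal.Quotient.mk_surjective r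
  rfl

theorem indSmooth_of_nilpotent {R Λ : Type u} [CommRing R] [CommRing Λ] [Algebra R Λ]
    (I : Ideal R) (hI : IsNilpotent I) [Module.Flat R Λ]
    (h : Smoothing.IndSmooth (R ⧸ I) (Λ ⧸ I.map (algebraMap R Λ))) :
    Smoothing.IndSmooth R Λ := by
  have key := Ideal.IsNilpotent.induction_on (S := R) I hI
    (P := fun S _ I => ∀ (Λ : Type u) [CommRing Λ] [Algebra S Λ] [Module.Flat S Λ],
      Smoothing.IndSmooth (S ⧸ I) (Λ ⧸ I.map (algebraMap S Λ)) → Smoothing.IndSmooth S Λ)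
    (fun S _ I hI Λ _ _ _ h => indSmooth_of_sq_zero I hI h)
    (fun S _ I J hIJ hPI hPJ Λ _ _ _ h => by
      apply hPI Λ
      haveI : Module.Flat (S ⧸ I) (Λ ⧸ I.map (algebraMap S Λ)) := flat_quotient I
      apply hPJ (Λ ⧸ I.map (algebraMap S Λ))
      exact indSmooth_step I J hIJ h)
  exact key Λ h

end G

end Groth.Agent.Lib.Helper27.LiftOnce
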