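import Mathlib
import Groth.Prelude.Def_Smoothing

set_option autoImplicit false
universe u

namespace Helper27.LiftLem

open MvPolynomial

theorem taylor2 {R S σ : Type*} [CommRing R] [CommRing S] [Algebra R S] [Fintype σ]
    (a y : σ → S) (p : MvPolynomial σ R) :
    aeval (a + y) p - aeval a p - ∑ i, aeval a (pderiv i p) * y i ∈
      Ideal.span (Set.range y) ^ 2 := by
  classical
  induction p using MvPolynomial.induction_on with
  | C r => simp
  | add p q hp hq =>
    have h1 : aeval (a + y) (p + q) - aeval a (p + q) - ∑ i, aeval a (pderiv i (p + q)) * y i =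
      (aeval (a + y) p - aeval a p - ∑ i, aeval a (pderiv i p) * y i) +
      (aeval (a + y) q - aeval a q - ∑ i, aeval a (pderiv i q) * y i) := by
      simp only [map_add, add_mul, Finset.sum_add_distrib]; ring
    rw [h1]; exact Ideal.add_mem _ hp hq
  | mul_X p j hp =>
    have hsum : ∑ i, aeval a (pderiv i (p * X j)) * y i =
        (∑ i, aeval a (pderiv i p) * y i) * a j + aeval a p * y j := by
      have h2 : ∀ i, aeval a (pderiv i (p * X j)) * y i =
          aeval a (pderiv i p) * y i * a j + (if i = j then aeval a p * y j else 0) := by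
        intro i
        rw [Derivation.leibniz, pderiv_X, smul_eq_mul, smul_eq_mul, map_add, map_mul, map_mul,
          aeval_X, Pi.single_apply]
        by_cases hij : i = j
        · subst hij; simp; ring
        · have hji : ¬ j = i := fun h => hij h.symm
          simp [hij, hji]; ring
      simp only [h2, Finset.sum_add_distrib, Finset.sum_mul, Finset.sum_ite_eq',
        Finset.mem_univ, if_true]
    have h1 : aeval (a + y) (p * X j) - aeval a (p * X j) -
        ∑ i, aeval a (pderiv i (p * X j)) * y i =
        (aeval (a + y) p - aeval a p - ∑ i, aeval a (pderiv i p) * y i) * (a j + y j) +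
        (∑ i, aeval a (pderiv i p) * y i) * y j := by
      rw [hsum]
      simp only [map_mul, aeval_X, Pi.add_apply]
      ring
    rw [h1]
    refine Ideal.add_mem _ (Ideal.mul_mem_right _ _ hp) ?_
    rw [pow_two]
    refine Ideal.mul_mem_mul ?_ (Ideal.subset_span ⟨j, rfl⟩)
    exact Ideal.sum_mem _ fun i _ => Ideal.mul_mem_left _ _ (Ideal.subset_span ⟨i, rfl⟩)

theorem pderiv_aeval_chain {R σ τ : Type*} [CommRing R] [Fintype σ]
    (g : σ → MvPolynomial τ R) (k : τ) (p : MvPolynomial σ R) :
    pderiv k (aeval g p) = ∑ i, aeval g (pderiv i p) * pderiv k (g i) := by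
  classical
  induction p using MvPolynomial.induction_on with
  | C r => simp
  | add p q hp hq =>
    simp only [map_add, add_mul, Finset.sum_add_distrib, hp, hq]
  | mul_X p j hp =>
    have h2 : ∀ i, aeval g (pderiv i (p * X j)) * pderiv k (g i) =
        g j * (aeval g (pderiv i p) * pderiv k (g i)) +
          (if i = j then aeval g p * pderiv k (g j) else 0) := by
      intro i
      rw [Derivation.leibniz, pderiv_X, smul_eq_mul, smul_eq_mul, map_add, map_mul, map_mul,
        aeval_X, Pi.single_apply]
      by_cases hij : i = j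
      · subst hij; simp; ring
      · have hji : ¬ j = i := fun h => hij h.symm
        simp [hij, hji]; ring
    simp only [h2, Finset.sum_add_distrib, Finset.sum_ite_eq', Finset.mem_univ, if_true,
      ← Finset.mul_sum, ← hp]
    rw [map_mul, aeval_X, Derivation.leibniz, smul_eq_mul, smul_eq_mul]
    ring

theorem exists_right_inverse {R : Type*} [CommRing R] {n c : ℕ} (A : Fin c → Fin n → R) (d : R)
    (hd : d ∈ Ideal.span (Set.range fun cols : Fin c → Fin n =>
      Matrix.det (Matrix.of fun j k : Fin c => A j (cols k)))) :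
    ∃ S : Fin n → Fin c → R, ∀ j k, ∑ i, A j i * S i k = if j = k then d else 0 := by
  classical
  obtain ⟨ρ, hρ⟩ := (Ideal.mem_span_range_iff_exists_fun).mp hd
  let AI : (Fin c → Fin n) → Matrix (Fin c) (Fin c) R := fun cols =>
    Matrix.of fun j k : Fin c => A j (cols k)
  refine ⟨fun i k => ∑ cols, ρ cols * ∑ k', (if cols k' = i then (AI cols).adjugate k' k else 0),
    fun j k => ?_⟩
  have h1 : ∀ cols : Fin c → Fin n,
      ∑ i, A j i * ∑ k', (if cols k' = i then (AI cols).adjugate k' k else 0) =
        if j = k then (AI cols).det else 0 := by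
    intro cols
    have h2 : ∑ i, A j i * ∑ k', (if cols k' = i then (AI cols).adjugate k' k else 0) =
        ∑ k', A j (cols k') * (AI cols).adjugate k' k := by
      simp only [Finset.mul_sum]
      rw [Finset.sum_comm]
      refine Finset.sum_congr rfl fun k' _ => ?_
      simp [mul_ite, Finset.sum_ite_eq]
    rw [h2]
    have h3 := congrFun (congrFun (Matrix.mul_adjugate (AI cols)) j) k
    rw [Matrix.mul_apply, Matrix.smul_apply, Matrix.one_apply, smul_eq_mul, mul_ite, mul_one,
      mul_zero] at h3
    exact h3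
  calc ∑ i, A j i * ∑ cols, ρ cols * ∑ k', (if cols k' = i then (AI cols).adjugate k' k else 0)
      = ∑ cols, ρ cols * ∑ i, A j i *
          ∑ k', (if cols k' = i then (AI cols).adjugate k' k else 0) := by
        simp only [Finset.mul_sum]
        rw [Finset.sum_comm]
        refine Finset.sum_congr rfl fun cols _ => Finset.sum_congr rfl fun i _ => ?_
        refine Finset.sum_congr rfl fun k' _ => ?_
        ring
    _ = ∑ cols, ρ cols * (if j = k then (AI cols).det else 0) := by
        refine Finset.sum_congr rfl fun cols _ => ?_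
        rw [h1]
    _ = if j = k then d else 0 := by
        by_cases hjk : j = k
        · simp only [hjk, if_true]; exact hρ
        · simp [hjk]

theorem det_sub_det_mem {P ι : Type*} [CommRing P] [Fintype ι] [DecidableEq ι] (𝔭 : Ideal P)
    (M M' : Matrix ι ι P) (h : ∀ i j, M i j - M' i j ∈ 𝔭) : M.det - M'.det ∈ 𝔭 := by
  rw [← Ideal.Quotient.eq, RingHom.map_det, RingHom.map_det]
  congr 1
  ext i j
  exact Ideal.Quotient.eq.mpr (h i j)

theorem det_mul_mem {P ι : Type*} [CommRing P] [Fintype ι] [DecidableEq ι] (I : Ideal P)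
    (M : Matrix ι ι P) (F : ι → P) (h : ∀ j, ∑ l, M j l * F l ∈ I) (l : ι) :
    M.det * F l ∈ I := by
  have h1 : M.det * F l = ∑ j, M.adjugate l j * ∑ l', M j l' * F l' := by
    have h2 := congrFun (Matrix.mulVec_mulVec F M.adjugate M) l
    rw [Matrix.adjugate_mul, Matrix.smul_mulVec, Matrix.one_mulVec] at h2
    simp only [Matrix.mulVec, dotProduct, Pi.smul_apply, smul_eq_mul] at h2
    exact h2.symm
  rw [h1]
  exact Ideal.sum_mem _ fun j _ => Ideal.mul_mem_left _ _ (h j)

theorem kill_of_flat {R P' : Type*} [CommRing R] [CommRing P'] [Algebra R P'] (I' : Ideal P')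
    (Δ : P') (S : Type*) [CommRing S] [Algebra (P' ⧸ I') S] [Algebra R S]
    [IsScalarTower R (P' ⧸ I') S] [IsLocalization.Away (Ideal.Quotient.mk I' Δ) S]
    [Module.Flat R S] (π ρ : R)
    (hρ : ∀ x : R, π ^ 3 * x = 0 → ρ * x = 0) (y : P')
    (hy : algebraMap R P' (π ^ 3) * y ∈ I') :
    ∃ N : ℕ, Δ ^ N * (algebraMap R P' ρ * y) ∈ I' := by
  let ybar : S := algebraMap (P' ⧸ I') S (Ideal.Quotient.mk I' y)
  have hsm : ∀ t : R, t • ybar =
      algebraMap (P' ⧸ I') S (Ideal.Quotient.mk I' (algebraMap R P' t * y)) := by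
    intro t
    rw [Algebra.smul_def, IsScalarTower.algebraMap_apply R (P' ⧸ I') S,
      IsScalarTower.algebraMap_apply R P' (P' ⧸ I'), ← map_mul, Ideal.Quotient.algebraMap_eq,
      ← map_mul]
  have h0 : ∑ _i : Unit, (π ^ 3) • ybar = 0 := by
    rw [Finset.sum_const, Finset.card_univ, Fintype.card_unit, one_smul, hsm,
      Ideal.Quotient.eq_zero_iff_mem.mpr hy, map_zero]
  obtain ⟨κ, a, z, hx, ha⟩ := Module.Flat.isTrivialRelation_of_sum_smul_eq_zero
    (R := R) (M := S) (f := fun _ : Unit => π ^ 3) (x := fun _ : Unit => ybar) h0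
  have h1 : ρ • ybar = 0 := by
    have hx' : ybar = ∑ j, a () j • z j := hx ()
    rw [hx', Finset.smul_sum]
    refine Finset.sum_eq_zero fun j _ => ?_
    rw [smul_smul]
    have h2 : π ^ 3 * a () j = 0 := by simpa using ha j
    rw [hρ _ h2, zero_smul]
  rw [hsm] at h1
  obtain ⟨⟨_, N, rfl⟩, hN⟩ :=
    (IsLocalization.map_eq_zero_iff (Submonoid.powers (Ideal.Quotient.mk I' Δ)) S _).mp h1
  refine ⟨N, ?_⟩
  rw [← Ideal.Quotient.eq_zero_iff_mem, map_mul, map_pow]
  exact hN

end Helper27.LiftLem
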