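import Mathlib

set_option autoImplicit false
universe u v w

namespace Helper27.StdElem

open Algebra

section Bridge

variable {R : Type u} {A : Type v} [CommRing R] [CommRing A] [Algebra R A]
variable (E : Algebra.Extension.{w} R A)

theorem mk_mem_span_iff {κ : Type*} (g : κ → E.Ring) (hg : ∀ i, g i ∈ E.ker)
    (y : E.Ring) (hy : y ∈ E.ker) :
    (Extension.Cotangent.mk ⟨y, hy⟩ : E.Cotangent) ∈
        Submodule.span A (Set.range fun i => (Extension.Cotangent.mk ⟨g i, hg i⟩ : E.Cotangent)) ↔
      y ∈ Ideal.span (Set.range g) ⊔ E.ker ^ 2 := by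
  constructor
  · intro h
    have key : ∀ m ∈ Submodule.span A
        (Set.range fun i => (Extension.Cotangent.mk ⟨g i, hg i⟩ : E.Cotangent)),
        ∃ (z : E.Ring) (hz : z ∈ E.ker), Extension.Cotangent.mk ⟨z, hz⟩ = m ∧
          z ∈ Ideal.span (Set.range g) := by
      intro m hm
      induction hm using Submodule.span_induction with
      | mem x hx =>
        obtain ⟨i, rfl⟩ := hx
        exact ⟨g i, hg i, rfl, Ideal.subset_span ⟨i, rfl⟩⟩
      | zero => exact ⟨0, E.ker.zero_mem, map_zero _, Ideal.zero_mem _⟩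
      | add x y _ _ hx hy =>
        obtain ⟨z₁, hz₁, rfl, h₁⟩ := hx
        obtain ⟨z₂, hz₂, rfl, h₂⟩ := hy
        refine ⟨z₁ + z₂, E.ker.add_mem hz₁ hz₂, ?_, Ideal.add_mem _ h₁ h₂⟩
        rw [← map_add]; rfl
      | smul a x _ hx =>
        obtain ⟨z₁, hz₁, rfl, h₁⟩ := hx
        obtain ⟨p, rfl⟩ := E.algebraMap_surjective a
        refine ⟨p * z₁, E.ker.mul_mem_left p hz₁, ?_, Ideal.mul_mem_left _ p h₁⟩
        rw [algebraMap_smul, ← map_smul]; rfl
    obtain ⟨z, hz, hzy, hzs⟩ := key _ h
    rw [Extension.Cotangent.mk_eq_mk_iff_sub_mem] at hzy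
    have : y = z + -(z - y) := by ring
    rw [this]
    exact Ideal.add_mem _ (Ideal.mem_sup_left hzs)
      (Ideal.mem_sup_right (Ideal.neg_mem_iff _ |>.mpr hzy))
  · intro h
    obtain ⟨z, hz, w, hw, rfl⟩ := Submodule.mem_sup.mp h
    have hzk : z ∈ E.ker := by
      refine (Ideal.span_le.mpr ?_) hz
      rintro _ ⟨i, rfl⟩; exact hg i
    have hwk : w ∈ E.ker := Ideal.pow_le_self two_ne_zero hw
    have h1 : (Extension.Cotangent.mk ⟨z + w, hy⟩ : E.Cotangent) =
        Extension.Cotangent.mk ⟨z, hzk⟩ := by
      rw [Extension.Cotangent.mk_eq_mk_iff_sub_mem]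
      simpa using hw
    rw [h1]
    have key : ∀ z ∈ Ideal.span (Set.range g), ∀ hzk : z ∈ E.ker,
        (Extension.Cotangent.mk ⟨z, hzk⟩ : E.Cotangent) ∈ Submodule.span A
        (Set.range fun i => (Extension.Cotangent.mk ⟨g i, hg i⟩ : E.Cotangent)) := by
      intro z hz
      induction hz using Submodule.span_induction with
      | mem x hx =>
        obtain ⟨i, rfl⟩ := hx
        intro _
        exact Submodule.subset_span ⟨i, rfl⟩
      | zero =>
        intro _
        have : (Extension.Cotangent.mk ⟨0, E.ker.zero_mem⟩ : E.Cotangent) = 0 := map_zero _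
        rw [this]; exact Submodule.zero_mem _
      | add x y hx hy ihx ihy =>
        intro _
        have hxk : x ∈ E.ker := (Ideal.span_le.mpr (by rintro _ ⟨i, rfl⟩; exact hg i)) hx
        have hyk : y ∈ E.ker := (Ideal.span_le.mpr (by rintro _ ⟨i, rfl⟩; exact hg i)) hy
        have : (Extension.Cotangent.mk ⟨x + y, ‹_›⟩ : E.Cotangent) =
            Extension.Cotangent.mk ⟨x, hxk⟩ + Extension.Cotangent.mk ⟨y, hyk⟩ := by
          rw [← map_add]; rfl
        rw [this]
        exact Submodule.add_mem _ (ihx hxk) (ihy hyk)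
      | smul p x hx ihx =>
        intro _
        have hxk : x ∈ E.ker := (Ideal.span_le.mpr (by rintro _ ⟨i, rfl⟩; exact hg i)) hx
        have : (Extension.Cotangent.mk ⟨p • x, ‹_›⟩ : E.Cotangent) =
            (algebraMap E.Ring A p) • Extension.Cotangent.mk ⟨x, hxk⟩ := by
          rw [algebraMap_smul, ← map_smul]; rfl
        rw [this]
        exact Submodule.smul_mem _ _ (ihx hxk)
    exact key z hz hzk

theorem smul_mk_mem_span_iff {κ : Type*} (g : κ → E.Ring) (hg : ∀ i, g i ∈ E.ker)
    (x : E.Ring) (hx : x ∈ E.ker) (a' : E.Ring) :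
    (algebraMap E.Ring A a') • (Extension.Cotangent.mk ⟨x, hx⟩ : E.Cotangent) ∈
        Submodule.span A (Set.range fun i => (Extension.Cotangent.mk ⟨g i, hg i⟩ : E.Cotangent)) ↔
      a' * x ∈ Ideal.span (Set.range g) ⊔ E.ker ^ 2 := by
  rw [← mk_mem_span_iff E g hg (a' * x) (E.ker.mul_mem_left a' hx)]
  have : (algebraMap E.Ring A a') • (Extension.Cotangent.mk ⟨x, hx⟩ : E.Cotangent) =
      Extension.Cotangent.mk ⟨a' * x, E.ker.mul_mem_left a' hx⟩ := by
    rw [algebraMap_smul, ← map_smul]; rfl
  rw [this]

end Bridge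

section LemmaA

variable {A : Type*} [CommRing A] {M N : Type*} [AddCommGroup M] [AddCommGroup N]
  [Module A M] [Module A N]

theorem projective_localizedModule_of_comp_eq [Module.Projective A N] (S : Submonoid A) (s : A)
    (hs : s ∈ S) (π : N →ₗ[A] M) (i : M →ₗ[A] N) (h : ∀ x, π (i x) = s • x) :
    Module.Projective (Localization S) (LocalizedModule S M) := by
  have hN : Module.Projective (Localization S) (LocalizedModule S N) :=
    Module.projective_of_isLocalizedModule S (LocalizedModule.mkLinearMap S N)
  have hu : IsUnit (algebraMap A (Localization S) s) := IsLocalization.map_units _ ⟨s, hs⟩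
  refine Module.Projective.of_split ((hu.unit⁻¹ : (Localization S)ˣ) • LocalizedModule.map S i)
    (LocalizedModule.map S π) ?_
  ext x
  induction x using LocalizedModule.induction_on with
  | h m t =>
    simp only [LinearMap.coe_comp, Function.comp_apply, LinearMap.smul_apply,
      LocalizedModule.map_mk, LinearMap.id_coe, id_eq]
    rw [Units.smul_def, map_smul, LocalizedModule.map_mk, h, ← LocalizedModule.smul'_mk,
      ← algebraMap_smul (Localization S) s, smul_smul]
    have : ((hu.unit⁻¹ : (Localization S)ˣ) : Localization S) * algebraMap A (Localization S) s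
        = 1 := hu.val_inv_mul
    rw [this, one_smul]

theorem exists_factor_of_exact {P : Type*} [AddCommGroup P] [Module A P]
    (d : M →ₗ[A] N) (π : N →ₗ[A] P) (hex : Function.Exact d π) (hπ : Function.Surjective π)
    (ψ : N →ₗ[A] N) (hψ : ∀ x, ψ (d x) = 0) : ∃ i : P →ₗ[A] N, ∀ y, i (π y) = ψ y := by
  have hle : LinearMap.ker π ≤ LinearMap.ker ψ := by
    intro y hy
    obtain ⟨x, rfl⟩ := (hex y).mp hy
    exact hψ x
  refine ⟨(Submodule.liftQ (LinearMap.ker π) ψ hle) ∘ₗ
    (π.quotKerEquivOfSurjective hπ).symm.toLinearMap, fun y => ?_⟩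
  have : (π.quotKerEquivOfSurjective hπ).symm (π y) = Submodule.Quotient.mk y := by
    rw [LinearEquiv.symm_apply_eq]; simp
  simp [this]

end LemmaA

section Q1

variable {R : Type u} {A : Type u} [CommRing R] [CommRing A] [Algebra R A]
variable {ι : Type w} (P : Algebra.Generators R A ι)

theorem formallySmooth_away_of_quasiRetraction (g : A) (k : ℕ)
    (l : P.toExtension.CotangentSpace →ₗ[A] P.toExtension.Cotangent)
    (hl : ∀ x, l (P.toExtension.cotangentComplex x) = g ^ k • x) :
    Algebra.FormallySmooth R (Localization.Away g) := by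
  rw [Algebra.formallySmooth_iff]
  constructor
  · have e := (IsLocalizedModule.iso (.powers g)
      (KaehlerDifferential.map R R A (Localization.Away g))).extendScalarsOfIsLocalization
        (.powers g) (Localization.Away g)
    have hex := P.toExtension.exact_cotangentComplex_toKaehler
    obtain ⟨i, hi⟩ := exists_factor_of_exact P.toExtension.cotangentComplex P.toExtension.toKaehler
      hex P.toExtension.toKaehler_surjective
      (g ^ k • LinearMap.id - P.toExtension.cotangentComplex ∘ₗ l) (fun x => by
        simp [hl])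
    have hproj : Module.Projective (Localization.Away g)
        (LocalizedModule (Submonoid.powers g) Ω[A⁄R]) := by
      refine projective_localizedModule_of_comp_eq (.powers g) (g ^ k) ⟨k, rfl⟩
        P.toExtension.toKaehler i (fun ω => ?_)
      obtain ⟨y, rfl⟩ := P.toExtension.toKaehler_surjective ω
      rw [hi]
      simp only [LinearMap.sub_apply, LinearMap.smul_apply, LinearMap.id_coe, id_eq,
        LinearMap.coe_comp, Function.comp_apply, map_sub, map_smul]
      rw [hex.apply_apply_eq_zero, sub_zero]
    exact Module.Projective.of_equiv e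
  · have e := IsLocalizedModule.iso (.powers g)
      (Algebra.H1Cotangent.map R R A (Localization.Away g))
    rw [← e.subsingleton_congr, LocalizedModule.subsingleton_iff]
    intro m
    refine ⟨g ^ k, ⟨k, rfl⟩, ?_⟩
    obtain ⟨x, rfl⟩ := P.equivH1Cotangent.surjective m
    rw [← map_smul]
    have : g ^ k • x = 0 := by
      ext
      rw [Extension.H1Cotangent.val_smul, ← hl]
      have := x.2
      rw [LinearMap.mem_ker] at this
      rw [this, map_zero]; rfl
    rw [this, map_zero]

end Q1

end Helper27.StdElem
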