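import Mathlib
import Groth.Prelude.Def_Smoothing
import Groth.Agent.Lib.Helper27.StdElemA

set_option autoImplicit false
universe u v w

namespace Helper27.StdElem

open Algebra MvPolynomial

section Minors

variable {R : Type u} {A : Type u} [CommRing R] [CommRing A] [Algebra R A]
variable {n m c : ℕ} (P : Algebra.Generators R A (Fin n))

theorem algebraMap_jacobianMinor (f : Fin m → MvPolynomial (Fin n) R) (rows : Fin c → Fin m)
    (cols : Fin c → Fin n) :
    algebraMap P.Ring A (Smoothing.jacobianMinor f rows cols) =
      Matrix.det (Matrix.of fun j k : Fin c =>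
        algebraMap P.Ring A (pderiv (cols k) (f (rows j)))) := by
  unfold Smoothing.jacobianMinor
  rw [RingHom.map_det]
  rfl

theorem equivFun_cotangentComplex_mk (x : P.toExtension.ker) (k : Fin n) :
    P.cotangentSpaceBasis.equivFun (P.toExtension.cotangentComplex (Extension.Cotangent.mk x)) k =
      algebraMap P.Ring A (pderiv k x.1) := by
  rw [Extension.cotangentComplex_mk, Module.Basis.equivFun_apply,
    Generators.cotangentSpaceBasis_repr_one_tmul, Generators.algebraMap_apply]

variable (f : Fin m → P.Ring) (hker : Ideal.span (Set.range f) = P.ker)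

include hker in
theorem rel_mem_ker (ℓ : Fin m) : f ℓ ∈ P.ker := hker ▸ Ideal.subset_span ⟨ℓ, rfl⟩

theorem formallySmooth_away_of_minors (rows : Fin c → Fin m) (a : A)
    (ha : a ∈ Ideal.span (Set.range fun cols : Fin c → Fin n =>
      algebraMap P.Ring A (Smoothing.jacobianMinor f rows cols)))
    (hkill : ∀ ℓ, a • (Extension.Cotangent.mk ⟨f ℓ, rel_mem_ker P f hker ℓ⟩ :
        P.toExtension.Cotangent) ∈ Submodule.span A (Set.range fun j =>
          (Extension.Cotangent.mk ⟨f (rows j), rel_mem_ker P f hker (rows j)⟩ :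
            P.toExtension.Cotangent))) :
    Algebra.FormallySmooth R (Localization.Away a) := by
  classical
  set rb : Fin m → P.toExtension.Cotangent := fun ℓ =>
    Extension.Cotangent.mk ⟨f ℓ, rel_mem_ker P f hker ℓ⟩ with hrb
  have htop : Submodule.span A (Set.range rb) = ⊤ :=
    Extension.Cotangent.span_eq_top_of_span_eq_ker (P := P.toExtension) f hker
  obtain ⟨b, hb⟩ := (Ideal.mem_span_range_iff_exists_fun).mp ha
  let Jc : (Fin c → Fin n) → Matrix (Fin c) (Fin c) A := fun cols =>
    Matrix.of fun j k : Fin c => algebraMap P.Ring A (pderiv (cols k) (f (rows j)))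
  let lc : (Fin c → Fin n) → P.toExtension.CotangentSpace →ₗ[A] (Fin c → A) := fun cols =>
    (Matrix.vecMulLinear (Matrix.adjugate (Jc cols))) ∘ₗ (LinearMap.funLeft A A cols) ∘ₗ
      P.cotangentSpaceBasis.equivFun.toLinearMap
  have hlc : ∀ cols j, lc cols (P.toExtension.cotangentComplex (rb (rows j))) =
      (Jc cols).det • Pi.single j 1 := by
    intro cols j
    have h1 : (LinearMap.funLeft A A cols) (P.cotangentSpaceBasis.equivFun
        (P.toExtension.cotangentComplex (rb (rows j)))) = (Jc cols) j := by
      ext k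
      rw [LinearMap.funLeft_apply]
      exact equivFun_cotangentComplex_mk P ⟨f (rows j), rel_mem_ker P f hker (rows j)⟩ (cols k)
    simp only [lc, LinearMap.coe_comp, Function.comp_apply, LinearEquiv.coe_coe]
    rw [h1, Matrix.vecMulLinear_apply, ← Matrix.mul_apply_eq_vecMul, Matrix.mul_adjugate]
    ext j'
    simp [Matrix.one_apply, Pi.single_apply, eq_comm]
  let l' : P.toExtension.CotangentSpace →ₗ[A] (Fin c → A) := ∑ cols, b cols • lc cols
  have hl' : ∀ j, l' (P.toExtension.cotangentComplex (rb (rows j))) = a • Pi.single j 1 := by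
    intro j
    simp only [l', LinearMap.sum_apply, LinearMap.smul_apply, hlc]
    rw [← hb, Finset.sum_smul]
    refine Finset.sum_congr rfl fun cols _ => ?_
    rw [smul_smul, algebraMap_jacobianMinor]
  let ρ : (Fin c → A) →ₗ[A] P.toExtension.Cotangent :=
    Fintype.linearCombination A (fun j => rb (rows j))
  have hρ : ∀ y ∈ Submodule.span A (Set.range fun j => rb (rows j)),
      ρ (l' (P.toExtension.cotangentComplex y)) = a • y := by
    intro y hy
    induction hy using Submodule.span_induction with
    | mem x hx =>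
      obtain ⟨j, rfl⟩ := hx
      simp only [hl', map_smul, ρ]
      rw [Fintype.linearCombination_apply_single, one_smul]
    | zero => simp
    | add x y _ _ hx hy => simp only [map_add, hx, hy, smul_add]
    | smul t x _ hx => simp only [map_smul, hx]; rw [smul_comm]
  have hspan : ∀ x : P.toExtension.Cotangent,
      a • x ∈ Submodule.span A (Set.range fun j => rb (rows j)) := by
    intro x
    have hx : x ∈ Submodule.span A (Set.range rb) := htop ▸ Submodule.mem_top
    induction hx using Submodule.span_induction with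
    | mem x hx =>
      obtain ⟨ℓ, rfl⟩ := hx
      exact hkill ℓ
    | zero => simp
    | add x y _ _ hx hy => rw [smul_add]; exact Submodule.add_mem _ hx hy
    | smul t x _ hx => rw [smul_comm]; exact Submodule.smul_mem _ _ hx
  refine formallySmooth_away_of_quasiRetraction P a 2 (a • (ρ ∘ₗ l')) (fun x => ?_)
  simp only [LinearMap.smul_apply, LinearMap.coe_comp, Function.comp_apply]
  rw [← map_smul, ← map_smul, ← map_smul, hρ _ (hspan x), pow_two, mul_smul]

end Minors

end Helper27.StdElem

namespace Helper27.StdElem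

open Algebra MvPolynomial

section Marked

variable {R : Type u} {A : Type u} [CommRing R] [CommRing A] [Algebra R A]

theorem ofAlgHom_algebraMap {n : ℕ} (φ : MvPolynomial (Fin n) R →ₐ[R] A)
    (hφ : Function.Surjective φ) (x : MvPolynomial (Fin n) R) :
    algebraMap (Generators.ofAlgHom φ hφ).Ring A x = φ x := by
  rw [Generators.algebraMap_apply]
  have : aeval (Generators.ofAlgHom φ hφ).val = φ := by
    ext i; simp [Generators.ofAlgHom]
  rw [this]

theorem ofAlgHom_ker {n : ℕ} (φ : MvPolynomial (Fin n) R →ₐ[R] A)
    (hφ : Function.Surjective φ) :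
    (Generators.ofAlgHom φ hφ).toExtension.ker = RingHom.ker φ.toRingHom := by
  ext x
  change algebraMap (Generators.ofAlgHom φ hφ).Ring A x = 0 ↔ φ x = 0
  rw [ofAlgHom_algebraMap φ hφ x]

theorem finitePresentation_of_surjective {n m : ℕ} (f : Fin m → MvPolynomial (Fin n) R)
    (φ : MvPolynomial (Fin n) R →ₐ[R] A) (hφ : Function.Surjective φ)
    (hker : RingHom.ker φ.toRingHom = Ideal.span (Set.range f)) :
    Algebra.FinitePresentation R A := by
  refine Algebra.FinitePresentation.of_surjective hφ ?_
  rw [hker]
  classical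
  exact ⟨Finset.univ.image f, by simp⟩

theorem image_lt_eq_range {m c : ℕ} {α : Type*} (hcm : c ≤ m) (rel : Fin m → α) :
    rel '' {j' : Fin m | (j' : ℕ) < c} = Set.range (fun j : Fin c => rel (Fin.castLE hcm j)) := by
  ext x
  constructor
  · rintro ⟨j', hj', rfl⟩
    exact ⟨⟨j', hj'⟩, rfl⟩
  · rintro ⟨j, rfl⟩
    exact ⟨Fin.castLE hcm j, j.2, rfl⟩

theorem formallySmooth_away_of_isStrictlyStandard (a : A)
    (ha : Smoothing.IsStrictlyStandard R A a) :
    Algebra.FormallySmooth R (Localization.Away a) := by
  obtain ⟨MP, hmem, hkt⟩ := ha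
  let P := Generators.ofAlgHom MP.hom MP.surj
  have halg : ∀ x, algebraMap P.Ring A x = MP.hom x := ofAlgHom_algebraMap MP.hom MP.surj
  have hker : Ideal.span (Set.range MP.rel) = P.toExtension.ker := by
    rw [ofAlgHom_ker, MP.ker_eq]
  refine formallySmooth_away_of_minors P MP.rel hker (Fin.castLE MP.hcm) a ?_ ?_
  · convert hmem using 4 with cols
    exact halg _
  · intro ℓ
    by_cases hℓ : (ℓ : ℕ) < MP.c
    · refine Submodule.smul_mem _ _ (Submodule.subset_span ⟨⟨ℓ, hℓ⟩, ?_⟩)
      rfl
    · obtain ⟨a', ha'⟩ := MP.surj a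
      have h1 := hkt a' ha' ℓ (not_lt.mp hℓ)
      rw [image_lt_eq_range MP.hcm MP.rel, hker] at h1
      have h2 := (smul_mk_mem_span_iff P.toExtension (fun j => MP.rel (Fin.castLE MP.hcm j))
        (fun j => rel_mem_ker P MP.rel hker _) (MP.rel ℓ) (rel_mem_ker P MP.rel hker ℓ) a').mpr h1
      have h3 : algebraMap P.toExtension.Ring A a' = a := (halg a').trans ha'
      rw [h3] at h2
      exact h2

theorem smooth_away_of_isStrictlyStandard (a : A)
    (ha : Smoothing.IsStrictlyStandard R A a) :
    Algebra.Smooth R (Localization.Away a) := by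
  have h1 := formallySmooth_away_of_isStrictlyStandard a ha
  obtain ⟨MP, -, -⟩ := ha
  have : Algebra.FinitePresentation R A :=
    finitePresentation_of_surjective MP.rel MP.hom MP.surj MP.ker_eq
  have : Algebra.FinitePresentation A (Localization.Away a) :=
    IsLocalization.Away.finitePresentation a
  exact ⟨h1, .trans _ A _⟩

end Marked

end Helper27.StdElem
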