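import Mathlib
import Groth.Prelude.Def_Smoothing
import Groth.Agent.Lib.Helper27.StdElemB
import Groth.Agent.Lib.Helper27.LiftLemA

set_option autoImplicit false
universe u

namespace Helper27.LiftLem

open MvPolynomial

theorem mkₐ_ker' {R P : Type*} [CommRing R] [CommRing P] [Algebra R P] (I : Ideal P) :
    RingHom.ker (Ideal.Quotient.mkₐ R I).toRingHom = I := by
  ext x
  rw [RingHom.mem_ker]
  exact Ideal.Quotient.eq_zero_iff_mem

theorem pow3_kill {R : Type*} [CommRing R] (π r : R)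
    (hr : ∀ x : R, π ^ 2 * x = 0 → π * (r * x) = 0) (x : R) (hx : π ^ 3 * x = 0) :
    (π * r ^ 2) * x = 0 := by
  have h1 : π ^ 2 * (π * x) = 0 := by rw [← hx]; ring
  have h2 := hr _ h1
  have h3 : π ^ 2 * (r * x) = 0 := by rw [← h2]; ring
  have h4 := hr _ h3
  rw [← h4]; ring

set_option maxHeartbeats 1000000 in
theorem exists_std_of_mem {R : Type u} [CommRing R] {N m c : ℕ} (hcN : c ≤ N) (hcm : c ≤ m)
    (G : Fin c → MvPolynomial (Fin N) R) (F b : Fin m → MvPolynomial (Fin N) R) (π r : R)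
    (hF1 : ∀ j : Fin c, F (Fin.castLE hcm j) = C (π ^ 3) * G j)
    (hF2 : ∀ j, F j = C (π ^ 2) * b j)
    (hF3 : ∀ j : Fin m, c ≤ (j : ℕ) → C π * F j ∈
      Ideal.span (Set.range fun j' : Fin c => F (Fin.castLE hcm j')) ⊔
        Ideal.span (Set.range F) ^ 2)
    (cols₀ : Fin c → Fin N)
    (hΔ : Matrix.det (Matrix.of fun j k : Fin c => pderiv (cols₀ k) (G j)) - 1 ∈
      Ideal.span {(C π : MvPolynomial (Fin N) R)})
    (hr : ∀ x : R, π ^ 2 * x = 0 → π * (r * x) = 0)
    (𝔮 : Ideal (MvPolynomial (Fin N) R ⧸ Ideal.span (Set.range (Fin.append G F)))) [𝔮.IsPrime]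
    (hπ𝔮 : algebraMap R (MvPolynomial (Fin N) R ⧸ Ideal.span (Set.range (Fin.append G F))) π ∈ 𝔮)
    (hr𝔮 : algebraMap R (MvPolynomial (Fin N) R ⧸ Ideal.span (Set.range (Fin.append G F))) r ∉ 𝔮) :
    ∃ g, Smoothing.IsStrictlyStandard R
      (MvPolynomial (Fin N) R ⧸ Ideal.span (Set.range (Fin.append G F))) g ∧ g ∉ 𝔮 := by
  classical
  obtain ⟨I', hI'⟩ : ∃ I', I' = Ideal.span (Set.range G) := ⟨_, rfl⟩
  obtain ⟨Irel, hIrel⟩ : ∃ Irel, Irel = Ideal.span (Set.range (Fin.append G F)) := ⟨_, rfl⟩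
  obtain ⟨Δ, hΔdef⟩ : ∃ Δ, Δ = Matrix.det (Matrix.of fun j k : Fin c => pderiv (cols₀ k) (G j)) :=
    ⟨_, rfl⟩
  rw [← hΔdef] at hΔ
  have hGI' : ∀ j, G j ∈ I' := fun j => hI' ▸ Ideal.subset_span ⟨j, rfl⟩
  -- smoothness of B'_Δ
  let MP' : Smoothing.MarkedPresentation R (MvPolynomial (Fin N) R ⧸ I') :=
    { n := N, m := c, c := c, hcn := hcN, hcm := le_refl c, rel := G
      hom := Ideal.Quotient.mkₐ R I', surj := Ideal.Quotient.mkₐ_surjective R I'
      ker_eq := by rw [mkₐ_ker', hI'] }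
  have hss' : Smoothing.IsStrictlyStandard R (MvPolynomial (Fin N) R ⧸ I')
      (Ideal.Quotient.mk I' Δ) := by
    refine ⟨MP', Ideal.subset_span ⟨cols₀, ?_⟩, ?_⟩
    · show Ideal.Quotient.mk I' (Smoothing.jacobianMinor G (Fin.castLE (le_refl c)) cols₀) = _
      rw [hΔdef]
      rfl
    · intro a' _ j hj
      exact absurd j.2 (not_lt.mpr hj)
  have hsm : Algebra.Smooth R (Localization.Away (Ideal.Quotient.mk I' Δ)) :=
    Helper27.StdElem.smooth_away_of_isStrictlyStandard _ hss'
  have hr3 := pow3_kill π r hr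
  -- the e's
  have hFI' : ∀ j' : Fin c, F (Fin.castLE hcm j') ∈ I' := fun j' => by
    rw [hF1]; exact Ideal.mul_mem_left _ _ (hGI' j')
  have hsq : Ideal.span (Set.range F) ^ 2 ≤
      Ideal.span (Set.range fun l => C (π ^ 4) * b l) := by
    rw [pow_two, Ideal.span_mul_span']
    refine Ideal.span_le.mpr ?_
    rintro _ ⟨_, ⟨k, rfl⟩, _, ⟨l, rfl⟩, rfl⟩
    have h1 : F k * F l = (b k) * (C (π ^ 4) * b l) := by
      rw [hF2 k, hF2 l, show π ^ 4 = π ^ 2 * π ^ 2 by ring, C_mul]; ring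
    show F k * F l ∈ _
    rw [h1]
    exact Ideal.mul_mem_left _ _ (Ideal.subset_span ⟨l, rfl⟩)
  have he : ∀ j : Fin m, ∃ e : Fin m → MvPolynomial (Fin N) R,
      algebraMap R (MvPolynomial (Fin N) R) (π ^ 3) * (b j - C π * ∑ l, e l * b l) ∈ I' := by
    intro j
    by_cases hj : (j : ℕ) < c
    · refine ⟨fun _ => 0, ?_⟩
      have h1 : j = Fin.castLE hcm ⟨j, hj⟩ := by ext; rfl
      have h2 := hFI' ⟨j, hj⟩
      rw [← h1, hF2] at h2
      have h3 : algebraMap R (MvPolynomial (Fin N) R) (π ^ 3) * (b j - C π * ∑ l, (0 : MvPolynomial (Fin N) R) * b l) =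
          C π * (C (π ^ 2) * b j) := by
        rw [MvPolynomial.algebraMap_eq, show π ^ 3 = π * π ^ 2 by ring, C_mul]
        simp only [zero_mul, Finset.sum_const_zero, mul_zero, sub_zero]
        ring
      rw [h3]
      exact Ideal.mul_mem_left _ _ h2
    · have h1 := hF3 j (not_lt.mp hj)
      obtain ⟨x₁, hx₁, x₂, hx₂, hx⟩ := Submodule.mem_sup.mp h1
      have hx₁' : x₁ ∈ I' := by
        refine (Ideal.span_le.mpr ?_) hx₁
        rintro _ ⟨j', rfl⟩
        exact hFI' j'
      obtain ⟨e, he⟩ := (Ideal.mem_span_range_iff_exists_fun).mp (hsq hx₂)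
      refine ⟨e, ?_⟩
      have h3 : algebraMap R (MvPolynomial (Fin N) R) (π ^ 3) * (b j - C π * ∑ l, e l * b l) =
          x₁ := by
        have h4 : C π * F j - x₂ = x₁ := by rw [← hx]; ring
        rw [← h4, ← he, hF2, MvPolynomial.algebraMap_eq, show π ^ 3 = π * π ^ 2 by ring,
          show π ^ 4 = π * π ^ 2 * π by ring, C_mul, C_mul, C_mul]
        rw [mul_sub, Finset.mul_sum, Finset.mul_sum]
        congr 1
        · ring
        · refine Finset.sum_congr rfl fun l _ => ?_
          ring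
      rw [h3]
      exact hx₁'
  choose e he using he
  have hN : ∀ j : Fin m, ∃ Nj : ℕ, Δ ^ Nj * (algebraMap R (MvPolynomial (Fin N) R) (π * r ^ 2) *
      (b j - C π * ∑ l, e j l * b l)) ∈ I' := fun j =>
    kill_of_flat I' Δ (Localization.Away (Ideal.Quotient.mk I' Δ)) π (π * r ^ 2) hr3 _ (he j)
  choose Nj hNj using hN
  obtain ⟨Nn, hNn⟩ : ∃ Nn, Nn = ∑ j, Nj j := ⟨_, rfl⟩
  have hNle : ∀ j, Nj j ≤ Nn := fun j => hNn ▸
    Finset.single_le_sum (fun _ _ => Nat.zero_le _) (Finset.mem_univ j)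
  obtain ⟨h, hh⟩ : ∃ h, h = Δ ^ Nn * (C (r ^ 2) : MvPolynomial (Fin N) R) := ⟨_, rfl⟩
  let M : Matrix (Fin m) (Fin m) (MvPolynomial (Fin N) R) := Matrix.of fun j l =>
    h * ((if j = l then 1 else 0) - C π * e j l)
  have hM : ∀ j, ∑ l, M j l * F l ∈ I' := by
    intro j
    have h1 : ∑ l, M j l * F l = Δ ^ (Nn - Nj j) * C π * (Δ ^ Nj j *
        (algebraMap R (MvPolynomial (Fin N) R) (π * r ^ 2) * (b j - C π * ∑ l, e j l * b l))) := by
      have h2 : ∑ l, M j l * F l = h * (F j - C π * ∑ l, e j l * F l) := by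
        simp only [M, Matrix.of_apply, mul_sub, sub_mul, Finset.sum_sub_distrib, Finset.mul_sum]
        congr 1
        · simp [mul_ite, ite_mul, Finset.sum_ite_eq]
        · refine Finset.sum_congr rfl fun l _ => ?_
          ring
      rw [h2, hh]
      have h3 : Δ ^ Nn = Δ ^ (Nn - Nj j) * Δ ^ Nj j := by
        rw [← pow_add, Nat.sub_add_cancel (hNle j)]
      rw [h3, MvPolynomial.algebraMap_eq, C_mul, C_pow, hF2 j]
      have h4 : ∑ l, e j l * F l = C (π ^ 2) * ∑ l, e j l * b l := by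
        rw [Finset.mul_sum]
        refine Finset.sum_congr rfl fun l _ => ?_
        rw [hF2 l]; ring
      rw [h4, C_pow]
      ring
    rw [h1]
    exact Ideal.mul_mem_left _ _ (hNj j)
  have hdet := det_mul_mem I' M F hM
  obtain ⟨g', hg'⟩ : ∃ g', g' = M.det * Δ := ⟨_, rfl⟩
  refine ⟨Ideal.Quotient.mk _ g', ?_, ?_⟩
  · -- strictly standard
    let MP₂ : Smoothing.MarkedPresentation R
        (MvPolynomial (Fin N) R ⧸ Ideal.span (Set.range (Fin.append G F))) :=
      { n := N, m := c + m, c := c, hcn := hcN, hcm := Nat.le_add_right c m, rel := Fin.append G F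
        hom := Ideal.Quotient.mkₐ R _, surj := Ideal.Quotient.mkₐ_surjective R _
        ker_eq := by rw [mkₐ_ker'] }
    have hrelL : ∀ j : Fin c, MP₂.rel (Fin.castLE MP₂.hcm j) = G j := fun j =>
      Fin.append_left G F j
    have hminor : Smoothing.jacobianMinor MP₂.rel (Fin.castLE MP₂.hcm) cols₀ = Δ := by
      rw [hΔdef]
      unfold Smoothing.jacobianMinor
      congr 1
      refine Matrix.ext fun j k => ?_
      simp only [Matrix.of_apply]
      rw [hrelL]
    refine ⟨MP₂, ?_, ?_⟩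
    · have h1 : Ideal.Quotient.mk _ g' = Ideal.Quotient.mk _ M.det *
          MP₂.hom (Smoothing.jacobianMinor MP₂.rel (Fin.castLE MP₂.hcm) cols₀) := by
        rw [hminor, hg', map_mul]
        rfl
      rw [h1]
      exact Ideal.mul_mem_left _ _ (Ideal.subset_span ⟨cols₀, rfl⟩)
    · intro a' ha' j hj
      have hdiff : a' - g' ∈ Ideal.span (Set.range MP₂.rel) := by
        have h1 : Ideal.Quotient.mk (Ideal.span (Set.range (Fin.append G F))) a' =
            Ideal.Quotient.mk _ g' := ha'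
        exact Ideal.Quotient.eq.mp h1
      have hrange : MP₂.rel '' {j' : Fin MP₂.m | (j' : ℕ) < MP₂.c} = Set.range G := by
        rw [Helper27.StdElem.image_lt_eq_range MP₂.hcm MP₂.rel]
        congr 1
        funext i
        exact hrelL i
      rw [hrange]
      have h1 : a' * MP₂.rel j = (a' - g') * MP₂.rel j + g' * MP₂.rel j := by ring
      rw [h1]
      refine Ideal.add_mem _ (Ideal.mem_sup_right ?_) (Ideal.mem_sup_left ?_)
      · rw [pow_two]
        exact Ideal.mul_mem_mul hdiff (Ideal.subset_span ⟨j, rfl⟩)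
      · induction j using Fin.addCases with
        | left j' =>
          exfalso
          have h2 : (c : ℕ) ≤ (j' : ℕ) := hj
          exact absurd j'.2 (not_lt.mpr h2)
        | right l =>
          have h2 : MP₂.rel (Fin.natAdd c l) = F l := Fin.append_right G F l
          rw [h2, hg', ← hI']
          have h3 : M.det * Δ * F l = Δ * (M.det * F l) := by ring
          rw [h3]
          exact Ideal.mul_mem_left _ _ (hdet l)
  · -- not in 𝔮
    intro hmem
    let 𝔮' := 𝔮.comap (Ideal.Quotient.mk (Ideal.span (Set.range (Fin.append G F))))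
    have hprime : 𝔮'.IsPrime := Ideal.comap_isPrime _ _
    have hπ' : (C π : MvPolynomial (Fin N) R) ∈ 𝔮' := hπ𝔮
    have hr' : (C r : MvPolynomial (Fin N) R) ∉ 𝔮' := hr𝔮
    have hspan : Ideal.span {(C π : MvPolynomial (Fin N) R)} ≤ 𝔮' := by
      rw [Ideal.span_singleton_le_iff_mem]; exact hπ'
    have hΔ' : Δ ∉ 𝔮' := by
      intro h1
      have h2 : (1 : MvPolynomial (Fin N) R) ∈ 𝔮' := by
        have h3 := 𝔮'.sub_mem h1 (hspan hΔ)
        simpa using h3
      exact hprime.ne_top ((Ideal.eq_top_iff_one _).mpr h2)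
    have hh' : h ∉ 𝔮' := by
      rw [hh]
      intro h1
      rcases hprime.mem_or_mem h1 with h2 | h2
      · exact hΔ' (hprime.mem_of_pow_mem _ h2)
      · rw [C_pow] at h2
        exact hr' (hprime.mem_of_pow_mem _ h2)
    have hdetM : M.det - (Matrix.diagonal fun _ : Fin m => h).det ∈
        Ideal.span {(C π : MvPolynomial (Fin N) R)} := by
      refine det_sub_det_mem _ _ _ fun i j => ?_
      simp only [M, Matrix.of_apply, Matrix.diagonal_apply]
      by_cases hij : i = j
      · simp only [hij, if_true]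
        have : h * (1 - C π * e j j) - h = (- h * e j j) * C π := by ring
        rw [this]
        exact Ideal.mul_mem_left _ _ (Ideal.subset_span rfl)
      · simp only [hij, if_false]
        have : h * (0 - C π * e i j) - 0 = (- h * e i j) * C π := by ring
        rw [this]
        exact Ideal.mul_mem_left _ _ (Ideal.subset_span rfl)
    rw [Matrix.det_diagonal, Finset.prod_const] at hdetM
    have hdetM' : M.det ∉ 𝔮' := by
      intro h1
      have h2 := 𝔮'.sub_mem h1 (hspan hdetM)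
      rw [sub_sub_cancel] at h2
      exact hh' (hprime.mem_of_pow_mem _ h2)
    have h3 : g' ∈ 𝔮' := hmem
    rw [hg'] at h3
    rcases hprime.mem_or_mem h3 with h4 | h4
    · exact hdetM' h4
    · exact hΔ' h4

end Helper27.LiftLem
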