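import Mathlib
import Groth.Prelude.Def_Smoothing
import Groth.Agent.Lib.Helper27.StdElemB
import Groth.Agent.Lib.Helper27.LiftLemB

set_option autoImplicit false
universe u

namespace Helper27.LiftLem

open MvPolynomial

theorem range_append {α : Type*} {a b : ℕ} (u : Fin a → α) (v : Fin b → α) :
    Set.range (Fin.append u v) = Set.range u ∪ Set.range v := by
  ext x
  constructor
  · rintro ⟨i, rfl⟩
    induction i using Fin.addCases with
    | left i => rw [Fin.append_left]; exact Or.inl ⟨i, rfl⟩
    | right i => rw [Fin.append_right]; exact Or.inr ⟨i, rfl⟩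
  · rintro (⟨i, rfl⟩ | ⟨i, rfl⟩)
    · exact ⟨Fin.castAdd b i, Fin.append_left u v i⟩
    · exact ⟨Fin.natAdd a i, Fin.append_right u v i⟩

set_option maxHeartbeats 1000000 in
theorem std_pow {R : Type u} [CommRing R] {N m c : ℕ} (hcN : c ≤ N) (hcm : c ≤ m)
    (G : Fin c → MvPolynomial (Fin N) R) (F : Fin m → MvPolynomial (Fin N) R) (π : R)
    (hF1 : ∀ j : Fin c, F (Fin.castLE hcm j) = C (π ^ 3) * G j)
    (hF3 : ∀ j : Fin m, c ≤ (j : ℕ) → C π * F j ∈
      Ideal.span (Set.range fun j' : Fin c => F (Fin.castLE hcm j')) ⊔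
        Ideal.span (Set.range F) ^ 2)
    (K : ℕ) (hK : Fin c → 2 ≤ K)
    (hmin : algebraMap R (MvPolynomial (Fin N) R ⧸ Ideal.span (Set.range (Fin.append G F)))
        (π ^ K) ∈ Ideal.span (Set.range fun cols : Fin c → Fin N =>
          Ideal.Quotient.mk (Ideal.span (Set.range (Fin.append G F)))
            (Smoothing.jacobianMinor F (Fin.castLE hcm) cols))) :
    Smoothing.IsStrictlyStandard R
      (MvPolynomial (Fin N) R ⧸ Ideal.span (Set.range (Fin.append G F)))
      (algebraMap R _ (π ^ (K + 1))) := by
  classical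
  have hrange : Set.range (Fin.append F G) = Set.range (Fin.append G F) := by
    rw [range_append, range_append, Set.union_comm]
  let MP₁ : Smoothing.MarkedPresentation R
      (MvPolynomial (Fin N) R ⧸ Ideal.span (Set.range (Fin.append G F))) :=
    { n := N, m := m + c, c := c, hcn := hcN, hcm := Nat.le_add_left c m, rel := Fin.append F G
      hom := Ideal.Quotient.mkₐ R _, surj := Ideal.Quotient.mkₐ_surjective R _
      ker_eq := by rw [mkₐ_ker', hrange] }
  have hcast : ∀ j : Fin c, Fin.castLE MP₁.hcm j = Fin.castAdd c (Fin.castLE hcm j) := fun j =>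
    Fin.ext rfl
  have hrelL : ∀ j : Fin c, MP₁.rel (Fin.castLE MP₁.hcm j) = F (Fin.castLE hcm j) := fun j => by
    rw [hcast]
    exact Fin.append_left F G _
  have hminor : ∀ cols, Smoothing.jacobianMinor MP₁.rel (Fin.castLE MP₁.hcm) cols =
      Smoothing.jacobianMinor F (Fin.castLE hcm) cols := by
    intro cols
    unfold Smoothing.jacobianMinor
    congr 1
    refine Matrix.ext fun j k => ?_
    simp only [Matrix.of_apply]
    rw [hrelL]
  refine ⟨MP₁, ?_, ?_⟩
  · have h1 : algebraMap R (MvPolynomial (Fin N) R ⧸ Ideal.span (Set.range (Fin.append G F)))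
        (π ^ (K + 1)) = algebraMap R _ π * algebraMap R _ (π ^ K) := by
      rw [← map_mul]; congr 1; ring
    rw [h1]
    refine Ideal.mul_mem_left _ _ ?_
    have hset : (Set.range fun cols : Fin MP₁.c → Fin MP₁.n =>
        MP₁.hom (Smoothing.jacobianMinor MP₁.rel (Fin.castLE MP₁.hcm) cols)) =
        Set.range fun cols : Fin c → Fin N =>
          Ideal.Quotient.mk (Ideal.span (Set.range (Fin.append G F)))
            (Smoothing.jacobianMinor F (Fin.castLE hcm) cols) := by
      congr 1
      funext cols
      rw [hminor]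
      rfl
    rw [hset]
    exact hmin
  · intro a' ha' j hj
    have hdiff : a' - C (π ^ (K + 1)) ∈ Ideal.span (Set.range MP₁.rel) := by
      have h1 : Ideal.Quotient.mk (Ideal.span (Set.range (Fin.append G F))) a' =
          Ideal.Quotient.mk _ (C (π ^ (K + 1))) := ha'
      have h2 := Ideal.Quotient.eq.mp h1
      show _ ∈ Ideal.span (Set.range (Fin.append F G))
      rw [hrange]
      exact h2
    have hlead : MP₁.rel '' {j' : Fin MP₁.m | (j' : ℕ) < MP₁.c} =
        Set.range fun j' : Fin c => F (Fin.castLE hcm j') := by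
      rw [Helper27.StdElem.image_lt_eq_range MP₁.hcm MP₁.rel]
      congr 1
      funext i
      exact hrelL i
    rw [hlead]
    have h1 : a' * MP₁.rel j = (a' - C (π ^ (K + 1))) * MP₁.rel j +
        C (π ^ (K + 1)) * MP₁.rel j := by ring
    rw [h1]
    refine Ideal.add_mem _ (Ideal.mem_sup_right ?_) ?_
    · rw [pow_two]
      exact Ideal.mul_mem_mul hdiff (Ideal.subset_span ⟨j, rfl⟩)
    · induction j using Fin.addCases with
      | left j₀ =>
        have h2 : MP₁.rel (Fin.castAdd c j₀) = F j₀ := Fin.append_left F G j₀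
        rw [h2]
        have h3 : (c : ℕ) ≤ (j₀ : ℕ) := hj
        have h4 := hF3 j₀ h3
        have h5 : C (π ^ (K + 1)) * F j₀ = C (π ^ K) * (C π * F j₀) := by
          rw [pow_succ, C_mul]; ring
        rw [h5]
        have hle : Ideal.span (Set.range fun j' : Fin c => F (Fin.castLE hcm j')) ⊔
            Ideal.span (Set.range F) ^ 2 ≤
            Ideal.span (Set.range fun j' : Fin c => F (Fin.castLE hcm j')) ⊔
            Ideal.span (Set.range MP₁.rel) ^ 2 := by
          refine sup_le_sup_left (Ideal.pow_right_mono (Ideal.span_mono ?_) 2) _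
          rintro _ ⟨l, rfl⟩
          exact ⟨Fin.castAdd c l, Fin.append_left F G l⟩
        exact Ideal.mul_mem_left _ _ (hle h4)
      | right j₁ =>
        have h2 : MP₁.rel (Fin.natAdd m j₁) = G j₁ := Fin.append_right F G j₁
        rw [h2]
        have hK' := hK j₁
        have h5 : C (π ^ (K + 1)) * G j₁ = C (π ^ (K - 2)) * F (Fin.castLE hcm j₁) := by
          rw [hF1, ← mul_assoc, ← C_mul]
          congr 2
          rw [← pow_add]
          congr 1
          omega
        rw [h5]
        exact Ideal.mem_sup_left (Ideal.mul_mem_left _ _ (Ideal.subset_span ⟨j₁, rfl⟩))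

end Helper27.LiftLem
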