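import Mathlib

set_option autoImplicit false
universe u v w

namespace Helper27.StdElem

open Matrix

theorem exists_cols_det_ne_zero {K : Type*} [Field K] {n c : ℕ}
    (J : Matrix (Fin n) (Fin c) K) (T : Matrix (Fin c) (Fin n) K) (h : T * J = 1) :
    ∃ cols : Fin c ↪ Fin n, (J.submatrix cols id).det ≠ 0 := by
  classical
  have hspan : Submodule.span K (Set.range fun k => J k) = ⊤ := by
    rw [eq_top_iff]
    intro x _
    have hx : x = (x ᵥ* T) ᵥ* J := by rw [Matrix.vecMul_vecMul, h, Matrix.vecMul_one]
    rw [hx, Matrix.vecMul_eq_sum]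
    exact Submodule.sum_mem _ fun k _ => Submodule.smul_mem _ _ (Submodule.subset_span ⟨k, rfl⟩)
  obtain ⟨ι', a, ha, hsp, hli⟩ := exists_linearIndependent' K (fun k => J k)
  rw [hspan] at hsp
  let bι : Module.Basis ι' K (Fin c → K) := Module.Basis.mk hli (by rw [hsp])
  have : Finite ι' := Finite.of_injective a ha
  have : Fintype ι' := Fintype.ofFinite ι'
  have hcard : Fintype.card ι' = c := by
    rw [← Module.finrank_eq_card_basis bι, Module.finrank_fin_fun]
  let e : Fin c ≃ ι' := (Fintype.equivFinOfCardEq hcard).symm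
  refine ⟨⟨a ∘ e, ha.comp e.injective⟩, ?_⟩
  have hli2 : LinearIndependent K (J.submatrix (a ∘ e) id).row := by
    have := hli.comp e e.injective
    exact this
  exact (Matrix.isUnit_iff_isUnit_det _).mp (Matrix.linearIndependent_rows_iff_isUnit.mp hli2)
    |>.ne_zero

section LA

variable {A : Type u} [CommRing A] (q : Ideal A) [q.IsPrime]
  {M₀ N₀ : Type*} [AddCommGroup M₀] [AddCommGroup N₀] [Module A M₀] [Module A N₀]

theorem exists_smul_mem_of_mk_mem_span {κ : Type*} (w : κ → M₀) (x : M₀)
    (hx : LocalizedModule.mkLinearMap q.primeCompl M₀ x ∈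
      Submodule.span (Localization.AtPrime q)
        (Set.range fun j => LocalizedModule.mkLinearMap q.primeCompl M₀ (w j))) :
    ∃ s, s ∉ q ∧ s • x ∈ Submodule.span A (Set.range w) := by
  have h1 : Submodule.span (Localization.AtPrime q)
      (Set.range fun j => LocalizedModule.mkLinearMap q.primeCompl M₀ (w j)) =
      (Submodule.span A (Set.range w)).localized' (Localization.AtPrime q) q.primeCompl
        (LocalizedModule.mkLinearMap q.primeCompl M₀) := by
    rw [Submodule.localized'_span, ← Set.range_comp]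
    rfl
  rw [h1, Submodule.mem_localized'] at hx
  obtain ⟨m', hm', s, hs⟩ := hx
  rw [IsLocalizedModule.mk'_eq_iff] at hs
  have hs' : LocalizedModule.mkLinearMap q.primeCompl M₀ ((s : A) • x) =
      LocalizedModule.mkLinearMap q.primeCompl M₀ m' := by
    rw [map_smul]; exact hs.symm
  obtain ⟨t, ht⟩ := (IsLocalizedModule.eq_iff_exists q.primeCompl
    (LocalizedModule.mkLinearMap q.primeCompl M₀)).mp hs'
  refine ⟨(t : A) * (s : A), (t * s).2, ?_⟩
  have : ((t : A) * (s : A)) • x = (t : A) • m' := by
    rw [mul_smul]; exact ht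
  rw [this]
  exact Submodule.smul_mem _ _ hm'

theorem exists_rows_cols {n m : ℕ} (bN : Module.Basis (Fin n) A N₀) (d₀ : M₀ →ₗ[A] N₀)
    (v : Fin m → M₀) (hv : Submodule.span A (Set.range v) = ⊤)
    (ρ : LocalizedModule q.primeCompl N₀ →ₗ[Localization.AtPrime q]
      LocalizedModule q.primeCompl M₀)
    (hρ : ρ ∘ₗ LocalizedModule.map q.primeCompl d₀ = LinearMap.id) :
    ∃ (c : ℕ) (rows : Fin c ↪ Fin m) (cols : Fin c ↪ Fin n),
      Matrix.det (Matrix.of fun j k : Fin c => bN.repr (d₀ (v (rows j))) (cols k)) ∉ q ∧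
      ∃ s, s ∉ q ∧ ∀ ℓ, s • v ℓ ∈ Submodule.span A (Set.range fun j => v (rows j)) := by
  classical
  let S := q.primeCompl
  let Aq := Localization.AtPrime q
  let fM := LocalizedModule.mkLinearMap S M₀
  let fN := LocalizedModule.mkLinearMap S N₀
  let dq := LocalizedModule.map S d₀
  have hfin : Module.Finite A M₀ := ⟨⟨Finset.univ.image v, by simpa using hv⟩⟩
  let bNq : Module.Basis (Fin n) Aq (LocalizedModule S N₀) := bN.ofIsLocalizedModule Aq S fN
  have hfreeN : Module.Free Aq (LocalizedModule S N₀) := Module.Free.of_basis bNq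
  have hproj : Module.Projective Aq (LocalizedModule S M₀) :=
    Module.Projective.of_split dq ρ hρ
  have hfp : Module.FinitePresentation Aq (LocalizedModule S M₀) :=
    Module.finitePresentation_of_projective _ _
  have hspan : Submodule.span Aq (Set.range fun ℓ => fM (v ℓ)) = ⊤ := by
    have := span_eq_top_of_isLocalizedModule Aq S fM hv
    rwa [← Set.range_comp] at this
  obtain ⟨κ', a, b, hb⟩ := Module.exists_basis_of_span_of_flat (fun ℓ => fM (v ℓ)) hspan
  have : Finite κ' := Module.Finite.finite_basis b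
  have : Fintype κ' := Fintype.ofFinite κ'
  let c := Fintype.card κ'
  let e : Fin c ≃ κ' := (Fintype.equivFin κ').symm
  let b' : Module.Basis (Fin c) Aq (LocalizedModule S M₀) := b.reindex e.symm
  have hb' : ∀ j, b' j = fM (v (a (e j))) := by intro j; simp [b', hb]
  have hinj : Function.Injective (a ∘ e) := by
    intro j j' h
    have : b' j = b' j' := by
      rw [hb', hb']
      exact congrArg (fun i => fM (v i)) h
    exact b'.injective this
  let rows : Fin c ↪ Fin m := ⟨a ∘ e, hinj⟩
  let Jq : Matrix (Fin n) (Fin c) Aq := LinearMap.toMatrix b' bNq dq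
  let T : Matrix (Fin c) (Fin n) Aq := LinearMap.toMatrix bNq b' ρ
  have hTJ : T * Jq = 1 := by
    rw [← LinearMap.toMatrix_comp, hρ, LinearMap.toMatrix_id]
  have hJq : ∀ k j, Jq k j = algebraMap A Aq (bN.repr (d₀ (v (rows j))) k) := by
    intro k j
    show (LinearMap.toMatrix b' bNq dq) k j = _
    rw [LinearMap.toMatrix_apply, hb']
    have : dq (fM (v (a (e j)))) = fN (d₀ (v (rows j))) := by
      simp [dq, fM, fN, LocalizedModule.mkLinearMap_apply, rows]
    rw [this, Module.Basis.ofIsLocalizedModule_repr_apply]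
  let res := IsLocalRing.residue Aq
  have hres : T.map res * Jq.map res = 1 := by
    rw [← Matrix.map_mul, hTJ, Matrix.map_one _ (map_zero _) (map_one _)]
  obtain ⟨cols, hcols⟩ := exists_cols_det_ne_zero _ _ hres
  refine ⟨c, rows, cols, ?_, ?_⟩
  · intro hmem
    apply hcols
    have h1 : (Jq.map res).submatrix cols id = (res.comp (algebraMap A Aq)).mapMatrix
        ((Matrix.of fun j k : Fin c => bN.repr (d₀ (v (rows j))) (cols k))ᵀ) := by
      ext k j
      simp [hJq]
    rw [h1, ← RingHom.map_det, Matrix.det_transpose, RingHom.comp_apply]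
    exact (IsLocalRing.residue_eq_zero_iff _).mpr
      ((IsLocalization.AtPrime.to_map_mem_maximal_iff Aq q _).mpr hmem)
  · have hs : ∀ ℓ, ∃ s, s ∉ q ∧
        s • v ℓ ∈ Submodule.span A (Set.range fun j => v (rows j)) := by
      intro ℓ
      apply exists_smul_mem_of_mk_mem_span q (fun j => v (rows j)) (v ℓ)
      have : Submodule.span Aq (Set.range fun j => fM (v (rows j))) = ⊤ := by
        have h2 := b'.span_eq
        have h3 : Set.range b' = Set.range fun j => fM (v (rows j)) := by
          congr 1
          ext j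
          exact hb' j
        rwa [h3] at h2
      rw [this]; trivial
    choose s hs1 hs2 using hs
    refine ⟨∏ ℓ, s ℓ, ?_, fun ℓ => ?_⟩
    · intro h
      obtain ⟨ℓ, -, hℓ⟩ := (Ideal.IsPrime.prod_mem_iff).mp h
      exact hs1 ℓ hℓ
    · rw [← Finset.mul_prod_erase Finset.univ s (Finset.mem_univ ℓ), mul_comm, mul_smul]
      exact Submodule.smul_mem _ _ (hs2 ℓ)

end LA

end Helper27.StdElem
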