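import Mathlib
import Groth.Prelude.Def_Smoothing
import Groth.Agent.Lib.Helper27.StdElemB
import Groth.Agent.Lib.Helper27.StdElemC

set_option autoImplicit false
universe u v w

namespace Helper27.StdElem

open Algebra MvPolynomial

section Retraction

variable {R : Type u} {A : Type u} [CommRing R] [CommRing A] [Algebra R A]
variable {ι : Type w} (P : Algebra.Generators R A ι)

theorem exists_retraction_of_formallySmooth (S : Submonoid A)
    [Algebra.FormallySmooth R (Localization S)] :
    ∃ ρ : LocalizedModule S P.toExtension.CotangentSpace →ₗ[Localization S]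
        LocalizedModule S P.toExtension.Cotangent,
      ρ ∘ₗ LocalizedModule.map S P.toExtension.cotangentComplex = LinearMap.id := by
  have hex : Function.Exact (LocalizedModule.map S P.toExtension.cotangentComplex)
      (LocalizedModule.map S P.toExtension.toKaehler) :=
    LocalizedModule.map_exact S _ _ P.toExtension.exact_cotangentComplex_toKaehler
  have hsurj : Function.Surjective (LocalizedModule.map S P.toExtension.toKaehler) :=
    LocalizedModule.map_surjective S _ P.toExtension.toKaehler_surjective
  have hproj : Module.Projective (Localization S) (LocalizedModule S Ω[A⁄R]) := by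
    have e := (IsLocalizedModule.iso S
      (KaehlerDifferential.map R R A (Localization S))).extendScalarsOfIsLocalization
        S (Localization S)
    exact Module.Projective.of_equiv e.symm
  have hsub : Subsingleton (LocalizedModule S (Algebra.H1Cotangent R A)) := by
    have e := IsLocalizedModule.iso S (Algebra.H1Cotangent.map R R A (Localization S))
    rw [e.subsingleton_congr]
    infer_instance
  have hinj : Function.Injective (LocalizedModule.map S P.toExtension.cotangentComplex) := by
    rw [injective_iff_map_eq_zero]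
    intro x hx
    induction x using LocalizedModule.induction_on with
    | h m s =>
      rw [LocalizedModule.map_mk, IsLocalizedModule.mk_eq_mk',
        IsLocalizedModule.mk'_eq_zero'] at hx
      obtain ⟨t, ht⟩ := hx
      have hmem : (t : A) • m ∈ LinearMap.ker P.toExtension.cotangentComplex := by
        rw [LinearMap.mem_ker, map_smul]; exact ht
      let y : P.toExtension.H1Cotangent := ⟨(t : A) • m, hmem⟩
      obtain ⟨r, hr, hry⟩ := (LocalizedModule.subsingleton_iff.mp hsub) (P.equivH1Cotangent y)
      rw [← map_smul, LinearEquiv.map_eq_zero_iff] at hry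
      have h2 : r • ((t : A) • m) = 0 := congrArg Subtype.val hry
      rw [IsLocalizedModule.mk_eq_mk', IsLocalizedModule.mk'_eq_zero']
      exact ⟨⟨r, hr⟩ * t, by rw [← h2, mul_smul]; rfl⟩
  have htfae := Function.Exact.split_tfae' (R := Localization S)
    (M := LocalizedModule S P.toExtension.Cotangent)
    (N := LocalizedModule S P.toExtension.CotangentSpace)
    (P := LocalizedModule S Ω[A⁄R])
    (f := LocalizedModule.map S P.toExtension.cotangentComplex)
    (g := LocalizedModule.map S P.toExtension.toKaehler) hex
  exact ((htfae.out 0 1 rfl rfl).mp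
    ⟨hinj, Module.projective_lifting_property
      (LocalizedModule.map S P.toExtension.toKaehler) LinearMap.id hsurj⟩).2

end Retraction

end Helper27.StdElem

namespace Helper27.StdElem

open Algebra MvPolynomial

section Main

variable {R : Type u} {A : Type u} [CommRing R] [CommRing A] [Algebra R A]
variable {n m : ℕ} (P : Algebra.Generators R A (Fin n))
variable (f : Fin m → P.Ring) (hker : Ideal.span (Set.range f) = P.toExtension.ker)

theorem exists_rows_cols_of_isSmoothAt (q : Ideal A) [q.IsPrime] [Algebra.IsSmoothAt R q] :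
    ∃ (c : ℕ) (rows : Fin c ↪ Fin m) (cols : Fin c ↪ Fin n) (s : A), s ∉ q ∧
      algebraMap P.Ring A (Smoothing.jacobianMinor f rows cols) ∉ q ∧
      ∀ ℓ, s • (Extension.Cotangent.mk ⟨f ℓ, rel_mem_ker P f hker ℓ⟩ :
        P.toExtension.Cotangent) ∈ Submodule.span A (Set.range fun j =>
          (Extension.Cotangent.mk ⟨f (rows j), rel_mem_ker P f hker (rows j)⟩ :
            P.toExtension.Cotangent)) := by
  set rb : Fin m → P.toExtension.Cotangent := fun ℓ =>
    Extension.Cotangent.mk ⟨f ℓ, rel_mem_ker P f hker ℓ⟩ with hrb
  have htop : Submodule.span A (Set.range rb) = ⊤ :=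
    Extension.Cotangent.span_eq_top_of_span_eq_ker (P := P.toExtension) f hker
  obtain ⟨ρ, hρ⟩ := exists_retraction_of_formallySmooth (R := R) P q.primeCompl
  obtain ⟨c, rows, cols, hdet, s, hs, hspan⟩ :=
    exists_rows_cols q P.cotangentSpaceBasis P.toExtension.cotangentComplex rb htop ρ hρ
  refine ⟨c, rows, cols, s, hs, ?_, hspan⟩
  rw [algebraMap_jacobianMinor]
  convert hdet using 3
  funext j k
  simp only [Matrix.of_apply]
  exact (equivFun_cotangentComplex_mk P ⟨f (rows j), rel_mem_ker P f hker (rows j)⟩ (cols k)).symm

end Main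

theorem exists_standard_element_of_isSmoothAt {R A : Type u} [CommRing R] [CommRing A]
    [Algebra R A] {n m : ℕ}
    (f : Fin m → MvPolynomial (Fin n) R) (φ : MvPolynomial (Fin n) R →ₐ[R] A)
    (hφ : Function.Surjective φ)
    (hker : RingHom.ker φ.toRingHom = Ideal.span (Set.range f)) (q : Ideal A) [q.IsPrime]
    [Algebra.IsSmoothAt R q] :
    ∃ a : A, a ∉ q ∧ ∃ (c : ℕ) (rows : Fin c ↪ Fin m) (cols : Fin c ↪ Fin n) (a' : A),
      a = a' * φ (Smoothing.jacobianMinor f rows cols) ∧
      ∀ a₁ : MvPolynomial (Fin n) R, φ a₁ = a → ∀ ℓ : Fin m,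
        a₁ * f ℓ ∈ Ideal.span (Set.range (f ∘ rows)) ⊔ Ideal.span (Set.range f) ^ 2 := by
  let P := Generators.ofAlgHom φ hφ
  have halg : ∀ x, algebraMap P.Ring A x = φ x := ofAlgHom_algebraMap φ hφ
  have hker' : Ideal.span (Set.range f) = P.toExtension.ker := by
    rw [ofAlgHom_ker, hker]
  obtain ⟨c, rows, cols, s, hs, hminor, hspan⟩ := exists_rows_cols_of_isSmoothAt P f hker' q
  rw [halg] at hminor
  refine ⟨s * φ (Smoothing.jacobianMinor f rows cols), ?_, c, rows, cols, s, rfl, ?_⟩
  · intro h
    rcases (Ideal.IsPrime.mem_or_mem ‹_› h) with h | h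
    · exact hs h
    · exact hminor h
  · intro a₁ ha₁ ℓ
    have h1 : (algebraMap P.toExtension.Ring A a₁) •
        (Extension.Cotangent.mk ⟨f ℓ, rel_mem_ker P f hker' ℓ⟩ : P.toExtension.Cotangent) ∈
        Submodule.span A (Set.range fun j =>
          (Extension.Cotangent.mk ⟨f (rows j), rel_mem_ker P f hker' (rows j)⟩ :
            P.toExtension.Cotangent)) := by
      have h3 : algebraMap P.toExtension.Ring A a₁ =
          φ (Smoothing.jacobianMinor f rows cols) * s := by
        rw [mul_comm, ← ha₁]; exact halg a₁
      rw [h3, mul_smul]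
      exact Submodule.smul_mem _ _ (hspan ℓ)
    have h2 := (smul_mk_mem_span_iff P.toExtension (fun j => f (rows j))
      (fun j => rel_mem_ker P f hker' _) (f ℓ) (rel_mem_ker P f hker' ℓ) a₁).mp h1
    rw [← hker'] at h2
    exact h2

end Helper27.StdElem
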