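import Mathlib
import Groth.Prelude.Def_Smoothing
import Groth.Agent.Lib.Helper27.StdElemD

set_option autoImplicit false
universe u v w

namespace Helper27.StdElem

open Algebra MvPolynomial

theorem exists_perm_extend {c m : ℕ} (h : c ≤ m) (g : Fin c ↪ Fin m) :
    ∃ σ : Equiv.Perm (Fin m), ∀ j, σ (Fin.castLE h j) = g j := by
  classical
  let e : {x // x ∈ Set.range (Fin.castLE h)} ≃ {x // x ∈ Set.range g} :=
    (Equiv.ofInjective (Fin.castLE h) (Fin.castLE_injective h)).symm.trans
      (Equiv.ofInjective g g.injective)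
  refine ⟨e.extendSubtype, fun j => ?_⟩
  rw [Equiv.extendSubtype_apply_of_mem e _ ⟨j, rfl⟩]
  simp only [e, Equiv.trans_apply]
  have : (Equiv.ofInjective (Fin.castLE h) (Fin.castLE_injective h)).symm
      ⟨Fin.castLE h j, ⟨j, rfl⟩⟩ = j := by
    rw [Equiv.symm_apply_eq]; rfl
  rw [this]; rfl

section Renumber

variable {R A : Type u} [CommRing R] [CommRing A] [Algebra R A] {n m c : ℕ}

theorem isElementaryStandard_of_rows_cols
    (f : Fin m → MvPolynomial (Fin n) R) (φ : MvPolynomial (Fin n) R →ₐ[R] A)
    (hφ : Function.Surjective φ)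
    (hker : RingHom.ker φ.toRingHom = Ideal.span (Set.range f))
    (rows : Fin c ↪ Fin m) (cols : Fin c ↪ Fin n) (a a' : A)
    (ha : a = a' * φ (Smoothing.jacobianMinor f rows cols))
    (hkill : ∀ a₁ : MvPolynomial (Fin n) R, φ a₁ = a → ∀ ℓ : Fin m,
        a₁ * f ℓ ∈ Ideal.span (Set.range (f ∘ rows)) ⊔ Ideal.span (Set.range f) ^ 2) :
    Smoothing.IsElementaryStandard R A a := by
  have hcm : c ≤ m := by simpa using Fintype.card_le_of_embedding rows
  have hcn : c ≤ n := by simpa using Fintype.card_le_of_embedding cols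
  obtain ⟨σ, hσ⟩ := exists_perm_extend hcm rows
  obtain ⟨τ, hτ⟩ := exists_perm_extend hcn cols
  let eτ : MvPolynomial (Fin n) R ≃ₐ[R] MvPolynomial (Fin n) R := renameEquiv R τ
  have heτ : ∀ x, eτ x = rename τ x := fun x => rfl
  have heτs : ∀ x, eτ.symm x = rename τ.symm x := fun x => by
    simp only [eτ, renameEquiv_symm]; rfl
  let rel : Fin m → MvPolynomial (Fin n) R := fun j => eτ.symm (f (σ j))
  have hrange : Set.range rel = eτ.symm '' Set.range f := by
    ext x
    constructor
    · rintro ⟨j, rfl⟩
      exact ⟨f (σ j), ⟨σ j, rfl⟩, rfl⟩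
    · rintro ⟨_, ⟨j, rfl⟩, rfl⟩
      exact ⟨σ.symm j, by simp [rel]⟩
  have hspanrel : Ideal.span (Set.range rel) =
      (Ideal.span (Set.range f)).map eτ.symm := by
    rw [Ideal.map_span, hrange]
  let MP : Smoothing.MarkedPresentation R A :=
    { n := n, m := m, c := c, hcn := hcn, hcm := hcm, rel := rel
      hom := φ.comp eτ.toAlgHom
      surj := hφ.comp eτ.surjective
      ker_eq := by
        rw [hspanrel, ← hker]
        ext x
        rw [RingHom.mem_ker]
        constructor
        · intro hx
          have : eτ x ∈ RingHom.ker φ.toRingHom := hx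
          have h2 := Ideal.mem_map_of_mem eτ.symm this
          simpa using h2
        · intro hx
          rw [Ideal.mem_map_iff_of_surjective _ eτ.symm.surjective] at hx
          obtain ⟨y, hy, rfl⟩ := hx
          show φ (eτ (eτ.symm y)) = 0
          rw [eτ.apply_symm_apply]; exact hy }
  have hminor : Smoothing.jacobianMinor rel (Fin.castLE hcm) (Fin.castLE hcn) =
      eτ.symm (Smoothing.jacobianMinor f rows cols) := by
    unfold Smoothing.jacobianMinor
    rw [AlgEquiv.map_det]
    congr 1
    refine Matrix.ext fun j k => ?_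
    simp only [Matrix.of_apply, rel, hσ, AlgEquiv.mapMatrix_apply, Matrix.map_apply, heτs]
    have := pderiv_rename (R := R) τ.symm.injective (τ (Fin.castLE hcn k)) (f (rows j))
    rw [Equiv.symm_apply_apply, hτ] at this
    exact this
  refine ⟨MP, ⟨a', ?_⟩, ?_⟩
  · rw [ha]
    congr 1
    show φ _ = φ (eτ (Smoothing.jacobianMinor rel (Fin.castLE hcm) (Fin.castLE hcn)))
    rw [hminor, eτ.apply_symm_apply]
  · intro a'' ha'' j _
    have h1 := hkill (eτ a'') ha'' (σ j)
    have h2 := Ideal.mem_map_of_mem eτ.symm h1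
    rw [Ideal.map_sup, Ideal.map_pow, ← hspanrel, Ideal.map_span] at h2
    have h3 : eτ.symm (eτ a'' * f (σ j)) = a'' * rel j := by
      simp [rel]
    rw [h3] at h2
    have h4 : eτ.symm '' Set.range (f ∘ rows) =
        rel '' {j' : Fin m | (j' : ℕ) < c} := by
      rw [image_lt_eq_range hcm rel]
      ext x
      constructor
      · rintro ⟨_, ⟨i, rfl⟩, rfl⟩
        exact ⟨i, by simp [rel, hσ]⟩
      · rintro ⟨i, rfl⟩
        exact ⟨f (rows i), ⟨i, rfl⟩, by simp [rel, hσ]⟩
    rw [h4] at h2
    exact h2

end Renumber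

end Helper27.StdElem

namespace Helper27.StdElem

open Algebra MvPolynomial

section Final

variable {R A : Type u} [CommRing R] [CommRing A] [Algebra R A]

theorem isStrictlyStandard_of_isElementaryStandard (a : A)
    (h : Smoothing.IsElementaryStandard R A a) : Smoothing.IsStrictlyStandard R A a := by
  obtain ⟨MP, ⟨a', ha'⟩, hk⟩ := h
  refine ⟨MP, ?_, hk⟩
  rw [ha']
  exact Ideal.mul_mem_left _ _ (Ideal.subset_span ⟨Fin.castLE MP.hcn, rfl⟩)

theorem exists_presentation [Algebra.FinitePresentation R A] :
    ∃ (n m : ℕ) (f : Fin m → MvPolynomial (Fin n) R) (φ : MvPolynomial (Fin n) R →ₐ[R] A),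
      Function.Surjective φ ∧ RingHom.ker φ.toRingHom = Ideal.span (Set.range f) := by
  obtain ⟨n, φ, hφ, s, hs⟩ := Algebra.FinitePresentation.out (R := R) (A := A)
  refine ⟨n, s.card, fun i => ((s.equivFin.symm i : s) : MvPolynomial (Fin n) R), φ, hφ, ?_⟩
  rw [← hs]
  congr 1
  ext x
  constructor
  · intro hx
    exact ⟨s.equivFin ⟨x, hx⟩, by simp⟩
  · rintro ⟨i, rfl⟩
    exact (s.equivFin.symm i).2

theorem mem_singularIdeal_of_isStrictlyStandard [Algebra.FinitePresentation R A] (a : A)
    (h : Smoothing.IsStrictlyStandard R A a) : a ∈ Smoothing.singularIdeal R A := by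
  have hs := formallySmooth_away_of_isStrictlyStandard a h
  rw [← Algebra.basicOpen_subset_smoothLocus_iff] at hs
  unfold Smoothing.singularIdeal
  rw [PrimeSpectrum.mem_vanishingIdeal]
  intro p hp
  by_contra hap
  exact hp (hs hap)

theorem singularIdeal_le_radical_elementary [Algebra.FinitePresentation R A] :
    Smoothing.singularIdeal R A ≤
      (Ideal.span {a : A | Smoothing.IsElementaryStandard R A a}).radical := by
  intro x hx
  rw [Ideal.radical_eq_sInf, Ideal.mem_sInf]
  rintro q ⟨hle, hq⟩
  unfold Smoothing.singularIdeal at hx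
  rw [PrimeSpectrum.mem_vanishingIdeal] at hx
  by_cases hsm : (⟨q, hq⟩ : PrimeSpectrum A) ∈ Algebra.smoothLocus R A
  · exfalso
    have : Algebra.IsSmoothAt R q := hsm
    obtain ⟨n, m, f, φ, hφ, hker⟩ := exists_presentation (R := R) (A := A)
    obtain ⟨a, haq, c, rows, cols, a', ha, hkill⟩ :=
      exists_standard_element_of_isSmoothAt f φ hφ hker q
    exact haq (hle (Ideal.subset_span
      (isElementaryStandard_of_rows_cols f φ hφ hker rows cols a a' ha hkill)))
  · exact hx ⟨q, hq⟩ hsm

theorem singularIdeal_eq_radical_span_standard [Algebra.FinitePresentation R A] :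
    Smoothing.singularIdeal R A =
        (Ideal.span {a : A | Smoothing.IsStrictlyStandard R A a}).radical ∧
      Smoothing.singularIdeal R A =
        (Ideal.span {a : A | Smoothing.IsElementaryStandard R A a}).radical := by
  have h3 := singularIdeal_le_radical_elementary (R := R) (A := A)
  have hrad : (Smoothing.singularIdeal R A).IsRadical :=
    PrimeSpectrum.isRadical_vanishingIdeal _
  have hEle : Ideal.span {a : A | Smoothing.IsElementaryStandard R A a} ≤
      Ideal.span {a : A | Smoothing.IsStrictlyStandard R A a} :=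
    Ideal.span_mono fun a ha => isStrictlyStandard_of_isElementaryStandard a ha
  have hStr : (Ideal.span {a : A | Smoothing.IsStrictlyStandard R A a}).radical ≤
      Smoothing.singularIdeal R A :=
    hrad.radical_le_iff.mpr (Ideal.span_le.mpr fun a ha =>
      mem_singularIdeal_of_isStrictlyStandard a ha)
  exact ⟨le_antisymm (h3.trans (Ideal.radical_mono hEle)) hStr,
    le_antisymm h3 ((Ideal.radical_mono hEle).trans hStr)⟩

end Final

end Helper27.StdElem
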