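import Mathlib
import Groth.Prelude.Def_Smoothing
import Groth.Agent.Lib.Helper27.StdElemE
import Groth.Agent.Lib.Helper27.LiftLemC

set_option autoImplicit false
universe u

namespace Helper27.LiftProb

open MvPolynomial

theorem kill_of_flat' {R P' : Type*} [CommRing R] [CommRing P'] [Algebra R P'] (I' : Ideal P')
    (Δ : P') (S : Type*) [CommRing S] [Algebra (P' ⧸ I') S] [Algebra R S]
    [IsScalarTower R (P' ⧸ I') S] [IsLocalization.Away (Ideal.Quotient.mk I' Δ) S]
    [Module.Flat R S] (θ ρ : R)
    (hρ : ∀ x : R, θ * x = 0 → ρ * x = 0) (y : P')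
    (hy : algebraMap R P' θ * y ∈ I') :
    ∃ N : ℕ, Δ ^ N * (algebraMap R P' ρ * y) ∈ I' := by
  let ybar : S := algebraMap (P' ⧸ I') S (Ideal.Quotient.mk I' y)
  have hsm : ∀ t : R, t • ybar =
      algebraMap (P' ⧸ I') S (Ideal.Quotient.mk I' (algebraMap R P' t * y)) := by
    intro t
    rw [Algebra.smul_def, IsScalarTower.algebraMap_apply R (P' ⧸ I') S,
      IsScalarTower.algebraMap_apply R P' (P' ⧸ I'), ← map_mul, Ideal.Quotient.algebraMap_eq,
      ← map_mul]
  have h0 : ∑ _i : Unit, θ • ybar = 0 := by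
    rw [Finset.sum_const, Finset.card_univ, Fintype.card_unit, one_smul, hsm,
      Ideal.Quotient.eq_zero_iff_mem.mpr hy, map_zero]
  obtain ⟨κ, a, z, hx, ha⟩ := Module.Flat.isTrivialRelation_of_sum_smul_eq_zero
    (R := R) (M := S) (f := fun _ : Unit => θ) (x := fun _ : Unit => ybar) h0
  have h1 : ρ • ybar = 0 := by
    have hx' : ybar = ∑ j, a () j • z j := hx ()
    rw [hx', Finset.smul_sum]
    refine Finset.sum_eq_zero fun j _ => ?_
    rw [smul_smul]
    have h2 : θ * a () j = 0 := by simpa using ha j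
    rw [hρ _ h2, zero_smul]
  rw [hsm] at h1
  obtain ⟨⟨_, N, rfl⟩, hN⟩ :=
    (IsLocalization.map_eq_zero_iff (Submonoid.powers (Ideal.Quotient.mk I' Δ)) S _).mp h1
  refine ⟨N, ?_⟩
  rw [← Ideal.Quotient.eq_zero_iff_mem, map_mul, map_pow]
  exact hN

theorem isStrictlyStandard_mk {R : Type u} [CommRing R] {N c M : ℕ} (hcN : c ≤ N)
    (lead : Fin c → MvPolynomial (Fin N) R) (tail : Fin M → MvPolynomial (Fin N) R)
    (J : Ideal (MvPolynomial (Fin N) R)) (hJ : J = Ideal.span (Set.range (Fin.append lead tail)))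
    (Γ : MvPolynomial (Fin N) R)
    (hΓ : Γ ∈ Ideal.span (Set.range fun cols : Fin c → Fin N =>
      Matrix.det (Matrix.of fun j k : Fin c => pderiv (cols k) (lead j))))
    (hkill : ∀ i, Γ * tail i ∈ Ideal.span (Set.range lead)) :
    Smoothing.IsStrictlyStandard R (MvPolynomial (Fin N) R ⧸ J) (Ideal.Quotient.mk J Γ) := by
  classical
  let MP : Smoothing.MarkedPresentation R (MvPolynomial (Fin N) R ⧸ J) :=
    { n := N, m := c + M, c := c, hcn := hcN, hcm := Nat.le_add_right c M
      rel := Fin.append lead tail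
      hom := Ideal.Quotient.mkₐ R J, surj := Ideal.Quotient.mkₐ_surjective R J
      ker_eq := by rw [Helper27.LiftLem.mkₐ_ker', hJ] }
  have hrelL : ∀ j : Fin c, MP.rel (Fin.castLE MP.hcm j) = lead j := fun j =>
    Fin.append_left lead tail j
  have hminor : ∀ cols : Fin c → Fin N,
      Smoothing.jacobianMinor MP.rel (Fin.castLE MP.hcm) cols =
        Matrix.det (Matrix.of fun j k : Fin c => pderiv (cols k) (lead j)) := by
    intro cols
    unfold Smoothing.jacobianMinor
    congr 1
    refine Matrix.ext fun j k => ?_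
    simp only [Matrix.of_apply]
    rw [hrelL]
  refine ⟨MP, ?_, ?_⟩
  · have h1 := Ideal.mem_map_of_mem (Ideal.Quotient.mk J) hΓ
    rw [Ideal.map_span, ← Set.range_comp] at h1
    have hset : (Set.range fun cols : Fin MP.c → Fin MP.n =>
        MP.hom (Smoothing.jacobianMinor MP.rel (Fin.castLE MP.hcm) cols)) =
        Set.range ((Ideal.Quotient.mk J) ∘ fun cols : Fin c → Fin N =>
          Matrix.det (Matrix.of fun j k : Fin c => pderiv (cols k) (lead j))) := by
      congr 1
      funext cols
      rw [hminor]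
      rfl
    rw [hset]
    exact h1
  · intro a' ha' j hj
    have hdiff : a' - Γ ∈ Ideal.span (Set.range MP.rel) := by
      have h1 : Ideal.Quotient.mk J a' = Ideal.Quotient.mk J Γ := ha'
      have h2 := Ideal.Quotient.eq.mp h1
      rw [hJ] at h2
      exact h2
    have hrange : MP.rel '' {j' : Fin MP.m | (j' : ℕ) < MP.c} = Set.range lead := by
      rw [Helper27.StdElem.image_lt_eq_range MP.hcm MP.rel]
      congr 1
      funext i
      exact hrelL i
    rw [hrange]
    have h1 : a' * MP.rel j = (a' - Γ) * MP.rel j + Γ * MP.rel j := by ring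
    rw [h1]
    refine Ideal.add_mem _ (Ideal.mem_sup_right ?_) (Ideal.mem_sup_left ?_)
    · rw [pow_two]
      exact Ideal.mul_mem_mul hdiff (Ideal.subset_span ⟨j, rfl⟩)
    · induction j using Fin.addCases with
      | left j' =>
        exfalso
        have h2 : (c : ℕ) ≤ (j' : ℕ) := hj
        exact absurd j'.2 (not_lt.mpr h2)
      | right l =>
        have h2 : MP.rel (Fin.natAdd c l) = tail l := Fin.append_right lead tail l
        rw [h2]
        exact hkill l

theorem flat_away_of_minor {R : Type u} [CommRing R] {N c : ℕ} (hcN : c ≤ N)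
    (lead : Fin c → MvPolynomial (Fin N) R) (G : MvPolynomial (Fin N) R)
    (hG : G ∈ Ideal.span (Set.range fun cols : Fin c → Fin N =>
      Matrix.det (Matrix.of fun j k : Fin c => pderiv (cols k) (lead j)))) :
    Module.Flat R (Localization.Away (Ideal.Quotient.mk (Ideal.span (Set.range lead)) G)) := by
  have hJ : Ideal.span (Set.range lead) = Ideal.span (Set.range (Fin.append lead
      (Fin.elim0 : Fin 0 → MvPolynomial (Fin N) R))) := by
    rw [Helper27.LiftLem.range_append]
    simp
  have hss := isStrictlyStandard_mk hcN lead Fin.elim0 _ hJ G hG (fun i => i.elim0)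
  have hsm : Algebra.Smooth R
      (Localization.Away (Ideal.Quotient.mk (Ideal.span (Set.range lead)) G)) :=
    Helper27.StdElem.smooth_away_of_isStrictlyStandard _ hss
  infer_instance

theorem kill2 {R : Type u} [CommRing R] (π : R) (hR : ∀ r : R, π ^ 2 * r = 0 → π * r = 0)
    {N c : ℕ} (hcN : c ≤ N) (lead : Fin c → MvPolynomial (Fin N) R)
    (G : MvPolynomial (Fin N) R)
    (hG : G ∈ Ideal.span (Set.range fun cols : Fin c → Fin N =>
      Matrix.det (Matrix.of fun j k : Fin c => pderiv (cols k) (lead j))))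
    (y : MvPolynomial (Fin N) R) (hy : C (π ^ 2) * y ∈ Ideal.span (Set.range lead)) :
    ∃ K : ℕ, G ^ K * (C π * y) ∈ Ideal.span (Set.range lead) := by
  have hflat := flat_away_of_minor hcN lead G hG
  exact kill_of_flat' (Ideal.span (Set.range lead)) G
    (Localization.Away (Ideal.Quotient.mk (Ideal.span (Set.range lead)) G)) (π ^ 2) π hR y hy

end Helper27.LiftProb
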