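import Mathlib
import Groth.Prelude.Def_Smoothing
import Groth.Agent.Lib.Helper27.LiftProbA

set_option autoImplicit false
universe u

namespace Helper27.LiftProb

open MvPolynomial

structure ChartX {R : Type u} [CommRing R] {n m : ℕ} (f : Fin m → MvPolynomial (Fin n) R)
    (π : R) where
  c : ℕ
  rows : Fin c ↪ Fin m
  cols : Fin c → Fin n
  a : MvPolynomial (Fin n) R
  a' : MvPolynomial (Fin n) R
  h5 : a - a' * Smoothing.jacobianMinor f rows cols ∈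
    Ideal.span (Set.range f) ⊔ Ideal.span {C (π ^ 2)}
  h : Fin m → Fin c → MvPolynomial (Fin n) R
  g : Fin m → MvPolynomial (Fin n) R
  h4 : ∀ ℓ, a * f ℓ = ∑ j, h ℓ j * f (rows j) + C (π ^ 2) * g ℓ
  hnorm : ∀ j₀ j, h (rows j₀) j = if j = j₀ then a else 0
  gnorm : ∀ j₀, g (rows j₀) = 0
  e : ℕ
  comp : Fin e → Fin m
  comp_inj : Function.Injective comp
  comp_ne : ∀ i j, comp i ≠ rows j
  cover : ∀ ℓ, (∃ j, rows j = ℓ) ∨ ∃ i, comp i = ℓ
  hce : c + e = m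

section Alg

variable {R : Type u} [CommRing R] {n m : ℕ} {f : Fin m → MvPolynomial (Fin n) R} {π : R}

theorem ChartX.a_mul_mem (ch : ChartX f π) (x : MvPolynomial (Fin n) R)
    (hx : x ∈ Ideal.span (Set.range f) ⊔ Ideal.span {C (π ^ 2)}) :
    ch.a * x ∈ Ideal.span (Set.range (f ∘ ch.rows)) ⊔ Ideal.span {C (π ^ 2)} := by
  obtain ⟨x₁, hx₁, x₂, hx₂, rfl⟩ := Submodule.mem_sup.mp hx
  rw [mul_add]
  refine Ideal.add_mem _ ?_ (Ideal.mem_sup_right (Ideal.mul_mem_left _ _ hx₂))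
  obtain ⟨cf, rfl⟩ := (Ideal.mem_span_range_iff_exists_fun).mp hx₁
  rw [Finset.mul_sum]
  refine Ideal.sum_mem _ fun ℓ _ => ?_
  have h1 : ch.a * (cf ℓ * f ℓ) = cf ℓ * (ch.a * f ℓ) := by ring
  rw [h1, ch.h4]
  refine Ideal.mul_mem_left _ _ (Ideal.add_mem _ ?_ ?_)
  · exact Ideal.mem_sup_left (Ideal.sum_mem _ fun j _ => Ideal.mul_mem_left _ _
      (Ideal.subset_span ⟨j, rfl⟩))
  · exact Ideal.mem_sup_right (Ideal.mul_mem_right _ _ (Ideal.subset_span rfl))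

theorem ChartX.free (ch : ChartX f π) (cc : Fin ch.c → MvPolynomial (Fin n) R)
    (w : MvPolynomial (Fin n) R) (hcc : ∑ j, cc j * f (ch.rows j) = C (π ^ 2) * w) (j₀ : Fin ch.c) :
    ch.a ^ 2 * cc j₀ ∈ Ideal.span (Set.range (f ∘ ch.rows)) ⊔ Ideal.span {C (π ^ 2)} := by
  classical
  obtain ⟨I, hI⟩ : ∃ I, I = Ideal.span (Set.range f) ⊔ Ideal.span {C (π ^ 2)} := ⟨_, rfl⟩
  have hfI : ∀ ℓ, f ℓ ∈ I := fun ℓ => hI ▸ Ideal.mem_sup_left (Ideal.subset_span ⟨ℓ, rfl⟩)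
  have hπI : C (π ^ 2) ∈ I := hI ▸ Ideal.mem_sup_right (Ideal.subset_span rfl)
  let Jm : Matrix (Fin ch.c) (Fin ch.c) (MvPolynomial (Fin n) R) :=
    Matrix.of fun j k => pderiv (ch.cols k) (f (ch.rows j))
  have h1 : ∀ i : Fin ch.c, ∑ j, cc j * Jm j i ∈ I := by
    intro i
    have h2 := congrArg (pderiv (ch.cols i)) hcc
    rw [map_sum, pderiv_C_mul] at h2
    have h3 : ∑ j, cc j * Jm j i = C (π ^ 2) * pderiv (ch.cols i) w -
        ∑ j, f (ch.rows j) * pderiv (ch.cols i) (cc j) := by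
      rw [← h2, ← Finset.sum_sub_distrib]
      refine Finset.sum_congr rfl fun j _ => ?_
      rw [Derivation.leibniz, smul_eq_mul, smul_eq_mul]
      simp only [Jm, Matrix.of_apply]
      ring
    rw [h3]
    refine I.sub_mem (Ideal.mul_mem_right _ _ hπI) (Ideal.sum_mem _ fun j _ => ?_)
    exact Ideal.mul_mem_right _ _ (hfI _)
  have h2 : cc j₀ * Jm.det ∈ I := by
    have h3 : cc j₀ * Jm.det = ∑ i, (∑ j, cc j * Jm j i) * Jm.adjugate i j₀ := by
      have h4 : ∑ i, (∑ j, cc j * Jm j i) * Jm.adjugate i j₀ =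
          ∑ j, cc j * (Jm * Jm.adjugate) j j₀ := by
        simp only [Matrix.mul_apply, Finset.mul_sum, Finset.sum_mul]
        rw [Finset.sum_comm]
        refine Finset.sum_congr rfl fun j _ => Finset.sum_congr rfl fun i _ => ?_
        ring
      rw [h4, Matrix.mul_adjugate]
      simp [Matrix.smul_apply, Matrix.one_apply, mul_comm]
    rw [h3]
    exact Ideal.sum_mem _ fun i _ => Ideal.mul_mem_right _ _ (h1 i)
  have hdet : Jm.det = Smoothing.jacobianMinor f ch.rows ch.cols := rfl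
  have h3 : ch.a * cc j₀ ∈ I := by
    have h4 : ch.a * cc j₀ = ch.a' * (cc j₀ * Jm.det) +
        (ch.a - ch.a' * Smoothing.jacobianMinor f ch.rows ch.cols) * cc j₀ := by
      rw [hdet]; ring
    rw [h4]
    refine I.add_mem (Ideal.mul_mem_left _ _ h2) (Ideal.mul_mem_right _ _ ?_)
    rw [hI]
    exact ch.h5
  have h5 := ch.a_mul_mem _ (hI ▸ h3)
  have h6 : ch.a ^ 2 * cc j₀ = ch.a * (ch.a * cc j₀) := by ring
  rw [h6]
  exact h5

theorem ChartX.cross (ch ch' : ChartX f π) (ℓ : Fin m) :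
    ∑ j, (ch'.a * ch.h ℓ j - ∑ j', ch'.h ℓ j' * ch.h (ch'.rows j') j) * f (ch.rows j) =
      C (π ^ 2) * (∑ j', ch'.h ℓ j' * ch.g (ch'.rows j') + ch.a * ch'.g ℓ - ch'.a * ch.g ℓ) := by
  have h1 : ch'.a * (ch.a * f ℓ) = ch.a * (ch'.a * f ℓ) := by ring
  rw [ch.h4 ℓ, ch'.h4 ℓ] at h1
  have h2 : ch.a * (∑ j', ch'.h ℓ j' * f (ch'.rows j') + C (π ^ 2) * ch'.g ℓ) =
      ∑ j', ch'.h ℓ j' * (∑ j, ch.h (ch'.rows j') j * f (ch.rows j) +
        C (π ^ 2) * ch.g (ch'.rows j')) + ch.a * (C (π ^ 2) * ch'.g ℓ) := by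
    rw [mul_add, Finset.mul_sum]
    congr 1
    refine Finset.sum_congr rfl fun j' _ => ?_
    rw [← ch.h4]; ring
  rw [h2] at h1
  have h3 : ∑ j, (ch'.a * ch.h ℓ j - ∑ j', ch'.h ℓ j' * ch.h (ch'.rows j') j) * f (ch.rows j) =
      ch'.a * ∑ j, ch.h ℓ j * f (ch.rows j) -
        ∑ j', ch'.h ℓ j' * ∑ j, ch.h (ch'.rows j') j * f (ch.rows j) := by
    simp only [sub_mul, Finset.sum_sub_distrib, Finset.mul_sum, Finset.sum_mul]
    congr 1
    · refine Finset.sum_congr rfl fun j _ => ?_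
      ring
    · rw [Finset.sum_comm]
      refine Finset.sum_congr rfl fun j' _ => Finset.sum_congr rfl fun j _ => ?_
      ring
  rw [h3]
  have h4 : ∑ j', ch'.h ℓ j' * (∑ j, ch.h (ch'.rows j') j * f (ch.rows j) +
      C (π ^ 2) * ch.g (ch'.rows j')) =
      ∑ j', ch'.h ℓ j' * ∑ j, ch.h (ch'.rows j') j * f (ch.rows j) +
        C (π ^ 2) * ∑ j', ch'.h ℓ j' * ch.g (ch'.rows j') := by
    simp only [mul_add, Finset.sum_add_distrib, Finset.mul_sum]
    congr 1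
    refine Finset.sum_congr rfl fun j' _ => ?_
    ring
  rw [h4] at h1
  linear_combination h1

end Alg

end Helper27.LiftProb
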