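import Mathlib
import Groth.Prelude.Def_Smoothing

set_option autoImplicit false
universe u

namespace Helper27.StdConv

open MvPolynomial

section Poly

variable {R : Type u} [CommRing R] (n₀ q : ℕ)

noncomputable def rho1 : MvPolynomial (Fin n₀) R →ₐ[R] MvPolynomial (Fin (n₀ + q)) R :=
  rename (Fin.castAdd q)

noncomputable def YY (j : Fin q) : MvPolynomial (Fin (n₀ + q)) R := X (Fin.natAdd n₀ j)

noncomputable def ev : MvPolynomial (Fin (n₀ + q)) R →ₐ[R] MvPolynomial (Fin n₀) R :=
  aeval (Fin.append (fun i => X i) (fun _ => 0))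

theorem ev_rho1 (p : MvPolynomial (Fin n₀) R) : ev n₀ q (rho1 n₀ q p) = p := by
  have : (ev n₀ q).comp (rho1 n₀ q) = AlgHom.id R _ := by
    apply MvPolynomial.algHom_ext
    intro i
    simp [ev, rho1, Fin.append_left]
  exact DFunLike.congr_fun this p

theorem sub_rho1_ev_mem (x : MvPolynomial (Fin (n₀ + q)) R) :
    x - rho1 n₀ q (ev n₀ q x) ∈ Ideal.span (Set.range (YY (R := R) n₀ q)) := by
  induction x using MvPolynomial.induction_on with
  | C r => simp [ev, rho1]
  | add p p' hp hp' =>
    have : p + p' - rho1 n₀ q (ev n₀ q (p + p')) =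
        (p - rho1 n₀ q (ev n₀ q p)) + (p' - rho1 n₀ q (ev n₀ q p')) := by
      rw [map_add, map_add]; ring
    rw [this]
    exact Ideal.add_mem _ hp hp'
  | mul_X p k hp =>
    induction k using Fin.addCases with
    | left i =>
      have h1 : ev n₀ q (X (Fin.castAdd q i)) = (X i : MvPolynomial (Fin n₀) R) := by
        simp [ev, Fin.append_left]
      have : p * X (Fin.castAdd q i) - rho1 n₀ q (ev n₀ q (p * X (Fin.castAdd q i))) =
          (p - rho1 n₀ q (ev n₀ q p)) * X (Fin.castAdd q i) := by
        rw [map_mul, map_mul, h1]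
        simp only [rho1, rename_X]
        ring
      rw [this]
      exact Ideal.mul_mem_right _ _ hp
    | right j =>
      have h1 : ev n₀ q (X (Fin.natAdd n₀ j)) = (0 : MvPolynomial (Fin n₀) R) := by
        simp [ev, Fin.append_right]
      have : p * X (Fin.natAdd n₀ j) - rho1 n₀ q (ev n₀ q (p * X (Fin.natAdd n₀ j))) =
          p * YY n₀ q j := by
        rw [map_mul, h1, mul_zero, map_zero, sub_zero]
        rfl
      rw [this]
      exact Ideal.mul_mem_left _ _ (Ideal.subset_span ⟨j, rfl⟩)

theorem pderiv_castAdd_rho1 (k : Fin n₀) (p : MvPolynomial (Fin n₀) R) :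
    pderiv (Fin.castAdd q k) (rho1 n₀ q p) = rho1 n₀ q (pderiv k p) :=
  pderiv_rename (Fin.castAdd_injective n₀ q) k p

theorem pderiv_natAdd_rho1 (j : Fin q) (p : MvPolynomial (Fin n₀) R) :
    pderiv (Fin.natAdd n₀ j) (rho1 n₀ q p) = 0 := by
  classical
  induction p using MvPolynomial.induction_on with
  | C r => simp [rho1]
  | add p p' hp hp' => rw [map_add, map_add, hp, hp', add_zero]
  | mul_X p i hp =>
    rw [map_mul, Derivation.leibniz, hp, smul_zero, add_zero]
    simp only [rho1, rename_X, pderiv_X]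
    rw [Pi.single_apply, if_neg, smul_zero]
    intro h
    have := congrArg Fin.val h
    simp at this
    omega

theorem pderiv_castAdd_YY (k : Fin n₀) (j : Fin q) :
    pderiv (Fin.castAdd q k) (YY (R := R) n₀ q j) = 0 := by
  classical
  unfold YY
  rw [pderiv_X, Pi.single_apply, if_neg]
  intro h
  have := congrArg Fin.val h
  simp at this
  omega

theorem pderiv_natAdd_YY (j₀ j : Fin q) :
    pderiv (Fin.natAdd n₀ j₀) (YY (R := R) n₀ q j) = if j = j₀ then 1 else 0 := by
  classical
  unfold YY
  rw [pderiv_X, Pi.single_apply]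
  by_cases h : j = j₀
  · subst h; simp
  · rw [if_neg h, if_neg]
    intro h'
    exact h (Fin.natAdd_injective _ _ h')

end Poly

end Helper27.StdConv
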