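import Mathlib
import Groth.Prelude.Def_Smoothing
import Groth.Agent.Lib.Helper27.StdConvC
import Groth.Agent.Lib.Helper27.LiftProbB

set_option autoImplicit false
universe u

namespace Helper27.LiftProb

open MvPolynomial
open Helper27.StdConv (rho1 YY pderiv_castAdd_rho1 pderiv_natAdd_rho1 pderiv_castAdd_YY
  pderiv_natAdd_YY)

section Constr

variable {R : Type u} [CommRing R] {n m : ℕ} (f : Fin m → MvPolynomial (Fin n) R) (π : R)

noncomputable def relF (j : Fin m) : MvPolynomial (Fin (n + m)) R :=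
  rho1 n m (f j) - C π * YY n m j

noncomputable def relP (ch : ChartX f π) (ℓ : Fin m) : MvPolynomial (Fin (n + m)) R :=
  rho1 n m ch.a * YY n m ℓ - ∑ j, rho1 n m (ch.h ℓ j) * YY n m (ch.rows j) -
    C π * rho1 n m (ch.g ℓ)

noncomputable def lead (ch : ChartX f π) : Fin (ch.c + ch.e) → MvPolynomial (Fin (n + m)) R :=
  Fin.append (fun j => relF f π (ch.rows j)) (fun i => relP f π ch (ch.comp i))

def colsV (ch : ChartX f π) : Fin (ch.c + ch.e) → Fin (n + m) :=
  Fin.append (fun j => Fin.castAdd m (ch.cols j)) (fun i => Fin.natAdd n (ch.comp i))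

theorem rho1_C (r : R) : rho1 n m (C r : MvPolynomial (Fin n) R) = C r := by
  unfold rho1; simp

theorem pi_mul_relP (ch : ChartX f π) (ℓ : Fin m) :
    C π * relP f π ch ℓ = - (rho1 n m ch.a) * relF f π ℓ +
      ∑ j, rho1 n m (ch.h ℓ j) * relF f π (ch.rows j) := by
  have h1 := congrArg (rho1 n m) (ch.h4 ℓ)
  rw [map_mul, map_add, map_sum, map_mul, rho1_C] at h1
  simp only [map_mul] at h1
  unfold relP relF
  have h2 : ∑ j, rho1 n m (ch.h ℓ j) * (rho1 n m (f (ch.rows j)) - C π * YY n m (ch.rows j)) =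
      ∑ j, rho1 n m (ch.h ℓ j) * rho1 n m (f (ch.rows j)) -
        C π * ∑ j, rho1 n m (ch.h ℓ j) * YY n m (ch.rows j) := by
    rw [Finset.mul_sum, ← Finset.sum_sub_distrib]
    refine Finset.sum_congr rfl fun j _ => ?_
    ring
  rw [h2]
  rw [C_pow] at h1
  linear_combination h1

theorem relP_rows (ch : ChartX f π) (j₀ : Fin ch.c) : relP f π ch (ch.rows j₀) = 0 := by
  classical
  unfold relP
  rw [ch.gnorm, map_zero, mul_zero, sub_zero]
  simp only [ch.hnorm]
  rw [Finset.sum_eq_single j₀]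
  · simp
  · intro j _ hj
    simp [hj]
  · intro h; exact absurd (Finset.mem_univ _) h

theorem relF_rows_mem_lead (ch : ChartX f π) (j : Fin ch.c) :
    relF f π (ch.rows j) ∈ Ideal.span (Set.range (lead f π ch)) :=
  Ideal.subset_span ⟨Fin.castAdd ch.e j, Fin.append_left _ _ j⟩

theorem relP_mem_lead (ch : ChartX f π) (ℓ : Fin m) :
    relP f π ch ℓ ∈ Ideal.span (Set.range (lead f π ch)) := by
  rcases ch.cover ℓ with ⟨j, rfl⟩ | ⟨i, rfl⟩
  · rw [relP_rows]; exact Ideal.zero_mem _
  · exact Ideal.subset_span ⟨Fin.natAdd ch.c i, Fin.append_right _ _ i⟩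

theorem a_mul_relF_mem (ch : ChartX f π) (ℓ : Fin m) :
    rho1 n m ch.a * relF f π ℓ ∈ Ideal.span (Set.range (lead f π ch)) := by
  have h1 := pi_mul_relP f π ch ℓ
  have h2 : rho1 n m ch.a * relF f π ℓ = - (C π * relP f π ch ℓ) +
      ∑ j, rho1 n m (ch.h ℓ j) * relF f π (ch.rows j) := by
    rw [h1]; ring
  rw [h2]
  refine Ideal.add_mem _ (Ideal.neg_mem_iff _ |>.mpr (Ideal.mul_mem_left _ _
    (relP_mem_lead f π ch ℓ))) (Ideal.sum_mem _ fun j _ => Ideal.mul_mem_left _ _
      (relF_rows_mem_lead f π ch j))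

theorem pderiv_natAdd_mul_YY (x : MvPolynomial (Fin n) R) (ℓ j₀ : Fin m) :
    pderiv (Fin.natAdd n j₀) (rho1 n m x * YY n m ℓ) = if ℓ = j₀ then rho1 n m x else 0 := by
  rw [Derivation.leibniz, pderiv_natAdd_rho1, pderiv_natAdd_YY, smul_zero, add_zero, smul_eq_mul]
  by_cases h : ℓ = j₀
  · simp [h]
  · simp [h]

theorem pderiv_castAdd_relF (k : Fin n) (j : Fin m) :
    pderiv (Fin.castAdd m k) (relF f π j) = rho1 n m (pderiv k (f j)) := by
  unfold relF
  rw [map_sub, pderiv_castAdd_rho1, pderiv_C_mul, pderiv_castAdd_YY, mul_zero, sub_zero]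

theorem pderiv_natAdd_relF (j₀ j : Fin m) :
    pderiv (Fin.natAdd n j₀) (relF f π j) = if j = j₀ then - C π else 0 := by
  unfold relF
  rw [map_sub, pderiv_natAdd_rho1, pderiv_C_mul, pderiv_natAdd_YY]
  by_cases h : j = j₀
  · simp [h]
  · simp [h]

theorem pderiv_natAdd_relP (ch : ChartX f π) (ℓ j₀ : Fin m) (hj₀ : ∀ j, ch.rows j ≠ j₀) :
    pderiv (Fin.natAdd n j₀) (relP f π ch ℓ) = if ℓ = j₀ then rho1 n m ch.a else 0 := by
  unfold relP
  rw [map_sub, map_sub, pderiv_natAdd_mul_YY, pderiv_C_mul, pderiv_natAdd_rho1, mul_zero, sub_zero,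
    map_sum]
  have h1 : ∀ j, pderiv (Fin.natAdd n j₀) (rho1 n m (ch.h ℓ j) * YY n m (ch.rows j)) = 0 := by
    intro j
    rw [pderiv_natAdd_mul_YY, if_neg (hj₀ j)]
  simp only [h1, Finset.sum_const_zero, sub_zero]

theorem minor_lead (ch : ChartX f π) :
    Matrix.det (Matrix.of fun p q : Fin (ch.c + ch.e) =>
      pderiv (colsV f π ch q) (lead f π ch p)) =
      rho1 n m (Smoothing.jacobianMinor f ch.rows ch.cols) * rho1 n m ch.a ^ ch.e := by
  classical
  let Jl : Matrix (Fin (ch.c + ch.e)) (Fin (ch.c + ch.e)) (MvPolynomial (Fin (n + m)) R) :=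
    Matrix.of fun p q => pderiv (colsV f π ch q) (lead f π ch p)
  have h1 : Jl.det = (Jl.submatrix finSumFinEquiv finSumFinEquiv).det :=
    (Matrix.det_submatrix_equiv_self finSumFinEquiv Jl).symm
  let A : Matrix (Fin ch.c) (Fin ch.c) (MvPolynomial (Fin (n + m)) R) :=
    Matrix.of fun j k => rho1 n m (pderiv (ch.cols k) (f (ch.rows j)))
  let C' : Matrix (Fin ch.e) (Fin ch.c) (MvPolynomial (Fin (n + m)) R) :=
    Matrix.of fun i k => pderiv (Fin.castAdd m (ch.cols k)) (relP f π ch (ch.comp i))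
  let D' : Matrix (Fin ch.e) (Fin ch.e) (MvPolynomial (Fin (n + m)) R) :=
    rho1 n m ch.a • (1 : Matrix (Fin ch.e) (Fin ch.e) (MvPolynomial (Fin (n + m)) R))
  have h2 : Jl.submatrix finSumFinEquiv finSumFinEquiv = Matrix.fromBlocks A 0 C' D' := by
    refine Matrix.ext fun p q => ?_
    rcases p with j | i <;> rcases q with k | i'
    · simp only [Matrix.submatrix_apply, finSumFinEquiv_apply_left, Matrix.fromBlocks_apply₁₁,
        Jl, A, Matrix.of_apply, lead, colsV, Fin.append_left]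
      exact pderiv_castAdd_relF f π _ _
    · simp only [Matrix.submatrix_apply, finSumFinEquiv_apply_left, finSumFinEquiv_apply_right,
        Matrix.fromBlocks_apply₁₂, Jl, Matrix.of_apply, lead, colsV, Fin.append_left,
        Fin.append_right, Matrix.zero_apply]
      rw [pderiv_natAdd_relF, if_neg]
      exact fun h => ch.comp_ne i' j h.symm
    · simp only [Matrix.submatrix_apply, finSumFinEquiv_apply_left, finSumFinEquiv_apply_right,
        Matrix.fromBlocks_apply₂₁, Jl, C', Matrix.of_apply, lead, colsV, Fin.append_left,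
        Fin.append_right]
    · simp only [Matrix.submatrix_apply, finSumFinEquiv_apply_right,
        Matrix.fromBlocks_apply₂₂, Jl, D', Matrix.of_apply, lead, colsV,
        Fin.append_right, Matrix.smul_apply, Matrix.one_apply, smul_eq_mul]
      rw [pderiv_natAdd_relP f π ch _ _ (fun j h => ch.comp_ne i' j h.symm)]
      by_cases hii : i = i'
      · subst hii; simp
      · have : ¬ ch.comp i = ch.comp i' := fun h => hii (ch.comp_inj h)
        simp [hii, this]
  show Jl.det = _
  rw [h1, h2, Matrix.det_fromBlocks_zero₁₂, Matrix.det_smul, Matrix.det_one, mul_one,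
    Fintype.card_fin]
  congr 1
  unfold Smoothing.jacobianMinor
  rw [AlgHom.map_det]
  rfl

theorem rho_mem_lead_sup (ch : ChartX f π) (x : MvPolynomial (Fin n) R)
    (hx : x ∈ Ideal.span (Set.range (f ∘ ch.rows)) ⊔ Ideal.span {C (π ^ 2)}) :
    rho1 n m x ∈ Ideal.span (Set.range (lead f π ch)) ⊔
      Ideal.span {(C π : MvPolynomial (Fin (n + m)) R)} := by
  obtain ⟨T, hT⟩ : ∃ T : Ideal (MvPolynomial (Fin (n + m)) R),
      T = Ideal.span (Set.range (lead f π ch)) ⊔
        Ideal.span {(C π : MvPolynomial (Fin (n + m)) R)} := ⟨_, rfl⟩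
  rw [← hT]
  have hle : Ideal.span (Set.range (f ∘ ch.rows)) ⊔ Ideal.span {C (π ^ 2)} ≤
      Ideal.comap (rho1 n m).toRingHom T := by
    refine sup_le (Ideal.span_le.mpr ?_) (Ideal.span_le.mpr ?_)
    · rintro _ ⟨j, rfl⟩
      refine Ideal.mem_comap.mpr ?_
      show rho1 n m (f (ch.rows j)) ∈ T
      have h1 : rho1 n m (f (ch.rows j)) = relF f π (ch.rows j) + YY n m (ch.rows j) * C π := by
        unfold relF; ring
      rw [h1, hT]
      exact Ideal.add_mem _ (Ideal.mem_sup_left (relF_rows_mem_lead f π ch j))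
        (Ideal.mem_sup_right (Ideal.mul_mem_left _ _ (Ideal.subset_span rfl)))
    · rintro _ rfl
      refine Ideal.mem_comap.mpr ?_
      show rho1 n m (C (π ^ 2)) ∈ T
      rw [rho1_C, pow_two, C_mul, hT]
      exact Ideal.mem_sup_right (Ideal.mul_mem_left _ _ (Ideal.subset_span rfl))
  exact hle hx

end Constr

end Helper27.LiftProb
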