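import Mathlib
import Groth.Prelude.Def_Smoothing
import Groth.Agent.Lib.Helper27.LiftProbC

set_option autoImplicit false
universe u

namespace Helper27.LiftProb

open MvPolynomial
open Helper27.StdConv (rho1 YY)

section Cross

variable {R : Type u} [CommRing R] {n m : ℕ} (f : Fin m → MvPolynomial (Fin n) R) (π : R)

noncomputable def ccOf (ch ch' : ChartX f π) (ℓ : Fin m) (j : Fin ch.c) : MvPolynomial (Fin n) R :=
  ch'.a * ch.h ℓ j - ∑ j', ch'.h ℓ j' * ch.h (ch'.rows j') j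

noncomputable def wOf (ch ch' : ChartX f π) (ℓ : Fin m) : MvPolynomial (Fin n) R :=
  ∑ j', ch'.h ℓ j' * ch.g (ch'.rows j') + ch.a * ch'.g ℓ - ch'.a * ch.g ℓ

theorem cross' (ch ch' : ChartX f π) (ℓ : Fin m) :
    rho1 n m ch.a * relP f π ch' ℓ = rho1 n m ch'.a * relP f π ch ℓ -
      ∑ j', rho1 n m (ch'.h ℓ j') * relP f π ch (ch'.rows j') +
      ∑ j, rho1 n m (ccOf f π ch ch' ℓ j) * YY n m (ch.rows j) -
      C π * rho1 n m (wOf f π ch ch' ℓ) := by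
  obtain ⟨S1, hS1⟩ : ∃ S1, S1 = ∑ j', rho1 n m (ch'.h ℓ j') * YY n m (ch'.rows j') := ⟨_, rfl⟩
  obtain ⟨S2, hS2⟩ : ∃ S2, S2 = ∑ j, rho1 n m (ch.h ℓ j) * YY n m (ch.rows j) := ⟨_, rfl⟩
  obtain ⟨S3, hS3⟩ : ∃ S3, S3 = ∑ j', ∑ j, rho1 n m (ch'.h ℓ j') *
      (rho1 n m (ch.h (ch'.rows j') j) * YY n m (ch.rows j)) := ⟨_, rfl⟩
  obtain ⟨S4, hS4⟩ : ∃ S4, S4 = ∑ j', rho1 n m (ch'.h ℓ j') * rho1 n m (ch.g (ch'.rows j')) :=
    ⟨_, rfl⟩
  have e1 : relP f π ch' ℓ = rho1 n m ch'.a * YY n m ℓ - S1 - C π * rho1 n m (ch'.g ℓ) := by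
    rw [hS1]; rfl
  have e2 : relP f π ch ℓ = rho1 n m ch.a * YY n m ℓ - S2 - C π * rho1 n m (ch.g ℓ) := by
    rw [hS2]; rfl
  have e3 : ∑ j', rho1 n m (ch'.h ℓ j') * relP f π ch (ch'.rows j') =
      rho1 n m ch.a * S1 - S3 - C π * S4 := by
    have h1 : ∀ j', rho1 n m (ch'.h ℓ j') * relP f π ch (ch'.rows j') =
        rho1 n m ch.a * (rho1 n m (ch'.h ℓ j') * YY n m (ch'.rows j')) -
          ∑ j, rho1 n m (ch'.h ℓ j') * (rho1 n m (ch.h (ch'.rows j') j) * YY n m (ch.rows j)) -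
          C π * (rho1 n m (ch'.h ℓ j') * rho1 n m (ch.g (ch'.rows j'))) := by
      intro j'
      show rho1 n m (ch'.h ℓ j') * (rho1 n m ch.a * YY n m (ch'.rows j') -
        ∑ j, rho1 n m (ch.h (ch'.rows j') j) * YY n m (ch.rows j) -
          C π * rho1 n m (ch.g (ch'.rows j'))) = _
      rw [mul_sub, mul_sub, Finset.mul_sum]
      ring
    rw [Finset.sum_congr rfl fun j' _ => h1 j', Finset.sum_sub_distrib, Finset.sum_sub_distrib,
      ← Finset.mul_sum, ← Finset.mul_sum, hS1, hS3, hS4]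
  have e4 : ∑ j, rho1 n m (ccOf f π ch ch' ℓ j) * YY n m (ch.rows j) =
      rho1 n m ch'.a * S2 - S3 := by
    rw [hS2, hS3]
    unfold ccOf
    simp only [map_sub, map_mul, map_sum, sub_mul, Finset.sum_sub_distrib, Finset.mul_sum,
      Finset.sum_mul]
    congr 1
    · refine Finset.sum_congr rfl fun j _ => ?_
      ring
    · rw [Finset.sum_comm]
      refine Finset.sum_congr rfl fun j' _ => Finset.sum_congr rfl fun j _ => ?_
      ring
  have e5 : rho1 n m (wOf f π ch ch' ℓ) = S4 + rho1 n m ch.a * rho1 n m (ch'.g ℓ) -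
      rho1 n m ch'.a * rho1 n m (ch.g ℓ) := by
    rw [hS4]
    unfold wOf
    simp only [map_sub, map_add, map_mul, map_sum]
  rw [e1, e2, e3, e4, e5]
  ring

theorem ccOf_free (ch ch' : ChartX f π) (ℓ : Fin m) (j : Fin ch.c) :
    ch.a ^ 2 * ccOf f π ch ch' ℓ j ∈
      Ideal.span (Set.range (f ∘ ch.rows)) ⊔ Ideal.span {C (π ^ 2)} :=
  ch.free (ccOf f π ch ch' ℓ) (wOf f π ch ch' ℓ) (ch.cross ch' ℓ) j

theorem a3_mul_relP_mem (ch ch' : ChartX f π) (ℓ : Fin m) :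
    rho1 n m ch.a ^ 3 * relP f π ch' ℓ ∈ Ideal.span (Set.range (lead f π ch)) ⊔
      Ideal.span {(C π : MvPolynomial (Fin (n + m)) R)} := by
  have h1 : rho1 n m ch.a ^ 3 * relP f π ch' ℓ =
      rho1 n m ch.a ^ 2 * (rho1 n m ch'.a * relP f π ch ℓ -
        ∑ j', rho1 n m (ch'.h ℓ j') * relP f π ch (ch'.rows j')) +
      ∑ j, rho1 n m (ch.a ^ 2 * ccOf f π ch ch' ℓ j) * YY n m (ch.rows j) -
      (rho1 n m ch.a ^ 2 * rho1 n m (wOf f π ch ch' ℓ)) * C π := by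
    have h2 : rho1 n m ch.a ^ 3 * relP f π ch' ℓ =
        rho1 n m ch.a ^ 2 * (rho1 n m ch.a * relP f π ch' ℓ) := by ring
    rw [h2, cross']
    simp only [map_mul, map_pow]
    have h3 : ∑ j, rho1 n m ch.a ^ 2 * rho1 n m (ccOf f π ch ch' ℓ j) * YY n m (ch.rows j) =
        rho1 n m ch.a ^ 2 * ∑ j, rho1 n m (ccOf f π ch ch' ℓ j) * YY n m (ch.rows j) := by
      rw [Finset.mul_sum]
      refine Finset.sum_congr rfl fun j _ => ?_
      ring
    rw [h3]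
    ring
  rw [h1]
  refine Ideal.sub_mem _ (Ideal.add_mem _ (Ideal.mem_sup_left (Ideal.mul_mem_left _ _ ?_)) ?_)
    (Ideal.mem_sup_right (Ideal.mul_mem_left _ _ (Ideal.subset_span rfl)))
  · refine Ideal.sub_mem _ (Ideal.mul_mem_left _ _ (relP_mem_lead f π ch ℓ))
      (Ideal.sum_mem _ fun j' _ => Ideal.mul_mem_left _ _ (relP_mem_lead f π ch _))
  · exact Ideal.sum_mem _ fun j _ => Ideal.mul_mem_right _ _
      (rho_mem_lead_sup f π ch _ (ccOf_free f π ch ch' ℓ j))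

theorem a_pi_relP_mem (ch ch' : ChartX f π) (ℓ : Fin m) :
    rho1 n m ch.a * (C π * relP f π ch' ℓ) ∈ Ideal.span (Set.range (lead f π ch)) := by
  rw [pi_mul_relP]
  have h1 : rho1 n m ch.a * (-(rho1 n m ch'.a) * relF f π ℓ +
      ∑ j, rho1 n m (ch'.h ℓ j) * relF f π (ch'.rows j)) =
      - (rho1 n m ch'.a * (rho1 n m ch.a * relF f π ℓ)) +
        ∑ j, rho1 n m (ch'.h ℓ j) * (rho1 n m ch.a * relF f π (ch'.rows j)) := by
    rw [mul_add, Finset.mul_sum]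
    congr 1
    · ring
    · refine Finset.sum_congr rfl fun j _ => ?_
      ring
  rw [h1]
  exact Ideal.add_mem _ (Ideal.neg_mem_iff _ |>.mpr (Ideal.mul_mem_left _ _
    (a_mul_relF_mem f π ch ℓ))) (Ideal.sum_mem _ fun j _ => Ideal.mul_mem_left _ _
      (a_mul_relF_mem f π ch _))

theorem hcN (ch : ChartX f π) : ch.c + ch.e ≤ n + m := by
  rw [ch.hce]; exact Nat.le_add_left m n

theorem exists_pow_kill (hR : ∀ r : R, π ^ 2 * r = 0 → π * r = 0) (ch ch' : ChartX f π)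
    (ℓ : Fin m) (G : MvPolynomial (Fin (n + m)) R)
    (hG : G ∈ Ideal.span (Set.range fun cols : Fin (ch.c + ch.e) → Fin (n + m) =>
      Matrix.det (Matrix.of fun j k : Fin (ch.c + ch.e) => pderiv (cols k) (lead f π ch j)))) :
    ∃ K : ℕ, G ^ K * (rho1 n m ch.a ^ 4 * relP f π ch' ℓ) ∈
      Ideal.span (Set.range (lead f π ch)) := by
  obtain ⟨L, hL, y', hy', hLy⟩ := Submodule.mem_sup.mp (a3_mul_relP_mem f π ch ch' ℓ)
  obtain ⟨y, rfl⟩ := Ideal.mem_span_singleton'.mp hy'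
  have h1 : C (π ^ 2) * (rho1 n m ch.a * y) ∈ Ideal.span (Set.range (lead f π ch)) := by
    have h2 : C (π ^ 2) * (rho1 n m ch.a * y) =
        rho1 n m ch.a ^ 3 * (rho1 n m ch.a * (C π * relP f π ch' ℓ)) -
          rho1 n m ch.a * C π * L := by
      have h3 : y * C π = rho1 n m ch.a ^ 3 * relP f π ch' ℓ - L := by rw [← hLy]; ring
      rw [C_pow]
      linear_combination (rho1 n m ch.a * C π) * h3
    rw [h2]
    exact Ideal.sub_mem _ (Ideal.mul_mem_left _ _ (a_pi_relP_mem f π ch ch' ℓ))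
      (Ideal.mul_mem_left _ _ hL)
  obtain ⟨K, hK⟩ := kill2 π hR (hcN f π ch) (lead f π ch) G hG _ h1
  refine ⟨K, ?_⟩
  have h4 : G ^ K * (rho1 n m ch.a ^ 4 * relP f π ch' ℓ) =
      G ^ K * rho1 n m ch.a * L + G ^ K * (C π * (rho1 n m ch.a * y)) := by
    have h3 : rho1 n m ch.a ^ 3 * relP f π ch' ℓ = L + y * C π := hLy.symm
    have h5 : rho1 n m ch.a ^ 4 * relP f π ch' ℓ =
        rho1 n m ch.a * (rho1 n m ch.a ^ 3 * relP f π ch' ℓ) := by ring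
    rw [h5, h3]; ring
  rw [h4]
  exact Ideal.add_mem _ (Ideal.mul_mem_left _ _ hL) hK

end Cross

end Helper27.LiftProb
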