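import Mathlib
import Groth.Prelude.Def_Smoothing
import Groth.Agent.Lib.Helper27.LiftProbD

set_option autoImplicit false
universe u

namespace Helper27.LiftProb

open MvPolynomial
open Helper27.StdConv (rho1 YY)

section Std

variable {R : Type u} [CommRing R] {n m : ℕ} (f : Fin m → MvPolynomial (Fin n) R) (π : R)
  {r : ℕ} (chs : Fin r → ChartX f π)

noncomputable def relAll : Fin (m + r * m) → MvPolynomial (Fin (n + m)) R :=
  Fin.append (relF f π) (fun i => relP f π (chs (finProdFinEquiv.symm i).1)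
    (finProdFinEquiv.symm i).2)

theorem relAll_left (ℓ : Fin m) : relAll f π chs (Fin.castAdd (r * m) ℓ) = relF f π ℓ :=
  Fin.append_left _ _ ℓ

theorem relAll_right (k : Fin r) (ℓ : Fin m) :
    relAll f π chs (Fin.natAdd m (finProdFinEquiv (k, ℓ))) = relP f π (chs k) ℓ := by
  unfold relAll
  rw [Fin.append_right, Equiv.symm_apply_apply]

theorem relAll_cases (P : MvPolynomial (Fin (n + m)) R → Prop) (hF : ∀ ℓ, P (relF f π ℓ))
    (hP : ∀ k ℓ, P (relP f π (chs k) ℓ)) (i : Fin (m + r * m)) : P (relAll f π chs i) := by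
  induction i using Fin.addCases with
  | left ℓ => rw [relAll_left]; exact hF ℓ
  | right i =>
    have h1 : i = finProdFinEquiv ((finProdFinEquiv.symm i).1, (finProdFinEquiv.symm i).2) := by
      rw [Prod.mk.eta, Equiv.apply_symm_apply]
    rw [h1, relAll_right]
    exact hP _ _

theorem span_append_lead (k : Fin r) :
    Ideal.span (Set.range (relAll f π chs)) =
      Ideal.span (Set.range (Fin.append (lead f π (chs k)) (relAll f π chs))) := by
  rw [Helper27.LiftLem.range_append, Set.union_eq_right.mpr]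
  rintro _ ⟨p, rfl⟩
  induction p using Fin.addCases with
  | left j =>
    exact ⟨Fin.castAdd (r * m) ((chs k).rows j), by
      rw [relAll_left]; unfold lead; rw [Fin.append_left]⟩
  | right i =>
    exact ⟨Fin.natAdd m (finProdFinEquiv (k, (chs k).comp i)), by
      rw [relAll_right]; unfold lead; rw [Fin.append_right]⟩

noncomputable def Gk (ch : ChartX f π) : MvPolynomial (Fin (n + m)) R :=
  rho1 n m (ch.a' * Smoothing.jacobianMinor f ch.rows ch.cols) * rho1 n m ch.a ^ ch.e

theorem Gk_mem (ch : ChartX f π) :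
    Gk f π ch ∈ Ideal.span (Set.range fun cols : Fin (ch.c + ch.e) → Fin (n + m) =>
      Matrix.det (Matrix.of fun j k : Fin (ch.c + ch.e) => pderiv (cols k) (lead f π ch j))) := by
  have h1 : Gk f π ch = rho1 n m ch.a' * Matrix.det (Matrix.of fun p q : Fin (ch.c + ch.e) =>
      pderiv (colsV f π ch q) (lead f π ch p)) := by
    rw [minor_lead]
    unfold Gk
    rw [map_mul]
    ring
  rw [h1]
  exact Ideal.mul_mem_left _ _ (Ideal.subset_span ⟨colsV f π ch, rfl⟩)

theorem exists_std_chart (hR : ∀ x : R, π ^ 2 * x = 0 → π * x = 0) (k : Fin r) :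
    ∃ K : ℕ, Smoothing.IsStrictlyStandard R
      (MvPolynomial (Fin (n + m)) R ⧸ Ideal.span (Set.range (relAll f π chs)))
      (Ideal.Quotient.mk _ (Gk f π (chs k) ^ (K + 1) * rho1 n m (chs k).a ^ 4)) := by
  classical
  have hG := Gk_mem f π (chs k)
  have hex : ∀ kl : Fin r × Fin m, ∃ K : ℕ, Gk f π (chs k) ^ K *
      (rho1 n m (chs k).a ^ 4 * relP f π (chs kl.1) kl.2) ∈
      Ideal.span (Set.range (lead f π (chs k))) := fun kl =>
    exists_pow_kill f π hR (chs k) (chs kl.1) kl.2 _ hG
  choose Kf hKf using hex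
  refine ⟨∑ kl, Kf kl, ?_⟩
  refine isStrictlyStandard_mk (hcN f π (chs k)) (lead f π (chs k)) (relAll f π chs) _
    (span_append_lead f π chs k) _ ?_ ?_
  · rw [pow_succ, mul_assoc]
    exact Ideal.mul_mem_left _ _ (Ideal.mul_mem_right _ _ hG)
  · intro i
    refine relAll_cases f π chs (fun t => Gk f π (chs k) ^ (∑ kl, Kf kl + 1) *
      rho1 n m (chs k).a ^ 4 * t ∈ Ideal.span (Set.range (lead f π (chs k)))) ?_ ?_ i
    · intro ℓ
      have h1 : Gk f π (chs k) ^ (∑ kl, Kf kl + 1) * rho1 n m (chs k).a ^ 4 * relF f π ℓ =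
          Gk f π (chs k) ^ (∑ kl, Kf kl + 1) * rho1 n m (chs k).a ^ 3 *
            (rho1 n m (chs k).a * relF f π ℓ) := by ring
      rw [h1]
      exact Ideal.mul_mem_left _ _ (a_mul_relF_mem f π (chs k) ℓ)
    · intro k' ℓ
      have hle : Kf (k', ℓ) ≤ ∑ kl, Kf kl + 1 :=
        le_trans (Finset.single_le_sum (fun _ _ => Nat.zero_le _) (Finset.mem_univ (k', ℓ)))
          (Nat.le_succ _)
      have h1 : Gk f π (chs k) ^ (∑ kl, Kf kl + 1) * rho1 n m (chs k).a ^ 4 *
          relP f π (chs k') ℓ = Gk f π (chs k) ^ (∑ kl, Kf kl + 1 - Kf (k', ℓ)) *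
            (Gk f π (chs k) ^ Kf (k', ℓ) * (rho1 n m (chs k).a ^ 4 * relP f π (chs k') ℓ)) := by
        rw [← mul_assoc, ← mul_assoc, ← pow_add, Nat.sub_add_cancel hle]
      rw [h1]
      exact Ideal.mul_mem_left _ _ (hKf (k', ℓ))

theorem span_append_relF :
    Ideal.span (Set.range (relAll f π chs)) =
      Ideal.span (Set.range (Fin.append (relF f π) (relAll f π chs))) := by
  rw [Helper27.LiftLem.range_append, Set.union_eq_right.mpr]
  rintro _ ⟨ℓ, rfl⟩
  exact ⟨Fin.castAdd (r * m) ℓ, relAll_left f π chs ℓ⟩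

theorem std_pi : Smoothing.IsStrictlyStandard R
    (MvPolynomial (Fin (n + m)) R ⧸ Ideal.span (Set.range (relAll f π chs)))
    (Ideal.Quotient.mk _ (C π * (- C π) ^ m)) := by
  classical
  refine isStrictlyStandard_mk (Nat.le_add_left m n) (relF f π) (relAll f π chs) _
    (span_append_relF f π chs) _ ?_ ?_
  · refine Ideal.mul_mem_left _ _ (Ideal.subset_span ⟨fun k => Fin.natAdd n k, ?_⟩)
    have h1 : (Matrix.of fun j k : Fin m => pderiv (Fin.natAdd n k) (relF f π j)) =
        (- C π : MvPolynomial (Fin (n + m)) R) • (1 : Matrix (Fin m) (Fin m) _) := by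
      refine Matrix.ext fun j k => ?_
      rw [Matrix.of_apply, pderiv_natAdd_relF, Matrix.smul_apply, Matrix.one_apply, smul_eq_mul]
      by_cases hjk : j = k
      · simp [hjk]
      · simp [hjk]
    show Matrix.det (Matrix.of fun j k : Fin m => pderiv (Fin.natAdd n k) (relF f π j)) = _
    rw [h1, Matrix.det_smul, Matrix.det_one, mul_one, Fintype.card_fin]
  · intro i
    refine relAll_cases f π chs (fun t => C π * (- C π) ^ m * t ∈
      Ideal.span (Set.range (relF f π))) ?_ ?_ i
    · intro ℓ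
      exact Ideal.mul_mem_left _ _ (Ideal.subset_span ⟨ℓ, rfl⟩)
    · intro k ℓ
      have h1 : C π * (- C π) ^ m * relP f π (chs k) ℓ =
          (- C π) ^ m * (C π * relP f π (chs k) ℓ) := by ring
      rw [h1, pi_mul_relP]
      refine Ideal.mul_mem_left _ _ (Ideal.add_mem _ (Ideal.mul_mem_left _ _
        (Ideal.subset_span ⟨ℓ, rfl⟩)) (Ideal.sum_mem _ fun j _ => Ideal.mul_mem_left _ _
          (Ideal.subset_span ⟨_, rfl⟩)))

end Std

end Helper27.LiftProb
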