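import Mathlib
import Groth.Prelude.Def_Smoothing
import Groth.Agent.Lib.Helper27.LiftProbB

set_option autoImplicit false
universe u

namespace Helper27.LiftProb

open MvPolynomial

theorem exists_chartX_of_data {R : Type u} [CommRing R] {n m : ℕ}
    (f : Fin m → MvPolynomial (Fin n) R) (π : R) (c : ℕ) (rows : Fin c ↪ Fin m)
    (cols : Fin c → Fin n) (a a' : MvPolynomial (Fin n) R)
    (h5 : a - a' * Smoothing.jacobianMinor f rows cols ∈
      Ideal.span (Set.range f) ⊔ Ideal.span {C (π ^ 2)})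
    (h4 : ∀ ℓ, a * f ℓ ∈ Ideal.span (Set.range (f ∘ rows)) ⊔ Ideal.span {C (π ^ 2)}) :
    ∃ ch : ChartX f π, ch.a = a := by
  classical
  have hex : ∀ ℓ, ∃ (h₁ : Fin c → MvPolynomial (Fin n) R) (g₁ : MvPolynomial (Fin n) R),
      a * f ℓ = ∑ j, h₁ j * f (rows j) + C (π ^ 2) * g₁ := by
    intro ℓ
    obtain ⟨x₁, hx₁, x₂, hx₂, hx⟩ := Submodule.mem_sup.mp (h4 ℓ)
    obtain ⟨h₁, hh₁⟩ := (Ideal.mem_span_range_iff_exists_fun).mp hx₁
    obtain ⟨g₁, hg₁⟩ := Ideal.mem_span_singleton'.mp hx₂
    refine ⟨h₁, g₁, ?_⟩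
    rw [← hx, ← hg₁]
    simp only [Function.comp_apply] at hh₁
    rw [hh₁]; ring
  choose h₁ g₁ hhg using hex
  let s : Finset (Fin m) := (Finset.univ.image rows)ᶜ
  have hs : ∀ ℓ, ℓ ∈ s ↔ ∀ j, rows j ≠ ℓ := by
    intro ℓ
    simp [s]
  have hcard : c + s.card = m := by
    have h1 : (Finset.univ.image rows).card = c := by
      rw [Finset.card_image_of_injective _ rows.injective, Finset.card_univ, Fintype.card_fin]
    have h2 := Finset.card_add_card_compl (Finset.univ.image rows)
    rw [h1, Fintype.card_fin] at h2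
    exact h2
  refine ⟨{ c := c, rows := rows, cols := cols, a := a, a' := a', h5 := h5
            h := fun ℓ j => if ∃ j₀, rows j₀ = ℓ then (if rows j = ℓ then a else 0) else h₁ ℓ j
            g := fun ℓ => if ∃ j₀, rows j₀ = ℓ then 0 else g₁ ℓ
            h4 := ?_, hnorm := ?_, gnorm := ?_
            e := s.card
            comp := fun i => ((s.equivFin.symm i : s) : Fin m)
            comp_inj := ?_, comp_ne := ?_, cover := ?_, hce := hcard }, rfl⟩
  · intro ℓ
    by_cases hℓ : ∃ j₀, rows j₀ = ℓ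
    · obtain ⟨j₀, rfl⟩ := hℓ
      simp only [exists_apply_eq_apply, if_true, mul_zero, add_zero]
      rw [Finset.sum_eq_single j₀]
      · simp
      · intro j _ hj
        have : ¬ rows j = rows j₀ := fun h => hj (rows.injective h)
        simp [this]
      · intro h; exact absurd (Finset.mem_univ _) h
    · simp only [hℓ, if_false]
      exact hhg ℓ
  · intro j₀ j
    simp only [exists_apply_eq_apply, if_true]
    by_cases hj : j = j₀
    · subst hj; simp
    · have : ¬ rows j = rows j₀ := fun h => hj (rows.injective h)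
      simp [hj, this]
  · intro j₀
    simp
  · intro i i' hii
    have h1 : (s.equivFin.symm i : s) = s.equivFin.symm i' := Subtype.ext hii
    exact s.equivFin.symm.injective h1
  · intro i j
    have h1 := (s.equivFin.symm i).2
    rw [hs] at h1
    exact fun h => h1 j h.symm
  · intro ℓ
    by_cases hℓ : ∃ j, rows j = ℓ
    · exact Or.inl hℓ
    · right
      have h1 : ℓ ∈ s := (hs ℓ).mpr (fun j h => hℓ ⟨j, h⟩)
      exact ⟨s.equivFin ⟨ℓ, h1⟩, by simp⟩

end Helper27.LiftProb
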