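import Mathlib
import Groth.Prelude.Def_Smoothing
import Groth.Agent.Lib.Helper27.StdElemE
import Groth.Agent.Lib.Helper27.LiftLemA
import Groth.Agent.Lib.Helper27.LiftProbF

set_option autoImplicit false
universe u

namespace Helper27.LiftProb

open MvPolynomial

theorem ker_q {R : Type*} [CommRing R] (σ : Type*) (x : R) :
    RingHom.ker (MvPolynomial.map (Ideal.Quotient.mk (Ideal.span {x})) :
      MvPolynomial σ R →+* MvPolynomial σ (R ⧸ Ideal.span {x})) =
      Ideal.span {(C x : MvPolynomial σ R)} := by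
  rw [MvPolynomial.ker_map, Ideal.mk_ker, Ideal.map_span, Set.image_singleton]

theorem mem_of_map_mem {P Q : Type*} [CommRing P] [CommRing Q] (q : P →+* Q)
    (hq : Function.Surjective q) (I : Ideal P) (x : P) (hx : q x ∈ Ideal.map q I) :
    x ∈ I ⊔ RingHom.ker q := by
  obtain ⟨y, hy, hyx⟩ := (Ideal.mem_map_iff_of_surjective q hq).mp hx
  have h1 : x = y + (x - y) := by ring
  rw [h1]
  refine Ideal.add_mem _ (Ideal.mem_sup_left hy) (Ideal.mem_sup_right ?_)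
  rw [RingHom.mem_ker, map_sub, hyx, sub_self]

theorem map_jacobianMinor {R S : Type u} [CommRing R] [CommRing S] (q₀ : R →+* S) {n m c : ℕ}
    (f : Fin m → MvPolynomial (Fin n) R) (rows : Fin c → Fin m) (cols : Fin c → Fin n) :
    MvPolynomial.map q₀ (Smoothing.jacobianMinor f rows cols) =
      Smoothing.jacobianMinor (fun j => MvPolynomial.map q₀ (f j)) rows cols := by
  unfold Smoothing.jacobianMinor
  rw [RingHom.map_det]
  congr 1
  refine Matrix.ext fun j k => ?_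
  simp only [RingHom.mapMatrix_apply, Matrix.map_apply, Matrix.of_apply]
  rw [pderiv_map]

theorem exists_mul_sum {P : Type*} [CommRing P] {m : ℕ} (f : Fin m → P) (x : P)
    (hx : x ∈ Ideal.span (Set.range f) ^ 2) :
    ∃ i : Fin m → P, (∀ ℓ, i ℓ ∈ Ideal.span (Set.range f)) ∧ x = ∑ ℓ, i ℓ * f ℓ := by
  rw [pow_two, ← Ideal.smul_eq_mul] at hx
  obtain ⟨a, ha, rfl⟩ := (Submodule.mem_ideal_smul_span_iff_exists_sum _ f x).mp hx
  refine ⟨fun ℓ => a ℓ, ha, ?_⟩
  rw [Finsupp.sum_fintype]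
  · simp
  · intro i; simp

set_option maxHeartbeats 1000000 in
theorem exists_chart_data {R Cb : Type u} [CommRing R] (π : R) [CommRing Cb]
    [Algebra (R ⧸ Ideal.span {π ^ 2}) Cb]
    {n m : ℕ} (f : Fin m → MvPolynomial (Fin n) R)
    (fb : Fin m → MvPolynomial (Fin n) (R ⧸ Ideal.span {π ^ 2}))
    (hf : ∀ j, MvPolynomial.map (Ideal.Quotient.mk (Ideal.span {π ^ 2})) (f j) = fb j)
    (φb : MvPolynomial (Fin n) (R ⧸ Ideal.span {π ^ 2}) →ₐ[R ⧸ Ideal.span {π ^ 2}] Cb)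
    (hφb : Function.Surjective φb) (hkerb : RingHom.ker φb.toRingHom = Ideal.span (Set.range fb))
    (𝔭 : Ideal Cb) [𝔭.IsPrime] [Algebra.IsSmoothAt (R ⧸ Ideal.span {π ^ 2}) 𝔭] :
    ∃ (c : ℕ) (rows : Fin c ↪ Fin m) (cols : Fin c → Fin n) (a a' : MvPolynomial (Fin n) R),
      a - a' * Smoothing.jacobianMinor f rows cols ∈
        Ideal.span (Set.range f) ⊔ Ideal.span {C (π ^ 2)} ∧
      (∀ ℓ, a * f ℓ ∈ Ideal.span (Set.range (f ∘ rows)) ⊔ Ideal.span {C (π ^ 2)}) ∧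
      φb (MvPolynomial.map (Ideal.Quotient.mk (Ideal.span {π ^ 2})) a) ∉ 𝔭 := by
  classical
  obtain ⟨q, hqdef⟩ : ∃ q : MvPolynomial (Fin n) R →+* MvPolynomial (Fin n) (R ⧸ Ideal.span {π ^ 2}),
      q = MvPolynomial.map (Ideal.Quotient.mk (Ideal.span {π ^ 2})) := ⟨_, rfl⟩
  have hq : Function.Surjective q := by
    rw [hqdef]; exact MvPolynomial.map_surjective _ Ideal.Quotient.mk_surjective
  have hkerq : RingHom.ker q = Ideal.span {(C (π ^ 2) : MvPolynomial (Fin n) R)} := by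
    rw [hqdef]; exact ker_q (Fin n) (π ^ 2)
  have hf' : ∀ j, q (f j) = fb j := fun j => by rw [hqdef]; exact hf j
  rw [← hqdef]
  have hmapI : Ideal.map q (Ideal.span (Set.range f)) = Ideal.span (Set.range fb) := by
    rw [Ideal.map_span, ← Set.range_comp]
    congr 2
    funext j
    exact hf' j
  have hkerφq : ∀ x, φb (q x) = 0 →
      x ∈ Ideal.span (Set.range f) ⊔ Ideal.span {(C (π ^ 2) : MvPolynomial (Fin n) R)} := by
    intro x hx
    have h1 : q x ∈ RingHom.ker φb.toRingHom := hx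
    rw [hkerb, ← hmapI] at h1
    have h2 := mem_of_map_mem q hq _ x h1
    rwa [hkerq] at h2
  have hIker : ∀ x ∈ Ideal.span (Set.range f), φb (q x) = 0 := by
    intro x hx
    have h1 : q x ∈ Ideal.map q (Ideal.span (Set.range f)) := Ideal.mem_map_of_mem q hx
    rw [hmapI, ← hkerb] at h1
    exact h1
  obtain ⟨ab, hab𝔭, c, rows, cols, ab', hab, hkill⟩ :=
    Helper27.StdElem.exists_standard_element_of_isSmoothAt fb φb hφb hkerb 𝔭
  obtain ⟨ab₁, hab₁⟩ := hφb ab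
  obtain ⟨a₀, ha₀⟩ := hq ab₁
  obtain ⟨ab'₁, hab'₁⟩ := hφb ab'
  obtain ⟨a'₀, ha'₀⟩ := hq ab'₁
  -- decomposition for each ℓ
  have hdec : ∀ ℓ, ∃ (i : Fin m → MvPolynomial (Fin n) R) (x₁ : MvPolynomial (Fin n) R),
      (∀ ℓ', i ℓ' ∈ Ideal.span (Set.range f)) ∧
      x₁ ∈ Ideal.span (Set.range (f ∘ rows)) ⊔ Ideal.span {(C (π ^ 2) : MvPolynomial (Fin n) R)} ∧
      a₀ * f ℓ = x₁ + ∑ ℓ', i ℓ' * f ℓ' := by
    intro ℓ
    have h1 := hkill ab₁ hab₁ ℓ
    have h2 : q (a₀ * f ℓ) ∈ Ideal.map q (Ideal.span (Set.range (f ∘ rows)) ⊔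
        Ideal.span (Set.range f) ^ 2) := by
      rw [Ideal.map_sup, Ideal.map_pow, hmapI, Ideal.map_span, ← Set.range_comp, map_mul, ha₀, hf']
      have h3 : (q ∘ f ∘ rows) = fb ∘ rows := by
        funext j
        exact hf' _
      rw [h3]
      exact h1
    have h3 := mem_of_map_mem q hq _ _ h2
    rw [hkerq] at h3
    obtain ⟨y, hy, z, hz, hyz⟩ := Submodule.mem_sup.mp h3
    obtain ⟨y₁, hy₁, y₂, hy₂, hy12⟩ := Submodule.mem_sup.mp hy
    obtain ⟨i, hi, hi2⟩ := exists_mul_sum f y₂ hy₂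
    refine ⟨i, y₁ + z, hi, Ideal.add_mem _ (Ideal.mem_sup_left hy₁) (Ideal.mem_sup_right hz), ?_⟩
    rw [← hyz, ← hy12, hi2]
    ring
  choose i x₁ hi hx₁ hdec using hdec
  let M : Matrix (Fin m) (Fin m) (MvPolynomial (Fin n) R) := Matrix.of fun ℓ ℓ' =>
    (if ℓ = ℓ' then a₀ else 0) - i ℓ ℓ'
  have hM : ∀ ℓ, ∑ ℓ', M ℓ ℓ' * f ℓ' ∈ Ideal.span (Set.range (f ∘ rows)) ⊔
      Ideal.span {(C (π ^ 2) : MvPolynomial (Fin n) R)} := by
    intro ℓ
    have h1 : ∑ ℓ', M ℓ ℓ' * f ℓ' = x₁ ℓ := by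
      simp only [M, Matrix.of_apply, sub_mul, Finset.sum_sub_distrib, ite_mul, zero_mul,
        Finset.sum_ite_eq, Finset.mem_univ, if_true]
      rw [hdec ℓ]; ring
    rw [h1]
    exact hx₁ ℓ
  have hdet := Helper27.LiftLem.det_mul_mem _ M f hM
  have hφM : φb (q M.det) = ab ^ m := by
    have h1 : φb (q M.det) = (φb.toRingHom.comp q) M.det := rfl
    rw [h1, RingHom.map_det]
    have h2 : (φb.toRingHom.comp q).mapMatrix M = Matrix.diagonal fun _ : Fin m => ab := by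
      refine Matrix.ext fun ℓ ℓ' => ?_
      simp only [RingHom.mapMatrix_apply, Matrix.map_apply, M, Matrix.of_apply, map_sub,
        Matrix.diagonal_apply]
      have h3 : (φb.toRingHom.comp q) (i ℓ ℓ') = 0 := hIker _ (hi ℓ ℓ')
      rw [h3, sub_zero]
      by_cases hℓ : ℓ = ℓ'
      · simp only [hℓ, if_true]
        show φb (q a₀) = ab
        rw [ha₀, hab₁]
      · simp [hℓ]
    rw [h2, Matrix.det_diagonal, Finset.prod_const, Finset.card_univ, Fintype.card_fin]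
  refine ⟨c, rows, fun k => cols k, M.det * a₀, M.det * a'₀, ?_, ?_, ?_⟩
  · have h1 : M.det * a₀ - M.det * a'₀ * Smoothing.jacobianMinor f rows (fun k => cols k) =
        M.det * (a₀ - a'₀ * Smoothing.jacobianMinor f rows (fun k => cols k)) := by ring
    rw [h1]
    refine Ideal.mul_mem_left _ _ (hkerφq _ ?_)
    rw [map_sub, map_mul, map_sub, map_mul, ha₀, ha'₀, hab₁, hab'₁, hqdef, map_jacobianMinor]
    have h2 : (fun j => MvPolynomial.map (Ideal.Quotient.mk (Ideal.span {π ^ 2})) (f j)) = fb := by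
      funext j; exact hf j
    rw [h2, hab]
    exact sub_self _
  · intro ℓ
    have h1 : M.det * a₀ * f ℓ = a₀ * (M.det * f ℓ) := by ring
    rw [h1]
    exact Ideal.mul_mem_left _ _ (hdet ℓ)
  · rw [map_mul, map_mul, hφM, ha₀, hab₁]
    intro h
    rcases Ideal.IsPrime.mem_or_mem inferInstance h with h1 | h1
    · exact hab𝔭 (Ideal.IsPrime.mem_of_pow_mem inferInstance _ h1)
    · exact hab𝔭 h1

end Helper27.LiftProb
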