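import Mathlib
import Groth.Prelude.Def_Smoothing
import Groth.Agent.Lib.Helper27.LiftProbG

set_option autoImplicit false
universe u

namespace Helper27.LiftProb

open MvPolynomial

theorem exists_charts {R Cb : Type u} [CommRing R] [IsNoetherianRing R] (π : R) [CommRing Cb]
    [Algebra (R ⧸ Ideal.span {π ^ 2}) Cb]
    [Algebra.FinitePresentation (R ⧸ Ideal.span {π ^ 2}) Cb]
    {n m : ℕ} (f : Fin m → MvPolynomial (Fin n) R)
    (fb : Fin m → MvPolynomial (Fin n) (R ⧸ Ideal.span {π ^ 2}))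
    (hf : ∀ j, MvPolynomial.map (Ideal.Quotient.mk (Ideal.span {π ^ 2})) (f j) = fb j)
    (φb : MvPolynomial (Fin n) (R ⧸ Ideal.span {π ^ 2}) →ₐ[R ⧸ Ideal.span {π ^ 2}] Cb)
    (hφb : Function.Surjective φb)
    (hkerb : RingHom.ker φb.toRingHom = Ideal.span (Set.range fb)) :
    ∃ (r : ℕ) (chs : Fin r → ChartX f π), ∀ (𝔭 : Ideal Cb) [𝔭.IsPrime],
      Algebra.IsSmoothAt (R ⧸ Ideal.span {π ^ 2}) 𝔭 →
        ∃ k, φb (MvPolynomial.map (Ideal.Quotient.mk (Ideal.span {π ^ 2})) (chs k).a) ∉ 𝔭 := by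
  classical
  have hnoeth : IsNoetherianRing Cb :=
    Algebra.FiniteType.isNoetherianRing (R ⧸ Ideal.span {π ^ 2}) Cb
  let val : ChartX f π → Cb := fun ch =>
    φb (MvPolynomial.map (Ideal.Quotient.mk (Ideal.span {π ^ 2})) ch.a)
  have hfg : (Submodule.span Cb (Set.range val)).FG := IsNoetherian.noetherian _
  obtain ⟨s', hs's, hss'⟩ := (Submodule.fg_span_iff_fg_span_finset_subset _).mp hfg
  have hch : ∀ x : s', ∃ ch, val ch = x := fun x => hs's x.2
  choose chOf hchOf using hch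
  refine ⟨s'.card, fun i => chOf (s'.equivFin.symm i), ?_⟩
  intro 𝔭 _ hsm
  have := hsm
  obtain ⟨c, rows, cols, a, a', h5, h4, ha𝔭⟩ := exists_chart_data π f fb hf φb hφb hkerb 𝔭
  obtain ⟨ch, hch⟩ := exists_chartX_of_data f π c rows cols a a' h5 h4
  by_contra hall
  push Not at hall
  have h1 : Submodule.span Cb (↑s' : Set Cb) ≤ 𝔭 := by
    refine Submodule.span_le.mpr fun x hx => ?_
    have h2 := hall (s'.equivFin ⟨x, hx⟩)
    rw [Equiv.symm_apply_apply] at h2
    have h3 : val (chOf ⟨x, hx⟩) = x := hchOf ⟨x, hx⟩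
    rw [← h3]
    exact h2
  have h2 : val ch ∈ Submodule.span Cb (Set.range val) := Submodule.subset_span ⟨ch, rfl⟩
  rw [hss'] at h2
  have h3 := h1 h2
  simp only [val] at h3
  rw [hch] at h3
  exact ha𝔭 h3

theorem isSmoothAt_of_std {R A : Type u} [CommRing R] [CommRing A] [Algebra R A]
    [Algebra.FinitePresentation R A] (Q : Ideal A) [Q.IsPrime] (g : A)
    (hg : Smoothing.IsStrictlyStandard R A g) (hgQ : g ∉ Q) : Algebra.IsSmoothAt R Q := by
  by_contra h
  have h1 := Helper27.StdElem.mem_singularIdeal_of_isStrictlyStandard g hg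
  unfold Smoothing.singularIdeal at h1
  rw [PrimeSpectrum.mem_vanishingIdeal] at h1
  exact hgQ (h1 ⟨Q, inferInstance⟩ h)

end Helper27.LiftProb
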