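import Mathlib
import Groth.Prelude.Def_Smoothing
import Groth.Agent.Lib.Helper27.LiftProbE
import Groth.Agent.Lib.Helper27.LiftProbH

set_option autoImplicit false
universe u

namespace Helper27.LiftProb

open MvPolynomial
open Helper27.StdConv (rho1 YY)

theorem exists_lift {R A B C' : Type*} [CommRing R] [CommRing A] [CommRing B] [Semiring C']
    [Algebra R A] [Algebra R B] [Algebra R C'] (φ : A →ₐ[R] B) (hφ : Function.Surjective φ)
    (χ : A →ₐ[R] C') (h : ∀ x, φ x = 0 → χ x = 0) : ∃ ψ : B →ₐ[R] C', ∀ p, ψ (φ p) = χ p := by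
  have hker : ∀ a : A, a ∈ RingHom.ker φ.toRingHom → χ a = 0 := fun a ha => h a ha
  refine ⟨(Ideal.Quotient.liftₐ (RingHom.ker φ.toRingHom) χ hker).comp
    (Ideal.quotientKerAlgEquivOfSurjective hφ).symm.toAlgHom, fun p => ?_⟩
  have h1 : (Ideal.quotientKerAlgEquivOfSurjective hφ).symm (φ p) =
      Ideal.Quotient.mk _ p := by
    rw [AlgEquiv.symm_apply_eq]
    rfl
  show (Ideal.Quotient.liftₐ (RingHom.ker φ.toRingHom) χ hker)
    ((Ideal.quotientKerAlgEquivOfSurjective hφ).symm (φ p)) = χ p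
  rw [h1]
  rfl

set_option maxHeartbeats 2000000 in
theorem main {R Λ Cb : Type u} [CommRing R] [IsNoetherianRing R] [CommRing Λ]
    [Algebra R Λ] (π : R) (hR : ∀ r : R, π ^ 2 * r = 0 → π * r = 0)
    (hΛ : ∀ x : Λ, π ^ 2 • x = 0 → π • x = 0) [CommRing Cb] [Algebra R Cb]
    [Algebra (R ⧸ Ideal.span {π ^ 2}) Cb] [IsScalarTower R (R ⧸ Ideal.span {π ^ 2}) Cb]
    [Algebra.FinitePresentation (R ⧸ Ideal.span {π ^ 2}) Cb]
    (g : Cb →ₐ[R] Λ ⧸ Ideal.span {algebraMap R Λ (π ^ 2)}) :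
    ∃ (D : Type u) (_ : CommRing D) (_ : Algebra R D), Algebra.FinitePresentation R D ∧
      ∃ (δ : D →ₐ[R] Λ) (ψ : Cb →ₐ[R] D ⧸ Ideal.span {algebraMap R D π}),
        (∀ (c : Cb) (d : D) (l : Λ), Ideal.Quotient.mk (Ideal.span {algebraMap R D π}) d = ψ c →
          Ideal.Quotient.mk (Ideal.span {algebraMap R Λ (π ^ 2)}) l = g c →
            δ d - l ∈ Ideal.span {algebraMap R Λ π}) ∧
        (∀ (Q : Ideal D) [Q.IsPrime], algebraMap R D π ∉ Q → Algebra.IsSmoothAt R Q) ∧
        (∀ (Q : Ideal (D ⧸ Ideal.span {algebraMap R D π})) [Q.IsPrime],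
          Algebra.IsSmoothAt (R ⧸ Ideal.span {π ^ 2}) (Q.comap ψ) →
            Algebra.IsSmoothAt R
              (Q.comap (Ideal.Quotient.mk (Ideal.span {algebraMap R D π})))) := by
  classical
  obtain ⟨n, m, fb, φb, hφb, hkerb⟩ :=
    Helper27.StdElem.exists_presentation (R := R ⧸ Ideal.span {π ^ 2}) (A := Cb)
  have hqsurj : Function.Surjective (MvPolynomial.map (Ideal.Quotient.mk (Ideal.span {π ^ 2})) :
      MvPolynomial (Fin n) R → MvPolynomial (Fin n) (R ⧸ Ideal.span {π ^ 2})) :=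
    MvPolynomial.map_surjective _ Ideal.Quotient.mk_surjective
  have hfex : ∀ j, ∃ fj : MvPolynomial (Fin n) R,
      MvPolynomial.map (Ideal.Quotient.mk (Ideal.span {π ^ 2})) fj = fb j := fun j => hqsurj _
  choose f hf using hfex
  obtain ⟨φ, hφapp⟩ : ∃ φ : MvPolynomial (Fin n) R →ₐ[R] Cb,
      ∀ p, φ p = φb (MvPolynomial.map (Ideal.Quotient.mk (Ideal.span {π ^ 2})) p) :=
    ⟨(φb.restrictScalars R).comp
      (MvPolynomial.mapAlgHom (Ideal.Quotient.mkₐ R (Ideal.span {π ^ 2}))), fun p => rfl⟩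
  have hφ : Function.Surjective φ := by
    intro c
    obtain ⟨pb, rfl⟩ := hφb c
    obtain ⟨p, rfl⟩ := hqsurj pb
    exact ⟨p, hφapp p⟩
  have hφf : ∀ j, φ (f j) = 0 := by
    intro j
    rw [hφapp, hf]
    have h1 : fb j ∈ RingHom.ker φb.toRingHom := hkerb ▸ Ideal.subset_span ⟨j, rfl⟩
    exact h1
  have hφπ : φ (C (π ^ 2)) = 0 := by
    rw [hφapp, MvPolynomial.map_C]
    have h1 : Ideal.Quotient.mk (Ideal.span {π ^ 2}) (π ^ 2) = 0 :=
      Ideal.Quotient.eq_zero_iff_mem.mpr (Ideal.subset_span rfl)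
    rw [h1, C_0, map_zero]
  have hφI : ∀ x ∈ Ideal.span (Set.range f) ⊔ Ideal.span {(C (π ^ 2) : MvPolynomial (Fin n) R)},
      φ x = 0 := by
    intro x hx
    have hle : Ideal.span (Set.range f) ⊔ Ideal.span {(C (π ^ 2) : MvPolynomial (Fin n) R)} ≤
        RingHom.ker φ.toRingHom := by
      refine sup_le (Ideal.span_le.mpr ?_) (Ideal.span_le.mpr ?_)
      · rintro _ ⟨j, rfl⟩
        exact hφf j
      · rintro _ rfl
        exact hφπ
    exact hle hx
  have hkerφ : ∀ x, φ x = 0 →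
      x ∈ Ideal.span (Set.range f) ⊔ Ideal.span {(C (π ^ 2) : MvPolynomial (Fin n) R)} := by
    intro x hx
    have h1 : MvPolynomial.map (Ideal.Quotient.mk (Ideal.span {π ^ 2})) x ∈
        RingHom.ker φb.toRingHom := by
      rw [hφapp] at hx
      exact hx
    have hmapI : Ideal.map (MvPolynomial.map (Ideal.Quotient.mk (Ideal.span {π ^ 2})))
        (Ideal.span (Set.range f)) = Ideal.span (Set.range fb) := by
      rw [Ideal.map_span, ← Set.range_comp]
      congr 2
      funext j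
      exact hf j
    rw [hkerb, ← hmapI] at h1
    have h2 := mem_of_map_mem _ hqsurj _ x h1
    rwa [ker_q] at h2
  obtain ⟨r, chs, hcover⟩ := exists_charts π f fb hf φb hφb hkerb
  -- the algebra D
  let J : Ideal (MvPolynomial (Fin (n + m)) R) := Ideal.span (Set.range (relAll f π chs))
  have hfp : Algebra.FinitePresentation R (MvPolynomial (Fin (n + m)) R ⧸ J) :=
    Algebra.FinitePresentation.quotient (Submodule.fg_span (Set.finite_range _))
  have hFJ : ∀ ℓ, relF f π ℓ ∈ J := fun ℓ =>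
    Ideal.subset_span ⟨_, relAll_left f π chs ℓ⟩
  have hPJ : ∀ k ℓ, relP f π (chs k) ℓ ∈ J := fun k ℓ =>
    Ideal.subset_span ⟨_, relAll_right f π chs k ℓ⟩
  -- the map to Λ
  have hlamex : ∀ i, ∃ l : Λ, Ideal.Quotient.mk (Ideal.span {algebraMap R Λ (π ^ 2)}) l =
      g (φ (X i)) := fun i => Ideal.Quotient.mk_surjective _
  choose lam hlam using hlamex
  have hgφ : ∀ p, g (φ p) = Ideal.Quotient.mk (Ideal.span {algebraMap R Λ (π ^ 2)})
      (aeval lam p) := by
    have h1 : g.comp φ = (Ideal.Quotient.mkₐ R (Ideal.span {algebraMap R Λ (π ^ 2)})).comp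
        (aeval lam) := by
      ext i
      simp only [AlgHom.comp_apply, aeval_X, Ideal.Quotient.mkₐ_eq_mk]
      exact (hlam i).symm
    intro p
    have h2 := congrArg (fun G : MvPolynomial (Fin n) R →ₐ[R] _ => G p) h1
    exact h2
  have hμex : ∀ j, ∃ μj : Λ, aeval lam (f j) = algebraMap R Λ (π ^ 2) * μj := by
    intro j
    have h1 := hgφ (f j)
    rw [hφf, map_zero] at h1
    obtain ⟨w, hw⟩ := Ideal.mem_span_singleton'.mp (Ideal.Quotient.eq_zero_iff_mem.mp h1.symm)
    exact ⟨w, by rw [← hw]; ring⟩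
  choose μ hμ using hμex
  let δ₀ : MvPolynomial (Fin (n + m)) R →ₐ[R] Λ :=
    aeval (Fin.append lam (fun j => π • μ j))
  have hδρ : ∀ p, δ₀ (rho1 n m p) = aeval lam p := by
    intro p
    show aeval _ (rename _ p) = _
    rw [aeval_rename]
    congr 2
    funext i
    exact Fin.append_left _ _ i
  have hδY : ∀ j, δ₀ (YY n m j) = π • μ j := by
    intro j
    show aeval _ (X _) = _
    rw [aeval_X, Fin.append_right]
  have hδC : ∀ x : R, δ₀ (C x) = algebraMap R Λ x := fun x => by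
    rw [← MvPolynomial.algebraMap_eq, AlgHom.commutes]
  have hδF : ∀ j, δ₀ (relF f π j) = 0 := by
    intro j
    unfold relF
    rw [map_sub, map_mul, hδρ, hδY, hδC, hμ, Algebra.smul_def, map_pow]
    ring
  have hδP : ∀ k ℓ, δ₀ (relP f π (chs k) ℓ) = 0 := by
    intro k ℓ
    obtain ⟨τ, hτ⟩ : ∃ τ, τ = aeval lam (chs k).a * μ ℓ -
      ∑ j, aeval lam ((chs k).h ℓ j) * μ ((chs k).rows j) - aeval lam ((chs k).g ℓ) := ⟨_, rfl⟩
    have h1 : δ₀ (relP f π (chs k) ℓ) = π • τ := by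
      unfold relP
      simp only [map_sub, map_mul, map_sum, hδρ, hδY, hδC, Algebra.smul_def]
      rw [hτ, mul_sub, mul_sub, Finset.mul_sum]
      congr 1
      · congr 1
        · ring
        · refine Finset.sum_congr rfl fun j _ => ?_
          ring
    have h2 : π ^ 2 • τ = 0 := by
      have h3 := congrArg (aeval lam) ((chs k).h4 ℓ)
      simp only [map_add, map_mul, map_sum, hμ, aeval_C] at h3
      rw [hτ, Algebra.smul_def, mul_sub, mul_sub, Finset.mul_sum]
      have h4 : ∑ j, algebraMap R Λ (π ^ 2) * (aeval lam ((chs k).h ℓ j) * μ ((chs k).rows j)) =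
          ∑ j, aeval lam ((chs k).h ℓ j) * (algebraMap R Λ (π ^ 2) * μ ((chs k).rows j)) := by
        refine Finset.sum_congr rfl fun j _ => ?_
        ring
      rw [h4]
      linear_combination h3
    rw [h1]
    exact hΛ τ h2
  have hδJ : ∀ x ∈ J, δ₀ x = 0 := by
    intro x hx
    have hle : J ≤ RingHom.ker δ₀.toRingHom := by
      refine Ideal.span_le.mpr ?_
      rintro _ ⟨i, rfl⟩
      exact relAll_cases f π chs (fun t => t ∈ RingHom.ker δ₀.toRingHom) hδF hδP i
    exact hle hx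
  obtain ⟨δ, hδmk⟩ : ∃ δ : (MvPolynomial (Fin (n + m)) R ⧸ J) →ₐ[R] Λ,
      ∀ x, δ (Ideal.Quotient.mk J x) = δ₀ x :=
    ⟨Ideal.Quotient.liftₐ J δ₀ hδJ, fun x => rfl⟩
  -- the map ψ
  obtain ⟨Iπ, hIπ⟩ : ∃ Iπ : Ideal (MvPolynomial (Fin (n + m)) R ⧸ J),
      Iπ = Ideal.span {algebraMap R (MvPolynomial (Fin (n + m)) R ⧸ J) π} := ⟨_, rfl⟩
  have hπIπ : Ideal.Quotient.mk J (C π) ∈ Iπ := by
    rw [hIπ]
    exact Ideal.subset_span rfl
  have hψI : ∀ x ∈ Ideal.span (Set.range f) ⊔ Ideal.span {(C (π ^ 2) : MvPolynomial (Fin n) R)},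
      Ideal.Quotient.mk J (rho1 n m x) ∈ Iπ := by
    intro x hx
    have hle : Ideal.span (Set.range f) ⊔ Ideal.span {(C (π ^ 2) : MvPolynomial (Fin n) R)} ≤
        Ideal.comap ((Ideal.Quotient.mk J).comp (rho1 n m).toRingHom) Iπ := by
      refine sup_le (Ideal.span_le.mpr ?_) (Ideal.span_le.mpr ?_)
      · rintro _ ⟨j, rfl⟩
        refine Ideal.mem_comap.mpr ?_
        show Ideal.Quotient.mk J (rho1 n m (f j)) ∈ Iπ
        have h1 : rho1 n m (f j) = relF f π j + YY n m j * C π := by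
          unfold relF; ring
        rw [h1, map_add, Ideal.Quotient.eq_zero_iff_mem.mpr (hFJ j), zero_add, map_mul]
        exact Ideal.mul_mem_left _ _ hπIπ
      · rintro _ rfl
        refine Ideal.mem_comap.mpr ?_
        show Ideal.Quotient.mk J (rho1 n m (C (π ^ 2))) ∈ Iπ
        rw [rho1_C, pow_two, C_mul, map_mul]
        exact Ideal.mul_mem_left _ _ hπIπ
    exact hle hx
  obtain ⟨χ, hχ⟩ : ∃ χ : MvPolynomial (Fin n) R →ₐ[R] (MvPolynomial (Fin (n + m)) R ⧸ J) ⧸
      Ideal.span {algebraMap R (MvPolynomial (Fin (n + m)) R ⧸ J) π},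
      ∀ p, χ p = Ideal.Quotient.mk _ (Ideal.Quotient.mk J (rho1 n m p)) :=
    ⟨(Ideal.Quotient.mkₐ R
      (Ideal.span {algebraMap R (MvPolynomial (Fin (n + m)) R ⧸ J) π})).comp
        ((Ideal.Quotient.mkₐ R J).comp (rho1 n m)), fun p => rfl⟩
  have hψker : ∀ x, φ x = 0 → χ x = 0 := by
    intro x hx
    rw [hχ, Ideal.Quotient.eq_zero_iff_mem, ← hIπ]
    exact hψI x (hkerφ x hx)
  obtain ⟨ψ, hψ'⟩ := exists_lift φ hφ χ hψker
  have hψ : ∀ p, ψ (φ p) = Ideal.Quotient.mk _ (Ideal.Quotient.mk J (rho1 n m p)) := by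
    intro p
    rw [hψ', hχ]
  refine ⟨MvPolynomial (Fin (n + m)) R ⧸ J, inferInstance, inferInstance, hfp, δ, ψ, ?_, ?_, ?_⟩
  · -- compatibility
    intro c d l hd hl
    obtain ⟨p, rfl⟩ := hφ c
    rw [hψ] at hd
    rw [hgφ] at hl
    obtain ⟨w, hw⟩ := Ideal.mem_span_singleton'.mp (Ideal.Quotient.eq.mp hd)
    obtain ⟨w', hw'⟩ := Ideal.mem_span_singleton'.mp (Ideal.Quotient.eq.mp hl)
    have h1 : δ d = aeval lam p + δ w * algebraMap R Λ π := by
      have h2 : d = Ideal.Quotient.mk J (rho1 n m p) +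
          w * algebraMap R (MvPolynomial (Fin (n + m)) R ⧸ J) π := by
        rw [hw]; ring
      rw [h2, map_add, map_mul, hδmk, hδρ, AlgHom.commutes]
    have h2 : l = aeval lam p + w' * algebraMap R Λ (π ^ 2) := by rw [hw']; ring
    rw [h1, h2, map_pow]
    have h3 : aeval lam p + δ w * algebraMap R Λ π -
        (aeval lam p + w' * algebraMap R Λ π ^ 2) =
        (δ w - w' * algebraMap R Λ π) * algebraMap R Λ π := by ring
    rw [h3]
    exact Ideal.mul_mem_left _ _ (Ideal.subset_span rfl)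
  · -- smooth away from π
    intro Q _ hπQ
    refine isSmoothAt_of_std Q _ (std_pi f π chs) ?_
    intro h1
    rw [map_mul, map_pow, map_neg] at h1
    have h2 : Ideal.Quotient.mk J (C π) =
        algebraMap R (MvPolynomial (Fin (n + m)) R ⧸ J) π := rfl
    rw [h2] at h1
    rcases Ideal.IsPrime.mem_or_mem inferInstance h1 with h3 | h3
    · exact hπQ h3
    · have h4 := Ideal.IsPrime.mem_of_pow_mem inferInstance _ h3
      exact hπQ ((Ideal.neg_mem_iff _).mp h4)
  · -- smooth over smooth points of C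
    intro Q _ hsm
    obtain ⟨k, hk⟩ := hcover (Q.comap ψ) hsm
    rw [← hφapp] at hk
    obtain ⟨K, hK⟩ := exists_std_chart f π chs hR k
    refine isSmoothAt_of_std _ _ hK ?_
    intro h1
    have hmem : ∀ p, Ideal.Quotient.mk J (rho1 n m p) ∈
        Q.comap (Ideal.Quotient.mk (Ideal.span {algebraMap R
          (MvPolynomial (Fin (n + m)) R ⧸ J) π})) → φ p ∈ Q.comap ψ := by
      intro p hp
      rw [Ideal.mem_comap, hψ]
      exact hp
    have hprime : (Q.comap (Ideal.Quotient.mk (Ideal.span {algebraMap R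
          (MvPolynomial (Fin (n + m)) R ⧸ J) π}))).IsPrime := inferInstance
    rw [map_mul, map_pow, map_pow] at h1
    rcases hprime.mem_or_mem h1 with h2 | h2
    · have h3 := hprime.mem_of_pow_mem _ h2
      unfold Gk at h3
      rw [map_mul, map_pow] at h3
      rcases hprime.mem_or_mem h3 with h4 | h4
      · have h5 := hmem _ h4
        have h6 : φ ((chs k).a' * Smoothing.jacobianMinor f (chs k).rows (chs k).cols) =
            φ (chs k).a := by
          have h7 := hφI _ (chs k).h5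
          rw [map_sub, sub_eq_zero] at h7
          exact h7.symm
        rw [h6] at h5
        exact hk h5
      · exact hk (hmem _ (hprime.mem_of_pow_mem _ h4))
    · exact hk (hmem _ (hprime.mem_of_pow_mem _ h2))

end Helper27.LiftProb
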