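import Mathlib
import Groth.Agent.Lib.Helper27.LiftProbI

set_option autoImplicit false
universe u

open MvPolynomial

namespace Helper27.DimZero

abbrev Var (n m r : ℕ) := Fin n ⊕ (Fin r ⊕ (Unit ⊕ (Fin r × Fin m)))

section defs
variable {A : Type*} [CommRing A] (n m r : ℕ)

noncomputable def vX (i : Fin n) : MvPolynomial (Var n m r) A := X (Sum.inl i)
noncomputable def vY (i : Fin r) : MvPolynomial (Var n m r) A := X (Sum.inr (Sum.inl i))
noncomputable def vZ : MvPolynomial (Var n m r) A := X (Sum.inr (Sum.inr (Sum.inl ())))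
noncomputable def vT (i : Fin r) (j : Fin m) : MvPolynomial (Var n m r) A :=
  X (Sum.inr (Sum.inr (Sum.inr (i, j))))
noncomputable def incl : MvPolynomial (Fin n) A →ₐ[A] MvPolynomial (Var n m r) A :=
  rename Sum.inl

variable {n m}

noncomputable def relF (f : Fin m → MvPolynomial (Fin n) A) (j : Fin m) :
    MvPolynomial (Var n m r) A :=
  incl n m r (f j) - ∑ i : Fin r, vY n m r i * vT n m r i j

variable (n m)

noncomputable def relZ (i : Fin r) : MvPolynomial (Var n m r) A := vZ n m r * vY n m r i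

variable {n m}

noncomputable def relIdeal (f : Fin m → MvPolynomial (Fin n) A) :
    Ideal (MvPolynomial (Var n m r) A) :=
  Ideal.span (Set.range (relF r f) ∪ Set.range (relZ n m r))

variable {r}

def vals {T : Type*} (ξ : Fin n → T) (η : Fin r → T) (ζ : T) (τ : Fin r → Fin m → T) :
    Var n m r → T :=
  Sum.elim ξ (Sum.elim η (Sum.elim (fun _ => ζ) (fun p => τ p.1 p.2)))

end defs

section lifts

variable {A : Type*} [CommRing A] {n m r : ℕ}

theorem aeval_vals_incl {T : Type*} [CommRing T] [Algebra A T] (ξ : Fin n → T) (η : Fin r → T)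
    (ζ : T) (τ : Fin r → Fin m → T) (p : MvPolynomial (Fin n) A) :
    aeval (vals ξ η ζ τ) (incl n m r p) = aeval ξ p := by
  unfold incl
  rw [aeval_rename]
  rfl

theorem exists_algHom {B T : Type*} [CommRing B] [Algebra A B] [CommRing T] [Algebra A T]
    (f : Fin m → MvPolynomial (Fin n) A)
    (π : MvPolynomial (Var n m r) A →ₐ[A] B) (hπ : Function.Surjective π)
    (hker : ∀ p, π p = 0 → p ∈ relIdeal r f)
    (ξ : Fin n → T) (η : Fin r → T) (ζ : T) (τ : Fin r → Fin m → T)
    (hF : ∀ j, aeval ξ (f j) = ∑ i, η i * τ i j) (hZ : ∀ i, ζ * η i = 0) :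
    ∃ v : B →ₐ[A] T, (∀ i, v (π (vX n m r i)) = ξ i) ∧ (∀ i, v (π (vY n m r i)) = η i) ∧
      v (π (vZ n m r)) = ζ ∧ ∀ i j, v (π (vT n m r i j)) = τ i j := by
  have h2 : relIdeal r f ≤ RingHom.ker (aeval (vals ξ η ζ τ) :
      MvPolynomial (Var n m r) A →ₐ[A] T).toRingHom := by
    unfold relIdeal
    rw [Ideal.span_le]
    rintro _ (⟨j, rfl⟩ | ⟨i, rfl⟩)
    · show aeval (vals ξ η ζ τ) (relF r f j) = 0
      unfold relF
      rw [map_sub, aeval_vals_incl, hF, map_sum, sub_eq_zero]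
      refine Finset.sum_congr rfl fun i _ => ?_
      simp [vY, vT, vals]
    · show aeval (vals ξ η ζ τ) (relZ n m r i) = 0
      simp [relZ, vZ, vY, vals, hZ]
  obtain ⟨v, hv⟩ := Helper27.LiftProb.exists_lift π hπ (aeval (vals ξ η ζ τ))
    (fun p hp => h2 (hker p hp))
  refine ⟨v, fun i => ?_, fun i => ?_, ?_, fun i j => ?_⟩
  · rw [hv]; simp [vX, vals]
  · rw [hv]; simp [vY, vals]
  · rw [hv]; simp [vZ, vals]
  · rw [hv]; simp [vT, vals]

theorem ringHom_ext' {B S : Type*} [CommRing B] [Algebra A B] [Semiring S]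
    (π : MvPolynomial (Var n m r) A →ₐ[A] B) (hπ : Function.Surjective π)
    (u₁ u₂ : B →+* S) (hA : ∀ a, u₁ (algebraMap A B a) = u₂ (algebraMap A B a))
    (hX : ∀ i, u₁ (π (vX n m r i)) = u₂ (π (vX n m r i)))
    (hY : ∀ i, u₁ (π (vY n m r i)) = u₂ (π (vY n m r i)))
    (hZ : u₁ (π (vZ n m r)) = u₂ (π (vZ n m r)))
    (hT : ∀ i j, u₁ (π (vT n m r i j)) = u₂ (π (vT n m r i j))) : u₁ = u₂ := by
  have h : u₁.comp π.toRingHom = u₂.comp π.toRingHom := by
    refine MvPolynomial.ringHom_ext (fun a => ?_) (fun v => ?_)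
    · have : π (C a) = algebraMap A B a := by
        rw [← MvPolynomial.algebraMap_eq, π.commutes]
      simp only [RingHom.comp_apply, AlgHom.toRingHom_eq_coe, RingHom.coe_coe, this, hA]
    · rcases v with i | i | ⟨⟩ | ⟨i, j⟩
      · exact hX i
      · exact hY i
      · exact hZ
      · exact hT i j
  ext b
  obtain ⟨p, rfl⟩ := hπ b
  exact RingHom.congr_fun h p

end lifts

end Helper27.DimZero
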