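import Mathlib
import Groth.Agent.Lib.Helper27.DimZeroA

set_option autoImplicit false
universe u

open MvPolynomial

namespace Helper27.DimZero

section lifts

variable {A : Type*} [CommRing A] {n m r : ℕ}

theorem relF_eq {B : Type*} [CommRing B] [Algebra A B]
    (f : Fin m → MvPolynomial (Fin n) A)
    (π : MvPolynomial (Var n m r) A →ₐ[A] B)
    (hker : ∀ p, π p = 0 ↔ p ∈ relIdeal r f) (j : Fin m) :
    π (incl n m r (f j)) = ∑ i, π (vY n m r i) * π (vT n m r i j) := by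
  have h1 : π (relF r f j) = 0 :=
    (hker _).mpr (Ideal.subset_span (Or.inl ⟨j, rfl⟩))
  unfold relF at h1
  rw [map_sub, sub_eq_zero] at h1
  rw [h1, map_sum]
  simp

theorem relZ_eq {B : Type*} [CommRing B] [Algebra A B]
    (f : Fin m → MvPolynomial (Fin n) A)
    (π : MvPolynomial (Var n m r) A →ₐ[A] B)
    (hker : ∀ p, π p = 0 ↔ p ∈ relIdeal r f) (i : Fin r) :
    π (vZ n m r) * π (vY n m r i) = 0 := by
  have h1 : π (relZ n m r i) = 0 :=
    (hker _).mpr (Ideal.subset_span (Or.inr ⟨i, rfl⟩))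
  unfold relZ at h1
  rwa [map_mul] at h1

theorem mk_aeval_eq {B T : Type*} [CommRing B] [Algebra A B] [CommRing T] [Algebra A T]
    (π : MvPolynomial (Var n m r) A →ₐ[A] B)
    (J : Ideal T) (u : B →ₐ[A] T ⧸ J) (ξ : Fin n → T)
    (hξ : ∀ i, Ideal.Quotient.mk J (ξ i) = u (π (vX n m r i))) (p : MvPolynomial (Fin n) A) :
    Ideal.Quotient.mk J (aeval ξ p) = u (π (incl n m r p)) := by
  have h : (Ideal.Quotient.mkₐ A J).comp (aeval ξ) = (u.comp π).comp (incl n m r) := by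
    refine MvPolynomial.algHom_ext fun i => ?_
    simp only [AlgHom.comp_apply, aeval_X, Ideal.Quotient.mkₐ_eq_mk, hξ]
    simp [incl, vX]
  exact DFunLike.congr_fun h p

theorem smooth_lift_Y {B T : Type*} [CommRing B] [Algebra A B] [CommRing T] [Algebra A T]
    (f : Fin m → MvPolynomial (Fin n) A)
    (π : MvPolynomial (Var n m r) A →ₐ[A] B) (hπ : Function.Surjective π)
    (hker : ∀ p, π p = 0 ↔ p ∈ relIdeal r f)
    (J : Ideal T) (hJ : J ^ 2 = ⊥) (u : B →ₐ[A] T ⧸ J) (ℓ : Fin r)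
    (hu : IsUnit (u (π (vY n m r ℓ)))) :
    ∃ v : B →ₐ[A] T, (Ideal.Quotient.mkₐ A J).comp v = u := by
  classical
  have hsurj := Ideal.Quotient.mk_surjective (I := J)
  choose ξ hξ using fun i => hsurj (u (π (vX n m r i)))
  choose η hη using fun i => hsurj (u (π (vY n m r i)))
  choose τ hτ using fun i j => hsurj (u (π (vT n m r i j)))
  have hηu : IsUnit (η ℓ) := by
    rw [← IsNilpotent.isUnit_quotient_mk_iff (I := J) ⟨2, hJ⟩, hη]
    exact hu
  obtain ⟨w, hw⟩ := hηu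
  obtain ⟨τ', hτ'⟩ : ∃ τ' : Fin r → Fin m → T, ∀ i j, τ' i j = if i = ℓ then
      ↑w⁻¹ * (aeval ξ (f j) - ∑ i' ∈ Finset.univ.erase ℓ, η i' * τ i' j) else τ i j :=
    ⟨_, fun _ _ => rfl⟩
  have h1 : ∀ j, η ℓ * τ' ℓ j =
      aeval ξ (f j) - ∑ i' ∈ Finset.univ.erase ℓ, η i' * τ i' j := by
    intro j
    rw [hτ', if_pos rfl, ← hw, ← mul_assoc, Units.mul_inv, one_mul]
  have h2 : ∀ j, ∑ i ∈ Finset.univ.erase ℓ, η i * τ' i j =
      ∑ i ∈ Finset.univ.erase ℓ, η i * τ i j := by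
    intro j
    refine Finset.sum_congr rfl fun i hi => ?_
    rw [hτ', if_neg (Finset.ne_of_mem_erase hi)]
  have hF : ∀ j, aeval ξ (f j) = ∑ i, η i * τ' i j := by
    intro j
    rw [← Finset.add_sum_erase Finset.univ _ (Finset.mem_univ ℓ), h1, h2]
    ring
  obtain ⟨v, hvX, hvY, hvZ, hvT⟩ := exists_algHom f π hπ (fun p hp => (hker p).mp hp)
    ξ η 0 τ' hF (fun i => zero_mul _)
  refine ⟨v, ?_⟩
  apply AlgHom.coe_ringHom_injective
  apply ringHom_ext' π hπ
  · intro a
    simp only [AlgHom.coe_toRingHom, AlgHom.commutes]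
  · intro i
    show Ideal.Quotient.mk J (v (π (vX n m r i))) = _
    rw [hvX, hξ]
    rfl
  · intro i
    show Ideal.Quotient.mk J (v (π (vY n m r i))) = _
    rw [hvY, hη]
    rfl
  · show Ideal.Quotient.mk J (v (π (vZ n m r))) = u (π (vZ n m r))
    rw [hvZ, map_zero]
    have h3 := relZ_eq f π hker ℓ
    have h4 : u (π (vZ n m r)) * u (π (vY n m r ℓ)) = 0 := by
      rw [← map_mul, h3, map_zero]
    exact (hu.mul_left_eq_zero.mp h4).symm
  · intro i j
    show Ideal.Quotient.mk J (v (π (vT n m r i j))) = u (π (vT n m r i j))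
    rw [hvT]
    by_cases hi : i = ℓ
    · subst hi
      apply hu.mul_left_cancel
      rw [← hη, ← map_mul, h1, map_sub, mk_aeval_eq π J u ξ hξ, relF_eq f π hker, map_sum,
        ← Finset.add_sum_erase Finset.univ _ (Finset.mem_univ i), map_sum]
      have h5 : ∀ i' ∈ Finset.univ.erase i, Ideal.Quotient.mk J (η i' * τ i' j) =
          u (π (vY n m r i') * π (vT n m r i' j)) := by
        intro i' _
        rw [map_mul, map_mul, hη, hτ]
      rw [Finset.sum_congr rfl h5, add_sub_cancel_right, map_mul, hη]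
    · rw [hτ', if_neg hi, hτ]

theorem smooth_lift_Z {B T : Type*} [CommRing B] [Algebra A B] [CommRing T] [Algebra A T]
    (f : Fin m → MvPolynomial (Fin n) A)
    (π : MvPolynomial (Var n m r) A →ₐ[A] B) (hπ : Function.Surjective π)
    (hker : ∀ p, π p = 0 ↔ p ∈ relIdeal r f)
    (J : Ideal T) (u : B →ₐ[A] T ⧸ J)
    (hu : IsUnit (u (π (vZ n m r))))
    (ξ : Fin n → T) (hξ : ∀ i, Ideal.Quotient.mk J (ξ i) = u (π (vX n m r i)))
    (hξf : ∀ j, aeval ξ (f j) = 0) :
    ∃ v : B →ₐ[A] T, (Ideal.Quotient.mkₐ A J).comp v = u := by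
  classical
  have hsurj := Ideal.Quotient.mk_surjective (I := J)
  obtain ⟨ζ, hζ⟩ := hsurj (u (π (vZ n m r)))
  choose τ hτ using fun i j => hsurj (u (π (vT n m r i j)))
  obtain ⟨v, hvX, hvY, hvZ, hvT⟩ := exists_algHom f π hπ (fun p hp => (hker p).mp hp)
    ξ (fun _ => 0) ζ τ (fun j => by rw [hξf]; simp) (fun i => mul_zero _)
  refine ⟨v, ?_⟩
  apply AlgHom.coe_ringHom_injective
  apply ringHom_ext' π hπ
  · intro a
    simp only [AlgHom.coe_toRingHom, AlgHom.commutes]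
  · intro i
    show Ideal.Quotient.mk J (v (π (vX n m r i))) = _
    rw [hvX, hξ]
    rfl
  · intro i
    show Ideal.Quotient.mk J (v (π (vY n m r i))) = u (π (vY n m r i))
    rw [hvY, map_zero]
    have h3 := relZ_eq f π hker i
    have h4 : u (π (vZ n m r)) * u (π (vY n m r i)) = 0 := by
      rw [← map_mul, h3, map_zero]
    exact (hu.mul_right_eq_zero.mp h4).symm
  · show Ideal.Quotient.mk J (v (π (vZ n m r))) = u (π (vZ n m r))
    rw [hvZ, hζ]
  · intro i j
    show Ideal.Quotient.mk J (v (π (vT n m r i j))) = u (π (vT n m r i j))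
    rw [hvT, hτ]

end lifts

end Helper27.DimZero
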