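import Mathlib
import Groth.Agent.Lib.Helper27.DimZeroB

set_option autoImplicit false
universe u

open MvPolynomial

namespace Helper27.DimZero

theorem formallySmooth_away_of_lift {R B : Type u} [CommRing R] [CommRing B] [Algebra R B] (s : B)
    (H : ∀ (T : Type u) [CommRing T] [Algebra R T] (J : Ideal T), J ^ 2 = ⊥ →
      ∀ u : B →ₐ[R] T ⧸ J, IsUnit (u s) →
        ∃ v : B →ₐ[R] T, (Ideal.Quotient.mkₐ R J).comp v = u) :
    Algebra.FormallySmooth R (Localization.Away s) := by
  refine Algebra.FormallySmooth.of_comp_surjective ?_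
  intro T _ _ J hJ w
  obtain ⟨u, hu⟩ : ∃ u : B →ₐ[R] T ⧸ J, u = w.comp (IsScalarTower.toAlgHom R B (Localization.Away s)) :=
    ⟨_, rfl⟩
  have hus : IsUnit (u s) := by
    rw [hu]
    exact (IsLocalization.Away.algebraMap_isUnit (S := Localization.Away s) s).map w
  obtain ⟨v, hv⟩ := H T J hJ u hus
  have hvs : IsUnit (v s) := by
    rw [← IsNilpotent.isUnit_quotient_mk_iff (I := J) ⟨2, hJ⟩]
    have := DFunLike.congr_fun hv s
    simp only [AlgHom.comp_apply, Ideal.Quotient.mkₐ_eq_mk] at this
    rw [this]
    exact hus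
  refine ⟨IsLocalization.Away.liftAlgHom (A := R) (S := Localization.Away s) s (f := v) hvs, ?_⟩
  apply IsLocalization.algHom_ext (Submonoid.powers s)
  ext b
  simp only [AlgHom.comp_apply]
  have h1 : (IsLocalization.Away.liftAlgHom (A := R) (S := Localization.Away s) s (f := v) hvs)
      (algebraMap B (Localization.Away s) b) = v b := IsLocalization.Away.lift_eq s hvs b
  have h2 := DFunLike.congr_fun hv b
  simp only [AlgHom.comp_apply] at h2
  show (Ideal.Quotient.mkₐ R J) ((IsLocalization.Away.liftAlgHom (A := R)
    (S := Localization.Away s) s (f := v) hvs) (algebraMap B (Localization.Away s) b)) =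
    w (algebraMap B (Localization.Away s) b)
  rw [h1, h2, hu]
  rfl

theorem mem_singularIdeal_of_formallySmooth_away {R B : Type u} [CommRing R] [CommRing B]
    [Algebra R B] [Algebra.FinitePresentation R B] (s : B)
    (h : Algebra.FormallySmooth R (Localization.Away s)) :
    s ∈ Smoothing.singularIdeal R B := by
  unfold Smoothing.singularIdeal
  rw [PrimeSpectrum.mem_vanishingIdeal]
  intro P hP
  by_contra hs
  exact hP (Algebra.basicOpen_subset_smoothLocus_iff.mpr h hs)

theorem formallySmooth_away_of_mem_singularIdeal {R B : Type u} [CommRing R] [CommRing B]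
    [Algebra R B] [Algebra.FinitePresentation R B] (s : B)
    (h : s ∈ Smoothing.singularIdeal R B) :
    Algebra.FormallySmooth R (Localization.Away s) := by
  rw [← Algebra.basicOpen_subset_smoothLocus_iff]
  intro P hP
  by_contra hns
  unfold Smoothing.singularIdeal at h
  rw [PrimeSpectrum.mem_vanishingIdeal] at h
  exact hP (h P hns)

end Helper27.DimZero
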