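import Mathlib
import Groth.Agent.Lib.Helper27.DimZeroC

set_option autoImplicit false
universe u

open MvPolynomial

namespace Helper27.DimZero

theorem mem_sing_Y {R A B : Type u} [CommRing R] [CommRing A] [Algebra R A]
    [Algebra.FinitePresentation R A]
    [CommRing B] [Algebra A B] [Algebra R B] [IsScalarTower R A B]
    [Algebra.FinitePresentation R B]
    {n m r : ℕ} (f : Fin m → MvPolynomial (Fin n) A)
    (π : MvPolynomial (Var n m r) A →ₐ[A] B) (hπ : Function.Surjective π)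
    (hker : ∀ p, π p = 0 ↔ p ∈ relIdeal r f)
    (a : A) (ha : a ∈ Smoothing.singularIdeal R A) (ℓ : Fin r) :
    algebraMap A B a * π (vY n m r ℓ) ∈ Smoothing.singularIdeal R B := by
  apply mem_singularIdeal_of_formallySmooth_away
  apply formallySmooth_away_of_lift
  intro T _ _ J hJ u hu
  have hAa : Algebra.FormallySmooth R (Localization.Away a) :=
    formallySmooth_away_of_mem_singularIdeal a ha
  rw [map_mul] at hu
  have hua : IsUnit (u (algebraMap A B a)) := isUnit_of_mul_isUnit_left hu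
  have huy : IsUnit (u (π (vY n m r ℓ))) := isUnit_of_mul_isUnit_right hu
  obtain ⟨w₀, hw₀⟩ : ∃ w₀ : A →ₐ[R] T ⧸ J, ∀ x, w₀ x = u (algebraMap A B x) :=
    ⟨u.comp (IsScalarTower.toAlgHom R A B), fun _ => rfl⟩
  have hw₀a : IsUnit (w₀ a) := by rw [hw₀]; exact hua
  obtain ⟨w₁, hw₁⟩ : ∃ w₁ : Localization.Away a →ₐ[R] T ⧸ J,
      ∀ x, w₁ (algebraMap A _ x) = w₀ x :=
    ⟨IsLocalization.Away.liftAlgHom (A := R) (S := Localization.Away a) a (f := w₀) hw₀a,
      fun x => IsLocalization.Away.lift_eq a hw₀a x⟩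
  obtain ⟨κ, hκ⟩ := Algebra.FormallySmooth.comp_surjective R (Localization.Away a) J hJ w₁
  have hκ' : ∀ x, Ideal.Quotient.mk J (κ x) = w₁ x := fun x => DFunLike.congr_fun hκ x
  let algAT : Algebra A T := (κ.toRingHom.comp (algebraMap A (Localization.Away a))).toAlgebra
  have hAT : ∀ x : A, algebraMap A T x = κ (algebraMap A (Localization.Away a) x) := fun _ => rfl
  have tower : IsScalarTower R A T := IsScalarTower.of_algebraMap_eq (fun x => by
    rw [hAT, ← IsScalarTower.algebraMap_apply, κ.commutes])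
  obtain ⟨u', hu'⟩ : ∃ u' : B →ₐ[A] T ⧸ J, ∀ b, u' b = u b :=
    ⟨{ u.toRingHom with
        commutes' := fun x => by
          show u (algebraMap A B x) = Ideal.Quotient.mk J (algebraMap A T x)
          rw [hAT, hκ', hw₁, hw₀] }, fun _ => rfl⟩
  obtain ⟨v, hv⟩ := smooth_lift_Y f π hπ hker J hJ u' ℓ (by rw [hu']; exact huy)
  refine ⟨v.restrictScalars R, AlgHom.ext fun b => ?_⟩
  have h1 := DFunLike.congr_fun hv b
  rw [hu'] at h1
  exact h1

theorem mem_sing_Z {R A B C₁ : Type u} [CommRing R] [CommRing A] [Algebra R A]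
    [CommRing B] [Algebra A B] [Algebra R B] [IsScalarTower R A B]
    [Algebra.FinitePresentation R B]
    [CommRing C₁] [Algebra A C₁] [Algebra R C₁] [IsScalarTower R A C₁]
    [Algebra.FinitePresentation R C₁]
    {n m r : ℕ} (f : Fin m → MvPolynomial (Fin n) A)
    (π : MvPolynomial (Var n m r) A →ₐ[A] B) (hπ : Function.Surjective π)
    (hker : ∀ p, π p = 0 ↔ p ∈ relIdeal r f)
    (πC : MvPolynomial (Fin n) A →ₐ[A] C₁) (hπC : Function.Surjective πC)
    (hkerC : ∀ p, πC p = 0 → p ∈ Ideal.span (Set.range f)) (hfC : ∀ j, πC (f j) = 0)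
    (c' : MvPolynomial (Fin n) A) (hc : πC c' ∈ Smoothing.singularIdeal R C₁) :
    π (vZ n m r) * π (incl n m r c') ∈ Smoothing.singularIdeal R B := by
  apply mem_singularIdeal_of_formallySmooth_away
  apply formallySmooth_away_of_lift
  intro T _ _ J hJ u hu
  have hCc : Algebra.FormallySmooth R (Localization.Away (πC c')) :=
    formallySmooth_away_of_mem_singularIdeal _ hc
  rw [map_mul] at hu
  have huz : IsUnit (u (π (vZ n m r))) := isUnit_of_mul_isUnit_left hu
  have huc : IsUnit (u (π (incl n m r c'))) := isUnit_of_mul_isUnit_right hu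
  have huy : ∀ i, u (π (vY n m r i)) = 0 := by
    intro i
    have h3 := relZ_eq f π hker i
    have h4 : u (π (vZ n m r)) * u (π (vY n m r i)) = 0 := by
      rw [← map_mul, h3, map_zero]
    exact huz.mul_right_eq_zero.mp h4
  obtain ⟨χ, hχ⟩ : ∃ χ : MvPolynomial (Fin n) A →ₐ[R] T ⧸ J,
      ∀ p, χ p = u (π (incl n m r p)) :=
    ⟨u.comp ((π.comp (incl n m r)).restrictScalars R), fun _ => rfl⟩
  have hχker : ∀ p, (πC.restrictScalars R) p = 0 → χ p = 0 := by
    intro p hp
    have h1 : p ∈ Ideal.span (Set.range f) := hkerC p hp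
    have h2 : Ideal.span (Set.range f) ≤ RingHom.ker χ.toRingHom := by
      rw [Ideal.span_le]
      rintro _ ⟨j, rfl⟩
      show χ (f j) = 0
      rw [hχ, relF_eq f π hker, map_sum]
      refine Finset.sum_eq_zero fun i _ => ?_
      rw [map_mul, huy, zero_mul]
    exact h2 h1
  obtain ⟨w₀, hw₀⟩ := Helper27.LiftProb.exists_lift (πC.restrictScalars R) hπC χ hχker
  have hw₀' : ∀ p, w₀ (πC p) = u (π (incl n m r p)) := fun p => by
    rw [← hχ]; exact hw₀ p
  have hw₀c : IsUnit (w₀ (πC c')) := by rw [hw₀']; exact huc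
  obtain ⟨w₁, hw₁⟩ : ∃ w₁ : Localization.Away (πC c') →ₐ[R] T ⧸ J,
      ∀ x, w₁ (algebraMap C₁ _ x) = w₀ x :=
    ⟨IsLocalization.Away.liftAlgHom (A := R) (S := Localization.Away (πC c')) (πC c')
      (f := w₀) hw₀c, fun x => IsLocalization.Away.lift_eq (πC c') hw₀c x⟩
  obtain ⟨κ, hκ⟩ := Algebra.FormallySmooth.comp_surjective R (Localization.Away (πC c')) J hJ w₁
  have hκ' : ∀ x, Ideal.Quotient.mk J (κ x) = w₁ x := fun x => DFunLike.congr_fun hκ x
  let algAT : Algebra A T := (κ.toRingHom.comp ((algebraMap C₁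
    (Localization.Away (πC c'))).comp (algebraMap A C₁))).toAlgebra
  have hAT : ∀ x : A, algebraMap A T x =
      κ (algebraMap C₁ (Localization.Away (πC c')) (algebraMap A C₁ x)) := fun _ => rfl
  have tower : IsScalarTower R A T := IsScalarTower.of_algebraMap_eq (fun x => by
    rw [hAT, ← IsScalarTower.algebraMap_apply R A C₁,
      ← IsScalarTower.algebraMap_apply R C₁, κ.commutes])
  obtain ⟨κC, hκC⟩ : ∃ κC : C₁ →ₐ[A] T, ∀ x, κC x = κ (algebraMap C₁ _ x) :=
    ⟨{ (κ.toRingHom.comp (algebraMap C₁ (Localization.Away (πC c')))) with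
        commutes' := fun x => rfl }, fun _ => rfl⟩
  have hCa : ∀ x : A, π (incl n m r (C x)) = algebraMap A B x := by
    intro x
    rw [← MvPolynomial.algebraMap_eq, AlgHom.commutes, AlgHom.commutes]
  have hCa' : ∀ x : A, πC (C x) = algebraMap A C₁ x := by
    intro x
    rw [← MvPolynomial.algebraMap_eq, AlgHom.commutes]
  obtain ⟨u', hu'⟩ : ∃ u' : B →ₐ[A] T ⧸ J, ∀ b, u' b = u b :=
    ⟨{ u.toRingHom with
        commutes' := fun x => by
          show u (algebraMap A B x) = Ideal.Quotient.mk J (algebraMap A T x)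
          rw [hAT, hκ', hw₁, ← hCa', hw₀', hCa] }, fun _ => rfl⟩
  obtain ⟨ξ, hξd⟩ : ∃ ξ : Fin n → T, ∀ i, ξ i = κC (πC (X i)) := ⟨_, fun _ => rfl⟩
  have hξ : ∀ i, Ideal.Quotient.mk J (ξ i) = u' (π (vX n m r i)) := by
    intro i
    rw [hξd, hκC, hκ', hw₁, hw₀', hu']
    simp [incl, vX]
  have hξf : ∀ j, aeval ξ (f j) = 0 := by
    intro j
    have h1 : aeval ξ = κC.comp πC := MvPolynomial.algHom_ext (fun i => by
      simp [hξd])
    rw [h1, AlgHom.comp_apply, hfC, map_zero]
  obtain ⟨v, hv⟩ := smooth_lift_Z f π hπ hker J u' (by rw [hu']; exact huz) ξ hξ hξf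
  refine ⟨v.restrictScalars R, AlgHom.ext fun b => ?_⟩
  have h1 := DFunLike.congr_fun hv b
  rw [hu'] at h1
  exact h1

end Helper27.DimZero
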