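import Mathlib
import Groth.Agent.Lib.Helper27.DimZeroD

set_option autoImplicit false
universe u

open MvPolynomial

namespace Helper27.DimZero

theorem main_aux {R A Λ : Type u} [CommRing R] [CommRing A] [Algebra R A]
    [Algebra.FinitePresentation R A] [CommRing Λ] [Algebra R Λ] (φ : A →ₐ[R] Λ)
    (𝔮 : Ideal Λ) [𝔮.IsPrime]
    {r : ℕ} (a : Fin r → A) (ha : Ideal.span (Set.range a) = Smoothing.singularIdeal R A)
    (N : ℕ) (l : Λ) (hl : l ∉ 𝔮) (hlN : ∀ i, l * φ (a i) ^ N = 0)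
    (C₁ : Type u) [CommRing C₁] [Algebra R C₁] [Algebra.FinitePresentation R C₁] [Algebra A C₁]
    [IsScalarTower R A C₁]
    (h : C₁ →ₐ[R] Λ) (hgh : ∀ x : A, h (algebraMap A C₁ x) = φ x)
    (hC : ¬ (Smoothing.singularIdeal R C₁).map h ≤ 𝔮)
    {n m : ℕ} (f : Fin m → MvPolynomial (Fin n) A) (πC : MvPolynomial (Fin n) A →ₐ[A] C₁)
    (hπC : Function.Surjective πC)
    (hkerC : ∀ p, πC p = 0 ↔ p ∈ Ideal.span (Set.range f))
    (B : Type u) [CommRing B] [Algebra A B] [Algebra R B] [IsScalarTower R A B]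
    [Algebra.FinitePresentation R B]
    (π : MvPolynomial (Var n m r) A →ₐ[A] B) (hπ : Function.Surjective π)
    (hker : ∀ p, π p = 0 ↔ p ∈ relIdeal r f) :
    Smoothing.Resolvable R φ 𝔮 := by
  classical
  let algAΛ : Algebra A Λ := φ.toRingHom.toAlgebra
  have towerΛ : IsScalarTower R A Λ :=
    IsScalarTower.of_algebraMap_eq (fun x => (φ.commutes x).symm)
  have hAΛ : ∀ x : A, algebraMap A Λ x = φ x := fun _ => rfl
  obtain ⟨hA, hhA⟩ : ∃ hA : C₁ →ₐ[A] Λ, ∀ x, hA x = h x :=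
    ⟨{ h.toRingHom with
        commutes' := fun x => by
          show h (algebraMap A C₁ x) = φ x
          exact hgh x }, fun _ => rfl⟩
  obtain ⟨ξ, hξ⟩ : ∃ ξ : Fin n → Λ, ∀ i, ξ i = hA (πC (X i)) := ⟨_, fun _ => rfl⟩
  have hξp : ∀ p, aeval ξ p = hA (πC p) := by
    have h1 : aeval ξ = hA.comp πC := MvPolynomial.algHom_ext (fun i => by simp [hξ])
    intro p
    rw [h1]
    rfl
  have hfC : ∀ j, πC (f j) = 0 := fun j => (hkerC _).mpr (Ideal.subset_span ⟨j, rfl⟩)
  obtain ⟨β, hβX, hβY, hβZ, hβT⟩ := exists_algHom f π hπ (fun p hp => (hker p).mp hp) ξ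
    (fun i => φ (a i) ^ N) l (fun _ _ => 0)
    (fun j => by rw [hξp, hfC, map_zero]; simp) (fun i => hlN i)
  have hβincl : ∀ p, β (π (incl n m r p)) = hA (πC p) := by
    have h1 : (β.comp π).comp (incl n m r) = hA.comp πC := MvPolynomial.algHom_ext (fun i => by
      simp only [AlgHom.comp_apply]
      rw [show incl n m r (X i) = vX n m r i from by simp [incl, vX], hβX, hξ])
    intro p
    exact DFunLike.congr_fun h1 p
  refine ⟨B, inferInstance, inferInstance, inferInstance, IsScalarTower.toAlgHom R A B,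
    β.restrictScalars R, ?_, ?_, ?_⟩
  · ext x
    show β (algebraMap A B x) = φ x
    rw [β.commutes, hAΛ]
  · unfold Smoothing.singRad
    apply Ideal.radical_le_radical_iff.mpr
    rw [Ideal.map_le_iff_le_comap, ← ha, Ideal.span_le]
    rintro _ ⟨i, rfl⟩
    rw [SetLike.mem_coe, Ideal.mem_comap]
    refine ⟨N + 1, ?_⟩
    have h1 : φ (a i) ^ (N + 1) =
        (β.restrictScalars R) (algebraMap A B (a i) * π (vY n m r i)) := by
      show _ = β (algebraMap A B (a i) * π (vY n m r i))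
      rw [map_mul, β.commutes, hβY, hAΛ, pow_succ']
    rw [h1]
    exact Ideal.mem_map_of_mem _
      (mem_sing_Y f π hπ hker (a i) (ha ▸ Ideal.subset_span ⟨i, rfl⟩) i)
  · intro hle
    obtain ⟨c, hcH, hcq⟩ : ∃ c ∈ Smoothing.singularIdeal R C₁, h c ∉ 𝔮 := by
      by_contra hcon
      push Not at hcon
      apply hC
      rw [Ideal.map_le_iff_le_comap]
      intro c hc
      exact hcon c hc
    obtain ⟨c', rfl⟩ := hπC c
    have h1 : π (vZ n m r) * π (incl n m r c') ∈ Smoothing.singularIdeal R B :=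
      mem_sing_Z f π hπ hker πC hπC (fun p hp => (hkerC p).mp hp) hfC c' hcH
    have h2 : (β.restrictScalars R) (π (vZ n m r) * π (incl n m r c')) ∈ 𝔮 :=
      hle (Ideal.le_radical (Ideal.mem_map_of_mem _ h1))
    have h3 : (β.restrictScalars R) (π (vZ n m r) * π (incl n m r c')) = l * h (πC c') := by
      show β (π (vZ n m r) * π (incl n m r c')) = _
      rw [map_mul, hβZ, hβincl, hhA]
    rw [h3] at h2
    rcases Ideal.IsPrime.mem_or_mem ‹𝔮.IsPrime› h2 with h4 | h4
    · exact hl h4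
    · exact hcq h4

theorem main {R A Λ : Type u} [CommRing R] [IsNoetherianRing R] [CommRing A] [Algebra R A]
    [Algebra.FinitePresentation R A] [CommRing Λ] [Algebra R Λ] (φ : A →ₐ[R] Λ)
    (𝔮 : Ideal Λ) [𝔮.IsPrime]
    (hnil : ∀ a ∈ Smoothing.singularIdeal R A, ∃ N : ℕ, ∃ l : Λ, l ∉ 𝔮 ∧ l * φ a ^ N = 0)
    (C₁ : Type u) [CommRing C₁] [Algebra R C₁] [Algebra.FinitePresentation R C₁]
    (g : A →ₐ[R] C₁) (h : C₁ →ₐ[R] Λ) (hgh : h.comp g = φ)
    (hC : ¬ (Smoothing.singularIdeal R C₁).map h ≤ 𝔮) :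
    Smoothing.Resolvable R φ 𝔮 := by
  classical
  have hnoeth : IsNoetherianRing A := Algebra.FiniteType.isNoetherianRing R A
  obtain ⟨r, a, ha⟩ : ∃ (r : ℕ) (a : Fin r → A),
      Ideal.span (Set.range a) = Smoothing.singularIdeal R A := by
    have hfg : (Smoothing.singularIdeal R A).FG := IsNoetherian.noetherian _
    exact Submodule.fg_iff_exists_fin_generating_family.mp hfg
  have haH : ∀ i, a i ∈ Smoothing.singularIdeal R A := fun i =>
    ha ▸ Ideal.subset_span ⟨i, rfl⟩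
  choose N₀ l₀ hl₀ hNl₀ using fun i => hnil (a i) (haH i)
  obtain ⟨N, hN⟩ : ∃ N, ∀ i, N₀ i ≤ N :=
    ⟨Finset.univ.sup N₀, fun i => Finset.le_sup (Finset.mem_univ i)⟩
  obtain ⟨l, hl, hlN⟩ : ∃ l : Λ, l ∉ 𝔮 ∧ ∀ i, l * φ (a i) ^ N = 0 := by
    refine ⟨∏ i, l₀ i, ?_, fun i => ?_⟩
    · rw [Ideal.IsPrime.prod_mem_iff]
      push Not
      intro i _
      exact hl₀ i
    · obtain ⟨k, hk⟩ := Nat.exists_eq_add_of_le (hN i)
      rw [← Finset.mul_prod_erase Finset.univ l₀ (Finset.mem_univ i), hk, pow_add]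
      calc (l₀ i * (∏ x ∈ Finset.univ.erase i, l₀ x)) * (φ (a i) ^ N₀ i * φ (a i) ^ k)
          = (l₀ i * φ (a i) ^ N₀ i) * ((∏ x ∈ Finset.univ.erase i, l₀ x) * φ (a i) ^ k) := by
            ring
        _ = 0 := by rw [hNl₀, zero_mul]
  let algAC : Algebra A C₁ := g.toRingHom.toAlgebra
  have towerC : IsScalarTower R A C₁ :=
    IsScalarTower.of_algebraMap_eq (fun x => (g.commutes x).symm)
  have hfpAC : Algebra.FinitePresentation A C₁ :=
    Algebra.FinitePresentation.of_restrict_scalars_finitePresentation R A C₁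
  obtain ⟨n, πC, hπC, hfgker⟩ := Algebra.FinitePresentation.out (R := A) (A := C₁)
  obtain ⟨m, f, hf⟩ := Submodule.fg_iff_exists_fin_generating_family.mp hfgker
  have hkerC : ∀ p, πC p = 0 ↔ p ∈ Ideal.span (Set.range f) := by
    intro p
    have : Ideal.span (Set.range f) = RingHom.ker πC.toRingHom := hf
    rw [this]
    rfl
  have hfgI : (relIdeal r f).FG := by
    refine ⟨(Finset.univ.image (relF r f)) ∪ (Finset.univ.image (relZ n m r)), ?_⟩
    unfold relIdeal
    simp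
  have hfpP : Algebra.FinitePresentation R (MvPolynomial (Var n m r) A) :=
    Algebra.FinitePresentation.mvPolynomial_of_finitePresentation _
  have hfpB : Algebra.FinitePresentation R (MvPolynomial (Var n m r) A ⧸ relIdeal r f) :=
    Algebra.FinitePresentation.quotient hfgI
  exact main_aux φ 𝔮 a ha N l hl hlN C₁ h (fun x => DFunLike.congr_fun hgh x) hC f πC hπC hkerC
    (MvPolynomial (Var n m r) A ⧸ relIdeal r f) (Ideal.Quotient.mkₐ A _)
    (Ideal.Quotient.mkₐ_surjective A _) (fun p => Ideal.Quotient.eq_zero_iff_mem)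

end Helper27.DimZero
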