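import Mathlib
import Groth.Prelude.Def_Smoothing

set_option autoImplicit false
universe u

namespace Helper27.SmoothDesc

open MvPolynomial

section SubPres

variable {A : Type u} [CommRing A]

noncomputable def gens {n : ℕ} (e : Fin n → A) : Algebra.Generators A A (Fin n) :=
  Algebra.Generators.ofSurjective e (fun a => ⟨C a, by simp⟩)

theorem sub_C_mem {n : ℕ} (e : Fin n → A) (p : MvPolynomial (Fin n) A) :
    p - C (aeval e p) ∈
      Ideal.span (Set.range fun i : Fin n => (X i - C (e i) : MvPolynomial (Fin n) A)) := by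
  induction p using MvPolynomial.induction_on with
  | C a => simp
  | add p q hp hq =>
    have : p + q - C (aeval e (p + q)) = (p - C (aeval e p)) + (q - C (aeval e q)) := by
      rw [map_add, map_add]; ring
    rw [this]
    exact Ideal.add_mem _ hp hq
  | mul_X p i hp =>
    have : p * X i - C (aeval e (p * X i)) =
        (p - C (aeval e p)) * X i + C (aeval e p) * (X i - C (e i)) := by
      rw [map_mul, aeval_X, map_mul]; ring
    rw [this]
    exact Ideal.add_mem _ (Ideal.mul_mem_right _ _ hp)
      (Ideal.mul_mem_left _ _ (Ideal.subset_span ⟨i, rfl⟩))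

noncomputable def pres {n : ℕ} (e : Fin n → A) : Algebra.Presentation A A (Fin n) (Fin n) where
  __ := gens e
  relation i := X i - C (e i)
  span_range_relation_eq_ker := by
    apply le_antisymm
    · rw [Ideal.span_le]
      rintro _ ⟨i, rfl⟩
      rw [SetLike.mem_coe, Algebra.Generators.ker_eq_ker_aeval_val, RingHom.mem_ker]
      show (aeval e) (X i - C (e i)) = 0
      simp
    · intro p hp
      rw [Algebra.Generators.ker_eq_ker_aeval_val, RingHom.mem_ker] at hp
      have := sub_C_mem e p
      have h2 : (aeval e) p = 0 := hp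
      rwa [h2, map_zero, sub_zero] at this

noncomputable def prePres {n : ℕ} (e : Fin n → A) :
    Algebra.PreSubmersivePresentation A A (Fin n) (Fin n) where
  __ := pres e
  map := id
  map_inj := Function.injective_id

theorem jac {n : ℕ} (e : Fin n → A) : (prePres e).jacobian = 1 := by
  classical
  rw [Algebra.PreSubmersivePresentation.jacobian_eq_jacobiMatrix_det]
  have : (prePres e).jacobiMatrix = 1 := by
    refine Matrix.ext fun i j => ?_
    rw [Algebra.PreSubmersivePresentation.jacobiMatrix_apply]
    show pderiv i (X j - C (e j)) = _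
    rw [map_sub, pderiv_C, sub_zero, pderiv_X, Matrix.one_apply]
    by_cases h : i = j
    · subst h; simp
    · rw [if_neg h, Pi.single_apply, if_neg (Ne.symm h)]
  rw [this, Matrix.det_one, map_one]

noncomputable def subPres {n : ℕ} (e : Fin n → A) :
    Algebra.SubmersivePresentation A A (Fin n) (Fin n) where
  __ := prePres e
  jacobian_isUnit := by rw [jac]; exact isUnit_one

end SubPres

structure RawSub {K B : Type u} [CommRing K] [CommRing B] [Algebra K B] {N c : ℕ}
    (val : Fin N → B) (rel : Fin c → MvPolynomial (Fin N) K) (mp : Fin c → Fin N) : Prop where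
  surj : Function.Surjective (aeval (R := K) val)
  ker_eq : RingHom.ker (aeval (R := K) val).toRingHom = Ideal.span (Set.range rel)
  jac : IsUnit (aeval (R := K) val (Smoothing.jacobianMinor rel id mp))

theorem exists_raw {K B : Type u} [CommRing K] [CommRing B] [Algebra K B]
    [Algebra.IsStandardSmooth K B] {n : ℕ} (e : Fin n → B) :
    ∃ (N c : ℕ) (κ : Fin n ↪ Fin N) (mp : Fin c ↪ Fin N) (val : Fin N → B)
      (rel : Fin c → MvPolynomial (Fin N) K),
      (∀ i, val (κ i) = e i) ∧ RawSub val rel mp := by
  classical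
  obtain ⟨ι₀, σ₀, hσ₀, hι₀, ⟨P₀⟩⟩ := Algebra.IsStandardSmooth.out (R := K) (S := B)
  let P₁ := (subPres e).comp P₀
  let eι : Fin (Nat.card (Fin n ⊕ ι₀)) ≃ Fin n ⊕ ι₀ := (Finite.equivFin _).symm
  let eσ : Fin (Nat.card (Fin n ⊕ σ₀)) ≃ Fin n ⊕ σ₀ := (Finite.equivFin _).symm
  let P := P₁.reindex eι eσ
  refine ⟨_, _, ⟨fun i => eι.symm (Sum.inl i), fun i j hij => by simpa using hij⟩,
    ⟨P.map, P.map_inj⟩, P.val, P.relation, ?_, ?_, ?_, ?_⟩
  · intro i
    show P₁.val (eι (eι.symm (Sum.inl i))) = e i
    rw [Equiv.apply_symm_apply]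
    rfl
  · exact P.aeval_val_surjective
  · rw [P.span_range_relation_eq_ker, Algebra.Generators.ker_eq_ker_aeval_val]
    rfl
  · have h := P.jacobian_isUnit
    rw [Algebra.PreSubmersivePresentation.jacobian_eq_jacobiMatrix_det,
      Algebra.Generators.algebraMap_apply] at h
    convert h using 2
    unfold Smoothing.jacobianMinor
    rw [← Matrix.det_transpose]
    congr 1
    refine Matrix.ext fun i j => ?_
    rw [Algebra.PreSubmersivePresentation.jacobiMatrix_apply]
    rfl

section Scale

variable {K : Type*} [CommRing K] {σ : Type*}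

noncomputable def scaleHom (a : σ → K) : MvPolynomial σ K →ₐ[K] MvPolynomial σ K :=
  aeval fun i => C (a i) * X i

@[simp] theorem scaleHom_X (a : σ → K) (i : σ) : scaleHom a (X i) = C (a i) * X i := by
  simp [scaleHom]

theorem scaleHom_comp (a b : σ → K) (p : MvPolynomial σ K) :
    scaleHom a (scaleHom b p) = scaleHom (fun i => a i * b i) p := by
  have : (scaleHom a).comp (scaleHom b) = scaleHom (fun i => a i * b i) := by
    apply MvPolynomial.algHom_ext
    intro i
    have hc : scaleHom a (C (b i)) = C (b i) := (scaleHom a).commutes (b i)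
    simp only [AlgHom.comp_apply, scaleHom_X, map_mul, hc]
    ring
  exact DFunLike.congr_fun this p

theorem scaleHom_one (p : MvPolynomial σ K) : scaleHom (fun _ : σ => (1 : K)) p = p := by
  have : scaleHom (fun _ : σ => (1 : K)) = AlgHom.id K _ := by
    apply MvPolynomial.algHom_ext
    intro i
    simp
  rw [this]; rfl

theorem pderiv_scaleHom (a : σ → K) (i : σ) (p : MvPolynomial σ K) :
    pderiv i (scaleHom a p) = C (a i) * scaleHom a (pderiv i p) := by
  classical
  induction p using MvPolynomial.induction_on with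
  | C r =>
    have : scaleHom a (C r) = C r := (scaleHom a).commutes r
    rw [this, pderiv_C, map_zero, mul_zero]
  | add p q hp hq => rw [map_add, map_add, hp, hq, map_add, map_add, mul_add]
  | mul_X p j hp =>
    rw [map_mul, scaleHom_X, Derivation.leibniz, hp, Derivation.leibniz, Derivation.leibniz,
      pderiv_C, pderiv_X, map_add, smul_eq_mul, smul_eq_mul, smul_eq_mul, smul_eq_mul,
      smul_eq_mul, smul_eq_mul, map_mul, map_mul, scaleHom_X, mul_zero, add_zero]
    by_cases h : i = j
    · subst h
      simp only [Pi.single_eq_same, map_one, mul_one]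
      ring
    · rw [Pi.single_apply, if_neg (Ne.symm h), map_zero, mul_zero, mul_zero]
      ring

end Scale

section ScaleRaw

variable {K B : Type u} [CommRing K] [CommRing B] [Algebra K B] {N c : ℕ}

theorem aeval_smul_scaleHom (val : Fin N → B) (a b : Fin N → K) (hab : ∀ i, a i * b i = 1)
    (p : MvPolynomial (Fin N) K) :
    aeval (R := K) (fun i => a i • val i) (scaleHom b p) = aeval (R := K) val p := by
  have : (aeval (R := K) (fun i => a i • val i)).comp (scaleHom b) = aeval (R := K) val := by
    apply MvPolynomial.algHom_ext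
    intro i
    simp only [AlgHom.comp_apply, scaleHom_X, map_mul, aeval_C, aeval_X]
    rw [Algebra.smul_def, ← mul_assoc, ← map_mul, mul_comm (b i), hab, map_one, one_mul]
  exact DFunLike.congr_fun this p

theorem aeval_smul_eq (val : Fin N → B) (a : Fin N → K) (p : MvPolynomial (Fin N) K) :
    aeval (R := K) (fun i => a i • val i) p = aeval (R := K) val (scaleHom a p) := by
  have : aeval (R := K) (fun i => a i • val i) = (aeval (R := K) val).comp (scaleHom a) := by
    apply MvPolynomial.algHom_ext
    intro i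
    simp only [AlgHom.comp_apply, scaleHom_X, map_mul, aeval_C, aeval_X]
    rw [Algebra.smul_def]
  exact DFunLike.congr_fun this p

theorem RawSub.scale {val : Fin N → B} {rel : Fin c → MvPolynomial (Fin N) K} {mp : Fin c → Fin N}
    (hraw : RawSub val rel mp) (a b : Fin N → K) (hab : ∀ i, a i * b i = 1) :
    RawSub (fun i => a i • val i) (fun j => scaleHom b (rel j)) mp := by
  have hba : ∀ i, b i * a i = 1 := fun i => by rw [mul_comm]; exact hab i
  refine ⟨?_, ?_, ?_⟩
  · intro x
    obtain ⟨p, rfl⟩ := hraw.surj x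
    exact ⟨scaleHom b p, aeval_smul_scaleHom val a b hab p⟩
  · apply le_antisymm
    · intro x hx
      rw [RingHom.mem_ker] at hx
      have hx' : aeval (R := K) (fun i => a i • val i) x = 0 := hx
      rw [aeval_smul_eq] at hx'
      have h1 : scaleHom a x ∈ Ideal.span (Set.range rel) := by
        rw [← hraw.ker_eq, RingHom.mem_ker]; exact hx'
      have h2 := Ideal.mem_map_of_mem (scaleHom b) h1
      rw [scaleHom_comp] at h2
      have h3 : scaleHom (fun i => b i * a i) x = x := by
        have : (fun i => b i * a i) = fun _ => (1 : K) := funext hba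
        rw [this, scaleHom_one]
      rw [h3, Ideal.map_span] at h2
      convert h2 using 2
      ext y
      constructor
      · rintro ⟨j, rfl⟩
        exact ⟨rel j, ⟨j, rfl⟩, rfl⟩
      · rintro ⟨_, ⟨j, rfl⟩, rfl⟩
        exact ⟨j, rfl⟩
    · rw [Ideal.span_le]
      rintro _ ⟨j, rfl⟩
      rw [SetLike.mem_coe, RingHom.mem_ker]
      show aeval (R := K) (fun i => a i • val i) (scaleHom b (rel j)) = 0
      rw [aeval_smul_scaleHom val a b hab]
      have : rel j ∈ RingHom.ker (aeval (R := K) val).toRingHom := by
        rw [hraw.ker_eq]; exact Ideal.subset_span ⟨j, rfl⟩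
      exact this
  · have hminor : Smoothing.jacobianMinor (fun j => scaleHom b (rel j)) id mp =
        (∏ k, C (b (mp k))) * scaleHom b (Smoothing.jacobianMinor rel id mp) := by
      unfold Smoothing.jacobianMinor
      rw [AlgHom.map_det, ← Matrix.det_mul_row]
      congr 1
      refine Matrix.ext fun j k => ?_
      simp only [Matrix.of_apply, id, AlgHom.mapMatrix_apply, Matrix.map_apply]
      exact pderiv_scaleHom b (mp k) (rel j)
    rw [hminor, map_mul, aeval_smul_scaleHom val a b hab]
    refine IsUnit.mul ?_ hraw.jac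
    rw [map_prod]
    rw [IsUnit.prod_iff]  
    intro k _
    rw [aeval_C]
    exact (IsUnit.of_mul_eq_one _ (hba (mp k))).map (algebraMap K B)

end ScaleRaw

section Loc

variable {R K : Type*} [CommRing R] [CommRing K] [Algebra R K] (S : Submonoid R)
  [IsLocalization S K] {σ : Type*}

attribute [local instance] MvPolynomial.algebraMvPolynomial

theorem exists_clear {ι : Type*} [Finite ι] (p : ι → MvPolynomial σ K) :
    ∃ w ∈ S, ∀ i, ∃ q : MvPolynomial σ R,
      map (algebraMap R K) q = C (algebraMap R K w) * p i := by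
  obtain ⟨b, hb⟩ := IsLocalization.exist_integer_multiples_of_finite (S.map (C (σ := σ))) p
  obtain ⟨w, hw, hwb⟩ := b.2
  refine ⟨w, hw, fun i => ?_⟩
  obtain ⟨q, hq⟩ := hb i
  refine ⟨q, ?_⟩
  rw [MvPolynomial.algebraMap_def] at hq
  rw [hq, Algebra.smul_def, MvPolynomial.algebraMap_def]
  have : (b : MvPolynomial σ R) = C w := hwb.symm
  rw [this, map_C]

theorem exists_mul_mem_span {ι : Type*} (F : ι → MvPolynomial σ R) (x : MvPolynomial σ R)
    (hx : map (algebraMap R K) x ∈
      Ideal.span (Set.range fun i => map (algebraMap R K) (F i))) :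
    ∃ s ∈ S, C s * x ∈ Ideal.span (Set.range F) := by
  have h1 : Ideal.map (algebraMap (MvPolynomial σ R) (MvPolynomial σ K))
      (Ideal.span (Set.range F)) =
      Ideal.span (Set.range fun i => map (algebraMap R K) (F i)) := by
    rw [Ideal.map_span, ← Set.range_comp]; rfl
  rw [← h1] at hx
  obtain ⟨m, hm, hmx⟩ := (IsLocalization.algebraMap_mem_map_algebraMap_iff
    (S.map (C (σ := σ))) (MvPolynomial σ K) _ x).mp hx
  obtain ⟨s, hs, rfl⟩ := hm
  exact ⟨s, hs, hmx⟩

end Loc

section Tensor

open TensorProduct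

variable {R K Λ : Type*} [CommRing R] [CommRing K] [Algebra R K] (S : Submonoid R)
  [IsLocalization S K] [CommRing Λ] [Algebra R Λ]

theorem exists_smul_eq_one_tmul (z : K ⊗[R] Λ) : ∃ s ∈ S, ∃ l : Λ, s • z = 1 ⊗ₜ l := by
  obtain ⟨⟨l, s⟩, h⟩ := IsLocalizedModule.surj S (TensorProduct.mk R K Λ 1) z
  exact ⟨s, s.2, l, h⟩

theorem exists_smul_eq_zero (l : Λ) (h : (1 : K) ⊗ₜ[R] l = 0) : ∃ s ∈ S, s • l = 0 := by
  obtain ⟨s, hs⟩ := (IsLocalizedModule.eq_zero_iff S (TensorProduct.mk R K Λ 1)).mp h
  exact ⟨s, s.2, hs⟩

omit [IsLocalization S K] in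
theorem one_tmul_aeval {σ : Type*} (lam : σ → Λ) (q : MvPolynomial σ R) :
    (1 : K) ⊗ₜ[R] (aeval lam q) =
      aeval (R := K) (fun i => (1 : K) ⊗ₜ[R] lam i) (map (algebraMap R K) q) := by
  rw [aeval_map_algebraMap]
  have := DFunLike.congr_fun (MvPolynomial.comp_aeval (R := R) lam
    (Algebra.TensorProduct.includeRight : Λ →ₐ[R] K ⊗[R] Λ)) q
  exact this

end Tensor

end Helper27.SmoothDesc
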