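import Mathlib
import Groth.Prelude.Def_Smoothing
import Groth.Agent.Lib.Helper27.SmoothDescA

set_option autoImplicit false
universe u

namespace Helper27.SmoothDesc

open MvPolynomial TensorProduct

section Descend

variable {R K Λ B' : Type u} [CommRing R] [CommRing K] [Algebra R K] (S : Submonoid R)
  [IsLocalization S K] [CommRing Λ] [Algebra R Λ] [CommRing B'] [Algebra K B']

theorem exists_F (h : B' →ₐ[K] K ⊗[R] Λ) {N c : ℕ} (val : Fin N → B')
    (rel : Fin c → MvPolynomial (Fin N) K) (hrel : ∀ j, aeval (R := K) val (rel j) = 0)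
    (lam : Fin N → Λ) (hlam : ∀ i, h (val i) = 1 ⊗ₜ lam i) :
    ∃ (F : Fin c → MvPolynomial (Fin N) R) (w : R), w ∈ S ∧
      (∀ j, map (algebraMap R K) (F j) = C (algebraMap R K w) * rel j) ∧
      ∀ j, aeval lam (F j) = 0 := by
  classical
  obtain ⟨w₁, hw₁, hq⟩ := exists_clear S rel
  choose q hq using hq
  have h0 : ∀ j, (1 : K) ⊗ₜ[R] (aeval lam (q j)) = 0 := by
    intro j
    rw [one_tmul_aeval, hq]
    have : (fun i => (1 : K) ⊗ₜ[R] lam i) = fun i => h (val i) :=
      funext fun i => (hlam i).symm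
    rw [this, ← DFunLike.congr_fun (MvPolynomial.comp_aeval (R := K) val h) _,
      AlgHom.comp_apply, map_mul, hrel, mul_zero, map_zero]
  have h1 : ∀ j, ∃ s ∈ S, s • aeval lam (q j) = 0 := fun j => exists_smul_eq_zero S _ (h0 j)
  choose s hs hs0 using h1
  refine ⟨fun j => C (∏ k, s k) * q j, (∏ k, s k) * w₁,
    S.mul_mem (S.prod_mem fun k _ => hs k) hw₁, ?_, ?_⟩
  · intro j
    rw [map_mul, map_C, hq, map_mul, C_mul, mul_assoc]
  · intro j
    rw [map_mul, aeval_C, ← Algebra.smul_def,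
      ← Finset.prod_erase_mul _ _ (Finset.mem_univ j), mul_smul, hs0, smul_zero]

theorem descend (h : B' →ₐ[K] K ⊗[R] Λ) {N c t : ℕ} (val : Fin N → B')
    (rel : Fin c → MvPolynomial (Fin N) K) (mp : Fin c → Fin N)
    (hraw : RawSub val rel mp) (lam : Fin N → Λ) (hlam : ∀ i, h (val i) = 1 ⊗ₜ lam i)
    (G : Fin t → MvPolynomial (Fin N) R)
    (hG : ∀ k, aeval (R := K) val (map (algebraMap R K) (G k)) = 0) :
    ∃ (F : Fin c → MvPolynomial (Fin N) R) (A₁ : MvPolynomial (Fin N) R) (s : R), s ∈ S ∧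
      (∀ j, aeval lam (F j) = 0) ∧
      (∀ k, C s * G k ∈ Ideal.span (Set.range F)) ∧
      A₁ * Smoothing.jacobianMinor F id mp - C s ∈ Ideal.span (Set.range F) := by
  classical
  have hker : ∀ x : MvPolynomial (Fin N) K, aeval (R := K) val x = 0 ↔
      x ∈ Ideal.span (Set.range rel) := by
    intro x
    rw [← hraw.ker_eq, RingHom.mem_ker]; rfl
  have hrel : ∀ j, aeval (R := K) val (rel j) = 0 := fun j =>
    (hker _).mpr (Ideal.subset_span ⟨j, rfl⟩)
  obtain ⟨F, w, hw, hF, hF0⟩ := exists_F S h val rel hrel lam hlam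
  have hunit : IsUnit (algebraMap R K w) := IsLocalization.map_units K ⟨w, hw⟩
  obtain ⟨v, hv⟩ := hunit.exists_left_inv
  have hspan : Ideal.span (Set.range fun j => map (algebraMap R K) (F j)) =
      Ideal.span (Set.range rel) := by
    apply le_antisymm
    · rw [Ideal.span_le]
      rintro _ ⟨j, rfl⟩
      show map (algebraMap R K) (F j) ∈ _
      rw [hF]
      exact Ideal.mul_mem_left _ _ (Ideal.subset_span ⟨j, rfl⟩)
    · rw [Ideal.span_le]
      rintro _ ⟨j, rfl⟩
      have : rel j = C v * map (algebraMap R K) (F j) := by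
        rw [hF, ← mul_assoc, ← C_mul, hv, C_1, one_mul]
      rw [SetLike.mem_coe, this]
      exact Ideal.mul_mem_left _ _ (Ideal.subset_span ⟨j, rfl⟩)
  have h3 : ∀ k, ∃ s ∈ S, C s * G k ∈ Ideal.span (Set.range F) := by
    intro k
    apply exists_mul_mem_span S (K := K)
    rw [hspan, ← hker]
    exact hG k
  choose s₃ hs₃ hs₃G using h3
  have hΔ : map (algebraMap R K) (Smoothing.jacobianMinor F id mp) =
      (∏ _k : Fin c, C (algebraMap R K w)) * Smoothing.jacobianMinor rel id mp := by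
    unfold Smoothing.jacobianMinor
    rw [RingHom.map_det, ← Matrix.det_mul_column]
    congr 1
    refine Matrix.ext fun j k => ?_
    simp only [Matrix.of_apply, id, RingHom.mapMatrix_apply, Matrix.map_apply]
    rw [← pderiv_map, hF, pderiv_C_mul]
  have hΔunit : IsUnit (aeval (R := K) val
      (map (algebraMap R K) (Smoothing.jacobianMinor F id mp))) := by
    rw [hΔ, map_mul]
    refine IsUnit.mul ?_ hraw.jac
    rw [map_prod, IsUnit.prod_iff]
    intro k _
    rw [aeval_C]
    exact hunit.map (algebraMap K B')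
  obtain ⟨b, hb⟩ := hΔunit.exists_left_inv
  obtain ⟨A₀, rfl⟩ := hraw.surj b
  have h4 : A₀ * map (algebraMap R K) (Smoothing.jacobianMinor F id mp) - 1 ∈
      Ideal.span (Set.range rel) := by
    rw [← hker, map_sub, map_mul, hb, map_one, sub_self]
  obtain ⟨s₄, hs₄, hA₁⟩ := exists_clear S (fun _ : Unit => A₀)
  obtain ⟨A₁, hA₁⟩ := hA₁ ()
  have h5 : map (algebraMap R K) (A₁ * Smoothing.jacobianMinor F id mp - C s₄) ∈
      Ideal.span (Set.range fun j => map (algebraMap R K) (F j)) := by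
    rw [hspan, map_sub, map_mul, hA₁, map_C]
    have : C (algebraMap R K s₄) * A₀ * map (algebraMap R K) (Smoothing.jacobianMinor F id mp) -
        C (algebraMap R K s₄) = C (algebraMap R K s₄) *
        (A₀ * map (algebraMap R K) (Smoothing.jacobianMinor F id mp) - 1) := by ring
    rw [this]
    exact Ideal.mul_mem_left _ _ h4
  obtain ⟨s₅, hs₅, h6⟩ := exists_mul_mem_span S (K := K) F _ h5
  refine ⟨F, C (∏ k, s₃ k) * C s₅ * A₁, (∏ k, s₃ k) * s₅ * s₄,
    S.mul_mem (S.mul_mem (S.prod_mem fun k _ => hs₃ k) hs₅) hs₄, hF0, ?_, ?_⟩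
  · intro k
    have : C ((∏ k, s₃ k) * s₅ * s₄) * G k =
        (C ((∏ k' ∈ Finset.univ.erase k, s₃ k')) * C s₅ * C s₄) * (C (s₃ k) * G k) := by
      rw [← Finset.prod_erase_mul _ _ (Finset.mem_univ k)]
      simp only [C_mul]; ring
    rw [this]
    exact Ideal.mul_mem_left _ _ (hs₃G k)
  · have : C (∏ k, s₃ k) * C s₅ * A₁ * Smoothing.jacobianMinor F id mp -
        C ((∏ k, s₃ k) * s₅ * s₄) = C (∏ k, s₃ k) *
        (C s₅ * (A₁ * Smoothing.jacobianMinor F id mp - C s₄)) := by
      simp only [C_mul]; ring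
    rw [this]
    exact Ideal.mul_mem_left _ _ h6

end Descend

end Helper27.SmoothDesc
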