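import Mathlib
import Groth.Prelude.Def_Smoothing
import Groth.Agent.Lib.Helper27.StdElemE

set_option autoImplicit false
universe u

namespace Helper27.SmoothDesc

open MvPolynomial

theorem assemble {R A Λ : Type u} [CommRing R] [CommRing A] [Algebra R A] [CommRing Λ]
    [Algebra R Λ] (φ : A →ₐ[R] Λ) {n t N c : ℕ} (φA : MvPolynomial (Fin n) R →ₐ[R] A)
    (hφA : Function.Surjective φA) (gA : Fin t → MvPolynomial (Fin n) R)
    (hgA : RingHom.ker φA.toRingHom = Ideal.span (Set.range gA))
    (κ : Fin n → Fin N) (mp : Fin c ↪ Fin N) (lam : Fin N → Λ)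
    (hlamκ : ∀ i, lam (κ i) = φ (φA (X i)))
    (F : Fin c → MvPolynomial (Fin N) R) (A₁ : MvPolynomial (Fin N) R) (s : R)
    (hF0 : ∀ j, aeval lam (F j) = 0)
    (hG : ∀ k, C s * rename κ (gA k) ∈ Ideal.span (Set.range F))
    (hA : A₁ * Smoothing.jacobianMinor F id mp - C s ∈ Ideal.span (Set.range F)) :
    ∃ (B : Type u) (_ : CommRing B) (_ : Algebra R B) (α : A →ₐ[R] B) (β : B →ₐ[R] Λ),
      β.comp α = φ ∧ Smoothing.IsElementaryStandard R B (algebraMap R B s) := by
  classical
  let f : Fin (c + t) → MvPolynomial (Fin N) R := Fin.append F (fun k => rename κ (gA k))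
  let I : Ideal (MvPolynomial (Fin N) R) := Ideal.span (Set.range f)
  have hfF : ∀ j, f (Fin.castAdd t j) = F j := fun j => Fin.append_left _ _ j
  have hfG : ∀ k, f (Fin.natAdd c k) = rename κ (gA k) := fun k => Fin.append_right _ _ k
  have hIF : ∀ j, F j ∈ I := fun j => hfF j ▸ Ideal.subset_span ⟨_, rfl⟩
  have hIG : ∀ k, rename κ (gA k) ∈ I := fun k => hfG k ▸ Ideal.subset_span ⟨_, rfl⟩
  have hFI : Ideal.span (Set.range F) ≤ I := by
    rw [Ideal.span_le]; rintro _ ⟨j, rfl⟩; exact hIF j
  have hcomp : (aeval lam).comp (rename κ) = φ.comp φA := by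
    apply MvPolynomial.algHom_ext
    intro i
    simp only [AlgHom.comp_apply, rename_X, aeval_X, hlamκ]
  have hβ : ∀ a ∈ I, aeval lam a = 0 := by
    intro a ha
    have : I ≤ RingHom.ker (aeval (R := R) lam).toRingHom := by
      rw [Ideal.span_le]
      rintro _ ⟨ℓ, rfl⟩
      rw [SetLike.mem_coe, RingHom.mem_ker]
      show aeval lam (f ℓ) = 0
      induction ℓ using Fin.addCases with
      | left j => rw [hfF]; exact hF0 j
      | right k =>
        rw [hfG]
        have h1 := DFunLike.congr_fun hcomp (gA k)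
        simp only [AlgHom.comp_apply] at h1
        rw [h1]
        have : gA k ∈ RingHom.ker φA.toRingHom := by
          rw [hgA]; exact Ideal.subset_span ⟨k, rfl⟩
        have h2 : φA (gA k) = 0 := this
        rw [h2, map_zero]
    exact this ha
  let hom : MvPolynomial (Fin N) R →ₐ[R] (MvPolynomial (Fin N) R ⧸ I) := Ideal.Quotient.mkₐ R I
  have hhom : ∀ x, hom x = 0 ↔ x ∈ I := fun x => Ideal.Quotient.eq_zero_iff_mem
  have hα : RingHom.ker φA.toRingHom ≤ RingHom.ker (hom.comp (rename κ)).toRingHom := by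
    rw [hgA, Ideal.span_le]
    rintro _ ⟨k, rfl⟩
    rw [SetLike.mem_coe, RingHom.mem_ker]
    show hom (rename κ (gA k)) = 0
    exact (hhom _).mpr (hIG k)
  refine ⟨MvPolynomial (Fin N) R ⧸ I, inferInstance, inferInstance,
    AlgHom.liftOfSurjective φA hφA (hom.comp (rename κ)) hα,
    Ideal.Quotient.liftₐ I (aeval lam) hβ, ?_, ?_⟩
  · apply AlgHom.ext
    intro a
    obtain ⟨p, rfl⟩ := hφA a
    rw [AlgHom.comp_apply, AlgHom.liftOfSurjective_apply]
    have h1 := DFunLike.congr_fun hcomp p
    simp only [AlgHom.comp_apply] at h1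
    rw [← h1]
    rfl
  · have hminor : Smoothing.jacobianMinor f (Fin.castAddEmb t) mp =
        Smoothing.jacobianMinor F id mp := by
      unfold Smoothing.jacobianMinor
      congr 1
      refine Matrix.ext fun j k => ?_
      simp only [Matrix.of_apply, Fin.castAddEmb_apply, hfF, id]
    have hrange : Set.range (f ∘ (Fin.castAddEmb t : Fin c ↪ Fin (c + t))) = Set.range F := by
      congr 1
      funext j
      exact hfF j
    refine Helper27.StdElem.isElementaryStandard_of_rows_cols f hom
      Ideal.Quotient.mk_surjective ?_ (Fin.castAddEmb t) mp (algebraMap R _ s) (hom A₁) ?_ ?_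
    · ext x
      rw [RingHom.mem_ker]
      exact hhom x
    · rw [hminor, ← map_mul]
      have h1 := (hhom _).mpr (hFI hA)
      rw [map_sub, sub_eq_zero] at h1
      rw [h1]
      rfl
    · intro a₁ ha₁ ℓ
      have h1 : a₁ - C s ∈ I := by
        rw [← hhom, map_sub, ha₁, sub_eq_zero]
        rfl
      have h2 : a₁ * f ℓ = (a₁ - C s) * f ℓ + C s * f ℓ := by ring
      rw [h2, hrange]
      refine Ideal.add_mem _ (Ideal.mem_sup_right ?_) (Ideal.mem_sup_left ?_)
      · rw [pow_two]
        exact Ideal.mul_mem_mul h1 (Ideal.subset_span ⟨ℓ, rfl⟩)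
      · induction ℓ using Fin.addCases with
        | left j => rw [hfF]; exact Ideal.mul_mem_left _ _ (Ideal.subset_span ⟨j, rfl⟩)
        | right k => rw [hfG]; exact hG k

open TensorProduct in
theorem aeval_map_rename {R K A B : Type*} [CommRing R] [CommRing K] [Algebra R K]
    [CommRing A] [Algebra R A] [CommRing B] [Algebra K B] [Algebra R B] [IsScalarTower R K B]
    (g : K ⊗[R] A →ₐ[K] B) {n N : ℕ} (φA : MvPolynomial (Fin n) R →ₐ[R] A) (κ : Fin n → Fin N)
    (val : Fin N → B) (hval : ∀ i, val (κ i) = g (1 ⊗ₜ φA (X i)))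
    (p : MvPolynomial (Fin n) R) :
    aeval (R := K) val (map (algebraMap R K) (rename κ p)) = g (1 ⊗ₜ φA p) := by
  rw [aeval_map_algebraMap K val (rename κ p), aeval_rename]
  have : aeval (R := R) (val ∘ κ) =
      ((g.restrictScalars R).comp Algebra.TensorProduct.includeRight).comp φA := by
    apply MvPolynomial.algHom_ext
    intro i
    simp [hval]
  rw [this]
  rfl

end Helper27.SmoothDesc
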