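import Mathlib

set_option autoImplicit false
universe u
open scoped Pointwise

namespace Groth.Agent.Lib.Helper27.SmoothRetract

theorem exists_spread {B : Type u} [CommRing B] (𝔫 : Ideal B) {F Ω : Type u}
    [AddCommGroup F] [Module B F] [AddCommGroup Ω] [Module B Ω]
    [Module.Finite B F] [Module.Finite B Ω] [Module.Projective B Ω]
    (Ψ : F →ₗ[B] Ω) (h1 : ⊤ ≤ LinearMap.range Ψ ⊔ 𝔫 • (⊤ : Submodule B Ω))
    (h2 : LinearMap.ker Ψ ≤ 𝔫 • (⊤ : Submodule B F)) :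
    ∃ t : B, t - 1 ∈ 𝔫 ∧ (∀ ω : Ω, t • ω ∈ LinearMap.range Ψ) ∧
      ∀ z ∈ LinearMap.ker Ψ, t • z = 0 := by
  obtain ⟨s₁, hs₁, hs₁'⟩ := Submodule.exists_sub_one_mem_and_smul_le_of_fg_of_le_sup
    (I := 𝔫) (N := LinearMap.range Ψ) (N' := ⊤) (P := ⊤) (Module.Finite.fg_top) le_rfl h1
  have hs₁r : ∀ ω : Ω, s₁ • ω ∈ LinearMap.range Ψ := fun ω =>
    hs₁' (Submodule.smul_mem_pointwise_smul ω s₁ ⊤ Submodule.mem_top)
  obtain ⟨lam, hlam⟩ := Module.projective_lifting_property Ψ.rangeRestrict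
    ((s₁ • LinearMap.id : Ω →ₗ[B] Ω).codRestrict (LinearMap.range Ψ) (fun ω => hs₁r ω))
    (LinearMap.surjective_rangeRestrict Ψ)
  have hlam' : ∀ ω, Ψ (lam ω) = s₁ • ω := by
    intro ω
    have := congrArg Subtype.val (LinearMap.congr_fun hlam ω)
    exact this
  let Θ : F →ₗ[B] F := s₁ • LinearMap.id - lam ∘ₗ Ψ
  have hΘker : ∀ x, Θ x ∈ LinearMap.ker Ψ := by
    intro x
    rw [LinearMap.mem_ker]
    change Ψ (s₁ • x - lam (Ψ x)) = 0
    rw [map_sub, map_smul, hlam', sub_self]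
  have hΘz : ∀ z ∈ LinearMap.ker Ψ, Θ z = s₁ • z := by
    intro z hz
    change s₁ • z - lam (Ψ z) = s₁ • z
    rw [LinearMap.mem_ker.mp hz, map_zero, sub_zero]
  let K' : Submodule B F := LinearMap.range Θ
  have hK'fg : K'.FG := by
    change (LinearMap.range Θ).FG
    rw [LinearMap.range_eq_map]
    exact Submodule.FG.map _ Module.Finite.fg_top
  have hK'ker : K' ≤ LinearMap.ker Ψ := by
    rintro _ ⟨x, rfl⟩
    exact hΘker x
  have hs₁K' : ∀ z ∈ LinearMap.ker Ψ, s₁ • z ∈ 𝔫 • K' := by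
    intro z hz
    have hz' : z ∈ 𝔫 • (⊤ : Submodule B F) := h2 hz
    rw [← hΘz z hz]
    refine Submodule.smul_induction_on hz' ?_ ?_
    · intro n hn f _
      rw [map_smul]
      exact Submodule.smul_mem_smul hn ⟨f, rfl⟩
    · intro x y hx hy
      rw [map_add]
      exact add_mem hx hy
  have hK'le : K' ≤ 𝔫 • K' := by
    intro z hz
    have h3 : s₁ • z ∈ 𝔫 • K' := hs₁K' z (hK'ker hz)
    have h4 : (s₁ - 1) • z ∈ 𝔫 • K' := Submodule.smul_mem_smul hs₁ hz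
    have : z = s₁ • z - (s₁ - 1) • z := by rw [sub_smul, one_smul]; abel
    rw [this]
    exact sub_mem h3 h4
  obtain ⟨s₂, hs₂, hs₂'⟩ :=
    Submodule.exists_sub_one_mem_and_smul_eq_zero_of_fg_of_le_smul 𝔫 K' hK'fg hK'le
  refine ⟨s₂ * s₁, ?_, ?_, ?_⟩
  · have : s₂ * s₁ - 1 = s₂ * (s₁ - 1) + (s₂ - 1) := by ring
    rw [this]
    exact 𝔫.add_mem (𝔫.mul_mem_left _ hs₁) hs₂
  · intro ω
    rw [mul_smul]
    exact Submodule.smul_mem _ _ (hs₁r ω)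
  · intro z hz
    rw [mul_smul, ← hΘz z hz]
    exact hs₂' _ ⟨z, rfl⟩

end Groth.Agent.Lib.Helper27.SmoothRetract
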