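import Mathlib

set_option autoImplicit false
universe u

namespace Groth.Agent.Lib.Helper27.SmoothRetract

section basis

variable {B₁ B : Type u} [CommRing B₁] [CommRing B] [Algebra B₁ B] (t : B₁)
  [IsLocalization.Away t B]
  {Ω₁ Ω' : Type u} [AddCommGroup Ω₁] [Module B₁ Ω₁] [AddCommGroup Ω'] [Module B₁ Ω'] [Module B Ω']
  [IsScalarTower B₁ B Ω'] (f : Ω₁ →ₗ[B₁] Ω') [IsLocalizedModule (Submonoid.powers t) f]
  {N : ℕ} (Ψ : (Fin N → B₁) →ₗ[B₁] Ω₁)

omit [IsLocalization.Away t B] [IsLocalizedModule (Submonoid.powers t) f] in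
include t in
theorem fΨ_apply (x : Fin N → B₁) :
    f (Ψ x) = ∑ j, algebraMap B₁ B (x j) • f (Ψ (Pi.single j 1)) := by
  have hx : x = ∑ j, x j • (Pi.single j (1 : B₁) : Fin N → B₁) := by
    ext i
    simp [Finset.sum_apply, Pi.single_apply]
  conv_lhs => rw [hx]
  rw [map_sum, map_sum]
  refine Finset.sum_congr rfl fun j _ => ?_
  rw [map_smul, map_smul, algebraMap_smul]

theorem linearIndependent_of_spread
    (h2 : ∀ z ∈ LinearMap.ker Ψ, t • z = 0) :
    LinearIndependent B (fun j : Fin N => f (Ψ (Pi.single j 1))) := by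
  have htu : IsUnit (algebraMap B₁ B t) := IsLocalization.Away.algebraMap_isUnit t
  rw [Fintype.linearIndependent_iff]
  intro c hc j
  obtain ⟨b, hb⟩ := IsLocalization.exist_integer_multiples_of_finite (Submonoid.powers t) c
  choose x hx using hb
  have hbu : IsUnit (algebraMap B₁ B (b : B₁)) := IsLocalization.map_units B b
  have h0 : f (Ψ x) = 0 := by
    rw [fΨ_apply (B := B) t f Ψ x]
    have : ∀ j, algebraMap B₁ B (x j) • f (Ψ (Pi.single j 1)) =
        algebraMap B₁ B (b : B₁) • (c j • f (Ψ (Pi.single j 1))) := by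
      intro j
      rw [hx j, Algebra.smul_def, mul_smul]
    simp_rw [this]
    rw [← Finset.smul_sum, hc, smul_zero]
  obtain ⟨s, hs⟩ := (IsLocalizedModule.eq_zero_iff (Submonoid.powers t) f).mp h0
  have h1 : (s : B₁) • x ∈ LinearMap.ker Ψ := by
    rw [LinearMap.mem_ker, map_smul]
    exact hs
  have h3 := h2 _ h1
  have h4 : t * (s : B₁) * x j = 0 := by
    have := congrFun h3 j
    simpa [mul_assoc] using this
  have hsu : IsUnit (algebraMap B₁ B (s : B₁)) := IsLocalization.map_units B s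
  have h5 : algebraMap B₁ B (x j) = 0 := by
    have := congrArg (algebraMap B₁ B) h4
    rw [map_mul, map_mul, map_zero] at this
    exact (htu.mul hsu).mul_right_eq_zero.mp this
  have h6 := hx j
  rw [h5, Algebra.smul_def] at h6
  exact (hbu.mul_right_eq_zero.mp h6.symm)

theorem span_eq_top_of_spread (h1 : ∀ ω : Ω₁, t • ω ∈ LinearMap.range Ψ) :
    ⊤ ≤ Submodule.span B (Set.range (fun j : Fin N => f (Ψ (Pi.single j 1)))) := by
  have htu : IsUnit (algebraMap B₁ B t) := IsLocalization.Away.algebraMap_isUnit t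
  intro ω' _
  obtain ⟨⟨ω, s⟩, hs⟩ := IsLocalizedModule.surj (Submonoid.powers t) f ω'
  have hsu : IsUnit (algebraMap B₁ B (s : B₁)) := IsLocalization.map_units B s
  obtain ⟨x, hx⟩ := h1 ω
  have h3 : (algebraMap B₁ B t * algebraMap B₁ B (s : B₁)) • ω' = f (Ψ x) := by
    rw [mul_smul, algebraMap_smul, algebraMap_smul]
    have : (s : B₁) • ω' = f ω := hs
    rw [this, ← map_smul, hx]
  have h4 : f (Ψ x) ∈ Submodule.span B (Set.range (fun j : Fin N => f (Ψ (Pi.single j 1)))) := by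
    rw [fΨ_apply (B := B) t f Ψ x]
    exact Submodule.sum_mem _ fun j _ => Submodule.smul_mem _ _ (Submodule.subset_span ⟨j, rfl⟩)
  have h5 : ω' = ((htu.mul hsu).unit⁻¹ : Bˣ).1 • f (Ψ x) := by
    rw [← h3, smul_smul]
    have : ((htu.mul hsu).unit⁻¹ : Bˣ).1 * (algebraMap B₁ B t * algebraMap B₁ B (s : B₁)) = 1 :=
      (htu.mul hsu).val_inv_mul
    rw [this, one_smul]
  rw [h5]
  exact Submodule.smul_mem _ _ h4

noncomputable def basisOfSpread (h1 : ∀ ω : Ω₁, t • ω ∈ LinearMap.range Ψ)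
    (h2 : ∀ z ∈ LinearMap.ker Ψ, t • z = 0) : Module.Basis (Fin N) B Ω' :=
  Module.Basis.mk (linearIndependent_of_spread (B := B) t f Ψ h2)
    (span_eq_top_of_spread (B := B) t f Ψ h1)

theorem basisOfSpread_apply (h1 : ∀ ω : Ω₁, t • ω ∈ LinearMap.range Ψ)
    (h2 : ∀ z ∈ LinearMap.ker Ψ, t • z = 0) (j : Fin N) :
    basisOfSpread (B := B) t f Ψ h1 h2 j = f (Ψ (Pi.single j 1)) := by
  simp [basisOfSpread]

end basis

end Groth.Agent.Lib.Helper27.SmoothRetract
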