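import Mathlib
import Groth.Agent.Lib.Helper27.SmoothRetractE

set_option autoImplicit false
universe u

open KaehlerDifferential

namespace Groth.Agent.Lib.Helper27.SmoothRetract

section range

variable {R A : Type u} [CommRing R] [CommRing A] [Algebra R A] {N : ℕ} (a : Fin N → A)
  (s : Ω[A⁄R] →ₗ[A] (Fin N → A)) (hs : pmap (R := R) a ∘ₗ s = LinearMap.id)

noncomputable def uel (k : Fin N) : Ω[B1 (Emap a s)⁄R] :=
  D R (B1 (Emap a s)) (algebraMap A (B1 (Emap a s)) (a k))

noncomputable def vel (k : Fin N) : Ω[B1 (Emap a s)⁄R] :=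
  D R (B1 (Emap a s)) (r1 (Emap a s) (MvPolynomial.X k))

lemma D_gel (k : Fin N) : D R (B1 (Emap a s)) (gel a s k) = uel a s k + vel a s k := by
  unfold gel uel vel
  rw [map_add]

noncomputable def Usub : Submodule (B1 (Emap a s)) Ω[B1 (Emap a s)⁄R] :=
  LinearMap.range (Psi a s) ⊔
    (RingHom.ker (sigma1 (Emap a s))) • (⊤ : Submodule (B1 (Emap a s)) Ω[B1 (Emap a s)⁄R])

lemma kappa_pmap (c : Fin N → A) :
    KaehlerDifferential.map R R A (B1 (Emap a s)) (pmap (R := R) a c) =
      ∑ k, c k • uel a s k := by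
  rw [pmap_apply, map_sum]
  refine Finset.sum_congr rfl fun k _ => ?_
  rw [map_smul, KaehlerDifferential.map_D]
  rfl

include hs in
lemma sum_compl_uel (v : Fin N → A) : ∑ k, (compl (Emap a s) v) k • uel a s k = 0 := by
  rw [← kappa_pmap, pmap_compl a s hs, map_zero]

lemma r1_X_mem (k : Fin N) :
    r1 (Emap a s) (MvPolynomial.X k) ∈ RingHom.ker (sigma1 (Emap a s)) :=
  sigma1_X (Emap a s) k

lemma sum_E_vel_mem (v : Fin N → A) :
    ∑ k, (Emap a s v) k • vel a s k ∈
      (RingHom.ker (sigma1 (Emap a s))) • (⊤ : Submodule (B1 (Emap a s)) Ω[B1 (Emap a s)⁄R]) := by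
  have h0 : r1 (Emap a s) (lin (Emap a s v)) = 0 := r1_lin_E (Emap a s) v
  rw [lin_apply, map_sum] at h0
  have h1 := congrArg (D R (B1 (Emap a s))) h0
  rw [map_sum, map_zero] at h1
  have h2 : ∀ k, D R (B1 (Emap a s)) (r1 (Emap a s) (MvPolynomial.C (Emap a s v k) * MvPolynomial.X k)) =
      (Emap a s v) k • vel a s k + r1 (Emap a s) (MvPolynomial.X k) •
        D R (B1 (Emap a s)) (algebraMap A (B1 (Emap a s)) (Emap a s v k)) := by
    intro k
    rw [map_mul, Derivation.leibniz, ← MvPolynomial.algebraMap_eq, AlgHom.commutes, algebraMap_smul]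
    rfl
  simp_rw [h2] at h1
  rw [Finset.sum_add_distrib] at h1
  rw [eq_neg_of_add_eq_zero_left h1]
  refine neg_mem (Submodule.sum_mem _ fun k _ => ?_)
  exact Submodule.smul_mem_smul (r1_X_mem a s k) Submodule.mem_top

lemma Psi_mem (x : Fin N → B1 (Emap a s)) : Psi a s x ∈ Usub a s :=
  Submodule.mem_sup_left ⟨x, rfl⟩

lemma gel_mem (k : Fin N) : uel a s k + vel a s k ∈ Usub a s := by
  rw [← D_gel, ← Psi_single]
  exact Psi_mem a s _

include hs in
lemma uel_mem (i : Fin N) : uel a s i ∈ Usub a s := by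
  have h1 : uel a s i = ∑ k, (Pi.single i (1 : A) : Fin N → A) k • uel a s k := by
    rw [Finset.sum_eq_single i]
    · rw [Pi.single_eq_same, one_smul]
    · intro k _ hk
      rw [Pi.single_eq_of_ne hk, zero_smul]
    · intro h
      exact absurd (Finset.mem_univ i) h
  have h2 : (Pi.single i (1 : A) : Fin N → A) =
      Emap a s (Pi.single i 1) + compl (Emap a s) (Pi.single i 1) := by
    rw [compl_apply]; abel
  have h3 : ∑ k, (Pi.single i (1 : A) : Fin N → A) k • uel a s k =
      ∑ k, (Emap a s (Pi.single i 1)) k • uel a s k +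
        ∑ k, (compl (Emap a s) (Pi.single i 1)) k • uel a s k := by
    rw [← Finset.sum_add_distrib]
    refine Finset.sum_congr rfl fun k _ => ?_
    rw [← add_smul]
    conv_lhs => rw [h2]
    rfl
  rw [h1, h3, sum_compl_uel a s hs, add_zero]
  have h4 : ∑ k, (Emap a s (Pi.single i 1)) k • uel a s k =
      ∑ k, (Emap a s (Pi.single i 1)) k • (uel a s k + vel a s k) -
        ∑ k, (Emap a s (Pi.single i 1)) k • vel a s k := by
    rw [← Finset.sum_sub_distrib]
    refine Finset.sum_congr rfl fun k _ => ?_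
    rw [smul_add, add_sub_cancel_right]
  rw [h4]
  refine sub_mem (Submodule.sum_mem _ fun k _ => ?_)
    (Submodule.mem_sup_right (sum_E_vel_mem a s _))
  rw [← algebraMap_smul (B1 (Emap a s))]
  exact Submodule.smul_mem _ _ (gel_mem a s k)

include hs in
lemma vel_mem (i : Fin N) : vel a s i ∈ Usub a s := by
  have : vel a s i = (uel a s i + vel a s i) - uel a s i := by abel
  rw [this]
  exact sub_mem (gel_mem a s i) (uel_mem a s hs i)

include hs in
lemma D_algebraMap_mem (f : MvPolynomial (Fin N) R →ₐ[R] A) (hf : Function.Surjective f)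
    (ha : ∀ j, a j = f (MvPolynomial.X j)) (x : A) :
    D R (B1 (Emap a s)) (algebraMap A (B1 (Emap a s)) x) ∈ Usub a s := by
  obtain ⟨c, hc⟩ := pmap_surjective a f hf ha (D R A x)
  rw [← KaehlerDifferential.map_D R R A (B1 (Emap a s)), ← hc, kappa_pmap]
  refine Submodule.sum_mem _ fun k _ => ?_
  rw [← algebraMap_smul (B1 (Emap a s))]
  exact Submodule.smul_mem _ _ (uel_mem a s hs k)

include hs in
lemma D_mem (f : MvPolynomial (Fin N) R →ₐ[R] A) (hf : Function.Surjective f)
    (ha : ∀ j, a j = f (MvPolynomial.X j)) (b : B1 (Emap a s)) :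
    D R (B1 (Emap a s)) b ∈ Usub a s := by
  obtain ⟨P, rfl⟩ := r1_surjective (Emap a s) b
  induction P using MvPolynomial.induction_on with
  | C x =>
    rw [← MvPolynomial.algebraMap_eq, AlgHom.commutes]
    exact D_algebraMap_mem a s hs f hf ha x
  | add p q hp hq =>
    rw [map_add, map_add]
    exact add_mem hp hq
  | mul_X p j hp =>
    rw [map_mul, Derivation.leibniz]
    exact add_mem (Submodule.smul_mem _ _ (vel_mem a s hs j)) (Submodule.smul_mem _ _ hp)

include hs in
lemma top_le_Usub (f : MvPolynomial (Fin N) R →ₐ[R] A) (hf : Function.Surjective f)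
    (ha : ∀ j, a j = f (MvPolynomial.X j)) :
    (⊤ : Submodule (B1 (Emap a s)) Ω[B1 (Emap a s)⁄R]) ≤
      LinearMap.range (Psi a s) ⊔
        (RingHom.ker (sigma1 (Emap a s))) • (⊤ : Submodule (B1 (Emap a s)) Ω[B1 (Emap a s)⁄R]) := by
  intro x _
  have hx : x ∈ Submodule.span (B1 (Emap a s)) (Set.range (D R (B1 (Emap a s)))) := by
    rw [span_range_derivation]
    trivial
  have hle : Submodule.span (B1 (Emap a s)) (Set.range (D R (B1 (Emap a s)))) ≤ Usub a s := by
    rw [Submodule.span_le]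
    rintro _ ⟨b, rfl⟩
    exact D_mem a s hs f hf ha b
  exact hle hx

end range

end Groth.Agent.Lib.Helper27.SmoothRetract
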