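import Mathlib
import Groth.Agent.Lib.Helper27.SmoothRetractB

set_option autoImplicit false
universe u
open KaehlerDifferential

namespace Groth.Agent.Lib.Helper27.SmoothRetract

theorem finish {R A B₁ : Type u} [CommRing R] [CommRing A] [CommRing B₁] [Algebra R A]
    [Algebra A B₁] [Algebra R B₁] [IsScalarTower R A B₁] [Algebra.Smooth A B₁]
    [Algebra.Smooth R B₁] (σ : B₁ →ₐ[A] A) {N : ℕ} (Ψ : (Fin N → B₁) →ₗ[B₁] Ω[B₁⁄R])
    (hΨ : ∀ j, Ψ (Pi.single j 1) ∈ Set.range (D R B₁))
    (t : B₁) (ht : t - 1 ∈ RingHom.ker σ) (ht1 : ∀ ω, t • ω ∈ LinearMap.range Ψ)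
    (ht2 : ∀ z ∈ LinearMap.ker Ψ, t • z = 0) :
    ∃ (B : Type u) (_ : CommRing B) (_ : Algebra R B) (_ : Algebra A B)
      (_ : IsScalarTower R A B),
      Algebra.Smooth A B ∧ Nonempty (B →ₐ[A] A) ∧ Algebra.IsStandardSmooth R B := by
  have hσt : σ t = 1 := by
    have := RingHom.mem_ker.mp ht
    rw [map_sub, map_one, sub_eq_zero] at this
    exact this
  have hB₁B : Algebra.Smooth B₁ (Localization.Away t) :=
    Algebra.Smooth.of_isLocalization_Away t
  have hAB : Algebra.Smooth A (Localization.Away t) := Algebra.Smooth.comp A B₁ _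
  have hRB : Algebra.Smooth R (Localization.Away t) := Algebra.Smooth.comp R B₁ _
  refine ⟨Localization.Away t, inferInstance, inferInstance, inferInstance, inferInstance,
    hAB, ⟨?_⟩, ?_⟩
  · refine IsLocalization.liftAlgHom (M := Submonoid.powers t) (f := σ) ?_
    rintro ⟨_, n, rfl⟩
    change IsUnit (σ (t ^ n))
    rw [map_pow, hσt, one_pow]
    exact isUnit_one
  · refine Algebra.IsStandardSmooth.of_basis_kaehlerDifferential
      (basisOfSpread (B := Localization.Away t) t
        (KaehlerDifferential.map R R B₁ (Localization.Away t)) Ψ ht1 ht2) ?_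
    rintro _ ⟨j, rfl⟩
    rw [basisOfSpread_apply]
    obtain ⟨b, hb⟩ := hΨ j
    rw [← hb, KaehlerDifferential.map_D]
    exact ⟨_, rfl⟩

end Groth.Agent.Lib.Helper27.SmoothRetract
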