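import Mathlib
import Groth.Prelude.Def_Smoothing
import Groth.Agent.S2025
import Groth.Agent.Lib.Helper27.SmoothDescA
import Groth.Agent.Lib.Helper27.SmoothDescB
import Groth.Agent.Lib.Helper27.SmoothDescC

set_option autoImplicit false
universe u

namespace Helper27.SmoothDesc

open MvPolynomial

section DescendGen

variable {R K Λ B' ΛK : Type u} [CommRing R] [CommRing K] [Algebra R K] (S : Submonoid R)
  [IsLocalization S K] [CommRing Λ] [Algebra R Λ] [CommRing B'] [Algebra K B']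
  [CommRing ΛK] [Algebra K ΛK]

omit [IsLocalization S K] in
theorem iota_aeval (ι : Λ →+* ΛK)
    (hι₃ : ∀ r, ι (algebraMap R Λ r) = algebraMap K ΛK (algebraMap R K r))
    {σ : Type*} (lam : σ → Λ) (q : MvPolynomial σ R) :
    ι (aeval lam q) =
      aeval (R := K) (fun i => ι (lam i)) (map (algebraMap R K) q) := by
  induction q using MvPolynomial.induction_on with
  | C r => simp [hι₃]
  | add p q hp hq => simp [hp, hq]
  | mul_X p i hp => simp [hp]

theorem exists_F' (ι : Λ →+* ΛK) (hι₂ : ∀ l, ι l = 0 → ∃ s ∈ S, s • l = 0)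
    (hι₃ : ∀ r, ι (algebraMap R Λ r) = algebraMap K ΛK (algebraMap R K r))
    (h : B' →ₐ[K] ΛK) {N c : ℕ} (val : Fin N → B')
    (rel : Fin c → MvPolynomial (Fin N) K) (hrel : ∀ j, aeval (R := K) val (rel j) = 0)
    (lam : Fin N → Λ) (hlam : ∀ i, h (val i) = ι (lam i)) :
    ∃ (F : Fin c → MvPolynomial (Fin N) R) (w : R), w ∈ S ∧
      (∀ j, map (algebraMap R K) (F j) = C (algebraMap R K w) * rel j) ∧
      ∀ j, aeval lam (F j) = 0 := by
  classical
  obtain ⟨w₁, hw₁, hq⟩ := exists_clear S rel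
  choose q hq using hq
  have h0 : ∀ j, ι (aeval lam (q j)) = 0 := by
    intro j
    rw [iota_aeval ι hι₃, hq]
    have : (fun i => ι (lam i)) = fun i => h (val i) :=
      funext fun i => (hlam i).symm
    rw [this, ← DFunLike.congr_fun (MvPolynomial.comp_aeval (R := K) val h) _,
      AlgHom.comp_apply, map_mul, hrel, mul_zero, map_zero]
  have h1 : ∀ j, ∃ s ∈ S, s • aeval lam (q j) = 0 := fun j => hι₂ _ (h0 j)
  choose s hs hs0 using h1
  refine ⟨fun j => C (∏ k, s k) * q j, (∏ k, s k) * w₁,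
    S.mul_mem (S.prod_mem fun k _ => hs k) hw₁, ?_, ?_⟩
  · intro j
    rw [map_mul, map_C, hq, map_mul, C_mul, mul_assoc]
  · intro j
    rw [map_mul, aeval_C, ← Algebra.smul_def,
      ← Finset.prod_erase_mul _ _ (Finset.mem_univ j), mul_smul, hs0, smul_zero]

theorem descend' (ι : Λ →+* ΛK) (hι₂ : ∀ l, ι l = 0 → ∃ s ∈ S, s • l = 0)
    (hι₃ : ∀ r, ι (algebraMap R Λ r) = algebraMap K ΛK (algebraMap R K r))
    (h : B' →ₐ[K] ΛK) {N c t : ℕ} (val : Fin N → B')
    (rel : Fin c → MvPolynomial (Fin N) K) (mp : Fin c → Fin N)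
    (hraw : RawSub val rel mp) (lam : Fin N → Λ) (hlam : ∀ i, h (val i) = ι (lam i))
    (G : Fin t → MvPolynomial (Fin N) R)
    (hG : ∀ k, aeval (R := K) val (map (algebraMap R K) (G k)) = 0) :
    ∃ (F : Fin c → MvPolynomial (Fin N) R) (A₁ : MvPolynomial (Fin N) R) (s : R), s ∈ S ∧
      (∀ j, aeval lam (F j) = 0) ∧
      (∀ k, C s * G k ∈ Ideal.span (Set.range F)) ∧
      A₁ * Smoothing.jacobianMinor F id mp - C s ∈ Ideal.span (Set.range F) := by
  classical
  have hker : ∀ x : MvPolynomial (Fin N) K, aeval (R := K) val x = 0 ↔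
      x ∈ Ideal.span (Set.range rel) := by
    intro x
    rw [← hraw.ker_eq, RingHom.mem_ker]; rfl
  have hrel : ∀ j, aeval (R := K) val (rel j) = 0 := fun j =>
    (hker _).mpr (Ideal.subset_span ⟨j, rfl⟩)
  obtain ⟨F, w, hw, hF, hF0⟩ := exists_F' S ι hι₂ hι₃ h val rel hrel lam hlam
  have hunit : IsUnit (algebraMap R K w) := IsLocalization.map_units K ⟨w, hw⟩
  obtain ⟨v, hv⟩ := hunit.exists_left_inv
  have hspan : Ideal.span (Set.range fun j => map (algebraMap R K) (F j)) =
      Ideal.span (Set.range rel) := by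
    apply le_antisymm
    · rw [Ideal.span_le]
      rintro _ ⟨j, rfl⟩
      show map (algebraMap R K) (F j) ∈ _
      rw [hF]
      exact Ideal.mul_mem_left _ _ (Ideal.subset_span ⟨j, rfl⟩)
    · rw [Ideal.span_le]
      rintro _ ⟨j, rfl⟩
      have : rel j = C v * map (algebraMap R K) (F j) := by
        rw [hF, ← mul_assoc, ← C_mul, hv, C_1, one_mul]
      rw [SetLike.mem_coe, this]
      exact Ideal.mul_mem_left _ _ (Ideal.subset_span ⟨j, rfl⟩)
  have h3 : ∀ k, ∃ s ∈ S, C s * G k ∈ Ideal.span (Set.range F) := by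
    intro k
    apply exists_mul_mem_span S (K := K)
    rw [hspan, ← hker]
    exact hG k
  choose s₃ hs₃ hs₃G using h3
  have hΔ : map (algebraMap R K) (Smoothing.jacobianMinor F id mp) =
      (∏ _k : Fin c, C (algebraMap R K w)) * Smoothing.jacobianMinor rel id mp := by
    unfold Smoothing.jacobianMinor
    rw [RingHom.map_det, ← Matrix.det_mul_column]
    congr 1
    refine Matrix.ext fun j k => ?_
    simp only [Matrix.of_apply, id, RingHom.mapMatrix_apply, Matrix.map_apply]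
    rw [← pderiv_map, hF, pderiv_C_mul]
  have hΔunit : IsUnit (aeval (R := K) val
      (map (algebraMap R K) (Smoothing.jacobianMinor F id mp))) := by
    rw [hΔ, map_mul]
    refine IsUnit.mul ?_ hraw.jac
    rw [map_prod, IsUnit.prod_iff]
    intro k _
    rw [aeval_C]
    exact hunit.map (algebraMap K B')
  obtain ⟨b, hb⟩ := hΔunit.exists_left_inv
  obtain ⟨A₀, rfl⟩ := hraw.surj b
  have h4 : A₀ * map (algebraMap R K) (Smoothing.jacobianMinor F id mp) - 1 ∈
      Ideal.span (Set.range rel) := by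
    rw [← hker, map_sub, map_mul, hb, map_one, sub_self]
  obtain ⟨s₄, hs₄, hA₁⟩ := exists_clear S (fun _ : Unit => A₀)
  obtain ⟨A₁, hA₁⟩ := hA₁ ()
  have h5 : map (algebraMap R K) (A₁ * Smoothing.jacobianMinor F id mp - C s₄) ∈
      Ideal.span (Set.range fun j => map (algebraMap R K) (F j)) := by
    rw [hspan, map_sub, map_mul, hA₁, map_C]
    have : C (algebraMap R K s₄) * A₀ * map (algebraMap R K) (Smoothing.jacobianMinor F id mp) -
        C (algebraMap R K s₄) = C (algebraMap R K s₄) *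
        (A₀ * map (algebraMap R K) (Smoothing.jacobianMinor F id mp) - 1) := by ring
    rw [this]
    exact Ideal.mul_mem_left _ _ h4
  obtain ⟨s₅, hs₅, h6⟩ := exists_mul_mem_span S (K := K) F _ h5
  refine ⟨F, C (∏ k, s₃ k) * C s₅ * A₁, (∏ k, s₃ k) * s₅ * s₄,
    S.mul_mem (S.mul_mem (S.prod_mem fun k _ => hs₃ k) hs₅) hs₄, hF0, ?_, ?_⟩
  · intro k
    have : C ((∏ k, s₃ k) * s₅ * s₄) * G k =
        (C ((∏ k' ∈ Finset.univ.erase k, s₃ k')) * C s₅ * C s₄) * (C (s₃ k) * G k) := by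
      rw [← Finset.prod_erase_mul _ _ (Finset.mem_univ k)]
      simp only [C_mul]; ring
    rw [this]
    exact Ideal.mul_mem_left _ _ (hs₃G k)
  · have : C (∏ k, s₃ k) * C s₅ * A₁ * Smoothing.jacobianMinor F id mp -
        C ((∏ k, s₃ k) * s₅ * s₄) = C (∏ k, s₃ k) *
        (C s₅ * (A₁ * Smoothing.jacobianMinor F id mp - C s₄)) := by
      simp only [C_mul]; ring
    rw [this]
    exact Ideal.mul_mem_left _ _ h6

end DescendGen

theorem descent_gen {R A Λ K B' ΛK : Type u} [CommRing R] [CommRing A] [Algebra R A]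
    [Algebra.FinitePresentation R A] [CommRing Λ] [Algebra R Λ] (φ : A →ₐ[R] Λ)
    (S : Submonoid R) [CommRing K] [Algebra R K] [IsLocalization S K] [CommRing B']
    [Algebra K B'] [Algebra.Smooth K B'] [CommRing ΛK] [Algebra K ΛK]
    (ι : Λ →+* ΛK)
    (hι₁ : ∀ z : ΛK, ∃ s ∈ S, ∃ l, algebraMap K ΛK (algebraMap R K s) * z = ι l)
    (hι₂ : ∀ l, ι l = 0 → ∃ s ∈ S, s • l = 0)
    (hι₃ : ∀ r, ι (algebraMap R Λ r) = algebraMap K ΛK (algebraMap R K r))
    (g₀ : A →+* B') (hg₀ : ∀ r, g₀ (algebraMap R A r) = algebraMap K B' (algebraMap R K r))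
    (h : B' →ₐ[K] ΛK) (hgh : ∀ a, h (g₀ a) = ι (φ a)) :
    ∃ (B : Type u) (_ : CommRing B) (_ : Algebra R B) (α : A →ₐ[R] B) (β : B →ₐ[R] Λ),
      β.comp α = φ ∧ ∃ s ∈ S, Smoothing.IsElementaryStandard R B (algebraMap R B s) := by
  classical
  obtain ⟨B'', _, _, _, _, _, ⟨retr⟩, _⟩ := Groth.Agent.S2025.result (R := K) (A := B')
  let g' : A →+* B'' := (algebraMap B' B'').comp g₀
  have hg' : ∀ r, g' (algebraMap R A r) = algebraMap K B'' (algebraMap R K r) := by
    intro r
    show algebraMap B' B'' (g₀ (algebraMap R A r)) = _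
    rw [hg₀, ← IsScalarTower.algebraMap_apply]
  let h' : B'' →ₐ[K] ΛK := h.comp (retr.restrictScalars K)
  have hgh' : ∀ x : A, h' (g' x) = ι (φ x) := by
    intro x
    show h (retr (algebraMap B' B'' (g₀ x))) = _
    rw [retr.commutes]
    exact hgh x
  obtain ⟨n, t, gA, φA, hφA, hgA⟩ := Helper27.StdElem.exists_presentation (R := R) (A := A)
  obtain ⟨N, c, κ, mp, val, rel, hval, hraw⟩ := exists_raw (K := K)
    (B := B'') (fun i : Fin n => g' (φA (X i)))
  have h1 : ∀ i, ∃ s ∈ S, ∃ l : Λ, algebraMap K ΛK (algebraMap R K s) * h' (val i) = ι l :=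
    fun i => hι₁ _
  choose s₀ hs₀ l₀ hl₀ using h1
  let a : Fin N → K := fun i => if ∃ i', κ i' = i then 1 else algebraMap R K (s₀ i)
  have ha1 : ∀ i', a (κ i') = 1 := fun i' => if_pos ⟨i', rfl⟩
  have ha2 : ∀ i, (¬ ∃ i', κ i' = i) → a i = algebraMap R K (s₀ i) := fun i hi => if_neg hi
  have h2 : ∀ i, ∃ b : K, a i * b = 1 := by
    intro i
    by_cases hi : ∃ i', κ i' = i
    · obtain ⟨i', rfl⟩ := hi
      exact ⟨1, by rw [ha1, mul_one]⟩
    · obtain ⟨b, hb⟩ := (IsLocalization.map_units K ⟨s₀ i, hs₀ i⟩).exists_right_inv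
      exact ⟨b, by rw [ha2 i hi]; exact hb⟩
  choose b hab using h2
  let lam : Fin N → Λ := fun i =>
    if hi : ∃ i', κ i' = i then φ (φA (X hi.choose)) else l₀ i
  have hlamκ : ∀ i', lam (κ i') = φ (φA (X i')) := by
    intro i'
    have hi : ∃ i'', κ i'' = κ i' := ⟨i', rfl⟩
    simp only [lam, dif_pos hi]
    rw [κ.injective hi.choose_spec]
  have hraw' := hraw.scale a b hab
  have hlam : ∀ i, h' (a i • val i) = ι (lam i) := by
    intro i
    by_cases hi : ∃ i', κ i' = i
    · obtain ⟨i', rfl⟩ := hi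
      rw [ha1, one_smul, hval, hgh', hlamκ]
    · rw [ha2 i hi, map_smul, Algebra.smul_def, hl₀]
      simp only [lam, dif_neg hi]
  have hkey : ∀ p : MvPolynomial (Fin n) R, aeval (R := K) (fun i => a i • val i)
      (map (algebraMap R K) (rename κ p)) = g' (φA p) := by
    intro p
    induction p using MvPolynomial.induction_on with
    | C r =>
      have : φA (C r) = algebraMap R A r := φA.commutes r
      rw [this, hg']
      simp
    | add p q hp hq => simp only [map_add, hp, hq]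
    | mul_X p i hp =>
      simp only [map_mul, hp, rename_X, map_X, aeval_X, ha1, one_smul, hval]
  have hG : ∀ k, aeval (R := K) (fun i => a i • val i)
      (map (algebraMap R K) (rename κ (gA k))) = 0 := by
    intro k
    rw [hkey]
    have : gA k ∈ RingHom.ker φA.toRingHom := by
      rw [hgA]; exact Ideal.subset_span ⟨k, rfl⟩
    have h2 : φA (gA k) = 0 := this
    rw [h2, map_zero]
  obtain ⟨F, A₁, s, hs, hF0, hGs, hA⟩ := descend' S ι hι₂ hι₃ h'
    (fun i => a i • val i) (fun j => scaleHom b (rel j)) mp hraw' lam hlam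
    (fun k => rename κ (gA k)) hG
  obtain ⟨B, _, _, α, β, hαβ, hstd⟩ := assemble φ φA hφA gA hgA κ mp lam
    hlamκ F A₁ s hF0 hGs hA
  exact ⟨B, _, _, α, β, hαβ, s, hs, hstd⟩

end Helper27.SmoothDesc
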