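import Mathlib
import Groth.Agent.Lib.Helper27.StdElemE

set_option autoImplicit false
universe u

namespace Helper27.SmoothDesc

open MvPolynomial

theorem exists_finite_stage {R A Λ B₁ Λq : Type u} [CommRing R] [CommRing A] [Algebra R A]
    [Algebra.FiniteType R A] [CommRing Λ] [Algebra R Λ] (φ : A →ₐ[R] Λ) [CommRing B₁]
    [Algebra R B₁] [Algebra.FinitePresentation R B₁] (α₁ : A →ₐ[R] B₁) (M : Submonoid Λ)
    [CommRing Λq] [Algebra Λ Λq] [IsLocalization M Λq] [Algebra R Λq] [IsScalarTower R Λ Λq]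
    (β₁ : B₁ →ₐ[R] Λq) (hβ : ∀ a, β₁ (α₁ a) = algebraMap Λ Λq (φ a)) (u : Λ) :
    ∃ t ∈ M, ∃ β' : B₁ →ₐ[R] Localization.Away (u * t),
      ∀ a, β' (α₁ a) = algebraMap Λ (Localization.Away (u * t)) (φ a) := by
  classical
  obtain ⟨N, m, rel, hom, hhom, hker⟩ := Helper27.StdElem.exists_presentation (R := R) (A := B₁)
  obtain ⟨n', fA, hfA⟩ := Algebra.FiniteType.iff_quotient_mvPolynomial''.mp
    (inferInstance : Algebra.FiniteType R A)
  have hw : ∀ l : Fin n', ∃ w, hom w = α₁ (fA (X l)) := fun l => hhom _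
  choose w hw using hw
  obtain ⟨t₀, ht₀⟩ := IsLocalization.exist_integer_multiples_of_finite M
    (fun i : Fin N => β₁ (hom (X i)))
  choose lam hlam using ht₀
  have hunit₀ : IsUnit (algebraMap Λ Λq (t₀ : Λ)) := IsLocalization.map_units Λq t₀
  let Λ₀ := Localization.Away (t₀ : Λ)
  let x0 : Fin N → Λ₀ := fun i =>
    IsLocalization.mk' Λ₀ (lam i) (⟨(t₀ : Λ), Submonoid.mem_powers _⟩ : Submonoid.powers (t₀ : Λ))
  let γ₀ : MvPolynomial (Fin N) R →ₐ[R] Λ₀ := aeval x0
  let j₀ : Λ₀ →ₐ[R] Λq := IsLocalization.Away.liftAlgHom (A := R) (S := Λ₀) (t₀ : Λ)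
    (f := IsScalarTower.toAlgHom R Λ Λq) hunit₀
  have hj₀ : ∀ l : Λ, j₀ (algebraMap Λ Λ₀ l) = algebraMap Λ Λq l := by
    intro l
    exact IsLocalization.Away.lift_eq (t₀ : Λ) hunit₀ l
  have hjx : ∀ i, j₀ (x0 i) = β₁ (hom (X i)) := by
    intro i
    have h1 : x0 i * algebraMap Λ Λ₀ (t₀ : Λ) = algebraMap Λ Λ₀ (lam i) :=
      IsLocalization.mk'_spec _ _ _
    have h2 := congrArg j₀ h1
    rw [map_mul, hj₀, hj₀, hlam i, Algebra.smul_def, mul_comm] at h2
    exact hunit₀.mul_left_cancel h2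
  have hjγ : ∀ p, j₀ (γ₀ p) = β₁ (hom p) := by
    intro p
    have : (j₀.comp γ₀) = β₁.comp hom := by
      apply MvPolynomial.algHom_ext
      intro i
      simp only [AlgHom.comp_apply, γ₀, aeval_X]
      exact hjx i
    exact DFunLike.congr_fun this p
  let z : Fin m ⊕ Fin n' → Λ₀ := fun k => match k with
    | Sum.inl j => γ₀ (rel j)
    | Sum.inr l => γ₀ (w l) - algebraMap Λ Λ₀ (φ (fA (X l)))
  have hz : ∀ k, j₀ (z k) = 0 := by
    rintro (j | l)
    · show j₀ (γ₀ (rel j)) = 0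
      rw [hjγ]
      have : rel j ∈ RingHom.ker hom.toRingHom := by
        rw [hker]; exact Ideal.subset_span ⟨j, rfl⟩
      have h2 : hom (rel j) = 0 := this
      rw [h2, map_zero]
    · show j₀ (γ₀ (w l) - algebraMap Λ Λ₀ (φ (fA (X l)))) = 0
      rw [map_sub, hjγ, hj₀, hw, hβ, sub_self]
  have hZ : ∀ k, ∃ t' ∈ M, algebraMap Λ Λ₀ t' * z k = 0 := by
    intro k
    obtain ⟨⟨a, s⟩, has⟩ := IsLocalization.surj (Submonoid.powers (t₀ : Λ)) (z k)
    have h1 : algebraMap Λ Λq a = 0 := by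
      have := congrArg j₀ has
      rw [map_mul, hz, zero_mul, hj₀] at this
      exact this.symm
    obtain ⟨t', ht'⟩ := (IsLocalization.map_eq_zero_iff M Λq a).mp h1
    refine ⟨t', t'.2, ?_⟩
    have hsu : IsUnit (algebraMap Λ Λ₀ (s : Λ)) := IsLocalization.map_units Λ₀ s
    have : (algebraMap Λ Λ₀ t' * z k) * algebraMap Λ Λ₀ (s : Λ) = 0 := by
      rw [mul_assoc, has, ← map_mul, ht', map_zero]
    exact (hsu.mul_left_eq_zero).mp this
  choose t' ht'M ht'z using hZ
  refine ⟨(t₀ : Λ) * ∏ k, t' k, M.mul_mem t₀.2 (M.prod_mem fun k _ => ht'M k), ?_⟩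
  obtain ⟨T, hT⟩ : ∃ T, T = u * ((t₀ : Λ) * ∏ k, t' k) := ⟨_, rfl⟩
  rw [← hT]
  have hTunit : IsUnit (algebraMap Λ (Localization.Away T) T) :=
    IsLocalization.Away.algebraMap_isUnit T
  have hunitT₀ : IsUnit (algebraMap Λ (Localization.Away T) (t₀ : Λ)) := by
    have h1 : algebraMap Λ (Localization.Away T) T = algebraMap Λ (Localization.Away T) u *
        (algebraMap Λ (Localization.Away T) (t₀ : Λ) *
          algebraMap Λ (Localization.Away T) (∏ k, t' k)) :=
      (congrArg (algebraMap Λ (Localization.Away T)) hT).trans (by rw [map_mul, map_mul])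
    rw [h1] at hTunit
    exact isUnit_of_mul_isUnit_left (isUnit_of_mul_isUnit_right hTunit)
  have hunitT' : ∀ k, IsUnit (algebraMap Λ (Localization.Away T) (t' k)) := by
    intro k
    have h1 : algebraMap Λ (Localization.Away T) T = algebraMap Λ (Localization.Away T) u *
        (algebraMap Λ (Localization.Away T) (t₀ : Λ) *
          (algebraMap Λ (Localization.Away T) (∏ k' ∈ Finset.univ.erase k, t' k') *
            algebraMap Λ (Localization.Away T) (t' k))) :=
      (congrArg (algebraMap Λ (Localization.Away T)) hT).trans (by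
        rw [← Finset.prod_erase_mul _ _ (Finset.mem_univ k), map_mul, map_mul, map_mul])
    rw [h1] at hTunit
    exact isUnit_of_mul_isUnit_right (isUnit_of_mul_isUnit_right (isUnit_of_mul_isUnit_right hTunit))
  let c : Λ₀ →ₐ[R] Localization.Away T := IsLocalization.Away.liftAlgHom (A := R) (S := Λ₀)
    (t₀ : Λ) (f := IsScalarTower.toAlgHom R Λ (Localization.Away T)) hunitT₀
  have hc : ∀ l : Λ, c (algebraMap Λ Λ₀ l) = algebraMap Λ (Localization.Away T) l := by
    intro l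
    exact IsLocalization.Away.lift_eq (t₀ : Λ) hunitT₀ l
  have hcz : ∀ k, c (z k) = 0 := by
    intro k
    have := congrArg c (ht'z k)
    rw [map_mul, hc, map_zero] at this
    exact ((hunitT' k).mul_right_eq_zero).mp this
  have hle : RingHom.ker hom.toRingHom ≤ RingHom.ker (c.comp γ₀).toRingHom := by
    rw [hker, Ideal.span_le]
    rintro _ ⟨j, rfl⟩
    rw [SetLike.mem_coe, RingHom.mem_ker]
    exact hcz (Sum.inl j)
  refine ⟨AlgHom.liftOfSurjective hom hhom (c.comp γ₀) hle, ?_⟩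
  have key : ((AlgHom.liftOfSurjective hom hhom (c.comp γ₀) hle).comp α₁).comp fA =
      ((IsScalarTower.toAlgHom R Λ (Localization.Away T)).comp φ).comp fA := by
    apply MvPolynomial.algHom_ext
    intro l
    simp only [AlgHom.comp_apply]
    rw [← hw, AlgHom.liftOfSurjective_apply, AlgHom.comp_apply]
    have h1 := hcz (Sum.inr l)
    have h2 : c (γ₀ (w l) - algebraMap Λ Λ₀ (φ (fA (X l)))) = 0 := h1
    rw [map_sub, hc, sub_eq_zero] at h2
    rw [h2]
    rfl
  intro a
  obtain ⟨p, rfl⟩ := hfA a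
  exact DFunLike.congr_fun key p

end Helper27.SmoothDesc
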