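import Mathlib
import Groth.Prelude.Def_Smoothing
import Groth.Agent.Lib.Helper27.SmoothDescD

set_option autoImplicit false
universe u

namespace Helper27.SmoothDesc

open TensorProduct

theorem mem_singularIdeal_of_formallySmooth_away {R C : Type u} [CommRing R] [CommRing C]
    [Algebra R C] [Algebra.FinitePresentation R C] (x : C)
    [Algebra.FormallySmooth R (Localization.Away x)] :
    x ∈ Smoothing.singularIdeal R C := by
  have hs : Algebra.FormallySmooth R (Localization.Away x) := inferInstance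
  rw [← Algebra.basicOpen_subset_smoothLocus_iff] at hs
  unfold Smoothing.singularIdeal
  rw [PrimeSpectrum.mem_vanishingIdeal]
  intro p hp
  by_contra hap
  exact hp (hs hap)

set_option maxHeartbeats 800000 in
theorem exists_factor_of_away {R A Λ B₁ : Type u} [CommRing R] [CommRing A] [Algebra R A]
    [Algebra.FinitePresentation R A] [CommRing Λ] [Algebra R Λ] (φ : A →ₐ[R] Λ)
    [CommRing B₁] [Algebra R B₁] (α₁ : A →ₐ[R] B₁) (s : R)
    (hs : Smoothing.IsElementaryStandard R B₁ (algebraMap R B₁ s))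
    (T : Λ) (β' : B₁ →ₐ[R] Localization.Away (algebraMap R Λ s * T))
    (hβ' : ∀ a, β' (α₁ a) = algebraMap Λ (Localization.Away (algebraMap R Λ s * T)) (φ a)) :
    ∃ (C : Type u) (_ : CommRing C) (_ : Algebra R C), Algebra.FinitePresentation R C ∧
      ∃ (g : A →ₐ[R] C) (h : C →ₐ[R] Λ), h.comp g = φ ∧
        ∃ x ∈ Smoothing.singularIdeal R C, ∃ k : ℕ, h x = (algebraMap R Λ s * T) ^ k := by
  classical
  let algΛ : Algebra (Polynomial R) Λ := (Polynomial.aeval (R := R) T).toRingHom.toAlgebra
  have halgΛ : ∀ p : Polynomial R, algebraMap (Polynomial R) Λ p = Polynomial.aeval T p :=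
    fun _ => rfl
  have : IsScalarTower R (Polynomial R) Λ := IsScalarTower.of_algebraMap_eq (fun r => by
    rw [halgΛ, Polynomial.algebraMap_apply, Polynomial.aeval_C]
    rfl)
  let φ' : Polynomial R ⊗[R] A →ₐ[Polynomial R] Λ :=
    Algebra.TensorProduct.lift (Algebra.ofId (Polynomial R) Λ) φ (fun _ _ => Commute.all _ _)
  let σ' : Polynomial R := Polynomial.C s * Polynomial.X
  have hσ' : algebraMap (Polynomial R) Λ σ' = algebraMap R Λ s * T := by
    rw [halgΛ]; simp [σ']
  let ΛK := Localization.Away (algebraMap R Λ s * T)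
  let K' := Localization.Away σ'
  have hunitσ : IsUnit (((algebraMap Λ ΛK).comp (algebraMap (Polynomial R) Λ)) σ') := by
    rw [RingHom.comp_apply, hσ']
    exact IsLocalization.Away.algebraMap_isUnit _
  let algK : Algebra K' ΛK := (IsLocalization.Away.lift (S := K') σ' hunitσ).toAlgebra
  have hι₃ : ∀ r' : Polynomial R, algebraMap Λ ΛK (algebraMap (Polynomial R) Λ r') =
      algebraMap K' ΛK (algebraMap (Polynomial R) K' r') := by
    intro r'
    exact (IsLocalization.Away.lift_eq (S := K') σ' hunitσ r').symm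
  have hι₁ : ∀ z : ΛK, ∃ s' ∈ Submonoid.powers σ', ∃ l,
      algebraMap K' ΛK (algebraMap (Polynomial R) K' s') * z = algebraMap Λ ΛK l := by
    intro z
    obtain ⟨⟨l, m⟩, hm⟩ := IsLocalization.surj (Submonoid.powers (algebraMap R Λ s * T)) z
    obtain ⟨k, hk⟩ := m.2
    have hk' : (algebraMap R Λ s * T) ^ k = (m : Λ) := hk
    refine ⟨σ' ^ k, ⟨k, rfl⟩, l, ?_⟩
    rw [← hι₃, map_pow, hσ', hk', mul_comm]
    exact hm
  have hι₂ : ∀ l : Λ, algebraMap Λ ΛK l = 0 → ∃ s' ∈ Submonoid.powers σ', s' • l = 0 := by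
    intro l hl
    obtain ⟨m, hm⟩ := (IsLocalization.map_eq_zero_iff
      (Submonoid.powers (algebraMap R Λ s * T)) ΛK l).mp hl
    obtain ⟨k, hk⟩ := m.2
    have hk' : (algebraMap R Λ s * T) ^ k = (m : Λ) := hk
    refine ⟨σ' ^ k, ⟨k, rfl⟩, ?_⟩
    rw [Algebra.smul_def, map_pow, hσ', hk']
    exact hm
  have hstr : Smoothing.IsStrictlyStandard R B₁ (algebraMap R B₁ s) :=
    Helper27.StdElem.isStrictlyStandard_of_isElementaryStandard _ hs
  have hsm : Algebra.Smooth R (Localization.Away (algebraMap R B₁ s)) :=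
    Helper27.StdElem.smooth_away_of_isStrictlyStandard _ hstr
  let B₁s := Localization.Away (algebraMap R B₁ s)
  let g₀ : Polynomial R ⊗[R] A →ₐ[Polynomial R] K' ⊗[R] B₁s :=
    Algebra.TensorProduct.map (Algebra.ofId (Polynomial R) K')
      ((IsScalarTower.toAlgHom R B₁ B₁s).comp α₁)
  have hg₀ : ∀ r', g₀.toRingHom (algebraMap (Polynomial R) (Polynomial R ⊗[R] A) r') =
      algebraMap K' (K' ⊗[R] B₁s) (algebraMap (Polynomial R) K' r') := by
    intro r'
    show g₀ (algebraMap (Polynomial R) (Polynomial R ⊗[R] A) r') = _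
    rw [g₀.commutes, IsScalarTower.algebraMap_apply (Polynomial R) K' (K' ⊗[R] B₁s)]
  have htow : IsScalarTower R K' ΛK := IsScalarTower.of_algebraMap_eq (fun r => by
    rw [IsScalarTower.algebraMap_apply R (Polynomial R) K', ← hι₃,
      ← IsScalarTower.algebraMap_apply R (Polynomial R) Λ,
      ← IsScalarTower.algebraMap_apply R Λ ΛK])
  have hunitB : IsUnit (β' (algebraMap R B₁ s)) := by
    rw [β'.commutes, IsScalarTower.algebraMap_apply R Λ ΛK]
    have h1 : IsUnit (algebraMap Λ ΛK (algebraMap R Λ s * T)) :=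
      IsLocalization.Away.algebraMap_isUnit _
    rw [map_mul] at h1
    exact isUnit_of_mul_isUnit_left h1
  let hB : B₁s →ₐ[R] ΛK := IsLocalization.Away.liftAlgHom (A := R) (S := B₁s)
    (algebraMap R B₁ s) (f := β') hunitB
  have hhB : ∀ b, hB (algebraMap B₁ B₁s b) = β' b := fun b =>
    IsLocalization.Away.lift_eq (algebraMap R B₁ s) hunitB b
  let h : K' ⊗[R] B₁s →ₐ[K'] ΛK :=
    Algebra.TensorProduct.lift (Algebra.ofId K' ΛK) hB (fun _ _ => Commute.all _ _)
  have hgh : ∀ a', h (g₀.toRingHom a') = algebraMap Λ ΛK (φ' a') := by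
    intro a'
    show h (g₀ a') = _
    induction a' using TensorProduct.induction_on with
    | zero => simp
    | tmul r' a =>
      simp only [g₀, h, φ', Algebra.TensorProduct.map_tmul, Algebra.TensorProduct.lift_tmul,
        AlgHom.comp_apply, Algebra.ofId_apply, IsScalarTower.coe_toAlgHom', hhB, hβ', map_mul,
        hι₃]
      rfl
    | add x y hx hy => simp only [map_add, hx, hy]
  obtain ⟨B₂, _, _, α₂, β₂, hαβ, s', hs', hstd⟩ := descent_gen φ' (Submonoid.powers σ')
    (K := K') (B' := K' ⊗[R] B₁s) (ΛK := ΛK) (algebraMap Λ ΛK) hι₁ hι₂ hι₃ g₀.toRingHom hg₀ h hgh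
  let algRB : Algebra R B₂ := Algebra.compHom B₂ (algebraMap R (Polynomial R))
  have towB : IsScalarTower R (Polynomial R) B₂ := IsScalarTower.of_algebraMap_eq (fun _ => rfl)
  have hfpB : Algebra.FinitePresentation (Polynomial R) B₂ := by
    obtain ⟨MP, -, -⟩ := hstd
    exact Helper27.StdElem.finitePresentation_of_surjective MP.rel MP.hom MP.surj MP.ker_eq
  have hfpR : Algebra.FinitePresentation R B₂ :=
    Algebra.FinitePresentation.trans R (Polynomial R) B₂
  refine ⟨B₂, inferInstance, algRB, hfpR,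
    (α₂.restrictScalars R).comp Algebra.TensorProduct.includeRight, β₂.restrictScalars R, ?_,
    algebraMap (Polynomial R) B₂ s', ?_, ?_⟩
  · apply AlgHom.ext
    intro a
    show β₂ (α₂ (1 ⊗ₜ a)) = φ a
    have h1 := DFunLike.congr_fun hαβ ((1 : Polynomial R) ⊗ₜ[R] a)
    rw [AlgHom.comp_apply] at h1
    rw [h1]
    simp [φ']
  · have hstr' := Helper27.StdElem.isStrictlyStandard_of_isElementaryStandard _ hstd
    have hsm' : Algebra.Smooth (Polynomial R)
        (Localization.Away (algebraMap (Polynomial R) B₂ s')) :=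
      Helper27.StdElem.smooth_away_of_isStrictlyStandard _ hstr'
    have tow2 : IsScalarTower R (Polynomial R)
        (Localization.Away (algebraMap (Polynomial R) B₂ s')) :=
      IsScalarTower.of_algebraMap_eq (fun r => by
        rw [IsScalarTower.algebraMap_apply R B₂ (Localization.Away _),
          IsScalarTower.algebraMap_apply (Polynomial R) B₂ (Localization.Away _)]
        rfl)
    have hsmP : Algebra.Smooth R (Polynomial R) := ⟨inferInstance, inferInstance⟩
    have hsm2 : Algebra.Smooth R (Localization.Away (algebraMap (Polynomial R) B₂ s')) :=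
      Algebra.Smooth.comp R (Polynomial R) _
    have hfs : Algebra.FormallySmooth R (Localization.Away (algebraMap (Polynomial R) B₂ s')) :=
      hsm2.formallySmooth
    exact mem_singularIdeal_of_formallySmooth_away _
  · obtain ⟨k, hk⟩ := hs'
    have hk' : σ' ^ k = s' := hk
    refine ⟨k, ?_⟩
    show β₂ (algebraMap (Polynomial R) B₂ s') = _
    rw [β₂.commutes, ← hk', map_pow, hσ']

end Helper27.SmoothDesc
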