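import Mathlib
import Groth.Agent.Lib.Helper27.SepResA
import Groth.Agent.S2034
import Groth.Agent.S2022

set_option autoImplicit false
universe u

namespace Helper27.SepRes

open Smoothing TensorProduct

theorem singularIdeal_eq_top_of_smooth {R B : Type u} [CommRing R] [CommRing B] [Algebra R B]
    [Algebra.Smooth R B] : singularIdeal R B = ⊤ := by
  unfold singularIdeal
  rw [Algebra.smoothLocus_eq_univ, Set.compl_univ, PrimeSpectrum.vanishingIdeal_empty]

theorem resolvable_of_indSmooth {R A Λ Rₚ Λq : Type u} [CommRing R] [IsNoetherianRing R]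
    [CommRing A] [Algebra R A] [Algebra.FinitePresentation R A] [CommRing Λ] [Algebra R Λ]
    (φ : A →ₐ[R] Λ) (𝔮 : Ideal Λ) [𝔮.IsPrime]
    [CommRing Rₚ] [Algebra R Rₚ] [IsLocalization.AtPrime Rₚ (𝔮.comap (algebraMap R Λ))]
    [CommRing Λq] [Algebra Λ Λq] [IsLocalization.AtPrime Λq 𝔮] [Algebra R Λq] [IsScalarTower R Λ Λq]
    [Algebra Rₚ Λq] [IsScalarTower R Rₚ Λq] (hdim : ringKrullDim Λq = 0)
    (hind : IndSmooth Rₚ Λq) : Resolvable R φ 𝔮 := by
  have hloc : IsLocalRing Λq := IsLocalization.AtPrime.isLocalRing Λq 𝔮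
  by_cases hle : singRad R φ ≤ 𝔮
  · have hmin : 𝔮 ∈ (singRad R φ).minimalPrimes := by
      refine ⟨⟨inferInstance, hle⟩, ?_⟩
      rintro P ⟨hP, _⟩ hPq
      have hkd : Ring.KrullDimLE 0 Λq := Ring.krullDimLE_iff.mpr (by rw [hdim]; rfl)
      have hdisj : Disjoint (𝔮.primeCompl : Set Λ) (P : Set Λ) := by
        rw [Set.disjoint_left]
        intro x hx hxP
        exact hx (hPq hxP)
      have hPprime : (P.map (algebraMap Λ Λq)).IsPrime :=
        IsLocalization.isPrime_of_isPrime_disjoint 𝔮.primeCompl Λq P hP hdisj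
      have hPmax : (P.map (algebraMap Λ Λq)).IsMaximal := Ideal.isMaximal_of_isPrime _
      have hPeq : P.map (algebraMap Λ Λq) = IsLocalRing.maximalIdeal Λq :=
        IsLocalRing.eq_maximalIdeal hPmax
      intro x hx
      have h1 : algebraMap Λ Λq x ∈ P.map (algebraMap Λ Λq) := by
        rw [hPeq, ← IsLocalization.AtPrime.map_eq_maximalIdeal 𝔮 Λq]
        exact Ideal.mem_map_of_mem _ hx
      have h2 := IsLocalization.comap_map_of_isPrime_disjoint 𝔮.primeCompl Λq hP hdisj
      rw [← h2]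
      exact h1
    refine Groth.Agent.S2034.result (Rₚ := Rₚ) (Λq := Λq) φ 𝔮 hmin hdim ?_
    obtain ⟨B', _, _, hsm, g, h, hgh⟩ := hind (Rₚ ⊗[R] A) inferInstance
      (Algebra.TensorProduct.lift (Algebra.ofId Rₚ Λq) ((IsScalarTower.toAlgHom R Λ Λq).comp φ)
        (fun _ _ => Commute.all _ _))
    have hB' : singularIdeal Rₚ B' = ⊤ := singularIdeal_eq_top_of_smooth
    have hrad : singRad Rₚ h = ⊤ := by
      unfold singRad
      rw [hB', Ideal.map_top, Ideal.radical_top]
    refine ⟨B', inferInstance, inferInstance, hsm.2, g, h, hgh, ?_, ?_⟩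
    · rw [hrad]
      exact le_top
    · rw [hrad, top_le_iff, IsLocalization.AtPrime.map_eq_maximalIdeal 𝔮 Λq]
      exact (IsLocalRing.maximalIdeal.isMaximal Λq).ne_top
  · exact ⟨A, inferInstance, inferInstance, inferInstance, AlgHom.id R A, φ, AlgHom.comp_id φ,
      le_rfl, hle⟩

end Helper27.SepRes
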