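import Mathlib
import Groth.Agent.Lib.Helper27.SepResE

set_option autoImplicit false
universe u

namespace Helper27.SepRes

open Smoothing TensorProduct IsLocalRing

set_option maxHeartbeats 1000000 in
theorem quot_resolvable {k R₀ C₀ Λ₀ K' : Type u} [Field k] [CommRing R₀] [IsNoetherianRing R₀]
    [Algebra k R₀] [CommRing C₀] [Algebra R₀ C₀] [Algebra.FinitePresentation R₀ C₀] [CommRing Λ₀]
    [Algebra R₀ Λ₀] [Algebra k Λ₀] [IsScalarTower k R₀ Λ₀]
    (ψ : C₀ →ₐ[R₀] Λ₀) (𝔮₀ : Ideal Λ₀) [𝔮₀.IsPrime]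
    (h1 : IsNilpotent (𝔮₀.comap (algebraMap R₀ Λ₀)))
    (h2 : ∀ r : R₀, ∃ c : k, r - algebraMap k R₀ c ∈ 𝔮₀.comap (algebraMap R₀ Λ₀))
    (h3 : maximalIdeal (Localization.AtPrime 𝔮₀) ≤
      (𝔮₀.comap (algebraMap R₀ Λ₀)).map (algebraMap R₀ (Localization.AtPrime 𝔮₀)))
    (h4 : Module.Flat R₀ (Localization.AtPrime 𝔮₀))
    [Field K'] [Algebra k K'] [Algebra.IsGeometricallyReduced k K'] (χ : Λ₀ →ₐ[k] K')
    (hχ : ∀ x, x ∉ 𝔮₀ → χ x ≠ 0) :
    Resolvable R₀ ψ 𝔮₀ := by
  obtain ⟨𝔭, h𝔭⟩ : ∃ 𝔭 : Ideal R₀, 𝔭 = 𝔮₀.comap (algebraMap R₀ Λ₀) := ⟨_, rfl⟩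
  have h𝔭prime : 𝔭.IsPrime := by rw [h𝔭]; infer_instance
  rw [← h𝔭] at h1 h3
  have h2' : ∀ r : R₀, ∃ c : k, r - algebraMap k R₀ c ∈ 𝔭 := by rw [h𝔭]; exact h2
  let algRL : Algebra (Localization.AtPrime 𝔭) (Localization.AtPrime 𝔮₀) :=
    (Localization.localRingHom 𝔭 𝔮₀ (algebraMap R₀ Λ₀) h𝔭).toAlgebra
  have halg : ∀ r : R₀, algebraMap (Localization.AtPrime 𝔭) (Localization.AtPrime 𝔮₀)
      (algebraMap R₀ (Localization.AtPrime 𝔭) r) =
        algebraMap Λ₀ (Localization.AtPrime 𝔮₀) (algebraMap R₀ Λ₀ r) := fun r =>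
    Localization.localRingHom_to_map 𝔭 𝔮₀ (algebraMap R₀ Λ₀) h𝔭 r
  have tower : IsScalarTower R₀ (Localization.AtPrime 𝔭) (Localization.AtPrime 𝔮₀) :=
    IsScalarTower.of_algebraMap_eq (fun r => by
      rw [halg, ← IsScalarTower.algebraMap_apply])
  have hloc : IsLocalization.AtPrime (Localization.AtPrime 𝔭) (𝔮₀.comap (algebraMap R₀ Λ₀)) := by
    subst h𝔭
    infer_instance
  have hI : IsNilpotent (maximalIdeal (Localization.AtPrime 𝔭)) := by
    obtain ⟨N, hN⟩ := h1
    refine ⟨N, ?_⟩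
    rw [← Localization.AtPrime.map_eq_maximalIdeal, ← Ideal.map_pow, hN, Ideal.zero_eq_bot,
      Ideal.map_bot]
    rfl
  have hImap : (maximalIdeal (Localization.AtPrime 𝔭)).map
      (algebraMap (Localization.AtPrime 𝔭) (Localization.AtPrime 𝔮₀)) =
      maximalIdeal (Localization.AtPrime 𝔮₀) := by
    have e1 : (maximalIdeal (Localization.AtPrime 𝔭)).map
        (algebraMap (Localization.AtPrime 𝔭) (Localization.AtPrime 𝔮₀)) =
        𝔭.map (algebraMap R₀ (Localization.AtPrime 𝔮₀)) := by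
      rw [← Localization.AtPrime.map_eq_maximalIdeal, Ideal.map_map,
        ← IsScalarTower.algebraMap_eq]
    rw [e1]
    refine le_antisymm ?_ h3
    rw [IsScalarTower.algebraMap_eq R₀ Λ₀ (Localization.AtPrime 𝔮₀), ← Ideal.map_map,
      ← Localization.AtPrime.map_eq_maximalIdeal]
    refine Ideal.map_mono ?_
    rw [h𝔭]
    exact Ideal.map_comap_le
  have hnilq : IsNilpotent (maximalIdeal (Localization.AtPrime 𝔮₀)) := by
    obtain ⟨N, hN⟩ := hI
    refine ⟨N, ?_⟩
    rw [← hImap, ← Ideal.map_pow, hN, Ideal.zero_eq_bot, Ideal.map_bot]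
    rfl
  have hdim : ringKrullDim (Localization.AtPrime 𝔮₀) = 0 := by
    have hkd : Ring.KrullDimLE 0 (Localization.AtPrime 𝔮₀) := by
      rw [Ring.krullDimLE_zero_iff]
      intro P hP
      have : maximalIdeal (Localization.AtPrime 𝔮₀) ≤ P := by
        intro x hx
        obtain ⟨N, hN⟩ := hnilq
        have h5 : x ^ N ∈ maximalIdeal (Localization.AtPrime 𝔮₀) ^ N := Ideal.pow_mem_pow hx N
        rw [hN] at h5
        have h6 : x ^ N = 0 := h5
        exact hP.mem_of_pow_mem N (by rw [h6]; exact Submodule.zero_mem _)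
      rw [← (IsLocalRing.maximalIdeal.isMaximal _).eq_of_le hP.ne_top this]
      exact IsLocalRing.maximalIdeal.isMaximal _
    exact le_antisymm (Ring.krullDimLE_iff.mp hkd) ringKrullDim_nonneg_of_nontrivial
  have hflat : Module.Flat (Localization.AtPrime 𝔭) (Localization.AtPrime 𝔮₀) :=
    (Module.flat_iff_of_isLocalization (Localization.AtPrime 𝔭) 𝔭.primeCompl
      (Localization.AtPrime 𝔮₀)).mpr h4
  have hq : IndSmooth (Localization.AtPrime 𝔭 ⧸ maximalIdeal (Localization.AtPrime 𝔭))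
      (Localization.AtPrime 𝔮₀ ⧸ (maximalIdeal (Localization.AtPrime 𝔭)).map
        (algebraMap (Localization.AtPrime 𝔭) (Localization.AtPrime 𝔮₀))) := by
    have hImax : ((maximalIdeal (Localization.AtPrime 𝔭)).map
        (algebraMap (Localization.AtPrime 𝔭) (Localization.AtPrime 𝔮₀))).IsMaximal := by
      rw [hImap]
      infer_instance
    let fF : Field (Localization.AtPrime 𝔭 ⧸ maximalIdeal (Localization.AtPrime 𝔭)) :=
      Ideal.Quotient.field _
    let fL : Field (Localization.AtPrime 𝔮₀ ⧸ (maximalIdeal (Localization.AtPrime 𝔭)).map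
        (algebraMap (Localization.AtPrime 𝔭) (Localization.AtPrime 𝔮₀))) :=
      Ideal.Quotient.field _
    have hunit : ∀ y : 𝔮₀.primeCompl, IsUnit (χ y) := fun y => IsUnit.mk0 _ (hχ y y.2)
    let χ' : Localization.AtPrime 𝔮₀ →ₐ[k] K' :=
      IsLocalization.liftAlgHom (M := 𝔮₀.primeCompl) (f := χ) hunit
    have hχ'0 : ∀ a ∈ (maximalIdeal (Localization.AtPrime 𝔭)).map
        (algebraMap (Localization.AtPrime 𝔭) (Localization.AtPrime 𝔮₀)), χ' a = 0 := by
      intro a ha
      rw [hImap] at ha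
      obtain ⟨N, hN⟩ := hnilq
      have h5 : a ^ N ∈ maximalIdeal (Localization.AtPrime 𝔮₀) ^ N := Ideal.pow_mem_pow ha N
      rw [hN] at h5
      have h6 : a ^ N = 0 := h5
      have h7 : χ' a ^ N = 0 := by rw [← map_pow, h6, map_zero]
      exact eq_zero_of_pow_eq_zero h7
    let χL : (Localization.AtPrime 𝔮₀ ⧸ (maximalIdeal (Localization.AtPrime 𝔭)).map
        (algebraMap (Localization.AtPrime 𝔭) (Localization.AtPrime 𝔮₀))) →ₐ[k] K' :=
      Ideal.Quotient.liftₐ _ χ' hχ'0
    have hχLinj : Function.Injective χL := χL.toRingHom.injective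
    have hgrL : Algebra.IsGeometricallyReduced k (Localization.AtPrime 𝔮₀ ⧸
        (maximalIdeal (Localization.AtPrime 𝔭)).map
        (algebraMap (Localization.AtPrime 𝔭) (Localization.AtPrime 𝔮₀))) :=
      Algebra.IsGeometricallyReduced.of_injective χL hχLinj
    have hfsL : Algebra.FormallySmooth k (Localization.AtPrime 𝔮₀ ⧸
        (maximalIdeal (Localization.AtPrime 𝔭)).map
        (algebraMap (Localization.AtPrime 𝔭) (Localization.AtPrime 𝔮₀))) :=
      Groth.Agent.S2451.result.mpr hgrL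
    have towerk : ∀ c : k, algebraMap k (Localization.AtPrime 𝔮₀) c =
        algebraMap (Localization.AtPrime 𝔭) (Localization.AtPrime 𝔮₀)
          (algebraMap k (Localization.AtPrime 𝔭) c) := by
      intro c
      rw [IsScalarTower.algebraMap_apply k R₀ (Localization.AtPrime 𝔭), halg,
        ← IsScalarTower.algebraMap_apply k R₀ Λ₀, ← IsScalarTower.algebraMap_apply]
    have towerFL : IsScalarTower k (Localization.AtPrime 𝔭 ⧸ maximalIdeal (Localization.AtPrime 𝔭))
        (Localization.AtPrime 𝔮₀ ⧸ (maximalIdeal (Localization.AtPrime 𝔭)).map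
          (algebraMap (Localization.AtPrime 𝔭) (Localization.AtPrime 𝔮₀))) :=
      IsScalarTower.of_algebraMap_eq (fun c => by
        show Ideal.Quotient.mk _ (algebraMap k (Localization.AtPrime 𝔮₀) c) =
          Ideal.Quotient.mk _ (algebraMap (Localization.AtPrime 𝔭) (Localization.AtPrime 𝔮₀)
            (algebraMap k (Localization.AtPrime 𝔭) c))
        rw [towerk])
    have hmk : ∀ (r : R₀) (c : k), r - algebraMap k R₀ c ∈ 𝔭 →
        Ideal.Quotient.mk (maximalIdeal (Localization.AtPrime 𝔭))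
          (algebraMap R₀ (Localization.AtPrime 𝔭) r) =
        algebraMap k (Localization.AtPrime 𝔭 ⧸ maximalIdeal (Localization.AtPrime 𝔭)) c := by
      intro r c hrc
      have h5 : algebraMap R₀ (Localization.AtPrime 𝔭) (r - algebraMap k R₀ c) ∈
          maximalIdeal (Localization.AtPrime 𝔭) := by
        rw [← Localization.AtPrime.map_eq_maximalIdeal]
        exact Ideal.mem_map_of_mem _ hrc
      rw [map_sub, ← IsScalarTower.algebraMap_apply k R₀ (Localization.AtPrime 𝔭)] at h5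
      exact Ideal.Quotient.eq.mpr h5
    have hsurj : Function.Surjective
        (algebraMap k (Localization.AtPrime 𝔭 ⧸ maximalIdeal (Localization.AtPrime 𝔭))) := by
      intro y
      obtain ⟨y', rfl⟩ := Ideal.Quotient.mk_surjective y
      obtain ⟨r, s, rfl⟩ := IsLocalization.exists_mk'_eq 𝔭.primeCompl y'
      obtain ⟨c, hc⟩ := h2' r
      obtain ⟨c', hc'⟩ := h2' (s : R₀)
      have hc'0 : c' ≠ 0 := by
        intro h0
        rw [h0, map_zero, sub_zero] at hc'
        exact s.2 hc'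
      have h5 := hmk r c hc
      have h6 := hmk (s : R₀) c' hc'
      have h7 : Ideal.Quotient.mk (maximalIdeal (Localization.AtPrime 𝔭))
          (IsLocalization.mk' (Localization.AtPrime 𝔭) r s) *
          Ideal.Quotient.mk (maximalIdeal (Localization.AtPrime 𝔭))
            (algebraMap R₀ (Localization.AtPrime 𝔭) (s : R₀)) =
          Ideal.Quotient.mk (maximalIdeal (Localization.AtPrime 𝔭))
            (algebraMap R₀ (Localization.AtPrime 𝔭) r) := by
        rw [← map_mul, IsLocalization.mk'_spec]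
      rw [h5, h6] at h7
      refine ⟨c / c', ?_⟩
      have h8 : algebraMap k (Localization.AtPrime 𝔭 ⧸ maximalIdeal (Localization.AtPrime 𝔭)) c' ≠ 0 :=
        fun h0 => hc'0 ((algebraMap k (Localization.AtPrime 𝔭 ⧸
          maximalIdeal (Localization.AtPrime 𝔭))).injective (by rw [h0, map_zero]))
      rw [map_div₀, ← h7, mul_div_assoc, div_self h8, mul_one]
    have hunr : Algebra.FormallyUnramified k
        (Localization.AtPrime 𝔭 ⧸ maximalIdeal (Localization.AtPrime 𝔭)) :=
      Algebra.FormallyUnramified.of_surjective (Algebra.ofId k _) hsurj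
    have hfsFL : Algebra.FormallySmooth
        (Localization.AtPrime 𝔭 ⧸ maximalIdeal (Localization.AtPrime 𝔭))
        (Localization.AtPrime 𝔮₀ ⧸ (maximalIdeal (Localization.AtPrime 𝔭)).map
          (algebraMap (Localization.AtPrime 𝔭) (Localization.AtPrime 𝔮₀))) :=
      Algebra.FormallySmooth.of_restrictScalars k _ _
    exact indSmooth_of_formallySmooth
  have hind := Groth.Agent.S2022.result (maximalIdeal (Localization.AtPrime 𝔭)) hI hq
  exact resolvable_of_indSmooth (Rₚ := Localization.AtPrime 𝔭) (Λq := Localization.AtPrime 𝔮₀)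
    ψ 𝔮₀ hdim hind

end Helper27.SepRes
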