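import Mathlib
import Groth.Agent.Lib.Helper27.RegPow
import Groth.Agent.Lib.Helper76.RegularLocal

set_option autoImplicit false
universe u

namespace Helper27.RegParam

open RingTheory.Sequence IsLocalRing

theorem exists_fin_span_range_eq_maximalIdeal (R : Type u) [CommRing R] [IsRegularLocalRing R]
    (d : ℕ) (hd : ringKrullDim R = d) :
    ∃ x : Fin d → R, Ideal.span (Set.range x) = maximalIdeal R := by
  classical
  have hfg : (maximalIdeal R).FG := IsNoetherian.noetherian _
  obtain ⟨S, hcard, hspan⟩ := Submodule.FG.exists_span_finset_card_eq_spanFinrank hfg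
  have h2 : ((maximalIdeal R).spanFinrank : WithBot ℕ∞) = ringKrullDim R :=
    IsRegularLocalRing.spanFinrank_maximalIdeal
  rw [hd] at h2
  have h3 : S.card = d := by rw [hcard]; exact_mod_cast h2
  refine ⟨fun i => ((S.equivFinOfCardEq h3).symm i : R), ?_⟩
  rw [← hspan]
  congr 1
  ext x
  constructor
  · rintro ⟨i, rfl⟩
    exact ((S.equivFinOfCardEq h3).symm i).2
  · intro hx
    exact ⟨S.equivFinOfCardEq h3 ⟨x, hx⟩, by simp⟩

section

variable {Λ : Type u} [CommRing Λ] (q : Ideal Λ) [q.IsPrime]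

local notation "Lq" => Localization.AtPrime q

theorem span_range_unit_mul {ι : Type*} (y : ι → Lq) (w : ι → Lq) (hw : ∀ i, IsUnit (w i)) :
    Ideal.span (Set.range fun i => w i * y i) = Ideal.span (Set.range y) := by
  apply le_antisymm
  · rw [Ideal.span_le]
    rintro _ ⟨i, rfl⟩
    exact Ideal.mul_mem_left _ _ (Ideal.subset_span ⟨i, rfl⟩)
  · rw [Ideal.span_le]
    rintro _ ⟨i, rfl⟩
    obtain ⟨v, hv⟩ := (hw i).exists_left_inv
    have : y i = v * (w i * y i) := by rw [← mul_assoc, hv, one_mul]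
    rw [SetLike.mem_coe, this]
    exact Ideal.mul_mem_left _ _ (Ideal.subset_span ⟨i, rfl⟩)

theorem span_range_algebraMap_mul {ι : Type*} (π v : ι → Λ) (hv : ∀ i, v i ∉ q) :
    Ideal.span (Set.range fun i => algebraMap Λ Lq (v i * π i)) =
      Ideal.span (Set.range fun i => algebraMap Λ Lq (π i)) := by
  have := span_range_unit_mul q (fun i => algebraMap Λ Lq (π i)) (fun i => algebraMap Λ Lq (v i))
    (fun i => IsLocalization.map_units Lq (⟨v i, hv i⟩ : q.primeCompl))
  have h2 : (fun i => algebraMap Λ Lq (v i * π i)) =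
      fun i => algebraMap Λ Lq (v i) * algebraMap Λ Lq (π i) := funext fun i => map_mul _ _ _
  rw [h2]
  exact this

theorem mem_map_iff (J : Ideal Λ) (x : Λ) :
    algebraMap Λ Lq x ∈ J.map (algebraMap Λ Lq) ↔ ∃ s, s ∉ q ∧ s * x ∈ J := by
  rw [IsLocalization.algebraMap_mem_map_algebraMap_iff q.primeCompl Lq J x]
  rfl

theorem exists_uniform [IsNoetherianRing Λ] (J : Ideal Λ) :
    ∃ u, u ∉ q ∧ ∀ x, algebraMap Λ Lq x ∈ J.map (algebraMap Λ Lq) → u * x ∈ J := by
  classical
  obtain ⟨S, hS⟩ := (isNoetherianRing_iff_ideal_fg Λ).mp inferInstance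
    ((J.map (algebraMap Λ Lq)).comap (algebraMap Λ Lq))
  have h1 : ∀ g : S, ∃ s, s ∉ q ∧ s * (g : Λ) ∈ J := by
    intro g
    rw [← mem_map_iff]
    have : (g : Λ) ∈ (J.map (algebraMap Λ Lq)).comap (algebraMap Λ Lq) := by
      rw [← hS]; exact Ideal.subset_span g.2
    exact this
  choose s hs hsJ using h1
  refine ⟨∏ g, s g, ?_, ?_⟩
  · intro h
    obtain ⟨g, -, hg⟩ := (Ideal.IsPrime.prod_mem_iff).mp h
    exact hs g hg
  · have key : ∀ x ∈ Ideal.span (S : Set Λ), (∏ g, s g) * x ∈ J := by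
      intro x hx
      induction hx using Submodule.span_induction with
      | mem y hy =>
        have : (∏ g, s g) * y = (∏ g ∈ Finset.univ.erase ⟨y, hy⟩, s g) * (s ⟨y, hy⟩ * y) := by
          rw [← Finset.prod_erase_mul _ _ (Finset.mem_univ (⟨y, hy⟩ : S))]; ring
        rw [this]
        exact Ideal.mul_mem_left _ _ (hsJ ⟨y, hy⟩)
      | zero => simp
      | add a b _ _ ha hb => rw [mul_add]; exact Ideal.add_mem _ ha hb
      | smul a b _ hb => rw [smul_eq_mul, mul_left_comm]; exact Ideal.mul_mem_left _ _ hb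
    intro x hx
    exact key x (by rw [hS]; exact hx)

end

section Main

variable {Λ : Type u} [CommRing Λ] (q : Ideal Λ) [q.IsPrime] {d : ℕ} (e : ℕ)

local notation "Lq" => Localization.AtPrime q

def JJ (π : Fin d → Λ) (i : Fin d) : Ideal Λ :=
  Ideal.span (Set.range fun j : {j : Fin d // (j : ℕ) < (i : ℕ)} => π j ^ e)

theorem reg [IsRegularLocalRing (Localization.AtPrime q)]
    (hd : ringKrullDim (Localization.AtPrime q) = d) (he : 0 < e) (π : Fin d → Λ)
    (hπ : Ideal.span (Set.range fun i => algebraMap Λ Lq (π i)) = maximalIdeal Lq)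
    (i : Fin d) (x : Λ)
    (hx : algebraMap Λ Lq (π i * x) ∈ (JJ e π i).map (algebraMap Λ Lq)) :
    algebraMap Λ Lq x ∈ (JJ e π i).map (algebraMap Λ Lq) := by
  let y : Fin d → Lq := fun j => algebraMap Λ Lq (π j)
  have hreg : IsRegular Lq (List.ofFn y) :=
    Groth.Agent.Lib.Helper76.isRegular_of_span_range_eq_maximalIdeal Lq d hd y hπ
  have hlen : (List.ofFn y).length = d := List.length_ofFn
  have hk : (i : ℕ) < (List.ofFn y).length := by rw [hlen]; exact i.2
  have hys : (List.ofFn y)[(i : ℕ)] = y i := by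
    rw [List.getElem_ofFn]
  have hJ : Ideal.ofList (((List.ofFn y).take i).map (· ^ e)) =
      (JJ e π i).map (algebraMap Λ Lq) := by
    unfold JJ
    rw [Ideal.map_span]
    show Ideal.span {r | r ∈ ((List.ofFn y).take i).map (· ^ e)} = _
    congr 1
    ext r
    show r ∈ ((List.ofFn y).take i).map (· ^ e) ↔ _
    rw [List.mem_map, Set.mem_image]
    simp only [List.mem_take_iff_getElem, Set.mem_range]
    constructor
    · rintro ⟨a, ⟨k, hk', rfl⟩, rfl⟩
      have hk1 : k < (i : ℕ) := lt_of_lt_of_le hk' (min_le_left _ _)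
      have hk2 : k < d := lt_trans hk1 i.2
      refine ⟨π ⟨k, hk2⟩ ^ e, ⟨⟨⟨k, hk2⟩, hk1⟩, rfl⟩, ?_⟩
      rw [List.getElem_ofFn, map_pow]
    · rintro ⟨_, ⟨⟨j, hj⟩, rfl⟩, rfl⟩
      refine ⟨y j, ⟨(j : ℕ), ?_, ?_⟩, ?_⟩
      · rw [hlen]; exact lt_min hj j.2
      · rw [List.getElem_ofFn]
      · rw [map_pow]
  have := Helper27.RegPow.mul_mem_of_map_pow_take (List.ofFn y) e he hreg i hk
    (algebraMap Λ Lq x) (by rw [hys, hJ, ← map_mul]; exact hx)
  rw [hJ] at this
  exact this

theorem exists_good_init [IsRegularLocalRing (Localization.AtPrime q)]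
    (hd : ringKrullDim (Localization.AtPrime q) = d) (I : Ideal Λ) (n : ℕ) (hn : 0 < n)
    (hpow : (q ^ n).map (algebraMap Λ Lq) ≤ I.map (algebraMap Λ Lq)) :
    ∃ π : Fin d → Λ,
      Ideal.span (Set.range fun i => algebraMap Λ Lq (π i)) = maximalIdeal Lq ∧
      ∀ i, π i ^ n ∈ I := by
  obtain ⟨y, hy⟩ := exists_fin_span_range_eq_maximalIdeal Lq d hd
  have h1 : ∀ i, ∃ a : Λ, ∃ s : q.primeCompl,
      y i * algebraMap Λ Lq s = algebraMap Λ Lq a := fun i => by
    obtain ⟨⟨a, s⟩, h⟩ := IsLocalization.surj q.primeCompl (y i)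
    exact ⟨a, s, h⟩
  choose a s has using h1
  have hgen0 : Ideal.span (Set.range fun i => algebraMap Λ Lq (a i)) = maximalIdeal Lq := by
    rw [← hy]
    have := span_range_unit_mul q y (fun i => algebraMap Λ Lq (s i))
      (fun i => IsLocalization.map_units Lq (s i))
    rw [← this]
    congr 2
    funext i
    rw [← has, mul_comm]
  have hmem : ∀ i, algebraMap Λ Lq (a i) ∈ maximalIdeal Lq := by
    intro i
    rw [← hgen0]
    exact Ideal.subset_span ⟨i, rfl⟩
  have hmap : q.map (algebraMap Λ Lq) = maximalIdeal Lq :=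
    Localization.AtPrime.map_eq_maximalIdeal
  have h2 : ∀ i, ∃ t, t ∉ q ∧ t * a i ^ n ∈ I := by
    intro i
    rw [← mem_map_iff]
    apply hpow
    rw [Ideal.map_pow, map_pow, hmap]
    exact Ideal.pow_mem_pow (hmem i) n
  choose t ht htI using h2
  refine ⟨fun i => t i * a i, ?_, ?_⟩
  · rw [span_range_algebraMap_mul q a t ht, hgen0]
  · intro i
    obtain ⟨n', rfl⟩ := Nat.exists_eq_succ_of_ne_zero hn.ne'
    have : (t i * a i) ^ (n' + 1) = t i ^ n' * (t i * a i ^ (n' + 1)) := by ring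
    rw [this]
    exact Ideal.mul_mem_left _ _ (htI i)

theorem exists_good [IsNoetherianRing Λ] [IsRegularLocalRing (Localization.AtPrime q)]
    (hd : ringKrullDim (Localization.AtPrime q) = d) (he : 0 < e) (I : Ideal Λ) (n : ℕ)
    (hn : 0 < n) (hpow : (q ^ n).map (algebraMap Λ Lq) ≤ I.map (algebraMap Λ Lq))
    (t : ℕ) (ht : t ≤ d) :
    ∃ π : Fin d → Λ,
      Ideal.span (Set.range fun i => algebraMap Λ Lq (π i)) = maximalIdeal Lq ∧
      (∀ i, π i ^ n ∈ I) ∧
      ∀ i : Fin d, (i : ℕ) < t → ∀ x : Λ, π i ^ 2 * x ∈ JJ e π i → π i * x ∈ JJ e π i := by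
  classical
  induction t with
  | zero =>
    obtain ⟨π, h1, h2⟩ := exists_good_init q hd I n hn hpow
    exact ⟨π, h1, h2, fun i hi => absurd hi (Nat.not_lt_zero _)⟩
  | succ t ih =>
    obtain ⟨π, hgen, hI, h3⟩ := ih (by omega)
    have ht' : t < d := by omega
    obtain ⟨u, hu, hu2⟩ := exists_uniform q (JJ e π ⟨t, ht'⟩)
    let v : Fin d → Λ := Function.update (fun _ => 1) ⟨t, ht'⟩ u
    have hv0 : v ⟨t, ht'⟩ = u := Function.update_self _ _ _
    have hvne : ∀ i : Fin d, i ≠ ⟨t, ht'⟩ → v i = 1 := fun i hi =>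
      Function.update_of_ne hi _ _
    have hv : ∀ i, v i ∉ q := by
      intro i
      by_cases h : i = ⟨t, ht'⟩
      · rw [h, hv0]; exact hu
      · rw [hvne i h]; exact fun h1 => (Ideal.IsPrime.ne_top ‹_›) ((Ideal.eq_top_iff_one _).mpr h1)
    have hJ : ∀ i : Fin d, (i : ℕ) ≤ t → JJ e (fun i => v i * π i) i = JJ e π i := by
      intro i hi
      unfold JJ
      congr 2
      funext j
      have hne : (j : Fin d) ≠ ⟨t, ht'⟩ := by
        intro h
        have h1 := j.2
        rw [h] at h1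
        simp at h1
        omega
      show (v j * π j) ^ e = π j ^ e
      rw [hvne _ hne, one_mul]
    refine ⟨fun i => v i * π i, ?_, ?_, ?_⟩
    · rw [span_range_algebraMap_mul q π v hv, hgen]
    · intro i
      show (v i * π i) ^ n ∈ I
      rw [mul_pow]
      exact Ideal.mul_mem_left _ _ (hI i)
    · intro i hi x hx
      rw [hJ i (by omega)] at hx ⊢
      by_cases h : (i : ℕ) < t
      · have hne : i ≠ ⟨t, ht'⟩ := by
          intro h'
          rw [h'] at h
          simp at h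
        simp only [hvne i hne, one_mul] at hx ⊢
        exact h3 i h x hx
      · have hi0 : i = ⟨t, ht'⟩ := Fin.ext (by simp; omega)
        rw [hi0] at hx ⊢
        simp only [hv0] at hx ⊢
        have h4 : algebraMap Λ Lq (π ⟨t, ht'⟩ * (π ⟨t, ht'⟩ * (u ^ 2 * x))) ∈
            (JJ e π ⟨t, ht'⟩).map (algebraMap Λ Lq) := by
          have : π ⟨t, ht'⟩ * (π ⟨t, ht'⟩ * (u ^ 2 * x)) = (u * π ⟨t, ht'⟩) ^ 2 * x := by ring
          rw [this]
          exact Ideal.mem_map_of_mem _ hx
        have h5 := reg q e hd he π hgen ⟨t, ht'⟩ _ (reg q e hd he π hgen ⟨t, ht'⟩ _ h4)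
        obtain ⟨s, hs, hsx⟩ := (mem_map_iff q _ _).mp h5
        have h6 : algebraMap Λ Lq x ∈ (JJ e π ⟨t, ht'⟩).map (algebraMap Λ Lq) := by
          refine (mem_map_iff q _ _).mpr ⟨s * u ^ 2, ?_, by rw [mul_assoc]; exact hsx⟩
          intro h
          rcases (Ideal.IsPrime.mem_or_mem ‹_› h) with h | h
          · exact hs h
          · exact hu (Ideal.IsPrime.mem_of_pow_mem ‹_› 2 h)
        have h7 := hu2 x h6
        have : u * π ⟨t, ht'⟩ * x = π ⟨t, ht'⟩ * (u * x) := by ring
        rw [this]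
        exact Ideal.mul_mem_left _ _ h7

end Main

end Helper27.RegParam
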