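import Mathlib
import Groth.Agent.Lib.Helper27.RegParam

set_option autoImplicit false
universe u

namespace Helper27.SepRes

open IsLocalRing

section Transfer

variable {Λ : Type u} [CommRing Λ] (𝔮 : Ideal Λ) [𝔮.IsPrime] (J : Ideal Λ)

include 𝔮 in
theorem isPrime_map_mk (hJ : J ≤ 𝔮) : (𝔮.map (Ideal.Quotient.mk J)).IsPrime :=
  Ideal.map_isPrime_of_surjective Ideal.Quotient.mk_surjective (by rw [Ideal.mk_ker]; exact hJ)

omit [𝔮.IsPrime] in
theorem mem_map_mk_iff (hJ : J ≤ 𝔮) (y : Λ) :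
    Ideal.Quotient.mk J y ∈ 𝔮.map (Ideal.Quotient.mk J) ↔ y ∈ 𝔮 := by
  constructor
  · intro h
    have h1 : y ∈ (𝔮.map (Ideal.Quotient.mk J)).comap (Ideal.Quotient.mk J) := h
    rw [Ideal.comap_map_of_surjective _ Ideal.Quotient.mk_surjective, ← RingHom.ker_eq_comap_bot,
      Ideal.mk_ker, sup_eq_left.mpr hJ] at h1
    exact h1
  · exact Ideal.mem_map_of_mem _

variable [h𝔮₀ : (𝔮.map (Ideal.Quotient.mk J)).IsPrime]

theorem maximalIdeal_eq_span (hJ : J ≤ 𝔮) {d : ℕ} (ϖ : Fin d → Λ)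
    (hgen : Ideal.span (Set.range fun i => algebraMap Λ (Localization.AtPrime 𝔮) (ϖ i)) =
      maximalIdeal (Localization.AtPrime 𝔮)) :
    maximalIdeal (Localization.AtPrime (𝔮.map (Ideal.Quotient.mk J))) =
      Ideal.span (Set.range fun i => algebraMap (Λ ⧸ J)
        (Localization.AtPrime (𝔮.map (Ideal.Quotient.mk J))) (Ideal.Quotient.mk J (ϖ i))) := by
  have hϖ : ∀ i, ϖ i ∈ 𝔮 := by
    intro i
    have h1 : algebraMap Λ (Localization.AtPrime 𝔮) (ϖ i) ∈ maximalIdeal (Localization.AtPrime 𝔮) := by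
      rw [← hgen]
      exact Ideal.subset_span ⟨i, rfl⟩
    exact (IsLocalization.AtPrime.to_map_mem_maximal_iff (Localization.AtPrime 𝔮) 𝔮 (ϖ i)).mp h1
  apply le_antisymm
  · rw [← Localization.AtPrime.map_eq_maximalIdeal, Ideal.map_le_iff_le_comap]
    intro z hz
    obtain ⟨y, rfl⟩ := Ideal.Quotient.mk_surjective z
    have hy : y ∈ 𝔮 := (mem_map_mk_iff 𝔮 J hJ y).mp hz
    have h1 : algebraMap Λ (Localization.AtPrime 𝔮) y ∈
        (Ideal.span (Set.range ϖ)).map (algebraMap Λ (Localization.AtPrime 𝔮)) := by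
      rw [Ideal.map_span, ← Set.range_comp]
      have : (algebraMap Λ (Localization.AtPrime 𝔮)) ∘ ϖ =
          fun i => algebraMap Λ (Localization.AtPrime 𝔮) (ϖ i) := rfl
      rw [this, hgen, ← Localization.AtPrime.map_eq_maximalIdeal]
      exact Ideal.mem_map_of_mem _ hy
    obtain ⟨s, hs, hsy⟩ := (Helper27.RegParam.mem_map_iff 𝔮 _ y).mp h1
    rw [Ideal.mem_comap]
    have hsu : IsUnit (algebraMap (Λ ⧸ J) (Localization.AtPrime (𝔮.map (Ideal.Quotient.mk J)))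
        (Ideal.Quotient.mk J s)) :=
      IsLocalization.map_units _ (⟨Ideal.Quotient.mk J s, fun h =>
        hs ((mem_map_mk_iff 𝔮 J hJ s).mp h)⟩ : (𝔮.map (Ideal.Quotient.mk J)).primeCompl)
    rw [← Ideal.unit_mul_mem_iff_mem _ hsu, ← map_mul, ← map_mul]
    have h2 : algebraMap (Λ ⧸ J) (Localization.AtPrime (𝔮.map (Ideal.Quotient.mk J)))
        (Ideal.Quotient.mk J (s * y)) ∈ (Ideal.span (Set.range ϖ)).map
          ((algebraMap (Λ ⧸ J) (Localization.AtPrime (𝔮.map (Ideal.Quotient.mk J)))).comp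
            (Ideal.Quotient.mk J)) := Ideal.mem_map_of_mem _ hsy
    rw [Ideal.map_span, ← Set.range_comp] at h2
    exact h2
  · rw [Ideal.span_le]
    rintro _ ⟨i, rfl⟩
    rw [SetLike.mem_coe, ← Localization.AtPrime.map_eq_maximalIdeal]
    exact Ideal.mem_map_of_mem _ (Ideal.mem_map_of_mem _ (hϖ i))

theorem algebraMap_mk_ne_zero (hJ : J ≤ 𝔮) (σ : Λ)
    (h : algebraMap Λ (Localization.AtPrime 𝔮) σ ∉ J.map (algebraMap Λ (Localization.AtPrime 𝔮))) :
    algebraMap (Λ ⧸ J) (Localization.AtPrime (𝔮.map (Ideal.Quotient.mk J)))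
      (Ideal.Quotient.mk J σ) ≠ 0 := by
  intro h0
  rw [IsLocalization.map_eq_zero_iff (𝔮.map (Ideal.Quotient.mk J)).primeCompl] at h0
  obtain ⟨⟨m, hm⟩, hmσ⟩ := h0
  obtain ⟨s, rfl⟩ := Ideal.Quotient.mk_surjective m
  have hs : s ∉ 𝔮 := fun hs => hm ((mem_map_mk_iff 𝔮 J hJ s).mpr hs)
  apply h
  rw [Helper27.RegParam.mem_map_iff]
  refine ⟨s, hs, ?_⟩
  rw [← Ideal.Quotient.eq_zero_iff_mem, map_mul]
  exact hmσ

end Transfer

end Helper27.SepRes
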