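import Mathlib
import Groth.Agent.Lib.Helper27.SepResC
import Groth.Agent.Lib.Helper27.SepResD
import Groth.Agent.Lib.Helper27.SepResF
import Groth.Agent.Lib.Helper27.SepResI

set_option autoImplicit false
universe u

namespace Helper27.SepRes

open Smoothing IsLocalRing MvPolynomial

theorem sub_C_coeff_zero_mem {k : Type*} [CommRing k] {d : ℕ} (p : MvPolynomial (Fin d) k) :
    p - C (coeff 0 p) ∈ Ideal.span (Set.range (X : Fin d → MvPolynomial (Fin d) k)) := by
  rw [← Set.image_univ, mem_ideal_span_X_image]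
  intro m hm
  have hm0 : m ≠ 0 := by
    rintro rfl
    rw [mem_support_iff, coeff_sub, coeff_C, if_pos rfl, sub_self] at hm
    exact hm rfl
  obtain ⟨i, hi⟩ : ∃ i, m i ≠ 0 := by
    by_contra hcon
    push Not at hcon
    exact hm0 (Finsupp.ext hcon)
  exact ⟨i, trivial, hi⟩

set_option maxHeartbeats 1000000 in
theorem quot_problem {k Λ C₀ : Type u} [Field k] {d : ℕ} (e : ℕ) (he : 0 < e)
    (K : Ideal (MvPolynomial (Fin d) k)) (hK : K = Ke e)
    [CommRing Λ] [Algebra (MvPolynomial (Fin d) k) Λ] [Algebra k Λ]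
    [IsScalarTower k (MvPolynomial (Fin d) k) Λ]
    (𝔮 : Ideal Λ) [𝔮.IsPrime] [IsRegularLocalRing (Localization.AtPrime 𝔮)]
    (hd : ringKrullDim (Localization.AtPrime 𝔮) = d)
    (hgen : Ideal.span (Set.range fun i => algebraMap Λ (Localization.AtPrime 𝔮)
      (algebraMap (MvPolynomial (Fin d) k) Λ (X i))) = maximalIdeal (Localization.AtPrime 𝔮))
    [Algebra.IsGeometricallyReduced k 𝔮.ResidueField]
    [CommRing C₀] [Algebra (MvPolynomial (Fin d) k ⧸ K) C₀]
    [Algebra.FinitePresentation (MvPolynomial (Fin d) k ⧸ K) C₀]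
    (ψ : C₀ →ₐ[MvPolynomial (Fin d) k ⧸ K]
      (Λ ⧸ K.map (algebraMap (MvPolynomial (Fin d) k) Λ))) :
    Resolvable (MvPolynomial (Fin d) k ⧸ K) ψ
      (𝔮.map (Ideal.Quotient.mk (K.map (algebraMap (MvPolynomial (Fin d) k) Λ)))) := by
  have hϖ : ∀ i, algebraMap (MvPolynomial (Fin d) k) Λ (X i) ∈ 𝔮 := by
    intro i
    have h1 : algebraMap Λ (Localization.AtPrime 𝔮) (algebraMap (MvPolynomial (Fin d) k) Λ (X i)) ∈
        maximalIdeal (Localization.AtPrime 𝔮) := by
      rw [← hgen]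
      exact Ideal.subset_span ⟨i, rfl⟩
    exact (IsLocalization.AtPrime.to_map_mem_maximal_iff (Localization.AtPrime 𝔮) 𝔮 _).mp h1
  have hJ : K.map (algebraMap (MvPolynomial (Fin d) k) Λ) ≤ 𝔮 := by
    rw [hK, Ke, Ideal.map_span, Ideal.span_le]
    rintro _ ⟨_, ⟨i, rfl⟩, rfl⟩
    rw [map_pow]
    exact Ideal.pow_mem_of_mem _ (hϖ i) e he
  have hprime := isPrime_map_mk 𝔮 (K.map (algebraMap (MvPolynomial (Fin d) k) Λ)) hJ
  have towerk : IsScalarTower k (MvPolynomial (Fin d) k ⧸ K)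
      (Λ ⧸ K.map (algebraMap (MvPolynomial (Fin d) k) Λ)) :=
    IsScalarTower.of_algebraMap_eq (R := k) (S := MvPolynomial (Fin d) k ⧸ K)
      (A := Λ ⧸ K.map (algebraMap (MvPolynomial (Fin d) k) Λ)) (fun c => by
      show Ideal.Quotient.mk (K.map (algebraMap (MvPolynomial (Fin d) k) Λ)) (algebraMap k Λ c) =
        Ideal.Quotient.mk (K.map (algebraMap (MvPolynomial (Fin d) k) Λ))
          (algebraMap (MvPolynomial (Fin d) k) Λ (algebraMap k (MvPolynomial (Fin d) k) c))
      rw [← IsScalarTower.algebraMap_apply])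
  have hF1 : ∀ i, Ideal.Quotient.mk K (X i) ∈
      (𝔮.map (Ideal.Quotient.mk (K.map (algebraMap (MvPolynomial (Fin d) k) Λ)))).comap
        (algebraMap (MvPolynomial (Fin d) k ⧸ K)
          (Λ ⧸ K.map (algebraMap (MvPolynomial (Fin d) k) Λ))) := by
    intro i
    rw [Ideal.mem_comap]
    exact Ideal.mem_map_of_mem _ (hϖ i)
  have hm₀ : Ideal.span (Set.range fun i : Fin d => Ideal.Quotient.mk K (X i)) ≤
      (𝔮.map (Ideal.Quotient.mk (K.map (algebraMap (MvPolynomial (Fin d) k) Λ)))).comap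
        (algebraMap (MvPolynomial (Fin d) k ⧸ K)
          (Λ ⧸ K.map (algebraMap (MvPolynomial (Fin d) k) Λ))) := by
    rw [Ideal.span_le]
    rintro _ ⟨i, rfl⟩
    exact hF1 i
  have hsub : ∀ p : MvPolynomial (Fin d) k, Ideal.Quotient.mk K p -
      algebraMap k (MvPolynomial (Fin d) k ⧸ K) (coeff 0 p) ∈
      Ideal.span (Set.range fun i : Fin d => Ideal.Quotient.mk K (X i)) := by
    intro p
    have h1 := Ideal.mem_map_of_mem (Ideal.Quotient.mk K) (sub_C_coeff_zero_mem p)
    rw [Ideal.map_span, ← Set.range_comp, map_sub] at h1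
    exact h1
  have hnil₀ : Ideal.span (Set.range fun i : Fin d => Ideal.Quotient.mk K (X i)) ≤
      nilradical (MvPolynomial (Fin d) k ⧸ K) := by
    rw [Ideal.span_le]
    rintro _ ⟨i, rfl⟩
    show IsNilpotent (Ideal.Quotient.mk K (X i))
    refine ⟨e, ?_⟩
    rw [← map_pow, Ideal.Quotient.eq_zero_iff_mem, hK]
    exact Ideal.subset_span ⟨i, rfl⟩
  have h2 : ∀ r : MvPolynomial (Fin d) k ⧸ K, ∃ c : k,
      r - algebraMap k (MvPolynomial (Fin d) k ⧸ K) c ∈
      (𝔮.map (Ideal.Quotient.mk (K.map (algebraMap (MvPolynomial (Fin d) k) Λ)))).comap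
        (algebraMap (MvPolynomial (Fin d) k ⧸ K)
          (Λ ⧸ K.map (algebraMap (MvPolynomial (Fin d) k) Λ))) := by
    intro r
    obtain ⟨p, rfl⟩ := Ideal.Quotient.mk_surjective r
    exact ⟨coeff 0 p, hm₀ (hsub p)⟩
  have h1 : IsNilpotent ((𝔮.map (Ideal.Quotient.mk
      (K.map (algebraMap (MvPolynomial (Fin d) k) Λ)))).comap
        (algebraMap (MvPolynomial (Fin d) k ⧸ K)
          (Λ ⧸ K.map (algebraMap (MvPolynomial (Fin d) k) Λ)))) := by
    rw [Ideal.FG.isNilpotent_iff_le_nilradical (IsNoetherian.noetherian _)]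
    intro r hr
    obtain ⟨p, rfl⟩ := Ideal.Quotient.mk_surjective r
    have h5 := hsub p
    have h6 : algebraMap k (MvPolynomial (Fin d) k ⧸ K) (coeff 0 p) ∈
        (𝔮.map (Ideal.Quotient.mk (K.map (algebraMap (MvPolynomial (Fin d) k) Λ)))).comap
          (algebraMap (MvPolynomial (Fin d) k ⧸ K)
            (Λ ⧸ K.map (algebraMap (MvPolynomial (Fin d) k) Λ))) := by
      have := Ideal.sub_mem _ hr (hm₀ h5)
      rwa [sub_sub_cancel] at this
    have h7 : coeff 0 p = 0 := by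
      by_contra hne
      have hu : IsUnit (algebraMap k (MvPolynomial (Fin d) k ⧸ K) (coeff 0 p)) :=
        (IsUnit.mk0 _ hne).map _
      exact (Ideal.IsPrime.comap (algebraMap (MvPolynomial (Fin d) k ⧸ K)
        (Λ ⧸ K.map (algebraMap (MvPolynomial (Fin d) k) Λ)))).ne_top
          (Ideal.eq_top_of_isUnit_mem _ h6 hu)
    rw [h7, map_zero, sub_zero] at h5
    exact hnil₀ h5
  have hmaxT := maximalIdeal_eq_span 𝔮 (K.map (algebraMap (MvPolynomial (Fin d) k) Λ)) hJ
    (fun i => algebraMap (MvPolynomial (Fin d) k) Λ (X i)) hgen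
  have halgT : ∀ i, algebraMap (Λ ⧸ K.map (algebraMap (MvPolynomial (Fin d) k) Λ))
      (Localization.AtPrime (𝔮.map (Ideal.Quotient.mk
        (K.map (algebraMap (MvPolynomial (Fin d) k) Λ)))))
      (Ideal.Quotient.mk _ (algebraMap (MvPolynomial (Fin d) k) Λ (X i))) =
      algebraMap (MvPolynomial (Fin d) k ⧸ K) (Localization.AtPrime (𝔮.map (Ideal.Quotient.mk
        (K.map (algebraMap (MvPolynomial (Fin d) k) Λ))))) (Ideal.Quotient.mk K (X i)) := by
    intro i
    rw [IsScalarTower.algebraMap_apply (MvPolynomial (Fin d) k ⧸ K)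
      (Λ ⧸ K.map (algebraMap (MvPolynomial (Fin d) k) Λ))]
    rfl
  simp only [halgT] at hmaxT
  have h3 : maximalIdeal (Localization.AtPrime (𝔮.map (Ideal.Quotient.mk
      (K.map (algebraMap (MvPolynomial (Fin d) k) Λ))))) ≤
      ((𝔮.map (Ideal.Quotient.mk (K.map (algebraMap (MvPolynomial (Fin d) k) Λ)))).comap
        (algebraMap (MvPolynomial (Fin d) k ⧸ K)
          (Λ ⧸ K.map (algebraMap (MvPolynomial (Fin d) k) Λ)))).map
        (algebraMap (MvPolynomial (Fin d) k ⧸ K) (Localization.AtPrime (𝔮.map (Ideal.Quotient.mk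
          (K.map (algebraMap (MvPolynomial (Fin d) k) Λ)))))) := by
    rw [hmaxT, Ideal.span_le]
    rintro _ ⟨i, rfl⟩
    exact Ideal.mem_map_of_mem _ (hF1 i)
  have towerkT : IsScalarTower k (MvPolynomial (Fin d) k ⧸ K)
      (Localization.AtPrime (𝔮.map (Ideal.Quotient.mk
        (K.map (algebraMap (MvPolynomial (Fin d) k) Λ))))) :=
    IsScalarTower.of_algebraMap_eq (R := k) (S := MvPolynomial (Fin d) k ⧸ K)
      (A := Localization.AtPrime (𝔮.map (Ideal.Quotient.mk
        (K.map (algebraMap (MvPolynomial (Fin d) k) Λ))))) (fun c => by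
      rw [IsScalarTower.algebraMap_apply k (Λ ⧸ K.map (algebraMap (MvPolynomial (Fin d) k) Λ))
        (Localization.AtPrime (𝔮.map (Ideal.Quotient.mk
          (K.map (algebraMap (MvPolynomial (Fin d) k) Λ))))),
        IsScalarTower.algebraMap_apply k (MvPolynomial (Fin d) k ⧸ K)
          (Λ ⧸ K.map (algebraMap (MvPolynomial (Fin d) k) Λ)),
        ← IsScalarTower.algebraMap_apply (MvPolynomial (Fin d) k ⧸ K)
          (Λ ⧸ K.map (algebraMap (MvPolynomial (Fin d) k) Λ))])
  have hreg := Groth.Agent.Lib.Helper76.isRegular_of_span_range_eq_maximalIdeal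
    (Localization.AtPrime 𝔮) d hd
    (fun i => algebraMap Λ (Localization.AtPrime 𝔮) (algebraMap (MvPolynomial (Fin d) k) Λ (X i)))
    hgen
  have hcolon := prod_pow_notMem_span e he _ hreg
  have hσ : ∏ i, (algebraMap (MvPolynomial (Fin d) k ⧸ K) (Localization.AtPrime (𝔮.map
      (Ideal.Quotient.mk (K.map (algebraMap (MvPolynomial (Fin d) k) Λ)))))
      (Ideal.Quotient.mk K (X i))) ^ (e - 1) ≠ 0 := by
    have h5 := algebraMap_mk_ne_zero 𝔮 (K.map (algebraMap (MvPolynomial (Fin d) k) Λ)) hJ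
      (∏ i, (algebraMap (MvPolynomial (Fin d) k) Λ (X i)) ^ (e - 1)) (by
        rw [map_prod, Finset.prod_congr rfl (fun i _ => map_pow (algebraMap Λ (Localization.AtPrime 𝔮))
          (algebraMap (MvPolynomial (Fin d) k) Λ (X i)) (e - 1))]
        have h6 : (K.map (algebraMap (MvPolynomial (Fin d) k) Λ)).map
            (algebraMap Λ (Localization.AtPrime 𝔮)) = Ideal.span (Set.range fun i =>
            (algebraMap Λ (Localization.AtPrime 𝔮)
              (algebraMap (MvPolynomial (Fin d) k) Λ (X i))) ^ e) := by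
          rw [hK, Ke, Ideal.map_span, Ideal.map_span, ← Set.range_comp, ← Set.range_comp]
          refine congrArg _ (congrArg _ (funext fun i => ?_))
          show algebraMap Λ (Localization.AtPrime 𝔮)
            (algebraMap (MvPolynomial (Fin d) k) Λ (X i ^ e)) = _
          rw [map_pow, map_pow]
        rw [h6]
        exact hcolon)
    rw [map_prod, map_prod] at h5
    simp only [map_pow, halgT] at h5
    exact h5
  have hfree : Module.Free (MvPolynomial (Fin d) k ⧸ K) (Localization.AtPrime (𝔮.map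
      (Ideal.Quotient.mk (K.map (algebraMap (MvPolynomial (Fin d) k) Λ))))) :=
    free_of_socle e K hK hmaxT hσ
  have h4 : Module.Flat (MvPolynomial (Fin d) k ⧸ K) (Localization.AtPrime (𝔮.map
      (Ideal.Quotient.mk (K.map (algebraMap (MvPolynomial (Fin d) k) Λ))))) := inferInstance
  have hχ0 : ∀ a ∈ K.map (algebraMap (MvPolynomial (Fin d) k) Λ),
      (IsScalarTower.toAlgHom k Λ 𝔮.ResidueField) a = 0 := by
    intro a ha
    exact Ideal.algebraMap_residueField_eq_zero.mpr (hJ ha)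
  let χ : (Λ ⧸ K.map (algebraMap (MvPolynomial (Fin d) k) Λ)) →ₐ[k] 𝔮.ResidueField :=
    Ideal.Quotient.liftₐ _ (IsScalarTower.toAlgHom k Λ 𝔮.ResidueField) hχ0
  have hχ : ∀ x, x ∉ 𝔮.map (Ideal.Quotient.mk (K.map (algebraMap (MvPolynomial (Fin d) k) Λ))) →
      χ x ≠ 0 := by
    intro x hx h0
    obtain ⟨y, rfl⟩ := Ideal.Quotient.mk_surjective x
    apply hx
    rw [mem_map_mk_iff 𝔮 _ hJ]
    have h5 : χ (Ideal.Quotient.mk _ y) = algebraMap Λ 𝔮.ResidueField y := rfl
    rw [h5] at h0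
    exact Ideal.algebraMap_residueField_eq_zero.mp h0
  exact quot_resolvable (k := k) (K' := 𝔮.ResidueField) ψ _ h1 h2 h3 h4 χ hχ

end Helper27.SepRes
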