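import Mathlib
import Groth.Agent.Lib.Helper27.InsepA
import Groth.Agent.Lib.Helper27.InsepB
import Groth.Agent.Lib.Helper27.InsepC
import Groth.Agent.Lib.Helper27.GeomRegE
import Groth.Agent.Lib.Helper27.SepResJ

set_option autoImplicit false
universe u

namespace Helper27.Insep

open IsLocalRing MvPolynomial

noncomputable def resMap (R : Type u) [CommRing R] [IsLocalRing R] (n : ℕ) (hn : 0 < n) :
    R ⧸ maximalIdeal R ^ n →+* ResidueField R :=
  Ideal.Quotient.lift _ (residue R)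
    (fun x hx => (residue_eq_zero_iff x).mpr (Ideal.pow_le_self hn.ne' hx))

theorem resMap_mk (R : Type u) [CommRing R] [IsLocalRing R] (n : ℕ) (hn : 0 < n) (x : R) :
    resMap R n hn (Ideal.Quotient.mk _ x) = residue R x := rfl

theorem ker_resMap (R : Type u) [CommRing R] [IsLocalRing R] (n : ℕ) (hn : 0 < n) :
    RingHom.ker (resMap R n hn) = (maximalIdeal R).map (Ideal.Quotient.mk (maximalIdeal R ^ n)) := by
  ext x
  obtain ⟨y, rfl⟩ := Ideal.Quotient.mk_surjective x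
  rw [RingHom.mem_ker, resMap_mk, residue_eq_zero_iff,
    Ideal.mem_quotient_iff_mem (Ideal.pow_le_self hn.ne')]

section

variable {k Λ : Type u} [Field k] [CommRing Λ] [Algebra k Λ]
  [IsNoetherianRing Λ] (𝔮 : Ideal Λ) [𝔮.IsPrime]

local notation "Lq" => Localization.AtPrime 𝔮

set_option maxHeartbeats 4000000 in
theorem exists_yd_aux (p : ℕ) [Fact p.Prime] [CharP k p] (hreg : CAlg.IsGeometricallyRegular k Λ)
    [IsRegularLocalRing (Localization.AtPrime 𝔮)] (n : ℕ) (hn : 0 < n) (E₀ : Finset Λ)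
    {s : ℕ} (μ : Fin s → Λ) (hμ : Ideal.span (Set.range μ) = 𝔮) :
    ∃ (DD : Subalgebra k (Lq ⧸ maximalIdeal Lq ^ n)) (_ : IsLocalRing DD)
      (F : IntermediateField k (ResidueField Lq)) (t : ℕ) (z₀ : Fin t → Λ)
      (hz : ∀ i, residue Lq (algebraMap Λ Lq (z₀ i)) ∈ F),
      (∀ x ∈ E₀, Ideal.Quotient.mk (maximalIdeal Lq ^ n) (algebraMap Λ Lq x) ∈ DD) ∧
      (∀ i, Ideal.Quotient.mk (maximalIdeal Lq ^ n) (algebraMap Λ Lq (z₀ i)) ∈ DD) ∧
      (∀ j, Ideal.Quotient.mk (maximalIdeal Lq ^ n) (algebraMap Λ Lq (μ j)) ∈ DD) ∧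
      Module.Flat DD (Lq ⧸ maximalIdeal Lq ^ n) ∧
      (maximalIdeal DD).map (algebraMap DD (Lq ⧸ maximalIdeal Lq ^ n)) =
        (maximalIdeal Lq).map (Ideal.Quotient.mk (maximalIdeal Lq ^ n)) ∧
      Algebra.EssFiniteType k DD ∧ IsArtinianRing DD ∧
      (∀ a : DD, a ∈ maximalIdeal DD ↔ resMap Lq n hn a = 0) ∧
      (∀ a : DD, resMap Lq n hn a ∈ F) ∧
      (∀ f : ResidueField Lq, f ∈ F → ∃ a : DD, resMap Lq n hn a = f) ∧
      LinearIndependent F (fun i => KaehlerDifferential.D k F ⟨_, hz i⟩) ∧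
      Submodule.span F (Set.range fun i => KaehlerDifferential.D k F ⟨_, hz i⟩) = ⊤ := by
  classical
  have hregq := Groth.Agent.Lib.Helper49.GeomRegFS.isGeometricallyRegular_localization hreg 𝔮
  have hNq : IsNoetherianRing Lq := IsLocalization.isNoetherianRing 𝔮.primeCompl _ inferInstance
  have h1 := Groth.Agent.Lib.Helper49.GeomRegFS.isGeometricallyRegular_iff_isAdicFormallySmooth.mp hregq
  obtain ⟨-, hinj⟩ :=
    Groth.Agent.Lib.Helper49.FSJacobi.isAdicFormallySmooth_iff_regular_and_injective.mp h1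
  have hfin := fg_ker_of_injective hinj
  have hne : maximalIdeal Lq ^ n ≠ ⊤ := fun h =>
    (maximalIdeal.isMaximal Lq).ne_top (top_le_iff.mp (h ▸ Ideal.pow_le_self hn.ne'))
  have hnt : Nontrivial (Lq ⧸ maximalIdeal Lq ^ n) := Ideal.Quotient.nontrivial_iff.mpr hne
  let r := resMap Lq n hn
  let ι : Λ →+* (Lq ⧸ maximalIdeal Lq ^ n) := (Ideal.Quotient.mk _).comp (algebraMap Λ Lq)
  have hr : Function.Surjective r := by
    intro x
    obtain ⟨y, rfl⟩ := residue_surjective x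
    exact ⟨Ideal.Quotient.mk _ y, rfl⟩
  have hi : ∀ a : k, r (algebraMap k (Lq ⧸ maximalIdeal Lq ^ n) a) = algebraMap k (ResidueField Lq) a :=
    fun a => rfl
  have hker := ker_resMap Lq n hn
  have hlam : RingHom.ker r = Ideal.span (Set.range fun j => ι (μ j)) := by
    have hm : maximalIdeal Lq = Ideal.span (Set.range fun j => algebraMap Λ Lq (μ j)) := by
      have h3 := congrArg (Ideal.map (algebraMap Λ Lq)) hμ
      rw [← Localization.AtPrime.map_eq_maximalIdeal, ← h3, Ideal.map_span, ← Set.range_comp]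
      rfl
    have h2 := congrArg (Ideal.map (Ideal.Quotient.mk (maximalIdeal Lq ^ n))) hm
    rw [hker, h2, Ideal.map_span, ← Set.range_comp]
    rfl
  have hn' : RingHom.ker r ^ n = ⊥ := by
    rw [hker, ← Ideal.map_pow, Ideal.map_quotient_self]
  have hι : ∀ x : Lq ⧸ maximalIdeal Lq ^ n, ∃ b c : Λ, IsUnit (ι c) ∧ x * ι c = ι b := by
    intro x
    obtain ⟨y, rfl⟩ := Ideal.Quotient.mk_surjective x
    obtain ⟨⟨b, c⟩, h⟩ := IsLocalization.surj 𝔮.primeCompl y
    refine ⟨b, c, ?_, ?_⟩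
    · exact (IsLocalization.map_units Lq c).map (Ideal.Quotient.mk _)
    · show Ideal.Quotient.mk _ y * Ideal.Quotient.mk _ (algebraMap Λ Lq c) =
        Ideal.Quotient.mk _ (algebraMap Λ Lq b)
      rw [← map_mul, h]
  obtain ⟨F, DD, hloc, hE, hart, hflat, hess, hmaxmap, hlamD, hrF, hFr, hmaxiff, T, hT, hFT⟩ :=
    artUnion' p r hr hi (fun j => ι (μ j)) hlam n hn' hfin ι hι (E₀.image ι)
  subst hFT
  obtain ⟨S, hS⟩ : ∃ S : Set (ResidueField Lq), S = (fun x => r (ι x)) '' (T : Set Λ) := ⟨_, rfl⟩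
  rw [← hS] at hrF hFr
  have hspan := span_D_adjoin (k := k) S
  let v : S → Ω[IntermediateField.adjoin k S⁄k] := fun s =>
    KaehlerDifferential.D k (IntermediateField.adjoin k S)
      ⟨s.1, IntermediateField.subset_adjoin k S s.2⟩
  obtain ⟨b, hb1, hb2, hb3⟩ := exists_linearIndependent (IntermediateField.adjoin k S) (Set.range v)
  have hSfin : Finite S := by
    rw [hS]
    exact (T.finite_toSet.image _).to_subtype
  have hbfin : Finite b := ((Set.finite_range v).subset hb1).to_subtype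
  have hch : ∀ ω : b, ∃ x : Λ, x ∈ T ∧ ∃ h : r (ι x) ∈ IntermediateField.adjoin k S,
      KaehlerDifferential.D k (IntermediateField.adjoin k S) ⟨r (ι x), h⟩ = ω.1 := by
    intro ω
    obtain ⟨⟨s', hs'⟩, hvs⟩ := hb1 ω.2
    have hs'' := hs'
    rw [hS] at hs''
    obtain ⟨x, hxT, hx⟩ := hs''
    refine ⟨x, hxT, ?_⟩
    subst hx
    exact ⟨IntermediateField.subset_adjoin k S hs', hvs⟩
  choose xx hxT hxmem hxD using hch
  obtain ⟨t, ⟨ε⟩⟩ : ∃ t : ℕ, Nonempty (Fin t ≃ b) := ⟨Nat.card b, ⟨(Finite.equivFin b).symm⟩⟩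
  have hfun : (fun i : Fin t => KaehlerDifferential.D k (IntermediateField.adjoin k S)
      ⟨residue Lq (algebraMap Λ Lq (xx (ε i))), hxmem (ε i)⟩) =
      fun i => ((ε i : b) : Ω[IntermediateField.adjoin k S⁄k]) := by
    funext i
    exact hxD (ε i)
  refine ⟨DD, hloc, IntermediateField.adjoin k S, t, fun i => xx (ε i), fun i => hxmem (ε i),
    ?_, ?_, hlamD, hflat, ?_, hess, hart, hmaxiff, hrF, hFr, ?_, ?_⟩
  · intro x hx
    exact hE (Finset.mem_coe.mpr (Finset.mem_image_of_mem ι hx))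
  · intro i
    exact hT _ (hxT (ε i))
  · rw [hmaxmap, hker]
  · rw [hfun]
    exact hb3.comp ε ε.injective
  · rw [hfun, ← hspan, ← hb2]
    congr 1
    ext ω
    constructor
    · rintro ⟨i, rfl⟩
      exact (ε i).2
    · intro hω
      exact ⟨ε.symm ⟨ω, hω⟩, by simp⟩

end

end Helper27.Insep
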