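import Mathlib
import Groth.Agent.Lib.Helper27.InsepD

set_option autoImplicit false
universe u

namespace Helper27.Insep

open IsLocalRing MvPolynomial

section

variable {k Λ : Type u} [Field k] [CommRing Λ] [Algebra k Λ]
  [IsNoetherianRing Λ] (𝔮 : Ideal Λ) [𝔮.IsPrime]

local notation "Lq" => Localization.AtPrime 𝔮

set_option maxHeartbeats 4000000 in
theorem exists_yd (p : ℕ) [Fact p.Prime] [CharP k p] (hreg : CAlg.IsGeometricallyRegular k Λ)
    [IsRegularLocalRing (Localization.AtPrime 𝔮)] (d : ℕ)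
    (hd : ringKrullDim (Localization.AtPrime 𝔮) = d) (n : ℕ) (hn : 0 < n) (E₀ : Finset Λ) :
    ∃ (P₀ : Type u) (_ : CommRing P₀) (_ : Algebra k P₀) (_ : Algebra.FinitePresentation k P₀)
      (_ : Algebra.FormallySmooth k P₀) (φy : P₀ →ₐ[k] Λ) (π : Fin d → P₀)
      (DD : Subalgebra k (Lq ⧸ maximalIdeal Lq ^ n)) (_ : IsLocalRing DD)
      (F : IntermediateField k (ResidueField Lq)) (t : ℕ) (z : Fin t → P₀)
      (hz : ∀ i, residue Lq (algebraMap Λ Lq (φy (z i))) ∈ F),
      (∀ i, φy (π i) ∈ 𝔮) ∧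
      Ideal.span (Set.range fun i => algebraMap Λ Lq (φy (π i))) = maximalIdeal Lq ∧
      (∀ f, φy f ∈ 𝔮 → ∃ s, φy s ∉ 𝔮 ∧ s * f ∈ Ideal.span (Set.range π)) ∧
      (letI := ((algebraMap Λ Lq).comp φy.toRingHom).toAlgebra; Module.Flat P₀ Lq) ∧
      (∀ x ∈ E₀, Ideal.Quotient.mk (maximalIdeal Lq ^ n) (algebraMap Λ Lq x) ∈ DD) ∧
      (∀ f : P₀, Ideal.Quotient.mk (maximalIdeal Lq ^ n) (algebraMap Λ Lq (φy f)) ∈ DD) ∧
      Module.Flat DD (Lq ⧸ maximalIdeal Lq ^ n) ∧
      (maximalIdeal DD).map (algebraMap DD (Lq ⧸ maximalIdeal Lq ^ n)) =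
        (maximalIdeal Lq).map (Ideal.Quotient.mk (maximalIdeal Lq ^ n)) ∧
      Algebra.EssFiniteType k DD ∧ IsArtinianRing DD ∧
      (∀ a : DD, a ∈ maximalIdeal DD ↔ resMap Lq n hn a = 0) ∧
      (∀ a : DD, resMap Lq n hn a ∈ F) ∧
      (∀ f : ResidueField Lq, f ∈ F → ∃ a : DD, resMap Lq n hn a = f) ∧
      Submodule.span F (Set.range fun i => KaehlerDifferential.D k F ⟨_, hz i⟩) = ⊤ := by
  classical
  have hNq : IsNoetherianRing Lq := IsLocalization.isNoetherianRing 𝔮.primeCompl _ inferInstance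
  obtain ⟨s, μ, hμ⟩ := Submodule.fg_iff_exists_fin_generating_family.mp (IsNoetherian.noetherian 𝔮)
  have hμ' : Ideal.span (Set.range μ) = 𝔮 := hμ
  obtain ⟨DD, hloc, F, t, z₀, hz₀, hE, hzD, hμD, hflat, hmaxmap, hess, hart, hmaxiff, hrF, hFr,
    hli, hspan⟩ := exists_yd_aux 𝔮 p hreg n hn E₀ μ hμ'
  have hregq := Groth.Agent.Lib.Helper49.GeomRegFS.isGeometricallyRegular_localization hreg 𝔮
  let φ : MvPolynomial (Fin t) k →ₐ[k] Lq := aeval (fun i => algebraMap Λ Lq (z₀ i))
  have hφX : ∀ i, φ (X i) = algebraMap Λ Lq (z₀ i) := fun i => aeval_X _ i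
  have hφ : ∀ i, residue Lq (φ (X i)) ∈ F := fun i => by rw [hφX]; exact hz₀ i
  have hli' : LinearIndependent F
      (fun i => KaehlerDifferential.D k F ⟨residue Lq (φ (X i)), hφ i⟩) := by
    have : (fun i => KaehlerDifferential.D k F ⟨residue Lq (φ (X i)), hφ i⟩) =
        fun i => KaehlerDifferential.D k F ⟨_, hz₀ i⟩ := by
      funext i
      congr 2
      rw [hφX]
    rw [this]
    exact hli
  obtain ⟨c, g', hg'0, hg'gen, hind⟩ := Helper27.GeomReg.main_gen p k Lq hregq F t φ hφ hli'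
  have hφgm : ∀ j, φ (g' j) ∈ maximalIdeal Lq := fun j => (residue_eq_zero_iff _).mp (hg'0 j)
  have hμq : ∀ l, μ l ∈ 𝔮 := fun l => by
    have := Ideal.subset_span (α := Λ) (s := Set.range μ) ⟨l, rfl⟩
    rwa [hμ'] at this
  have hμm : ∀ l, algebraMap Λ Lq (μ l) ∈ maximalIdeal Lq := fun l =>
    (IsLocalization.AtPrime.to_map_mem_maximal_iff Lq 𝔮 _).mpr (hμq l)
  have hm : maximalIdeal Lq = Ideal.span (Set.range fun j => algebraMap Λ Lq (μ j)) := by
    have h3 := congrArg (Ideal.map (algebraMap Λ Lq)) hμ'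
    rw [← Localization.AtPrime.map_eq_maximalIdeal, ← h3, Ideal.map_span, ← Set.range_comp]
    rfl
  have key : ∀ (a : Lq) (v : CotangentSpace Lq), residue Lq a • v = a • v := fun a v =>
    algebraMap_smul (ResidueField Lq) a v
  let u : Fin c → CotangentSpace Lq := fun j => (maximalIdeal Lq).toCotangent ⟨φ (g' j), hφgm j⟩
  let w : Fin s → CotangentSpace Lq := fun l =>
    (maximalIdeal Lq).toCotangent ⟨algebraMap Λ Lq (μ l), hμm l⟩
  have hu : LinearIndependent (ResidueField Lq) u := by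
    rw [Fintype.linearIndependent_iff]
    intro gco hsum j
    choose b hb using fun j => residue_surjective (gco j)
    have hmem : ∑ j, b j * φ (g' j) ∈ maximalIdeal Lq :=
      Ideal.sum_mem _ (fun j _ => Ideal.mul_mem_left _ _ (hφgm j))
    have h2 : (maximalIdeal Lq).toCotangent ⟨∑ j, b j * φ (g' j), hmem⟩ = 0 := by
      have h3 : (⟨∑ j, b j * φ (g' j), hmem⟩ : maximalIdeal Lq) =
          ∑ j, b j • (⟨φ (g' j), hφgm j⟩ : maximalIdeal Lq) := by
        apply Subtype.ext
        rw [Submodule.coe_sum]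
        rfl
      rw [h3, map_sum, ← hsum]
      refine Finset.sum_congr rfl (fun j _ => ?_)
      rw [map_smul, ← hb j, key]
    have := hind b ((Ideal.toCotangent_eq_zero _ _).mp h2) j
    rw [← hb j]
    exact (residue_eq_zero_iff _).mpr this
  have hw : Submodule.span (ResidueField Lq) (Set.range w) = ⊤ := by
    have hs : Submodule.span Lq (Set.range fun l =>
        (⟨algebraMap Λ Lq (μ l), hμm l⟩ : maximalIdeal Lq)) = ⊤ := by
      apply Submodule.map_injective_of_injective (maximalIdeal Lq).injective_subtype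
      rw [Submodule.map_span, Submodule.map_top, Submodule.range_subtype, ← Set.range_comp]
      exact hm.symm
    have h1 := (CotangentSpace.span_image_eq_top_iff (R := Lq)).mpr hs
    rw [← Set.range_comp] at h1
    exact h1
  obtain ⟨e, l, hli2, hspan2⟩ := exists_extend u hu w hw
  have hcount : c + e = d := by
    let B := Module.Basis.mk hli2 hspan2.ge
    have h1 : Module.finrank (ResidueField Lq) (CotangentSpace Lq) =
        Fintype.card (Fin c ⊕ Fin e) := Module.finrank_eq_card_basis B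
    have h2 := IsLocalRing.spanFinrank_maximalIdeal_eq_finrank_cotangentSpace Lq
    have h3 := IsRegularLocalRing.spanFinrank_maximalIdeal (R := Lq)
    rw [hd] at h3
    have h4 : (maximalIdeal Lq).spanFinrank = d := by exact_mod_cast h3
    rw [Fintype.card_sum, Fintype.card_fin, Fintype.card_fin] at h1
    omega
  let εd : Fin c ⊕ Fin e ≃ Fin d := finSumFinEquiv.trans (finCongr hcount)
  let ξ : Fin c ⊕ Fin e → Lq := Sum.elim (fun j => φ (g' j)) (fun i => algebraMap Λ Lq (μ (l i)))
  have hξm : ∀ x, ξ x ∈ maximalIdeal Lq := by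
    rintro (j | i)
    · exact hφgm j
    · exact hμm (l i)
  have hξcot : ∀ x, Sum.elim u (w ∘ l) x = (maximalIdeal Lq).toCotangent ⟨ξ x, hξm x⟩ := by
    rintro (j | i) <;> rfl
  have hξspan : Ideal.span (Set.range ξ) = maximalIdeal Lq := by
    have h4 : Submodule.span (ResidueField Lq) ((maximalIdeal Lq).toCotangent ''
        (Set.range fun x => (⟨ξ x, hξm x⟩ : maximalIdeal Lq))) = ⊤ := by
      rw [← Set.range_comp, ← hspan2]
      congr 2
      funext x
      exact (hξcot x).symm
    have h5 := (CotangentSpace.span_image_eq_top_iff (R := Lq)).mp h4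
    have h6 := congrArg (Submodule.map (maximalIdeal Lq).subtype) h5
    rw [Submodule.map_span, Submodule.map_top, Submodule.range_subtype, ← Set.range_comp] at h6
    exact h6
  have hξind : ∀ b : Fin c ⊕ Fin e → Lq, ∑ x, b x * ξ x ∈ maximalIdeal Lq ^ 2 →
      ∀ x, b x ∈ maximalIdeal Lq := by
    intro b hb x
    have hmem : ∑ x, b x * ξ x ∈ maximalIdeal Lq :=
      Ideal.sum_mem _ (fun x _ => Ideal.mul_mem_left _ _ (hξm x))
    have h2 : (maximalIdeal Lq).toCotangent ⟨∑ x, b x * ξ x, hmem⟩ = 0 :=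
      (Ideal.toCotangent_eq_zero _ _).mpr hb
    have h3 : (⟨∑ x, b x * ξ x, hmem⟩ : maximalIdeal Lq) =
        ∑ x, b x • (⟨ξ x, hξm x⟩ : maximalIdeal Lq) := by
      apply Subtype.ext
      rw [Submodule.coe_sum]
      rfl
    rw [h3, map_sum] at h2
    have h4 : ∑ x, residue Lq (b x) • Sum.elim u (w ∘ l) x = 0 := by
      rw [← h2]
      refine Finset.sum_congr rfl (fun x _ => ?_)
      rw [map_smul, key, hξcot]
    have h5 := (Fintype.linearIndependent_iff.mp hli2) _ h4 x
    exact (residue_eq_zero_iff _).mp h5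
  let φ' : MvPolynomial (Fin t) k →ₐ[k] Λ := aeval z₀
  let algP'Λ : Algebra (MvPolynomial (Fin t) k) Λ := φ'.toRingHom.toAlgebra
  have tower1 : IsScalarTower k (MvPolynomial (Fin t) k) Λ :=
    IsScalarTower.of_algebraMap_eq (fun c => (φ'.commutes c).symm)
  let φy₀ : MvPolynomial (Fin e) (MvPolynomial (Fin t) k) →ₐ[MvPolynomial (Fin t) k] Λ :=
    aeval (fun i => μ (l i))
  let φy : MvPolynomial (Fin e) (MvPolynomial (Fin t) k) →ₐ[k] Λ := φy₀.restrictScalars k
  have hφyC : ∀ f : MvPolynomial (Fin t) k, φy (C f) = φ' f := fun f => by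
    show aeval (fun i => μ (l i)) (C f) = _
    rw [aeval_C]
    rfl
  have hφyX : ∀ i, φy (X i) = μ (l i) := fun i => aeval_X _ i
  have hφφ' : ∀ f : MvPolynomial (Fin t) k, φ f = algebraMap Λ Lq (φ' f) := by
    intro f
    have : φ = (IsScalarTower.toAlgHom k Λ Lq).comp φ' := by
      apply MvPolynomial.algHom_ext
      intro i
      show aeval (fun i => algebraMap Λ Lq (z₀ i)) (X i) = algebraMap Λ Lq (aeval z₀ (X i))
      rw [aeval_X, aeval_X]
    rw [this]
    rfl
  have hfs : Algebra.FormallySmooth k (MvPolynomial (Fin e) (MvPolynomial (Fin t) k)) :=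
    Algebra.FormallySmooth.comp k (MvPolynomial (Fin t) k) _
  let π₀ : Fin c ⊕ Fin e → MvPolynomial (Fin e) (MvPolynomial (Fin t) k) :=
    Sum.elim (fun j => C (g' j)) (fun i => X i)
  have hπξ : ∀ x, algebraMap Λ Lq (φy (π₀ x)) = ξ x := by
    rintro (j | i)
    · show algebraMap Λ Lq (φy (C (g' j))) = φ (g' j)
      rw [hφyC, hφφ']
    · show algebraMap Λ Lq (φy (X i)) = algebraMap Λ Lq (μ (l i))
      rw [hφyX]
  have hmemq : ∀ x : Λ, x ∈ 𝔮 ↔ algebraMap Λ Lq x ∈ maximalIdeal Lq := fun x =>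
    (IsLocalization.AtPrime.to_map_mem_maximal_iff Lq 𝔮 x).symm
  have hXq : ∀ f ∈ Ideal.span (Set.range (X : Fin e → MvPolynomial (Fin e) (MvPolynomial (Fin t) k))),
      φy f ∈ 𝔮 := by
    intro f hf
    have : Ideal.span (Set.range (X : Fin e → MvPolynomial (Fin e) (MvPolynomial (Fin t) k))) ≤
        𝔮.comap φy.toRingHom := by
      rw [Ideal.span_le]
      rintro _ ⟨i, rfl⟩
      show φy (X i) ∈ 𝔮
      rw [hφyX]
      exact hμq _
    exact this hf
  have hY1 : ∀ i, φy (π₀ (εd.symm i)) ∈ 𝔮 := by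
    intro i
    rw [hmemq, hπξ]
    exact hξm _
  have hY3 : ∀ f, φy f ∈ 𝔮 → ∃ s, φy s ∉ 𝔮 ∧ s * f ∈ Ideal.span (Set.range fun i => π₀ (εd.symm i)) := by
      intro f hf
      have h1 := Helper27.SepRes.sub_C_coeff_zero_mem f
      have h2 : φy (C (coeff 0 f)) ∈ 𝔮 := by
        have h3 := hXq _ h1
        rw [map_sub] at h3
        have := Ideal.sub_mem _ hf h3
        rwa [sub_sub_cancel] at this
      rw [hφyC] at h2
      have h4 : residue Lq (φ (coeff 0 f)) = 0 := by
        rw [hφφ', residue_eq_zero_iff, ← hmemq]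
        exact h2
      obtain ⟨s', hs', hs'f⟩ := hg'gen _ h4
      refine ⟨C s', ?_, ?_⟩
      · rw [hφyC, hmemq, ← hφφ', ← residue_eq_zero_iff]
        exact hs'
      · have hle1 : Ideal.span (Set.range (X : Fin e → MvPolynomial (Fin e) (MvPolynomial (Fin t) k))) ≤
            Ideal.span (Set.range fun i => π₀ (εd.symm i)) := by
          rw [Ideal.span_le]
          rintro _ ⟨i, rfl⟩
          exact Ideal.subset_span ⟨εd (Sum.inr i), by simp [π₀]⟩
        have hle2 : (Ideal.span (Set.range g')).map (C : MvPolynomial (Fin t) k →+* _) ≤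
            Ideal.span (Set.range fun i => π₀ (εd.symm i)) := by
          rw [Ideal.map_span, Ideal.span_le]
          rintro _ ⟨_, ⟨j, rfl⟩, rfl⟩
          exact Ideal.subset_span ⟨εd (Sum.inl j), by simp [π₀]⟩
        have h5 : C s' * f = C (s' * coeff 0 f) + C s' * (f - C (coeff 0 f)) := by
          rw [C_mul]
          ring
        rw [h5]
        exact Ideal.add_mem _ (hle2 (Ideal.mem_map_of_mem _ hs'f))
          (Ideal.mul_mem_left _ _ (hle1 h1))
  refine ⟨MvPolynomial (Fin e) (MvPolynomial (Fin t) k), inferInstance, inferInstance,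
    inferInstance, hfs, φy, fun i => π₀ (εd.symm i), DD, hloc, F, t, fun i => C (X i), ?_,
    hY1, ?_, hY3, ?_, hE, ?_, hflat, hmaxmap, hess, hart, hmaxiff, hrF, hFr, ?_⟩
  · intro i
    rw [hφyC]
    show residue Lq (algebraMap Λ Lq (aeval z₀ (X i))) ∈ F
    rw [aeval_X]
    exact hz₀ i
  · rw [← hξspan]
    congr 1
    ext y
    constructor
    · rintro ⟨i, rfl⟩
      exact ⟨εd.symm i, (hπξ _).symm⟩
    · rintro ⟨x, rfl⟩
      exact ⟨εd x, by simp only [Equiv.symm_apply_apply]; exact hπξ x⟩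
  · let algPL : Algebra (MvPolynomial (Fin e) (MvPolynomial (Fin t) k)) Lq :=
      ((algebraMap Λ Lq).comp φy.toRingHom).toAlgebra
    show Module.Flat (MvPolynomial (Fin e) (MvPolynomial (Fin t) k)) Lq
    obtain ⟨𝔭, h𝔭⟩ : ∃ 𝔭 : Ideal (MvPolynomial (Fin e) (MvPolynomial (Fin t) k)),
      𝔭 = 𝔮.comap φy.toRingHom := ⟨_, rfl⟩
    have h𝔭prime : 𝔭.IsPrime := by rw [h𝔭]; exact Ideal.IsPrime.comap _
    have hmem𝔭 : ∀ f, f ∈ 𝔭 ↔ φy f ∈ 𝔮 := fun f => by rw [h𝔭]; rfl
    let ψ : Localization.AtPrime 𝔭 →+* Lq := Localization.localRingHom 𝔭 𝔮 φy.toRingHom h𝔭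
    have hψ : ∀ g, ψ (algebraMap _ (Localization.AtPrime 𝔭) g) = algebraMap Λ Lq (φy g) :=
      fun g => Localization.localRingHom_to_map 𝔭 𝔮 _ h𝔭 g
    let _ : Algebra (Localization.AtPrime 𝔭) Lq := ψ.toAlgebra
    have tower : IsScalarTower (MvPolynomial (Fin e) (MvPolynomial (Fin t) k))
        (Localization.AtPrime 𝔭) Lq := IsScalarTower.of_algebraMap_eq (fun g => (hψ g).symm)
    have hlocψ : IsLocalHom (algebraMap (Localization.AtPrime 𝔭) Lq) :=
      Localization.isLocalHom_localRingHom 𝔭 𝔮 _ h𝔭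
    have hNp : IsNoetherianRing (Localization.AtPrime 𝔭) :=
      IsLocalization.isNoetherianRing 𝔭.primeCompl _ inferInstance
    let x : Fin d → Localization.AtPrime 𝔭 := fun i =>
      algebraMap _ (Localization.AtPrime 𝔭) (π₀ (εd.symm i))
    have hx : ∀ i, algebraMap (Localization.AtPrime 𝔭) Lq (x i) = ξ (εd.symm i) := fun i => by
      show ψ (algebraMap _ (Localization.AtPrime 𝔭) (π₀ (εd.symm i))) = _
      rw [hψ, hπξ]
    have hflat₀ : Module.Flat (Localization.AtPrime 𝔭) Lq := by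
      refine Helper27.GeomReg.flat_of_independent d (Localization.AtPrime 𝔭) Lq x ?_ ?_ ?_
      · intro i
        rw [← Localization.AtPrime.map_eq_maximalIdeal]
        apply Ideal.mem_map_of_mem
        rw [hmem𝔭]
        exact hY1 i
      · rw [← Localization.AtPrime.map_eq_maximalIdeal, Ideal.map_le_iff_le_comap]
        intro f hf
        rw [hmem𝔭] at hf
        obtain ⟨s', hs', hsf⟩ := hY3 f hf
        have h1 : algebraMap _ (Localization.AtPrime 𝔭) (s' * f) ∈ Ideal.span (Set.range x) := by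
          have := Ideal.mem_map_of_mem (algebraMap _ (Localization.AtPrime 𝔭)) hsf
          rwa [Ideal.map_span, ← Set.range_comp] at this
        have hu : IsUnit (algebraMap _ (Localization.AtPrime 𝔭) s') :=
          IsLocalization.map_units _ (⟨s', fun h => hs' ((hmem𝔭 _).mp h)⟩ : 𝔭.primeCompl)
        rw [map_mul] at h1
        rw [Ideal.mem_comap]
        exact (Ideal.unit_mul_mem_iff_mem _ hu).mp h1
      · intro b hb i
        have h1 : ∑ y, b (εd y) * ξ y ∈ maximalIdeal Lq ^ 2 := by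
          have h2 : ∑ y, b (εd y) * ξ y = ∑ i, b i * algebraMap (Localization.AtPrime 𝔭) Lq (x i) := by
            rw [← Equiv.sum_comp εd]
            refine Finset.sum_congr rfl (fun y _ => ?_)
            rw [hx, Equiv.symm_apply_apply]
          rw [h2]
          exact hb
        have h3 := hξind (fun y => b (εd y)) h1 (εd.symm i)
        simpa using h3
    have hflat₁ : Module.Flat (MvPolynomial (Fin e) (MvPolynomial (Fin t) k))
        (Localization.AtPrime 𝔭) := IsLocalization.flat _ 𝔭.primeCompl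
    exact Module.Flat.trans (MvPolynomial (Fin e) (MvPolynomial (Fin t) k))
      (Localization.AtPrime 𝔭) Lq
  · intro f
    induction f using MvPolynomial.induction_on with
    | C a =>
      rw [hφyC]
      induction a using MvPolynomial.induction_on with
      | C c =>
        have : Ideal.Quotient.mk (maximalIdeal Lq ^ n) (algebraMap Λ Lq (φ' (C c))) =
            algebraMap k (Lq ⧸ maximalIdeal Lq ^ n) c := by
          show Ideal.Quotient.mk (maximalIdeal Lq ^ n) (algebraMap Λ Lq (aeval z₀ (C c))) = _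
          rw [aeval_C, ← IsScalarTower.algebraMap_apply]
          rfl
        rw [this]
        exact DD.algebraMap_mem c
      | add a b ha hb =>
        rw [map_add, map_add, map_add]
        exact DD.add_mem ha hb
      | mul_X a i ha =>
        have : φ' (a * X i) = φ' a * z₀ i := by
          show aeval z₀ (a * X i) = aeval z₀ a * z₀ i
          rw [map_mul, aeval_X]
        rw [this, map_mul, map_mul]
        exact DD.mul_mem ha (hzD i)
    | add f g hf hg =>
      rw [map_add, map_add, map_add]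
      exact DD.add_mem hf hg
    | mul_X f i hf =>
      rw [map_mul, hφyX, map_mul, map_mul]
      exact DD.mul_mem hf (hμD _)
  · have hfun : (fun i => KaehlerDifferential.D k F
        ⟨residue Lq (algebraMap Λ Lq (φy (C (X i)))), by
          rw [hφyC]
          show residue Lq (algebraMap Λ Lq (aeval z₀ (X i))) ∈ F
          rw [aeval_X]
          exact hz₀ i⟩) = fun i => KaehlerDifferential.D k F ⟨_, hz₀ i⟩ := by
      funext i
      congr 2
      rw [hφyC]
      show residue Lq (algebraMap Λ Lq (aeval z₀ (X i))) = _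
      rw [aeval_X]
    rw [← hspan, ← hfun]

end

end Helper27.Insep
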