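import Mathlib
import Groth.Agent.Lib.Helper27.RegParam

set_option autoImplicit false
universe u

namespace Helper27.Insep

open IsLocalRing RingTheory.Sequence

theorem reg_subset {S : Type u} [CommRing S] [IsRegularLocalRing S] (d : ℕ)
    (hd : ringKrullDim S = d) (y : Fin d → S)
    (hgen : Ideal.span (Set.range y) = maximalIdeal S) (e : ℕ) (he : 0 < e) (i : Fin d)
    (T : Finset (Fin d)) (hi : i ∉ T) (x : S)
    (hx : y i * x ∈ Ideal.span ((fun j => y j ^ e) '' (T : Set (Fin d)))) :
    x ∈ Ideal.span ((fun j => y j ^ e) '' (T : Set (Fin d))) := by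
  classical
  have hreg : IsRegular S (List.ofFn y) :=
    Groth.Agent.Lib.Helper76.isRegular_of_span_range_eq_maximalIdeal S d hd y hgen
  let R' : Finset (Fin d) := Finset.univ \ insert i T
  let full : List (Fin d) := T.toList ++ i :: R'.toList
  have hnodup : full.Nodup := by
    refine List.Nodup.append (Finset.nodup_toList T) ?_ ?_
    · rw [List.nodup_cons]
      refine ⟨?_, Finset.nodup_toList R'⟩
      rw [Finset.mem_toList]
      simp [R']
    · intro a ha hb
      rw [Finset.mem_toList] at ha
      rcases List.mem_cons.mp hb with rfl | hb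
      · exact hi ha
      · rw [Finset.mem_toList] at hb
        simp [R'] at hb
        exact hb.2 ha
  have hperm : (List.finRange d).Perm full := by
    refine List.perm_of_nodup_nodup_toFinset_eq (List.nodup_finRange d) hnodup ?_
    ext j
    simp only [List.mem_toFinset, List.mem_finRange, true_iff, full, List.mem_append,
      Finset.mem_toList, List.mem_cons, R', Finset.mem_sdiff, Finset.mem_univ, Finset.mem_insert,
      true_and]
    tauto
  have hofFn : List.ofFn y = (List.finRange d).map y := List.ofFn_eq_map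
  have hreg' : IsRegular S (full.map y) := by
    rw [hofFn] at hreg
    exact IsLocalRing.isRegular_of_perm hreg (hperm.map y)
  have hlen : T.toList.length < (full.map y).length := by
    simp [full]
  have hget : (full.map y)[T.toList.length] = y i := by
    simp [full]
  have htake : ((full.map y).take T.toList.length).map (· ^ e) =
      T.toList.map (fun j => y j ^ e) := by
    simp [full, List.map_take]
  have hideal : Ideal.ofList (T.toList.map (fun j => y j ^ e)) =
      Ideal.span ((fun j => y j ^ e) '' (T : Set (Fin d))) := by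
    unfold Ideal.ofList
    congr 1
    ext z
    simp
  have := Helper27.RegPow.mul_mem_of_map_pow_take (full.map y) e he hreg' _ hlen x (by
    rw [hget, htake, hideal]
    exact hx)
  rwa [htake, hideal] at this

theorem span_range_unit_mul' {S : Type*} [CommRing S] {ι : Type*} (y : ι → S) (w : ι → S)
    (hw : ∀ i, IsUnit (w i)) :
    Ideal.span (Set.range fun i => w i * y i) = Ideal.span (Set.range y) := by
  apply le_antisymm
  · rw [Ideal.span_le]
    rintro _ ⟨i, rfl⟩
    exact Ideal.mul_mem_left _ _ (Ideal.subset_span ⟨i, rfl⟩)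
  · rw [Ideal.span_le]
    rintro _ ⟨i, rfl⟩
    obtain ⟨v, hv⟩ := (hw i).exists_left_inv
    have : y i = v * (w i * y i) := by rw [← mul_assoc, hv, one_mul]
    rw [SetLike.mem_coe, this]
    exact Ideal.mul_mem_left _ _ (Ideal.subset_span ⟨i, rfl⟩)

section Params

variable {P₀ S : Type u} [CommRing P₀] [IsNoetherianRing P₀] [CommRing S] [IsRegularLocalRing S]
  (ρ : P₀ →+* S)
  (hFF : ∀ (J : Ideal P₀) (f : P₀), ρ f ∈ J.map ρ → ∃ s, ρ s ∉ maximalIdeal S ∧ s * f ∈ J)

include hFF in
theorem exists_uniform' (J : Ideal P₀) :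
    ∃ u, ρ u ∉ maximalIdeal S ∧ ∀ x, ρ x ∈ J.map ρ → u * x ∈ J := by
  classical
  obtain ⟨G, hG⟩ := (isNoetherianRing_iff_ideal_fg P₀).mp inferInstance ((J.map ρ).comap ρ)
  have h1 : ∀ g : G, ∃ s, ρ s ∉ maximalIdeal S ∧ s * (g : P₀) ∈ J := by
    intro g
    apply hFF
    have : (g : P₀) ∈ (J.map ρ).comap ρ := by
      rw [← hG]; exact Ideal.subset_span g.2
    exact this
  choose s hs hsJ using h1
  refine ⟨∏ g, s g, ?_, ?_⟩
  · intro h
    rw [map_prod] at h
    obtain ⟨g, -, hg⟩ := (Ideal.IsPrime.prod_mem_iff).mp h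
    exact hs g hg
  · have key : ∀ x ∈ Ideal.span (G : Set P₀), (∏ g, s g) * x ∈ J := by
      intro x hx
      induction hx using Submodule.span_induction with
      | mem y hy =>
        have : (∏ g, s g) * y = (∏ g ∈ Finset.univ.erase ⟨y, hy⟩, s g) * (s ⟨y, hy⟩ * y) := by
          rw [← Finset.prod_erase_mul _ _ (Finset.mem_univ (⟨y, hy⟩ : G))]; ring
        rw [this]
        exact Ideal.mul_mem_left _ _ (hsJ ⟨y, hy⟩)
      | zero => simp
      | add a b _ _ ha hb => rw [mul_add]; exact Ideal.add_mem _ ha hb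
      | smul a b _ hb => rw [smul_eq_mul, mul_left_comm]; exact Ideal.mul_mem_left _ _ hb
    intro x hx
    exact key x (by rw [hG]; exact hx)

include hFF in
set_option maxHeartbeats 1000000 in
theorem exists_params (d : ℕ) (hd : ringKrullDim S = d) (e : ℕ) (he : 0 < e) (πz : Fin d → P₀)
    (hgen : Ideal.span (Set.range fun i => ρ (πz i)) = maximalIdeal S) (t : ℕ) (ht : t ≤ d) :
    ∃ π : Fin d → P₀, (∀ i, ∃ u, ρ u ∉ maximalIdeal S ∧ π i = u * πz i) ∧
      ∀ i : Fin d, (i : ℕ) < t → ∀ T : Finset (Fin d), (∀ j ∈ T, j < i) → ∀ x,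
        π i ^ 2 * x ∈ Ideal.span ((fun j => π j ^ e) '' (T : Set (Fin d))) →
        π i * x ∈ Ideal.span ((fun j => π j ^ e) '' (T : Set (Fin d))) := by
  classical
  induction t with
  | zero =>
    refine ⟨πz, fun i => ⟨1, ?_, by rw [one_mul]⟩, fun i hi => absurd hi (Nat.not_lt_zero _)⟩
    rw [map_one]
    exact fun h => (maximalIdeal.isMaximal S).ne_top ((Ideal.eq_top_iff_one _).mpr h)
  | succ t ih =>
    obtain ⟨π, hπu, h3⟩ := ih (by omega)
    have ht' : t < d := by omega
    have hunit : ∀ u : P₀, ρ u ∉ maximalIdeal S → IsUnit (ρ u) := fun u hu => by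
      by_contra hnu
      exact hu ((mem_maximalIdeal _).mpr hnu)
    have hgenπ : Ideal.span (Set.range fun i => ρ (π i)) = maximalIdeal S := by
      choose w hw hπw using hπu
      have : (fun i => ρ (π i)) = fun i => ρ (w i) * ρ (πz i) := by
        funext i
        rw [hπw i, map_mul]
      rw [this, span_range_unit_mul' _ _ (fun i => hunit _ (hw i)), hgen]
    let I₀ : Finset (Finset (Fin d)) := (Finset.univ.filter (· < (⟨t, ht'⟩ : Fin d))).powerset
    choose uT huT huT2 using fun T : Finset (Fin d) =>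
      exists_uniform' ρ hFF (Ideal.span ((fun j => π j ^ e) '' (T : Set (Fin d))))
    let u : P₀ := ∏ T ∈ I₀, uT T
    have hu : ρ u ∉ maximalIdeal S := by
      intro h
      rw [map_prod] at h
      obtain ⟨T, -, hT⟩ := (Ideal.IsPrime.prod_mem_iff).mp h
      exact huT T hT
    let π' : Fin d → P₀ := Function.update π ⟨t, ht'⟩ (u * π ⟨t, ht'⟩)
    have hπ'0 : π' ⟨t, ht'⟩ = u * π ⟨t, ht'⟩ := Function.update_self _ _ _
    have hπ'ne : ∀ i : Fin d, i ≠ ⟨t, ht'⟩ → π' i = π i := fun i hi =>
      Function.update_of_ne hi _ _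
    have hJ : ∀ (i : Fin d), (i : ℕ) ≤ t → ∀ T : Finset (Fin d), (∀ j ∈ T, j < i) →
        (fun j => π' j ^ e) '' (T : Set (Fin d)) = (fun j => π j ^ e) '' (T : Set (Fin d)) := by
      intro i hi T hT
      apply Set.image_congr
      intro j hj
      have hne : j ≠ ⟨t, ht'⟩ := by
        intro h
        have h1 := hT j hj
        rw [h, Fin.lt_def] at h1
        simp at h1
        omega
      show π' j ^ e = π j ^ e
      rw [hπ'ne j hne]
    refine ⟨π', ?_, ?_⟩
    · intro i
      by_cases h : i = ⟨t, ht'⟩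
      · obtain ⟨w, hw, hπw⟩ := hπu ⟨t, ht'⟩
        refine ⟨u * w, ?_, ?_⟩
        · rw [map_mul]
          intro hmem
          rcases (Ideal.IsPrime.mem_or_mem inferInstance hmem) with h1 | h1
          · exact hu h1
          · exact hw h1
        · rw [h, hπ'0, hπw, mul_assoc]
      · rw [hπ'ne i h]
        exact hπu i
    · intro i hi T hT x hx
      rw [hJ i (by omega) T hT] at hx ⊢
      by_cases h : (i : ℕ) < t
      · have hne : i ≠ ⟨t, ht'⟩ := by
          intro h'
          rw [h'] at h
          simp at h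
        rw [hπ'ne i hne] at hx ⊢
        exact h3 i h T hT x hx
      · have hi0 : i = ⟨t, ht'⟩ := Fin.ext (by simp; omega)
        rw [hi0] at hx ⊢ hT
        rw [hπ'0] at hx ⊢
        have hiT : (⟨t, ht'⟩ : Fin d) ∉ T := fun hmem => lt_irrefl _ (hT _ hmem)
        have hmapJ : (Ideal.span ((fun j => π j ^ e) '' (T : Set (Fin d)))).map ρ =
            Ideal.span ((fun j => (fun i => ρ (π i)) j ^ e) '' (T : Set (Fin d))) := by
          rw [Ideal.map_span, Set.image_image]
          congr 2
          funext j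
          rw [map_pow]
        have h4 : (fun i => ρ (π i)) ⟨t, ht'⟩ * ((fun i => ρ (π i)) ⟨t, ht'⟩ * (ρ u ^ 2 * ρ x)) ∈
            Ideal.span ((fun j => (fun i => ρ (π i)) j ^ e) '' (T : Set (Fin d))) := by
          rw [← hmapJ]
          have h5 := Ideal.mem_map_of_mem ρ hx
          have h6 : ρ ((u * π ⟨t, ht'⟩) ^ 2 * x) =
              ρ (π ⟨t, ht'⟩) * (ρ (π ⟨t, ht'⟩) * (ρ u ^ 2 * ρ x)) := by
            rw [map_mul, map_pow, map_mul]
            ring
          rw [h6] at h5
          exact h5
        have h7 := reg_subset d hd (fun i => ρ (π i)) hgenπ e he ⟨t, ht'⟩ T hiT _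
          (reg_subset d hd (fun i => ρ (π i)) hgenπ e he ⟨t, ht'⟩ T hiT _ h4)
        have h8 : ρ x ∈ (Ideal.span ((fun j => π j ^ e) '' (T : Set (Fin d)))).map ρ := by
          rw [hmapJ]
          have hu2 : IsUnit (ρ u ^ 2) := (hunit u hu).pow 2
          exact (Ideal.unit_mul_mem_iff_mem _ hu2).mp h7
        have h9 := huT2 T x h8
        have hTI : T ∈ I₀ := by
          rw [Finset.mem_powerset]
          intro j hj
          rw [Finset.mem_filter]
          exact ⟨Finset.mem_univ _, hT j hj⟩
        have h10 : u * π ⟨t, ht'⟩ * x =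
            (∏ T' ∈ I₀.erase T, uT T') * π ⟨t, ht'⟩ * (uT T * x) := by
          show (∏ T ∈ I₀, uT T) * π ⟨t, ht'⟩ * x = _
          rw [← Finset.mul_prod_erase I₀ uT hTI]
          ring
        rw [h10]
        exact Ideal.mul_mem_left _ _ h9

end Params

end Helper27.Insep
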