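import Mathlib

set_option autoImplicit false
universe u

namespace Helper27.Insep

open MvPolynomial

section RS

variable {P₀ : Type u} [CommRing P₀] {d : ℕ} (e : ℕ) (π : Fin d → P₀)

def Tset (i : Fin d) (α : Fin d →₀ ℕ) : Finset (Fin d) :=
  Finset.univ.filter (fun j => j < i ∧ e ≤ α j)

def JT (T : Finset (Fin d)) : Ideal P₀ := Ideal.span ((fun j => π j ^ e) '' (T : Set (Fin d)))

noncomputable def II (i : Fin d) : Ideal (MvPolynomial (Fin d) P₀) :=
  Ideal.span (Set.range fun j : {j : Fin d // (j : ℕ) < (i : ℕ)} =>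
    (C (π j) * X (j : Fin d)) ^ e)

theorem Tset_mono (i : Fin d) {α β : Fin d →₀ ℕ} (h : α ≤ β) : Tset e i α ⊆ Tset e i β := by
  intro j hj
  simp only [Tset, Finset.mem_filter, Finset.mem_univ, true_and] at hj ⊢
  exact ⟨hj.1, hj.2.trans (h j)⟩

theorem JT_mono {T T' : Finset (Fin d)} (h : T ⊆ T') : JT e π T ≤ JT e π T' :=
  Ideal.span_mono (Set.image_mono (Finset.coe_subset.mpr h))

theorem gen_eq (j : Fin d) :
    (C (π j) * X j : MvPolynomial (Fin d) P₀) ^ e = monomial (Finsupp.single j e) (π j ^ e) := by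
  rw [mul_pow, ← C_pow, X_pow_eq_monomial, C_mul_monomial, mul_one]

def MM (i : Fin d) : Ideal (MvPolynomial (Fin d) P₀) where
  carrier := {g | ∀ α, coeff α g ∈ JT e π (Tset e i α)}
  add_mem' := by
    intro a b ha hb α
    rw [coeff_add]
    exact Ideal.add_mem _ (ha α) (hb α)
  zero_mem' := by
    intro α
    rw [coeff_zero]
    exact Ideal.zero_mem _
  smul_mem' := by
    intro h g hg α
    rw [smul_eq_mul, coeff_mul]
    refine Ideal.sum_mem _ (fun x hx => ?_)
    have hle : x.2 ≤ α := by
      have hx' : x.1 + x.2 = α := Finset.HasAntidiagonal.mem_antidiagonal.mp hx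
      rw [← hx']
      exact le_add_self
    exact Ideal.mul_mem_left _ _ (JT_mono e π (Tset_mono e i hle) (hg x.2))

theorem II_le_MM (i : Fin d) : II e π i ≤ MM e π i := by
  classical
  unfold II
  rw [Ideal.span_le]
  rintro _ ⟨j, rfl⟩
  intro α
  show coeff α ((C (π j) * X (j : Fin d)) ^ e) ∈ _
  rw [gen_eq, coeff_monomial]
  split_ifs with h
  · apply Ideal.subset_span
    refine ⟨j, ?_, rfl⟩
    simp only [Tset, Finset.coe_filter, Finset.mem_univ, true_and, Set.mem_setOf_eq]
    refine ⟨Fin.lt_def.mpr j.2, ?_⟩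
    rw [← h, Finsupp.single_eq_same]
  · exact Ideal.zero_mem _

theorem monomial_mem_II (i : Fin d) (α : Fin d →₀ ℕ) (c : P₀) (hc : c ∈ JT e π (Tset e i α)) :
    monomial α c ∈ II e π i := by
  classical
  unfold JT at hc
  induction hc using Submodule.span_induction with
  | mem x hx =>
    obtain ⟨j, hj, rfl⟩ := hx
    simp only [Tset, Finset.coe_filter, Finset.mem_univ, true_and, Set.mem_setOf_eq] at hj
    have h1 : monomial α (π j ^ e) =
        monomial (α - Finsupp.single j e) (1 : P₀) * monomial (Finsupp.single j e) (π j ^ e) := by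
      have hle : Finsupp.single j e ≤ α := by
        intro l
        by_cases hl : l = j
        · subst hl
          rw [Finsupp.single_eq_same]
          exact hj.2
        · rw [Finsupp.single_eq_of_ne hl]
          exact Nat.zero_le _
      rw [monomial_mul, one_mul, tsub_add_cancel_of_le hle]
    rw [h1, ← gen_eq]
    apply Ideal.mul_mem_left
    exact Ideal.subset_span ⟨⟨j, Fin.lt_def.mp hj.1⟩, rfl⟩
  | zero =>
    rw [monomial_zero]
    exact Ideal.zero_mem _
  | add a b _ _ ha hb =>
    rw [map_add]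
    exact Ideal.add_mem _ ha hb
  | smul a b _ hb =>
    have : monomial α (a • b) = C a * monomial α b := by
      rw [C_mul_monomial, smul_eq_mul]
    rw [this]
    exact Ideal.mul_mem_left _ _ hb

theorem mem_II_iff (i : Fin d) (g : MvPolynomial (Fin d) P₀) :
    g ∈ II e π i ↔ ∀ α, coeff α g ∈ JT e π (Tset e i α) := by
  constructor
  · intro hg
    exact II_le_MM e π i hg
  · intro h
    rw [← support_sum_monomial_coeff g]
    exact Ideal.sum_mem _ (fun α _ => monomial_mem_II e π i α _ (h α))

theorem Tset_add_single (i : Fin d) (α : Fin d →₀ ℕ) (m : ℕ) :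
    Tset e i (α + Finsupp.single i m) = Tset e i α := by
  ext j
  simp only [Tset, Finset.mem_filter, Finset.mem_univ, true_and]
  constructor
  · rintro ⟨h1, h2⟩
    refine ⟨h1, ?_⟩
    have hne : j ≠ i := ne_of_lt h1
    rwa [Finsupp.add_apply, Finsupp.single_eq_of_ne hne, add_zero] at h2
  · rintro ⟨h1, h2⟩
    refine ⟨h1, ?_⟩
    have hne : j ≠ i := ne_of_lt h1
    rwa [Finsupp.add_apply, Finsupp.single_eq_of_ne hne, add_zero]

theorem ann_R
    (hπ : ∀ i : Fin d, ∀ T : Finset (Fin d), (∀ j ∈ T, j < i) → ∀ x,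
      π i ^ 2 * x ∈ Ideal.span ((fun j => π j ^ e) '' (T : Set (Fin d))) →
      π i * x ∈ Ideal.span ((fun j => π j ^ e) '' (T : Set (Fin d))))
    (i : Fin d) (f : MvPolynomial (Fin d) P₀)
    (hf : (C (π i) * X i) ^ 2 * f ∈ II e π i) : C (π i) * X i * f ∈ II e π i := by
  classical
  rw [mem_II_iff] at hf ⊢
  have hT : ∀ α, ∀ j ∈ Tset e i α, j < i := by
    intro α j hj
    simp only [Tset, Finset.mem_filter, Finset.mem_univ, true_and] at hj
    exact hj.1
  have h1 : ∀ α, π i * coeff α f ∈ JT e π (Tset e i α) := by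
    intro α
    apply hπ i _ (hT α)
    have h2 := hf (Finsupp.single i 2 + α)
    have h3 : (C (π i) * X i : MvPolynomial (Fin d) P₀) ^ 2 =
        monomial (Finsupp.single i 2) (π i ^ 2) := by
      rw [mul_pow, ← C_pow, X_pow_eq_monomial, C_mul_monomial, mul_one]
    rw [h3, coeff_monomial_mul] at h2
    rw [add_comm, Tset_add_single] at h2
    exact h2
  intro β
  have h3 : (C (π i) * X i : MvPolynomial (Fin d) P₀) = monomial (Finsupp.single i 1) (π i) := by
    rw [C_mul_X_eq_monomial]
  rw [h3, coeff_monomial_mul']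
  split_ifs with hle
  · have hβ : β = (β - Finsupp.single i 1) + Finsupp.single i 1 := (tsub_add_cancel_of_le hle).symm
    have h4 := h1 (β - Finsupp.single i 1)
    rw [← Tset_add_single e i (β - Finsupp.single i 1) 1, ← hβ] at h4
    exact h4
  · exact Ideal.zero_mem _

end RS

end Helper27.Insep
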