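import Mathlib
import Groth.Agent.Lib.Helper27.RegParam
import Groth.Agent.Lib.Helper27.DimZeroC

set_option autoImplicit false
universe u

namespace Helper27.Insep

open IsLocalRing TensorProduct

theorem tmul_mem_singularIdeal {R₀ R C : Type u} [CommRing R₀] [CommRing R] [Algebra R₀ R]
    [CommRing C] [Algebra R₀ C] [Algebra.FinitePresentation R₀ C] (b : C)
    (hb : b ∈ Smoothing.singularIdeal R₀ C) :
    (1 : R) ⊗ₜ[R₀] b ∈ Smoothing.singularIdeal R (R ⊗[R₀] C) := by
  have h1 : Algebra.FormallySmooth R₀ (Localization.Away b) :=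
    Helper27.DimZero.formallySmooth_away_of_mem_singularIdeal b hb
  have h2 : Algebra.FormallySmooth R (R ⊗[R₀] Localization.Away b) := inferInstance
  have h3 : Algebra.FormallySmooth R (Localization.Away ((1 : R) ⊗ₜ[R₀] b)) :=
    Algebra.FormallySmooth.of_equiv
      (IsLocalization.Away.tensorProductEquivTMulRight R₀ R b (Localization.Away b))
  exact Helper27.DimZero.mem_singularIdeal_of_formallySmooth_away _ h3

theorem pow_le_span_pow {S ι : Type*} [CommRing S] [DecidableEq ι] (ϖ : ι → S) (e : ℕ)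
    (T : Finset ι) :
    Ideal.span (ϖ '' (T : Set ι)) ^ (T.card * e + 1) ≤
      Ideal.span ((fun i => ϖ i ^ e) '' (T : Set ι)) := by
  induction T using Finset.induction_on with
  | empty => simp
  | insert a T ha ih =>
    rw [Finset.card_insert_of_notMem ha, Finset.coe_insert, Set.image_insert_eq,
      Set.image_insert_eq, Ideal.span_insert, Ideal.span_insert]
    have h1 : (T.card + 1) * e + 1 = e + (T.card * e + 1) := by ring
    rw [h1]
    refine le_trans Ideal.sup_pow_add_le_pow_sup_pow ?_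
    refine sup_le_sup ?_ ih
    rw [Ideal.span_singleton_pow]

section FF

variable {P₀ Λ : Type u} [CommRing P₀] [CommRing Λ] (𝔮 : Ideal Λ) [𝔮.IsPrime]

set_option maxHeartbeats 1000000 in
theorem hFF_of_flat (ρ₀ : P₀ →+* Λ)
    (hflat : letI := ((algebraMap Λ (Localization.AtPrime 𝔮)).comp ρ₀).toAlgebra
      Module.Flat P₀ (Localization.AtPrime 𝔮)) :
    ∀ (J : Ideal P₀) (f : P₀),
      ((algebraMap Λ (Localization.AtPrime 𝔮)).comp ρ₀) f ∈
        J.map ((algebraMap Λ (Localization.AtPrime 𝔮)).comp ρ₀) →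
      ∃ s, ((algebraMap Λ (Localization.AtPrime 𝔮)).comp ρ₀) s ∉
        maximalIdeal (Localization.AtPrime 𝔮) ∧ s * f ∈ J := by
  let alg : Algebra P₀ (Localization.AtPrime 𝔮) :=
    ((algebraMap Λ (Localization.AtPrime 𝔮)).comp ρ₀).toAlgebra
  have hflat' : Module.Flat P₀ (Localization.AtPrime 𝔮) := hflat
  obtain ⟨𝔭, h𝔭⟩ : ∃ 𝔭 : Ideal P₀, 𝔭 = 𝔮.comap ρ₀ := ⟨_, rfl⟩
  have h𝔭prime : 𝔭.IsPrime := by rw [h𝔭]; exact Ideal.IsPrime.comap _
  have hmem𝔭 : ∀ f, f ∈ 𝔭 ↔ ρ₀ f ∈ 𝔮 := fun f => by rw [h𝔭]; rfl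
  let ψ : Localization.AtPrime 𝔭 →+* Localization.AtPrime 𝔮 :=
    Localization.localRingHom 𝔭 𝔮 ρ₀ h𝔭
  have hψ : ∀ g, ψ (algebraMap _ (Localization.AtPrime 𝔭) g) =
      algebraMap Λ (Localization.AtPrime 𝔮) (ρ₀ g) :=
    fun g => Localization.localRingHom_to_map 𝔭 𝔮 _ h𝔭 g
  let _ : Algebra (Localization.AtPrime 𝔭) (Localization.AtPrime 𝔮) := ψ.toAlgebra
  have tower : IsScalarTower P₀ (Localization.AtPrime 𝔭) (Localization.AtPrime 𝔮) :=
    IsScalarTower.of_algebraMap_eq (fun g => (hψ g).symm)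
  have hlocψ : IsLocalHom (algebraMap (Localization.AtPrime 𝔭) (Localization.AtPrime 𝔮)) :=
    Localization.isLocalHom_localRingHom 𝔭 𝔮 _ h𝔭
  have hflatp : Module.Flat (Localization.AtPrime 𝔭) (Localization.AtPrime 𝔮) :=
    (Module.flat_iff_of_isLocalization (Localization.AtPrime 𝔭) 𝔭.primeCompl
      (Localization.AtPrime 𝔮)).mpr hflat'
  have hff : Module.FaithfullyFlat (Localization.AtPrime 𝔭) (Localization.AtPrime 𝔮) :=
    Module.FaithfullyFlat.of_flat_of_isLocalHom
  intro J f hf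
  have h1 : J.map ((algebraMap Λ (Localization.AtPrime 𝔮)).comp ρ₀) =
      (J.map (algebraMap P₀ (Localization.AtPrime 𝔭))).map
        (algebraMap (Localization.AtPrime 𝔭) (Localization.AtPrime 𝔮)) := by
    rw [Ideal.map_map]
    congr 1
    exact RingHom.ext (fun g => (hψ g).symm)
  rw [h1] at hf
  have h2 : algebraMap P₀ (Localization.AtPrime 𝔭) f ∈
      ((J.map (algebraMap P₀ (Localization.AtPrime 𝔭))).map
        (algebraMap (Localization.AtPrime 𝔭) (Localization.AtPrime 𝔮))).comap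
        (algebraMap (Localization.AtPrime 𝔭) (Localization.AtPrime 𝔮)) := by
    rw [Ideal.mem_comap]
    have : algebraMap (Localization.AtPrime 𝔭) (Localization.AtPrime 𝔮)
        (algebraMap P₀ (Localization.AtPrime 𝔭) f) =
        ((algebraMap Λ (Localization.AtPrime 𝔮)).comp ρ₀) f := hψ f
    rw [this]
    exact hf
  rw [Ideal.comap_map_eq_self_of_faithfullyFlat,
    IsLocalization.algebraMap_mem_map_algebraMap_iff 𝔭.primeCompl] at h2
  obtain ⟨s, hs, hsf⟩ := h2
  refine ⟨s, ?_, hsf⟩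
  intro hmem
  apply hs
  show s ∈ 𝔭
  rw [hmem𝔭]
  exact (IsLocalization.AtPrime.to_map_mem_maximal_iff (Localization.AtPrime 𝔮) 𝔮 _).mp hmem

end FF

section Good

variable {Λ : Type u} [CommRing Λ] (q : Ideal Λ) [q.IsPrime] (e : ℕ) {d : ℕ}

open Helper27.RegParam

set_option maxHeartbeats 1000000 in
theorem exists_good_mul [IsNoetherianRing Λ] [IsRegularLocalRing (Localization.AtPrime q)]
    (hd : ringKrullDim (Localization.AtPrime q) = d) (he : 0 < e) (ϖ₀ : Fin d → Λ)
    (hgen : Ideal.span (Set.range fun i => algebraMap Λ (Localization.AtPrime q) (ϖ₀ i)) =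
      maximalIdeal (Localization.AtPrime q))
    (t : ℕ) (ht : t ≤ d) :
    ∃ v : Fin d → Λ, (∀ i, v i ∉ q) ∧
      ∀ i : Fin d, (i : ℕ) < t → ∀ x : Λ,
        (v i * ϖ₀ i) ^ 2 * x ∈ JJ e (fun i => v i * ϖ₀ i) i →
        (v i * ϖ₀ i) * x ∈ JJ e (fun i => v i * ϖ₀ i) i := by
  classical
  induction t with
  | zero =>
    exact ⟨fun _ => 1, fun i h1 => (Ideal.IsPrime.ne_top ‹_›) ((Ideal.eq_top_iff_one _).mpr h1),
      fun i hi => absurd hi (Nat.not_lt_zero _)⟩
  | succ t ih =>
    obtain ⟨v₀, hv₀, h3⟩ := ih (by omega)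
    obtain ⟨π, hπdef⟩ : ∃ π : Fin d → Λ, π = fun i => v₀ i * ϖ₀ i := ⟨_, rfl⟩
    rw [← hπdef] at h3
    have hπi : ∀ i, π i = v₀ i * ϖ₀ i := fun i => by rw [hπdef]
    have hgenπ : Ideal.span (Set.range fun i => algebraMap Λ (Localization.AtPrime q) (π i)) =
        maximalIdeal (Localization.AtPrime q) := by
      rw [hπdef, span_range_algebraMap_mul q ϖ₀ v₀ hv₀, hgen]
    have h3' : ∀ i : Fin d, (i : ℕ) < t → ∀ x : Λ, π i ^ 2 * x ∈ JJ e π i → π i * x ∈ JJ e π i := by
      intro i hi x hx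
      have := h3 i hi x
      rw [← hπi] at this
      exact this hx
    have ht' : t < d := by omega
    obtain ⟨u, hu, hu2⟩ := exists_uniform q (JJ e π ⟨t, ht'⟩)
    let v : Fin d → Λ := Function.update (fun _ => 1) ⟨t, ht'⟩ u
    have hv0 : v ⟨t, ht'⟩ = u := Function.update_self _ _ _
    have hvne : ∀ i : Fin d, i ≠ ⟨t, ht'⟩ → v i = 1 := fun i hi =>
      Function.update_of_ne hi _ _
    have hv : ∀ i, v i ∉ q := by
      intro i
      by_cases h : i = ⟨t, ht'⟩
      · rw [h, hv0]; exact hu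
      · rw [hvne i h]; exact fun h1 => (Ideal.IsPrime.ne_top ‹_›) ((Ideal.eq_top_iff_one _).mpr h1)
    have hJ : ∀ i : Fin d, (i : ℕ) ≤ t → JJ e (fun i => v i * π i) i = JJ e π i := by
      intro i hi
      unfold JJ
      congr 2
      funext j
      have hne : (j : Fin d) ≠ ⟨t, ht'⟩ := by
        intro h
        have h1 := j.2
        rw [h] at h1
        simp at h1
        omega
      show (v j * π j) ^ e = π j ^ e
      rw [hvne _ hne, one_mul]
    have hfun : (fun i => v i * v₀ i * ϖ₀ i) = fun i => v i * π i := by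
      funext i
      rw [hπi, mul_assoc]
    refine ⟨fun i => v i * v₀ i, ?_, ?_⟩
    · intro i hmem
      rcases Ideal.IsPrime.mem_or_mem ‹_› hmem with h | h
      · exact hv i h
      · exact hv₀ i h
    · intro i hi x hx
      have e1 : v i * v₀ i * ϖ₀ i = v i * π i := by rw [hπi, mul_assoc]
      rw [hfun, e1] at hx ⊢
      rw [hJ i (by omega)] at hx ⊢
      by_cases h : (i : ℕ) < t
      · have hne : i ≠ ⟨t, ht'⟩ := by
          intro h'
          rw [h'] at h
          simp at h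
        simp only [hvne i hne, one_mul] at hx ⊢
        exact h3' i h x hx
      · have hi0 : i = ⟨t, ht'⟩ := Fin.ext (by simp; omega)
        rw [hi0] at hx ⊢
        simp only [hv0] at hx ⊢
        have h4 : algebraMap Λ (Localization.AtPrime q) (π ⟨t, ht'⟩ * (π ⟨t, ht'⟩ * (u ^ 2 * x))) ∈
            (JJ e π ⟨t, ht'⟩).map (algebraMap Λ (Localization.AtPrime q)) := by
          have : π ⟨t, ht'⟩ * (π ⟨t, ht'⟩ * (u ^ 2 * x)) = (u * π ⟨t, ht'⟩) ^ 2 * x := by ring
          rw [this]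
          exact Ideal.mem_map_of_mem _ hx
        have h5 := reg q e hd he π hgenπ ⟨t, ht'⟩ _ (reg q e hd he π hgenπ ⟨t, ht'⟩ _ h4)
        obtain ⟨s, hs, hsx⟩ := (mem_map_iff q _ _).mp h5
        have h6 : algebraMap Λ (Localization.AtPrime q) x ∈
            (JJ e π ⟨t, ht'⟩).map (algebraMap Λ (Localization.AtPrime q)) := by
          refine (mem_map_iff q _ _).mpr ⟨s * u ^ 2, ?_, by rw [mul_assoc]; exact hsx⟩
          intro h
          rcases (Ideal.IsPrime.mem_or_mem ‹_› h) with h | h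
          · exact hs h
          · exact hu (Ideal.IsPrime.mem_of_pow_mem ‹_› 2 h)
        have h7 := hu2 x h6
        have : u * π ⟨t, ht'⟩ * x = π ⟨t, ht'⟩ * (u * x) := by ring
        rw [this]
        exact Ideal.mul_mem_left _ _ h7

end Good

end Helper27.Insep
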