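import Mathlib
import Groth.Agent.Lib.Helper27.DimZeroC

set_option autoImplicit false
universe u

namespace Helper27.SepRes

open MvPolynomial

section BAlg

variable {k A : Type u} [CommRing k] [CommRing A] [Algebra k A] {r : ℕ} (a : Fin r → A) (n d : ℕ)

abbrev BVar (d r : ℕ) := Fin d ⊕ (Fin d × Fin r)

noncomputable def brel (i : Fin d) : MvPolynomial (BVar d r) A :=
  X (Sum.inl i) ^ n - ∑ j, X (Sum.inr (i, j)) * C (a j)

noncomputable def bIdeal : Ideal (MvPolynomial (BVar d r) A) := Ideal.span (Set.range (brel a n d))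

abbrev BB := MvPolynomial (BVar d r) A ⧸ bIdeal a n d

noncomputable def bx (i : Fin d) : BB a n d := Ideal.Quotient.mk _ (X (Sum.inl i))

noncomputable def bz (i : Fin d) (j : Fin r) : BB a n d := Ideal.Quotient.mk _ (X (Sum.inr (i, j)))

theorem algebraMap_BB (x : A) : algebraMap A (BB a n d) x = Ideal.Quotient.mk _ (C x) := rfl

theorem brel_eq (i : Fin d) :
    bx a n d i ^ n = ∑ j, bz a n d i j * algebraMap A (BB a n d) (a j) := by
  have h : Ideal.Quotient.mk (bIdeal a n d) (brel a n d i) = 0 :=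
    Ideal.Quotient.eq_zero_iff_mem.mpr (Ideal.subset_span ⟨i, rfl⟩)
  unfold brel at h
  rw [map_sub, sub_eq_zero, map_pow, map_sum] at h
  rw [bx, h]
  refine Finset.sum_congr rfl fun j _ => ?_
  rw [map_mul]
  rfl

theorem exists_hom {T : Type*} [CommRing T] (w : A →+* T) (ξ : Fin d → T) (τ : Fin d → Fin r → T)
    (h : ∀ i, ξ i ^ n = ∑ j, τ i j * w (a j)) :
    ∃ v : BB a n d →+* T, (∀ x, v (algebraMap A _ x) = w x) ∧ (∀ i, v (bx a n d i) = ξ i) ∧
      ∀ i j, v (bz a n d i j) = τ i j := by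
  let vals : BVar d r → T := Sum.elim ξ (fun p => τ p.1 p.2)
  have hle : bIdeal a n d ≤ RingHom.ker (eval₂Hom w vals) := by
    unfold bIdeal
    rw [Ideal.span_le]
    rintro _ ⟨i, rfl⟩
    show eval₂Hom w vals (brel a n d i) = 0
    unfold brel
    rw [map_sub, map_pow, map_sum, sub_eq_zero]
    simp only [map_mul, eval₂Hom_X', eval₂Hom_C, vals, Sum.elim_inl, Sum.elim_inr]
    exact h i
  refine ⟨Ideal.Quotient.lift (bIdeal a n d) (eval₂Hom w vals) (fun p hp => RingHom.mem_ker.mp (hle hp)), ?_, ?_, ?_⟩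
  · intro x
    rw [algebraMap_BB, Ideal.Quotient.lift_mk, eval₂Hom_C]
  · intro i
    rw [bx, Ideal.Quotient.lift_mk, eval₂Hom_X']
    rfl
  · intro i j
    rw [bz, Ideal.Quotient.lift_mk, eval₂Hom_X']
    rfl

theorem hom_ext {S : Type*} [Semiring S] (u₁ u₂ : BB a n d →+* S)
    (hA : ∀ x, u₁ (algebraMap A _ x) = u₂ (algebraMap A _ x))
    (hx : ∀ i, u₁ (bx a n d i) = u₂ (bx a n d i))
    (hz : ∀ i j, u₁ (bz a n d i j) = u₂ (bz a n d i j)) : u₁ = u₂ := by
  have h : u₁.comp (Ideal.Quotient.mk (bIdeal a n d)) = u₂.comp (Ideal.Quotient.mk (bIdeal a n d)) := by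
    refine MvPolynomial.ringHom_ext (fun x => hA x) (fun v => ?_)
    rcases v with i | ⟨i, j⟩
    · exact hx i
    · exact hz i j
  refine RingHom.ext fun b => ?_
  obtain ⟨p, rfl⟩ := Ideal.Quotient.mk_surjective b
  exact RingHom.congr_fun h p

noncomputable def bR : MvPolynomial (Fin d) k →ₐ[k] BB a n d := aeval (bx a n d)

@[reducible] noncomputable def algRB : Algebra (MvPolynomial (Fin d) k) (BB a n d) :=
  (bR (k := k) a n d).toRingHom.toAlgebra

attribute [local instance] algRB

theorem towerRB : IsScalarTower k (MvPolynomial (Fin d) k) (BB a n d) :=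
  IsScalarTower.of_algebraMap_eq (fun c => ((bR (k := k) a n d).commutes c).symm)

theorem algebraMap_RB_X (i : Fin d) :
    algebraMap (MvPolynomial (Fin d) k) (BB a n d) (X i) = bx a n d i := by
  show bR (k := k) a n d (X i) = _
  rw [bR, aeval_X]

theorem smooth_lift (ℓ : Fin r) [Algebra.FormallySmooth k (Localization.Away (a ℓ))]
    {T : Type u} [CommRing T] [Algebra (MvPolynomial (Fin d) k) T] (J : Ideal T) (hJ : J ^ 2 = ⊥)
    (u : BB a n d →ₐ[MvPolynomial (Fin d) k] T ⧸ J)
    (hu : IsUnit (u (algebraMap A (BB a n d) (a ℓ)))) :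
    ∃ v : BB a n d →ₐ[MvPolynomial (Fin d) k] T,
      (Ideal.Quotient.mkₐ (MvPolynomial (Fin d) k) J).comp v = u := by
  classical
  have towerB := towerRB (k := k) a n d
  let algkT : Algebra k T :=
    ((algebraMap (MvPolynomial (Fin d) k) T).comp (algebraMap k (MvPolynomial (Fin d) k))).toAlgebra
  have towerT : IsScalarTower k (MvPolynomial (Fin d) k) T :=
    IsScalarTower.of_algebraMap_eq (fun _ => rfl)
  have towerTJ : IsScalarTower k (MvPolynomial (Fin d) k) (T ⧸ J) :=
    IsScalarTower.of_algebraMap_eq (fun _ => rfl)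
  let u₀ : A →ₐ[k] T ⧸ J :=
    { u.toRingHom.comp (algebraMap A (BB a n d)) with
      commutes' := fun c => by
        show u (algebraMap A (BB a n d) (algebraMap k A c)) = algebraMap k (T ⧸ J) c
        rw [← IsScalarTower.algebraMap_apply k A (BB a n d),
          IsScalarTower.algebraMap_apply k (MvPolynomial (Fin d) k) (BB a n d), u.commutes,
          ← IsScalarTower.algebraMap_apply] }
  have hu₀ : ∀ x, u₀ x = u (algebraMap A (BB a n d) x) := fun _ => rfl
  have hu₀u : IsUnit (u₀ (a ℓ)) := hu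
  let wbar : Localization.Away (a ℓ) →ₐ[k] T ⧸ J :=
    IsLocalization.Away.liftAlgHom (A := k) (S := Localization.Away (a ℓ)) (a ℓ) (f := u₀) hu₀u
  have hwbar : ∀ x, wbar (algebraMap A (Localization.Away (a ℓ)) x) = u₀ x := fun x =>
    IsLocalization.Away.lift_eq (a ℓ) hu₀u x
  obtain ⟨w', hw'⟩ := Algebra.FormallySmooth.comp_surjective k (Localization.Away (a ℓ)) J hJ wbar
  obtain ⟨w, hw⟩ : ∃ w : A →ₐ[k] T, ∀ x, Ideal.Quotient.mk J (w x) = u (algebraMap A (BB a n d) x) := by
    refine ⟨w'.comp (IsScalarTower.toAlgHom k A (Localization.Away (a ℓ))), fun x => ?_⟩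
    have h1 := DFunLike.congr_fun hw' (algebraMap A (Localization.Away (a ℓ)) x)
    rw [hwbar, hu₀] at h1
    rw [← h1]
    rfl
  have hsurj := Ideal.Quotient.mk_surjective (I := J)
  choose τ hτ using fun i j => hsurj (u (bz a n d i j))
  have hwu : IsUnit (w (a ℓ)) := by
    rw [← IsNilpotent.isUnit_quotient_mk_iff (I := J) ⟨2, hJ⟩, hw]
    exact hu
  obtain ⟨ω, hω⟩ := hwu
  obtain ⟨ξ, hξ⟩ : ∃ ξ : Fin d → T, ∀ i, ξ i = algebraMap (MvPolynomial (Fin d) k) T (X i) :=
    ⟨_, fun _ => rfl⟩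
  obtain ⟨τ', hτ'⟩ : ∃ τ' : Fin d → Fin r → T, ∀ i j, τ' i j = if j = ℓ then
      ↑ω⁻¹ * (ξ i ^ n - ∑ j' ∈ Finset.univ.erase ℓ, τ i j' * w (a j')) else τ i j :=
    ⟨_, fun _ _ => rfl⟩
  have h1 : ∀ i, τ' i ℓ * w (a ℓ) = ξ i ^ n - ∑ j' ∈ Finset.univ.erase ℓ, τ i j' * w (a j') := by
    intro i
    rw [hτ', if_pos rfl, ← hω, mul_comm, ← mul_assoc, Units.mul_inv, one_mul]
  have h2 : ∀ i, ∑ j ∈ Finset.univ.erase ℓ, τ' i j * w (a j) =
      ∑ j ∈ Finset.univ.erase ℓ, τ i j * w (a j) := by
    intro i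
    refine Finset.sum_congr rfl fun j hj => ?_
    rw [hτ', if_neg (Finset.ne_of_mem_erase hj)]
  have hrel : ∀ i, ξ i ^ n = ∑ j, τ' i j * w (a j) := by
    intro i
    rw [← Finset.add_sum_erase Finset.univ _ (Finset.mem_univ ℓ), h1, h2]
    ring
  obtain ⟨v₀, hvA, hvx, hvz⟩ := exists_hom a n d w.toRingHom ξ τ' hrel
  have hvR : ∀ p : MvPolynomial (Fin d) k, v₀ (algebraMap _ (BB a n d) p) =
      algebraMap (MvPolynomial (Fin d) k) T p := by
    have : v₀.comp (algebraMap (MvPolynomial (Fin d) k) (BB a n d)) =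
        algebraMap (MvPolynomial (Fin d) k) T := by
      refine MvPolynomial.ringHom_ext (fun c => ?_) (fun i => ?_)
      · show v₀ (algebraMap (MvPolynomial (Fin d) k) (BB a n d) (algebraMap k _ c)) =
          algebraMap (MvPolynomial (Fin d) k) T (algebraMap k _ c)
        rw [← IsScalarTower.algebraMap_apply k (MvPolynomial (Fin d) k) (BB a n d),
          IsScalarTower.algebraMap_apply k A (BB a n d), hvA]
        show w (algebraMap k A c) = _
        rw [w.commutes]
        rfl
      · show v₀ (algebraMap (MvPolynomial (Fin d) k) (BB a n d) (X i)) = _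
        rw [algebraMap_RB_X, hvx, hξ]
    exact fun p => RingHom.congr_fun this p
  refine ⟨{ v₀ with commutes' := hvR }, ?_⟩
  apply AlgHom.coe_ringHom_injective
  apply hom_ext a n d
  · intro x
    show Ideal.Quotient.mk J (v₀ (algebraMap A _ x)) = u (algebraMap A _ x)
    rw [hvA]
    exact hw x
  · intro i
    show Ideal.Quotient.mk J (v₀ (bx a n d i)) = u (bx a n d i)
    rw [hvx, hξ, ← algebraMap_RB_X (k := k), u.commutes]
    rfl
  · intro i j
    show Ideal.Quotient.mk J (v₀ (bz a n d i j)) = u (bz a n d i j)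
    rw [hvz]
    by_cases hj : j = ℓ
    · subst hj
      apply hu.mul_right_cancel
      rw [← hw, ← map_mul, h1, map_sub, map_pow, hξ]
      have h3 : Ideal.Quotient.mk J (algebraMap (MvPolynomial (Fin d) k) T (X i)) =
          u (bx a n d i) := by
        rw [← algebraMap_RB_X (k := k), u.commutes]
        rfl
      rw [h3, ← map_pow, brel_eq, map_sum,
        ← Finset.add_sum_erase Finset.univ _ (Finset.mem_univ j), map_sum]
      have h5 : ∀ j' ∈ Finset.univ.erase j, Ideal.Quotient.mk J (τ i j' * w (a j')) =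
          u (bz a n d i j' * algebraMap A (BB a n d) (a j')) := by
        intro j' _
        rw [map_mul, map_mul, hτ, hw]
      rw [Finset.sum_congr rfl h5, add_sub_cancel_right, map_mul, hw]
    · rw [hτ', if_neg hj, hτ]

theorem formallySmooth_away_gen (ℓ : Fin r) [Algebra.FormallySmooth k (Localization.Away (a ℓ))] :
    Algebra.FormallySmooth (MvPolynomial (Fin d) k)
      (Localization.Away (algebraMap A (BB a n d) (a ℓ))) :=
  Helper27.DimZero.formallySmooth_away_of_lift _
    (fun T _ _ J hJ u hu => smooth_lift a n d ℓ J hJ u hu)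

theorem finitePresentation_BB_A : Algebra.FinitePresentation A (BB a n d) := by
  classical
  refine Algebra.FinitePresentation.quotient ?_
  unfold bIdeal
  exact ⟨Finset.univ.image (brel a n d), by rw [Finset.coe_image, Finset.coe_univ, Set.image_univ]⟩

theorem finitePresentation_BB [Algebra.FinitePresentation k A] :
    Algebra.FinitePresentation (MvPolynomial (Fin d) k) (BB a n d) := by
  have h1 := finitePresentation_BB_A a n d
  have h2 : Algebra.FinitePresentation k (BB a n d) := Algebra.FinitePresentation.trans k A _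
  have towerB := towerRB (k := k) a n d
  exact Algebra.FinitePresentation.of_restrict_scalars_finitePresentation k _ _

theorem mem_singularIdeal_of_pow_mem {R₁ B₁ : Type u} [CommRing R₁] [CommRing B₁] [Algebra R₁ B₁]
    (x : B₁) (m : ℕ) (h : x ^ m ∈ Smoothing.singularIdeal R₁ B₁) :
    x ∈ Smoothing.singularIdeal R₁ B₁ := by
  unfold Smoothing.singularIdeal at h ⊢
  rw [PrimeSpectrum.mem_vanishingIdeal] at h ⊢
  intro P hP
  exact P.2.mem_of_pow_mem m (h P hP)

theorem map_le_singularIdeal [Algebra.FinitePresentation k A]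
    (ha : ∀ ℓ, Algebra.FormallySmooth k (Localization.Away (a ℓ))) :
    (Ideal.span (Set.range a)).map (algebraMap A (BB a n d)) ≤
      Smoothing.singularIdeal (MvPolynomial (Fin d) k) (BB a n d) := by
  have hfp := finitePresentation_BB (k := k) a n d
  rw [Ideal.map_span, Ideal.span_le]
  rintro _ ⟨_, ⟨ℓ, rfl⟩, rfl⟩
  have := ha ℓ
  exact Helper27.DimZero.mem_singularIdeal_of_formallySmooth_away _
    (formallySmooth_away_gen a n d ℓ)

theorem bx_mem_singularIdeal [Algebra.FinitePresentation k A]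
    (ha : ∀ ℓ, Algebra.FormallySmooth k (Localization.Away (a ℓ))) (i : Fin d) :
    bx a n d i ∈ Smoothing.singularIdeal (MvPolynomial (Fin d) k) (BB a n d) := by
  apply mem_singularIdeal_of_pow_mem _ n
  rw [brel_eq]
  refine Ideal.sum_mem _ fun j _ => Ideal.mul_mem_left _ _ ?_
  exact map_le_singularIdeal (k := k) a n d ha
    (Ideal.mem_map_of_mem _ (Ideal.subset_span ⟨j, rfl⟩))

end BAlg

end Helper27.SepRes
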