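import Mathlib
import Groth.Agent.Lib.Helper27.SepResG
import Groth.Prelude.Def_Smoothing

set_option autoImplicit false
universe u

namespace Helper27.Insep

open MvPolynomial TensorProduct Helper27.SepRes Smoothing

attribute [local instance] algRB

set_option maxHeartbeats 2000000 in
set_option synthInstance.maxHeartbeats 400000 in
theorem exists_factor {k A : Type u} [Field k] [CommRing A] [Algebra k A]
    [Algebra.FinitePresentation k A] {r : ℕ} (a : Fin r → A) (N d : ℕ)
    {Pb DD S T : Type u} [CommRing Pb] [CommRing DD] [CommRing S] [CommRing T] [Algebra k Pb]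
    [Algebra Pb DD] [Algebra k DD] [IsScalarTower k Pb DD] [Algebra Pb S] [Algebra S T]
    (hind : IndSmooth Pb DD) (θ : DD →+* T)
    (hθ : ∀ p : Pb, θ (algebraMap Pb DD p) = algebraMap S T (algebraMap Pb S p))
    (w : A →ₐ[k] DD) (πb : Fin d → Pb) (τ : Fin d → S) (lam0 : Fin d → Fin r → DD)
    (hrel : ∀ i, (algebraMap Pb DD (πb i)) ^ N = ∑ j, lam0 i j * w (a j)) :
    ∃ (B' : Type u) (_ : CommRing B') (_ : Algebra S B') (_ : Algebra.Smooth S B')
      (β : BB a N d →+* B') (h : B' →ₐ[S] T),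
      (∀ x, h (β (algebraMap A _ x)) = θ (w x)) ∧
      (∀ i, β (bx a N d i) = algebraMap S B' (algebraMap Pb S (πb i) * τ i)) ∧
      (∀ i j, h (β (bz a N d i j)) = algebraMap S T (τ i) ^ N * θ (lam0 i j)) ∧
      (∀ c : k, β (algebraMap A _ (algebraMap k A c)) =
        algebraMap S B' (algebraMap Pb S (algebraMap k Pb c))) := by
  classical
  have hfpB := finitePresentation_BB (k := k) a N d
  have towerB := towerRB (k := k) a N d
  let alg1 : Algebra (MvPolynomial (Fin d) k) Pb :=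
    (aeval πb : MvPolynomial (Fin d) k →ₐ[k] Pb).toRingHom.toAlgebra
  have halg1X : ∀ i, algebraMap (MvPolynomial (Fin d) k) Pb (X i) = πb i := fun i => by
    show (aeval πb : MvPolynomial (Fin d) k →ₐ[k] Pb) (X i) = πb i
    rw [aeval_X]
  have tower1 : IsScalarTower k (MvPolynomial (Fin d) k) Pb :=
    IsScalarTower.of_algebraMap_eq (fun c =>
      ((aeval πb : MvPolynomial (Fin d) k →ₐ[k] Pb).commutes c).symm)
  let alg2 : Algebra (MvPolynomial (Fin d) k) DD :=
    ((algebraMap Pb DD).comp (algebraMap (MvPolynomial (Fin d) k) Pb)).toAlgebra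
  have tower2 : IsScalarTower (MvPolynomial (Fin d) k) Pb DD :=
    IsScalarTower.of_algebraMap_eq (fun _ => rfl)
  obtain ⟨β₀, hβ₀A, hβ₀x, hβ₀z⟩ := exists_hom a N d w.toRingHom
    (fun i => algebraMap Pb DD (πb i)) lam0 hrel
  have hβ₀R : ∀ p : MvPolynomial (Fin d) k, β₀ (algebraMap _ (BB a N d) p) =
      algebraMap (MvPolynomial (Fin d) k) DD p := by
    have : β₀.comp (algebraMap (MvPolynomial (Fin d) k) (BB a N d)) =
        algebraMap (MvPolynomial (Fin d) k) DD := by
      refine MvPolynomial.ringHom_ext (fun c => ?_) (fun i => ?_)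
      · show β₀ (algebraMap (MvPolynomial (Fin d) k) (BB a N d) (algebraMap k _ c)) =
          algebraMap (MvPolynomial (Fin d) k) DD (algebraMap k _ c)
        rw [← IsScalarTower.algebraMap_apply k (MvPolynomial (Fin d) k) (BB a N d),
          IsScalarTower.algebraMap_apply k A (BB a N d), hβ₀A]
        show w (algebraMap k A c) = algebraMap Pb DD (algebraMap (MvPolynomial (Fin d) k) Pb
          (algebraMap k _ c))
        rw [w.commutes, ← IsScalarTower.algebraMap_apply k (MvPolynomial (Fin d) k) Pb,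
          ← IsScalarTower.algebraMap_apply k Pb DD]
      · show β₀ (algebraMap (MvPolynomial (Fin d) k) (BB a N d) (X i)) =
          algebraMap Pb DD (algebraMap (MvPolynomial (Fin d) k) Pb (X i))
        rw [algebraMap_RB_X, hβ₀x, halg1X]
    exact fun p => RingHom.congr_fun this p
  let β₀alg : BB a N d →ₐ[MvPolynomial (Fin d) k] DD := { β₀ with commutes' := hβ₀R }
  let f' : Pb ⊗[MvPolynomial (Fin d) k] BB a N d →ₐ[Pb] DD :=
    Algebra.TensorProduct.lift (Algebra.ofId Pb DD) β₀alg (fun _ _ => Commute.all _ _)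
  have hf' : ∀ b : BB a N d, f' (1 ⊗ₜ b) = β₀ b := by
    intro b
    show Algebra.TensorProduct.lift (Algebra.ofId Pb DD) β₀alg _ (1 ⊗ₜ b) = _
    rw [Algebra.TensorProduct.lift_tmul, map_one, one_mul]
    rfl
  obtain ⟨B'', _, _, hsm, g'', h'', hgh⟩ := hind (Pb ⊗[MvPolynomial (Fin d) k] BB a N d)
    inferInstance f'
  have hgh' : ∀ y, h'' (g'' y) = f' y := fun y => DFunLike.congr_fun hgh y
  let alg3 : Algebra Pb T := ((algebraMap S T).comp (algebraMap Pb S)).toAlgebra
  have tower3 : IsScalarTower Pb S T := IsScalarTower.of_algebraMap_eq (fun _ => rfl)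
  let θalg : DD →ₐ[Pb] T := { θ with commutes' := hθ }
  let w' : A →+* S ⊗[Pb] B'' :=
    (Algebra.TensorProduct.includeRight : B'' →ₐ[Pb] S ⊗[Pb] B'').toRingHom.comp
      (g''.toRingHom.comp ((Algebra.TensorProduct.includeRight :
        BB a N d →ₐ[MvPolynomial (Fin d) k] Pb ⊗[MvPolynomial (Fin d) k] BB a N d).toRingHom.comp
        (algebraMap A (BB a N d))))
  have hw' : ∀ x, w' x = (1 : S) ⊗ₜ[Pb] g'' ((1 : Pb) ⊗ₜ[MvPolynomial (Fin d) k] algebraMap A (BB a N d) x) := fun x => rfl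
  have hsmS : Algebra.Smooth S (S ⊗[Pb] B'') := inferInstance
  have hrel' : ∀ i, (algebraMap S (S ⊗[Pb] B'') (algebraMap Pb S (πb i) * τ i)) ^ N =
      ∑ j, ((τ i ^ N) ⊗ₜ[Pb] g'' ((1 : Pb) ⊗ₜ[MvPolynomial (Fin d) k] bz a N d i j)) * w' (a j) := by
    intro i
    have h1 : algebraMap Pb B'' (πb i ^ N) =
        ∑ j, g'' ((1 : Pb) ⊗ₜ[MvPolynomial (Fin d) k] bz a N d i j) * g'' ((1 : Pb) ⊗ₜ[MvPolynomial (Fin d) k] algebraMap A (BB a N d) (a j)) := by
      have h2 : ((πb i ^ N) ⊗ₜ[MvPolynomial (Fin d) k] (1 : BB a N d) :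
          Pb ⊗[MvPolynomial (Fin d) k] BB a N d) =
          ∑ j, ((1 : Pb) ⊗ₜ[MvPolynomial (Fin d) k] bz a N d i j) * ((1 : Pb) ⊗ₜ[MvPolynomial (Fin d) k] algebraMap A (BB a N d) (a j)) := by
        rw [← halg1X, ← map_pow, ← mul_one (algebraMap (MvPolynomial (Fin d) k) Pb (X i ^ N)),
          ← Algebra.smul_def, TensorProduct.smul_tmul, Algebra.smul_def, mul_one, map_pow,
          algebraMap_RB_X, brel_eq, TensorProduct.tmul_sum]
        refine Finset.sum_congr rfl (fun j _ => ?_)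
        rw [Algebra.TensorProduct.tmul_mul_tmul, one_mul]
      have h0 : algebraMap Pb B'' (πb i ^ N) =
          g'' ((πb i ^ N) ⊗ₜ[MvPolynomial (Fin d) k] (1 : BB a N d)) := by
        rw [← g''.commutes]
        rfl
      rw [h0, h2, map_sum]
      refine Finset.sum_congr rfl (fun j _ => ?_)
      rw [map_mul]
    rw [← map_pow, mul_pow, ← map_pow, Algebra.TensorProduct.algebraMap_apply,
      Algebra.algebraMap_self, RingHom.id_apply, ← Algebra.smul_def,
      TensorProduct.smul_tmul, Algebra.smul_def, mul_one, h1, TensorProduct.tmul_sum]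
    refine Finset.sum_congr rfl (fun j _ => ?_)
    rw [hw', Algebra.TensorProduct.tmul_mul_tmul, mul_one]
  obtain ⟨β, hβA, hβx, hβz⟩ := exists_hom a N d w'
    (fun i => algebraMap S (S ⊗[Pb] B'') (algebraMap Pb S (πb i) * τ i))
    (fun i j => (τ i ^ N) ⊗ₜ[Pb] g'' ((1 : Pb) ⊗ₜ[MvPolynomial (Fin d) k] bz a N d i j)) hrel'
  let h : S ⊗[Pb] B'' →ₐ[S] T :=
    Algebra.TensorProduct.lift (Algebra.ofId S T) (θalg.comp h'') (fun _ _ => Commute.all _ _)
  have hh : ∀ (s : S) (b : B''), h (s ⊗ₜ b) = algebraMap S T s * θ (h'' b) := by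
    intro s b
    show Algebra.TensorProduct.lift (Algebra.ofId S T) (θalg.comp h'') _ (s ⊗ₜ b) = _
    rw [Algebra.TensorProduct.lift_tmul]
    rfl
  refine ⟨S ⊗[Pb] B'', inferInstance, inferInstance, hsmS, β, h, ?_, hβx, ?_, ?_⟩
  · intro x
    rw [hβA, hw', hh, map_one, one_mul, hgh', hf', hβ₀A]
    rfl
  · intro i j
    rw [hβz, hh, hgh', hf', hβ₀z, map_pow]
  · intro c
    rw [hβA, hw', ← IsScalarTower.algebraMap_apply k A (BB a N d),
      IsScalarTower.algebraMap_apply k (MvPolynomial (Fin d) k) (BB a N d)]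
    have h2 : ((1 : Pb) ⊗ₜ[MvPolynomial (Fin d) k]
        algebraMap (MvPolynomial (Fin d) k) (BB a N d) (algebraMap k _ c) :
          Pb ⊗[MvPolynomial (Fin d) k] BB a N d) =
        (algebraMap k Pb c) ⊗ₜ[MvPolynomial (Fin d) k] (1 : BB a N d) := by
      rw [IsScalarTower.algebraMap_apply k (MvPolynomial (Fin d) k) Pb,
        ← mul_one (algebraMap (MvPolynomial (Fin d) k) Pb (algebraMap k _ c)),
        ← Algebra.smul_def, TensorProduct.smul_tmul, Algebra.smul_def, mul_one]
    have h0 : g'' ((algebraMap k Pb c) ⊗ₜ[MvPolynomial (Fin d) k] (1 : BB a N d)) =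
        algebraMap Pb B'' (algebraMap k Pb c) := by
      rw [← g''.commutes]
      rfl
    rw [h2, h0, Algebra.TensorProduct.algebraMap_apply, Algebra.algebraMap_self, RingHom.id_apply,
      ← mul_one (algebraMap Pb S (algebraMap k Pb c)), ← Algebra.smul_def,
      TensorProduct.smul_tmul, Algebra.smul_def, mul_one]

end Helper27.Insep
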