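import Mathlib
import Groth.Agent.Lib.Helper27.SepResF

set_option autoImplicit false
universe u

namespace Helper27.Insep

open IsLocalRing TensorProduct Smoothing

theorem flat_of_comp (R S T : Type*) [CommRing R] [CommRing S] [CommRing T] [Algebra R S]
    [Algebra S T] [Algebra R T] [IsScalarTower R S T] [Module.FaithfullyFlat S T]
    [Module.Flat R T] : Module.Flat R S := by
  rw [Module.Flat.iff_lTensor_injective']
  intro I
  have h1 : Function.Injective (LinearMap.lTensor T I.subtype) :=
    Module.Flat.lTensor_preserves_injective_linearMap _ Subtype.val_injective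
  have h2 : Function.Injective (I.subtype.baseChange S) := by
    apply (Module.FaithfullyFlat.lTensor_injective_iff_injective S T (I.subtype.baseChange S)).mp
    have key : ∀ x : T ⊗[S] (S ⊗[R] I),
        TensorProduct.AlgebraTensorModule.cancelBaseChange R S T T R
          ((I.subtype.baseChange S).lTensor T x) =
        LinearMap.lTensor T I.subtype
          (TensorProduct.AlgebraTensorModule.cancelBaseChange R S T T I x) := by
      intro x
      induction x using TensorProduct.induction_on with
      | zero => simp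
      | tmul t y =>
        induction y using TensorProduct.induction_on with
        | zero => simp
        | tmul s i => simp
        | add a b ha hb =>
          rw [TensorProduct.tmul_add, map_add, map_add, map_add, map_add, ha, hb]
      | add a b ha hb => rw [map_add, map_add, map_add, map_add, ha, hb]
    intro x y hxy
    have h3 := congrArg (TensorProduct.AlgebraTensorModule.cancelBaseChange R S T T R) hxy
    rw [key, key] at h3
    exact (TensorProduct.AlgebraTensorModule.cancelBaseChange R S T T I).injective (h1 h3)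
  exact h2

set_option synthInstance.maxHeartbeats 400000 in
set_option maxHeartbeats 2000000 in
theorem indSmooth_DD {k Pb Λb K : Type u} [Field k] [CommRing Pb] [IsLocalRing Pb] [Algebra k Pb]
    [CommRing Λb] [IsLocalRing Λb] [Algebra k Λb] [Algebra Pb Λb] [IsScalarTower k Pb Λb]
    [Module.Flat Pb Λb] (hnil : IsNilpotent (maximalIdeal Pb))
    (DD : Subalgebra k Λb) [IsLocalRing DD] [Algebra Pb DD] [IsScalarTower Pb DD Λb]
    [IsScalarTower k Pb DD] [Module.Flat DD Λb] [Algebra.EssFiniteType k DD]
    (hmaxmap : (maximalIdeal DD).map (algebraMap DD Λb) =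
      (maximalIdeal Pb).map (algebraMap Pb Λb))
    [Field K] [Algebra k K] (r : Λb →+* K)
    (hrk : ∀ c : k, r (algebraMap k Λb c) = algebraMap k K c)
    (F : IntermediateField k K) (hrF : ∀ a : DD, r a ∈ F) (hFr : ∀ f ∈ F, ∃ a : DD, r a = f)
    (hmaxiff : ∀ a : DD, a ∈ maximalIdeal DD ↔ r a = 0)
    {t : ℕ} (z : Fin t → Pb) (hz : ∀ i, r (algebraMap Pb Λb (z i)) ∈ F)
    (hspan : Submodule.span F (Set.range fun i =>
      KaehlerDifferential.D k F ⟨r (algebraMap Pb Λb (z i)), hz i⟩) = ⊤) :
    IndSmooth Pb DD := by
  classical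
  have hval : ∀ a : DD, algebraMap DD Λb a = (a : Λb) := fun a => rfl
  have hloc : IsLocalHom (algebraMap DD Λb) := by
    constructor
    intro a ha
    by_contra hna
    have h1 : a ∈ maximalIdeal DD := (IsLocalRing.mem_maximalIdeal a).mpr hna
    have h2 := (hmaxiff a).mp h1
    have h3 : IsUnit (r (algebraMap DD Λb a)) := ha.map r
    rw [hval, h2] at h3
    exact not_isUnit_zero h3
  have hff : Module.FaithfullyFlat DD Λb := Module.FaithfullyFlat.of_flat_of_isLocalHom
  have hflatPD : Module.Flat Pb DD := flat_of_comp Pb DD Λb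
  have hmapPD : (maximalIdeal Pb).map (algebraMap Pb DD) = maximalIdeal DD := by
    apply Ideal.map_injective_of_faithfullyFlat (A := DD) (B := Λb)
    rw [Ideal.map_map, ← IsScalarTower.algebraMap_eq, hmaxmap]
  have hmax : ((maximalIdeal Pb).map (algebraMap Pb DD)).IsMaximal := by
    rw [hmapPD]
    infer_instance
  have hq : IndSmooth (Pb ⧸ maximalIdeal Pb) (DD ⧸ (maximalIdeal Pb).map (algebraMap Pb DD)) := by
    let fF : Field (Pb ⧸ maximalIdeal Pb) := Ideal.Quotient.field _
    let fL : Field (DD ⧸ (maximalIdeal Pb).map (algebraMap Pb DD)) := Ideal.Quotient.field _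
    let rF : DD →+* F := (r.comp (algebraMap DD Λb)).codRestrict F hrF
    have hrFval : ∀ a : DD, ((rF a : F) : K) = r a := fun a => rfl
    let rL : (DD ⧸ (maximalIdeal Pb).map (algebraMap Pb DD)) →+* F :=
      Ideal.Quotient.lift _ rF (fun a ha => by
        rw [hmapPD] at ha
        exact Subtype.ext ((hmaxiff a).mp ha))
    have hrLmk : ∀ a : DD, rL (Ideal.Quotient.mk _ a) = rF a := fun a => Ideal.Quotient.lift_mk _ _ _
    have hrLbij : Function.Bijective rL := by
      refine ⟨rL.injective, fun f => ?_⟩
      obtain ⟨a, ha⟩ := hFr f f.2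
      exact ⟨Ideal.Quotient.mk _ a, by rw [hrLmk]; exact Subtype.ext ha⟩
    let e : (DD ⧸ (maximalIdeal Pb).map (algebraMap Pb DD)) ≃+* F := RingEquiv.ofBijective rL hrLbij
    have hemk : ∀ a : DD, e (Ideal.Quotient.mk _ a) = rF a := hrLmk
    let algFL : Algebra F (DD ⧸ (maximalIdeal Pb).map (algebraMap Pb DD)) :=
      e.symm.toRingHom.toAlgebra
    have halgFL : ∀ f : F, algebraMap F (DD ⧸ (maximalIdeal Pb).map (algebraMap Pb DD)) f =
        e.symm f := fun f => rfl
    have towerkFL : IsScalarTower k F (DD ⧸ (maximalIdeal Pb).map (algebraMap Pb DD)) :=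
      IsScalarTower.of_algebraMap_eq (fun c => by
        rw [halgFL, RingEquiv.eq_symm_apply]
        show e (Ideal.Quotient.mk _ (algebraMap k DD c)) = _
        rw [hemk]
        apply Subtype.ext
        rw [hrFval]
        exact hrk c)
    have towerkκL : IsScalarTower k (Pb ⧸ maximalIdeal Pb)
        (DD ⧸ (maximalIdeal Pb).map (algebraMap Pb DD)) :=
      IsScalarTower.of_algebraMap_eq (fun c => by
        show Ideal.Quotient.mk _ (algebraMap k DD c) =
          Ideal.Quotient.mk _ (algebraMap Pb DD (algebraMap k Pb c))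
        rw [← IsScalarTower.algebraMap_apply])
    have hcomm : SMulCommClass (Pb ⧸ maximalIdeal Pb) F
        (DD ⧸ (maximalIdeal Pb).map (algebraMap Pb DD)) :=
      ⟨fun a b x => by
        simp only [Algebra.smul_def]
        exact mul_left_comm _ _ _⟩
    have hsurj : Function.Surjective (KaehlerDifferential.map k (Pb ⧸ maximalIdeal Pb) F
        (DD ⧸ (maximalIdeal Pb).map (algebraMap Pb DD))) :=
      KaehlerDifferential.map_surjective_of_surjective k _ F _ e.symm.surjective
    have hzero : KaehlerDifferential.map k (Pb ⧸ maximalIdeal Pb) F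
        (DD ⧸ (maximalIdeal Pb).map (algebraMap Pb DD)) = 0 := by
      refine LinearMap.ext_on_range hspan (fun i => ?_)
      rw [KaehlerDifferential.map_D, LinearMap.zero_apply]
      have h1 : algebraMap F (DD ⧸ (maximalIdeal Pb).map (algebraMap Pb DD))
          ⟨r (algebraMap Pb Λb (z i)), hz i⟩ =
          algebraMap (Pb ⧸ maximalIdeal Pb) (DD ⧸ (maximalIdeal Pb).map (algebraMap Pb DD))
            (Ideal.Quotient.mk _ (z i)) := by
        rw [halgFL, RingEquiv.symm_apply_eq]
        show _ = e (Ideal.Quotient.mk _ (algebraMap Pb DD (z i)))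
        rw [hemk]
        apply Subtype.ext
        rw [hrFval]
        show r (algebraMap Pb Λb (z i)) = r (algebraMap DD Λb (algebraMap Pb DD (z i)))
        rw [← IsScalarTower.algebraMap_apply]
      rw [h1]
      exact Derivation.map_algebraMap _ _
    have hunr : Algebra.FormallyUnramified (Pb ⧸ maximalIdeal Pb)
        (DD ⧸ (maximalIdeal Pb).map (algebraMap Pb DD)) := by
      refine ⟨⟨fun x y => ?_⟩⟩
      obtain ⟨x', rfl⟩ := hsurj x
      obtain ⟨y', rfl⟩ := hsurj y
      rw [hzero]
      rfl
    have hess : Algebra.EssFiniteType (Pb ⧸ maximalIdeal Pb)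
        (DD ⧸ (maximalIdeal Pb).map (algebraMap Pb DD)) :=
      Algebra.EssFiniteType.of_comp k _ _
    have het : Algebra.FormallyEtale (Pb ⧸ maximalIdeal Pb)
        (DD ⧸ (maximalIdeal Pb).map (algebraMap Pb DD)) :=
      Algebra.FormallyEtale.of_formallyUnramified_of_field _ _
    have hfs : Algebra.FormallySmooth (Pb ⧸ maximalIdeal Pb)
        (DD ⧸ (maximalIdeal Pb).map (algebraMap Pb DD)) := inferInstance
    exact Helper27.SepRes.indSmooth_of_formallySmooth
  exact Groth.Agent.S2022.result (maximalIdeal Pb) hnil hq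

end Helper27.Insep
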