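import Mathlib
import Groth.Agent.Lib.Helper27.InsepD
import Groth.Agent.Lib.Helper27.InsepH
import Groth.Agent.Lib.Helper27.InsepI
import Groth.Agent.Lib.Helper27.InsepJ

set_option autoImplicit false
universe u

namespace Helper27.Insep

open IsLocalRing TensorProduct Smoothing Helper27.SepRes

theorem flat_quot_of_eq {S Λ : Type u} [CommRing S] [CommRing Λ] [Algebra S Λ] [Module.Flat S Λ]
    (J : Ideal S) (I : Ideal Λ) (h : J.map (algebraMap S Λ) = I)
    [inst : Algebra (S ⧸ J) (Λ ⧸ I)]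
    (halg : ∀ s : S, algebraMap (S ⧸ J) (Λ ⧸ I) (Ideal.Quotient.mk J s) =
      Ideal.Quotient.mk I (algebraMap S Λ s)) :
    Module.Flat (S ⧸ J) (Λ ⧸ I) := by
  subst h
  have h1 : inst = Ideal.Quotient.algebraQuotientMapQuotient := by
    apply Algebra.algebra_ext
    intro x
    obtain ⟨s, rfl⟩ := Ideal.Quotient.mk_surjective x
    rw [halg]
    rfl
  subst h1
  exact Groth.Agent.Lib.Helper27.LiftOnce.flat_quotient J

theorem isLocalRing_quot_pow (R : Type u) [CommRing R] [IsLocalRing R] (n : ℕ) (hn : n ≠ 0) :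
    IsLocalRing (R ⧸ maximalIdeal R ^ n) := by
  have hne : maximalIdeal R ^ n ≠ ⊤ := fun h =>
    (IsLocalRing.maximalIdeal.isMaximal R).ne_top (top_le_iff.mp (h ▸ Ideal.pow_le_self hn))
  have : Nontrivial (R ⧸ maximalIdeal R ^ n) := Ideal.Quotient.nontrivial_iff.mpr hne
  exact IsLocalRing.of_surjective' (Ideal.Quotient.mk _) Ideal.Quotient.mk_surjective

theorem maximalIdeal_quot_pow (R : Type u) [CommRing R] [IsLocalRing R] (n : ℕ) (hn : n ≠ 0)
    [IsLocalRing (R ⧸ maximalIdeal R ^ n)] :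
    maximalIdeal (R ⧸ maximalIdeal R ^ n) =
      (maximalIdeal R).map (Ideal.Quotient.mk (maximalIdeal R ^ n)) :=
  (IsLocalRing.eq_maximalIdeal (Ideal.IsMaximal.map_of_surjective_of_ker_le
    Ideal.Quotient.mk_surjective (by rw [Ideal.mk_ker]; exact Ideal.pow_le_self hn))).symm

theorem isNilpotent_maximalIdeal_quot_pow (R : Type u) [CommRing R] [IsLocalRing R] (n : ℕ)
    (hn : n ≠ 0) [IsLocalRing (R ⧸ maximalIdeal R ^ n)] :
    IsNilpotent (maximalIdeal (R ⧸ maximalIdeal R ^ n)) := by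
  refine ⟨n, ?_⟩
  rw [maximalIdeal_quot_pow R n hn, ← Ideal.map_pow, Ideal.map_quotient_self]
  rfl

theorem pow_le_span_range_pow {S : Type*} [CommRing S] {d : ℕ} (ϖ : Fin d → S) (e n : ℕ)
    (hne : d * e + 1 ≤ n) :
    Ideal.span (Set.range ϖ) ^ n ≤ Ideal.span (Set.range fun i => ϖ i ^ e) := by
  classical
  have h1 := pow_le_span_pow ϖ e (Finset.univ : Finset (Fin d))
  rw [Finset.coe_univ, Set.image_univ, Set.image_univ, Finset.card_univ, Fintype.card_fin] at h1
  exact (Ideal.pow_le_pow_right hne).trans h1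

section

variable {k A P₀ Λ : Type u} [Field k] [CommRing A] [Algebra k A] [Algebra.FinitePresentation k A]
  [CommRing P₀] [Algebra k P₀] [CommRing Λ] [Algebra k Λ]
  (φy : P₀ →ₐ[k] Λ) (𝔮 : Ideal Λ) [𝔮.IsPrime] (n : ℕ)

local notation "Lq" => Localization.AtPrime 𝔮
local notation "Pp" => Localization.AtPrime (Ideal.comap (AlgHom.toRingHom φy) 𝔮)
local notation "Λb" => Lq ⧸ maximalIdeal Lq ^ n
local notation "Pb" => Pp ⧸ maximalIdeal Pp ^ n

set_option maxHeartbeats 4000000 in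
set_option synthInstance.maxHeartbeats 400000 in
theorem quot_factor (φ : A →ₐ[k] Λ)
    {d : ℕ} (π : Fin d → P₀) (hπq : ∀ i, φy (π i) ∈ 𝔮)
    (hgen : Ideal.span (Set.range fun i => algebraMap Λ Lq (φy (π i))) = maximalIdeal Lq)
    (hloc : ∀ f, φy f ∈ 𝔮 → ∃ s, φy s ∉ 𝔮 ∧ s * f ∈ Ideal.span (Set.range π))
    (hflat : letI := ((algebraMap Λ Lq).comp φy.toRingHom).toAlgebra
      Module.Flat P₀ Lq)
    (e : ℕ) (hn : 0 < n) (hne : d * e + 1 ≤ n)
    (DD : Subalgebra k Λb) [IsLocalRing DD]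
    (hφyDD : ∀ f : P₀, Ideal.Quotient.mk (maximalIdeal Lq ^ n) (algebraMap Λ Lq (φy f)) ∈ DD)
    (hφDD : ∀ x : A, Ideal.Quotient.mk (maximalIdeal Lq ^ n) (algebraMap Λ Lq (φ x)) ∈ DD)
    [Module.Flat DD Λb]
    (hmaxmap : (maximalIdeal DD).map (algebraMap DD Λb) =
      (maximalIdeal Lq).map (Ideal.Quotient.mk (maximalIdeal Lq ^ n)))
    [Algebra.EssFiniteType k DD]
    (F : IntermediateField k (ResidueField Lq))
    (hmaxiff : ∀ a : DD, a ∈ maximalIdeal DD ↔ resMap Lq n hn a = 0)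
    (hrF : ∀ a : DD, resMap Lq n hn a ∈ F)
    (hFr : ∀ f : ResidueField Lq, f ∈ F → ∃ a : DD, resMap Lq n hn a = f)
    {t : ℕ} (z : Fin t → P₀)
    (hz : ∀ i, residue Lq (algebraMap Λ Lq (φy (z i))) ∈ F)
    (hspan : Submodule.span F (Set.range fun i => KaehlerDifferential.D k F ⟨_, hz i⟩) = ⊤)
    {r : ℕ} (a : Fin r → A) (N : ℕ) (lam0 : Fin d → Fin r → DD)
    (hrel0 : ∀ i, (Ideal.Quotient.mk (maximalIdeal Lq ^ n) (algebraMap Λ Lq (φy (π i)))) ^ N =
      ∑ j, (lam0 i j : Λb) * Ideal.Quotient.mk (maximalIdeal Lq ^ n) (algebraMap Λ Lq (φ (a j))))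
    {S T : Type u} [CommRing S] [CommRing T] [Algebra S T] (σ : P₀ →+* S) (τ : Fin d → S)
    (ω : Lq →+* T)
    (hσunit : ∀ s : P₀, φy s ∉ 𝔮 → IsUnit (σ s))
    (hσπ : ∀ i, σ (π i) ^ e = 0)
    (hcompat : ∀ f : P₀, algebraMap S T (σ f) = ω (algebraMap Λ Lq (φy f))) :
    ∃ (B' : Type u) (_ : CommRing B') (_ : Algebra S B') (_ : Algebra.Smooth S B')
      (β : BB a N d →+* B') (h : B' →ₐ[S] T),
      (∀ x, h (β (algebraMap A _ x)) = ω (algebraMap Λ Lq (φ x))) ∧
      (∀ i, β (bx a N d i) = algebraMap S B' (σ (π i) * τ i)) ∧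
      (∀ i j, ∀ l : Lq, Ideal.Quotient.mk (maximalIdeal Lq ^ n) l = (lam0 i j : Λb) →
        h (β (bz a N d i j)) = algebraMap S T (τ i) ^ N * ω l) ∧
      (∀ c : k, β (algebraMap A _ (algebraMap k A c)) =
        algebraMap S B' (σ (algebraMap k P₀ c))) := by
  classical
  have hn0 : n ≠ 0 := hn.ne'
  have hmem𝔭 : ∀ f, f ∈ Ideal.comap (AlgHom.toRingHom φy) 𝔮 ↔ φy f ∈ 𝔮 := fun f => Iff.rfl
  let algPL : Algebra P₀ Lq := ((algebraMap Λ Lq).comp φy.toRingHom).toAlgebra
  have halgPL : ∀ f : P₀, algebraMap P₀ Lq f = algebraMap Λ Lq (φy f) := fun f => rfl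
  have hflat' : Module.Flat P₀ Lq := hflat
  let algPpL : Algebra Pp Lq :=
    (Localization.localRingHom (Ideal.comap (AlgHom.toRingHom φy) 𝔮) 𝔮 φy.toRingHom rfl).toAlgebra
  have halg : ∀ f : P₀, algebraMap Pp Lq (algebraMap P₀ Pp f) = algebraMap Λ Lq (φy f) :=
    fun f => Localization.localRingHom_to_map _ 𝔮 φy.toRingHom rfl f
  have tower : IsScalarTower P₀ Pp Lq :=
    IsScalarTower.of_algebraMap_eq (fun f => (halg f).symm)
  have hflatPp : Module.Flat Pp Lq :=
    (Module.flat_iff_of_isLocalization Pp (Ideal.comap (AlgHom.toRingHom φy) 𝔮).primeCompl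
      Lq).mpr hflat'
  have hmaxPp0 : maximalIdeal Pp =
      (Ideal.comap (AlgHom.toRingHom φy) 𝔮).map (algebraMap P₀ Pp) :=
    Localization.AtPrime.map_eq_maximalIdeal.symm
  have hmapmax : (maximalIdeal Pp).map (algebraMap Pp Lq) = maximalIdeal Lq := by
    rw [hmaxPp0, Ideal.map_map, ← IsScalarTower.algebraMap_eq]
    refine le_antisymm ?_ ?_
    · rw [Ideal.map_le_iff_le_comap]
      intro f hf
      rw [Ideal.mem_comap, halgPL]
      exact (IsLocalization.AtPrime.to_map_mem_maximal_iff Lq 𝔮 _).mpr ((hmem𝔭 f).mp hf)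
    · rw [← hgen, Ideal.span_le]
      rintro _ ⟨i, rfl⟩
      exact Ideal.mem_map_of_mem (algebraMap P₀ Lq) ((hmem𝔭 _).mpr (hπq i))
  have hlocPb : IsLocalRing Pb := isLocalRing_quot_pow _ n hn0
  have hlocΛb : IsLocalRing Λb := isLocalRing_quot_pow _ n hn0
  have hle : maximalIdeal Pp ^ n ≤ (maximalIdeal Lq ^ n).comap (algebraMap Pp Lq) := by
    rw [← Ideal.map_le_iff_le_comap, Ideal.map_pow, hmapmax]
  let algPbΛb : Algebra Pb Λb :=
    (Ideal.quotientMap (maximalIdeal Lq ^ n) (algebraMap Pp Lq) hle).toAlgebra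
  have halgPbΛb : ∀ p : Pp, algebraMap Pb Λb (Ideal.Quotient.mk _ p) =
      Ideal.Quotient.mk _ (algebraMap Pp Lq p) := fun p => rfl
  have hflatPb : Module.Flat Pb Λb :=
    flat_quot_of_eq _ _ (by rw [Ideal.map_pow, hmapmax]) halgPbΛb
  have hPD : ∀ x : Pb, algebraMap Pb Λb x ∈ DD := by
    intro x
    obtain ⟨p, rfl⟩ := Ideal.Quotient.mk_surjective x
    obtain ⟨f, s, rfl⟩ := IsLocalization.exists_mk'_eq
      (Ideal.comap (AlgHom.toRingHom φy) 𝔮).primeCompl p
    rw [halgPbΛb]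
    have hs : φy (s : P₀) ∉ 𝔮 := s.2
    have hsu : IsUnit (⟨_, hφyDD s⟩ : DD) := by
      by_contra hnu
      have h1 : (⟨_, hφyDD s⟩ : DD) ∈ maximalIdeal DD := (IsLocalRing.mem_maximalIdeal _).mpr hnu
      have h2 := (hmaxiff _).mp h1
      have h2' : residue Lq (algebraMap Λ Lq (φy (s : P₀))) = 0 := h2
      rw [residue_eq_zero_iff] at h2'
      exact hs ((IsLocalization.AtPrime.to_map_mem_maximal_iff Lq 𝔮 _).mp h2')
    obtain ⟨u', hu'⟩ := hsu.exists_right_inv
    have h4 : algebraMap Pp Lq (IsLocalization.mk' Pp f s) * algebraMap Λ Lq (φy (s : P₀)) =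
        algebraMap Λ Lq (φy f) := by
      rw [← halg, ← halg, ← map_mul, IsLocalization.mk'_spec]
    have h5 : (Ideal.Quotient.mk (maximalIdeal Lq ^ n) (algebraMap Λ Lq (φy (s : P₀)))) *
        (u' : Λb) = 1 := congrArg Subtype.val hu'
    have h3 : Ideal.Quotient.mk (maximalIdeal Lq ^ n)
        (algebraMap Pp Lq (IsLocalization.mk' Pp f s)) =
        Ideal.Quotient.mk (maximalIdeal Lq ^ n) (algebraMap Λ Lq (φy f)) * (u' : Λb) := by
      rw [← h4, map_mul, mul_assoc, h5, mul_one]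
    rw [h3]
    exact DD.mul_mem (hφyDD f) u'.2
  let algPbDD : Algebra Pb DD := ((algebraMap Pb Λb).codRestrict DD hPD).toAlgebra
  have halgPbDD : ∀ x : Pb, ((algebraMap Pb DD x : DD) : Λb) = algebraMap Pb Λb x := fun x => rfl
  have towerPbDDΛb : IsScalarTower Pb DD Λb := IsScalarTower.of_algebraMap_eq (fun x => rfl)
  have hkcompat : ∀ c : k, algebraMap Pp Lq (algebraMap k Pp c) = algebraMap k Lq c := by
    intro c
    rw [IsScalarTower.algebraMap_apply k P₀ Pp, halg, AlgHom.commutes,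
      ← IsScalarTower.algebraMap_apply k Λ Lq]
  have towerkPbΛb : IsScalarTower k Pb Λb :=
    IsScalarTower.of_algebraMap_eq (R := k) (S := Pb) (A := Λb) (fun c => by
    show Ideal.Quotient.mk (maximalIdeal Lq ^ n) (algebraMap k Lq c) =
      Ideal.Quotient.mk (maximalIdeal Lq ^ n) (algebraMap Pp Lq (algebraMap k Pp c))
    rw [hkcompat])
  have towerkPbDD : IsScalarTower k Pb DD :=
    IsScalarTower.of_algebraMap_eq (R := k) (S := Pb) (A := DD) (fun c => by
    apply Subtype.ext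
    show algebraMap k Λb c = algebraMap Pb Λb (algebraMap k Pb c)
    exact IsScalarTower.algebraMap_apply k Pb Λb c)
  have hmaxPb : maximalIdeal Pb = (maximalIdeal Pp).map (Ideal.Quotient.mk _) :=
    maximalIdeal_quot_pow Pp n hn0
  have hcomp : (algebraMap Pb Λb).comp (Ideal.Quotient.mk (maximalIdeal Pp ^ n)) =
      (Ideal.Quotient.mk (maximalIdeal Lq ^ n)).comp (algebraMap Pp Lq) := RingHom.ext halgPbΛb
  have hmaxmap' : (maximalIdeal DD).map (algebraMap DD Λb) =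
      (maximalIdeal Pb).map (algebraMap Pb Λb) := by
    rw [hmaxmap, hmaxPb, Ideal.map_map, hcomp, ← Ideal.map_map, hmapmax]
  have hrk : ∀ c : k, resMap Lq n hn (algebraMap k Λb c) = algebraMap k (ResidueField Lq) c :=
    fun c => rfl
  have hzeq : ∀ i, resMap Lq n hn (algebraMap Pb Λb (Ideal.Quotient.mk _
      (algebraMap P₀ Pp (z i)))) = residue Lq (algebraMap Λ Lq (φy (z i))) := by
    intro i
    rw [halgPbΛb, halg, resMap_mk]
  have hz' : ∀ i, resMap Lq n hn (algebraMap Pb Λb (Ideal.Quotient.mk _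
      (algebraMap P₀ Pp (z i)))) ∈ F := fun i => by rw [hzeq]; exact hz i
  have hspan' : Submodule.span F (Set.range fun i =>
      KaehlerDifferential.D k F ⟨_, hz' i⟩) = ⊤ := by
    have : (fun i => KaehlerDifferential.D k F ⟨_, hz' i⟩) =
        fun i => KaehlerDifferential.D k F ⟨_, hz i⟩ := by
      funext i
      exact congrArg _ (Subtype.ext (hzeq i))
    rw [this]
    exact hspan
  have hind : IndSmooth Pb DD :=
    indSmooth_DD (isNilpotent_maximalIdeal_quot_pow Pp n hn0) DD hmaxmap' (resMap Lq n hn) hrk F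
      hrF hFr hmaxiff (fun i => Ideal.Quotient.mk _ (algebraMap P₀ Pp (z i))) hz' hspan'
  have hσu : ∀ y : (Ideal.comap (AlgHom.toRingHom φy) 𝔮).primeCompl, IsUnit (σ y) :=
    fun y => hσunit y y.2
  let σp : Pp →+* S := IsLocalization.lift hσu
  have hσp : ∀ f : P₀, σp (algebraMap P₀ Pp f) = σ f := fun f => IsLocalization.lift_eq hσu f
  have hmaxPp : maximalIdeal Pp = Ideal.span (Set.range fun i => algebraMap P₀ Pp (π i)) := by
    rw [hmaxPp0]
    refine le_antisymm ?_ ?_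
    · rw [Ideal.map_le_iff_le_comap]
      intro f hf
      obtain ⟨s, hs, hsf⟩ := hloc f hf
      rw [Ideal.mem_comap]
      have hu : IsUnit (algebraMap P₀ Pp s) := IsLocalization.map_units Pp
        (⟨s, hs⟩ : (Ideal.comap (AlgHom.toRingHom φy) 𝔮).primeCompl)
      have h1 : algebraMap P₀ Pp (s * f) ∈
          Ideal.span (Set.range fun i => algebraMap P₀ Pp (π i)) := by
        have := Ideal.mem_map_of_mem (algebraMap P₀ Pp) hsf
        rwa [Ideal.map_span, ← Set.range_comp] at this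
      rw [map_mul] at h1
      exact (Ideal.unit_mul_mem_iff_mem _ hu).mp h1
    · rw [Ideal.span_le]
      rintro _ ⟨i, rfl⟩
      exact Ideal.mem_map_of_mem _ ((hmem𝔭 _).mpr (hπq i))
  have hσkill : ∀ x ∈ maximalIdeal Pp ^ n, σp x = 0 := by
    intro x hx
    rw [hmaxPp] at hx
    have h1 := pow_le_span_range_pow (fun i => algebraMap P₀ Pp (π i)) e n hne hx
    have h2 : Ideal.span (Set.range fun i => algebraMap P₀ Pp (π i) ^ e) ≤ RingHom.ker σp := by
      rw [Ideal.span_le]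
      rintro _ ⟨i, rfl⟩
      rw [SetLike.mem_coe, RingHom.mem_ker, map_pow, hσp, hσπ]
    exact h2 h1
  let algPbS : Algebra Pb S := (Ideal.Quotient.lift _ σp hσkill).toAlgebra
  have halgPbS : ∀ p : Pp, algebraMap Pb S (Ideal.Quotient.mk _ p) = σp p := fun p => rfl
  have hωkill : ∀ x ∈ maximalIdeal Lq ^ n, ω x = 0 := by
    intro x hx
    rw [← hgen] at hx
    have h1 := pow_le_span_range_pow (fun i => algebraMap Λ Lq (φy (π i))) e n hne hx
    have h2 : Ideal.span (Set.range fun i => algebraMap Λ Lq (φy (π i)) ^ e) ≤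
        RingHom.ker ω := by
      rw [Ideal.span_le]
      rintro _ ⟨i, rfl⟩
      rw [SetLike.mem_coe, RingHom.mem_ker, map_pow, ← hcompat, ← map_pow, hσπ, map_zero]
    exact h2 h1
  let ωb : Λb →+* T := Ideal.Quotient.lift _ ω hωkill
  have hωb : ∀ l : Lq, ωb (Ideal.Quotient.mk _ l) = ω l := fun l => rfl
  let θ : DD →+* T := ωb.comp (algebraMap DD Λb)
  have hθval : ∀ x : DD, θ x = ωb (x : Λb) := fun x => rfl
  have hωσ : ω.comp (algebraMap Pp Lq) = (algebraMap S T).comp σp := by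
    apply IsLocalization.ringHom_ext (Ideal.comap (AlgHom.toRingHom φy) 𝔮).primeCompl
    ext f
    show ω (algebraMap Pp Lq (algebraMap P₀ Pp f)) = algebraMap S T (σp (algebraMap P₀ Pp f))
    rw [halg, hσp, hcompat]
  have hθ : ∀ p : Pb, θ (algebraMap Pb DD p) = algebraMap S T (algebraMap Pb S p) := by
    intro p
    obtain ⟨p', rfl⟩ := Ideal.Quotient.mk_surjective p
    rw [hθval, halgPbDD, halgPbΛb, hωb, halgPbS]
    exact RingHom.congr_fun hωσ p'
  let ψ : A →ₐ[k] Λb := (Ideal.Quotient.mkₐ k (maximalIdeal Lq ^ n)).comp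
    ((IsScalarTower.toAlgHom k Λ Lq).comp φ)
  have hψ : ∀ x, ψ x = Ideal.Quotient.mk _ (algebraMap Λ Lq (φ x)) := fun x => rfl
  let w : A →ₐ[k] DD := ψ.codRestrict DD hφDD
  have hw : ∀ x, ((w x : DD) : Λb) = Ideal.Quotient.mk _ (algebraMap Λ Lq (φ x)) := fun x => rfl
  have hrel : ∀ i, (algebraMap Pb DD (Ideal.Quotient.mk _ (algebraMap P₀ Pp (π i)))) ^ N =
      ∑ j, lam0 i j * w (a j) := by
    intro i
    have : DD.val ((algebraMap Pb DD (Ideal.Quotient.mk _ (algebraMap P₀ Pp (π i)))) ^ N) =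
        DD.val (∑ j, lam0 i j * w (a j)) := by
      rw [map_pow, map_sum]
      simp only [map_mul]
      show (algebraMap Pb Λb (Ideal.Quotient.mk _ (algebraMap P₀ Pp (π i)))) ^ N =
        ∑ j, (lam0 i j : Λb) * Ideal.Quotient.mk _ (algebraMap Λ Lq (φ (a j)))
      rw [halgPbΛb, halg]
      exact hrel0 i
    exact Subtype.val_injective this
  obtain ⟨B', instB, algB, hsm, β, h, hA, hx, hzz, hkk⟩ := exists_factor a N d hind θ hθ w
    (fun i => Ideal.Quotient.mk _ (algebraMap P₀ Pp (π i))) τ lam0 hrel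
  refine ⟨B', instB, algB, hsm, β, h, ?_, ?_, ?_, ?_⟩
  · intro x
    rw [hA, hθval, hw, hωb]
  · intro i
    rw [hx, halgPbS, hσp]
  · intro i j l hl
    rw [hzz, hθval, ← hl, hωb]
  · intro c
    rw [hkk]
    have h1 : algebraMap k Pb c = Ideal.Quotient.mk _ (algebraMap P₀ Pp (algebraMap k P₀ c)) := by
      rw [← IsScalarTower.algebraMap_apply k P₀ Pp]
      rfl
    rw [h1, halgPbS, hσp]

end

end Helper27.Insep
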