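import Mathlib
import Groth.Agent.Lib.Helper27.InsepK

set_option autoImplicit false
universe u

namespace Helper27.Insep

open IsLocalRing TensorProduct Smoothing Helper27.SepRes

theorem params_props {P₀ Λ : Type u} [CommRing P₀] [CommRing Λ] (φy : P₀ →+* Λ) (𝔮 : Ideal Λ)
    [𝔮.IsPrime] {d : ℕ} (πz π u : Fin d → P₀) (hu : ∀ i, φy (u i) ∉ 𝔮)
    (hπ : ∀ i, π i = u i * πz i)
    (hloc : ∀ f, φy f ∈ 𝔮 → ∃ s, φy s ∉ 𝔮 ∧ s * f ∈ Ideal.span (Set.range πz)) :
    ∀ f, φy f ∈ 𝔮 → ∃ s, φy s ∉ 𝔮 ∧ s * f ∈ Ideal.span (Set.range π) := by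
  classical
  intro f hf
  obtain ⟨s, hs, hsf⟩ := hloc f hf
  refine ⟨(∏ i, u i) * s, ?_, ?_⟩
  · rw [map_mul, map_prod]
    intro hmem
    rcases (Ideal.IsPrime.mul_mem_iff_mem_or_mem ‹_›).mp hmem with h1 | h1
    · obtain ⟨i, -, hi⟩ := Ideal.IsPrime.prod_mem_iff.mp h1
      exact hu i hi
    · exact hs h1
  · obtain ⟨c, hc⟩ := Ideal.mem_span_range_iff_exists_fun.mp hsf
    rw [mul_assoc, ← hc, Finset.mul_sum]
    refine Ideal.sum_mem _ fun i _ => ?_
    have h1 : (∏ j, u j) * (c i * πz i) = (c i * ∏ j ∈ Finset.univ.erase i, u j) * π i := by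
      rw [← Finset.mul_prod_erase Finset.univ u (Finset.mem_univ i), hπ i]
      ring
    rw [h1]
    exact Ideal.mul_mem_left _ _ (Ideal.subset_span ⟨i, rfl⟩)

set_option maxHeartbeats 1000000 in
theorem resolvable_quot {R₀ C₀ Λ₀ : Type u} [CommRing R₀] [IsNoetherianRing R₀] [CommRing C₀]
    [Algebra R₀ C₀] [Algebra.FinitePresentation R₀ C₀] [CommRing Λ₀] [Algebra R₀ Λ₀]
    (ψ : C₀ →ₐ[R₀] Λ₀) (𝔮₀ : Ideal Λ₀) [𝔮₀.IsPrime]
    (hnil : ∀ x ∈ 𝔮₀, IsNilpotent (algebraMap Λ₀ (Localization.AtPrime 𝔮₀) x))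
    (hfac : ∃ (B' : Type u) (_ : CommRing B')
      (_ : Algebra (Localization.AtPrime (𝔮₀.comap (algebraMap R₀ Λ₀))) B')
      (_ : Algebra.Smooth (Localization.AtPrime (𝔮₀.comap (algebraMap R₀ Λ₀))) B')
      (g : C₀ →+* B') (h : B' →+* Localization.AtPrime 𝔮₀),
      (∀ y, h (algebraMap (Localization.AtPrime (𝔮₀.comap (algebraMap R₀ Λ₀))) B' y) =
        Localization.localRingHom (𝔮₀.comap (algebraMap R₀ Λ₀)) 𝔮₀ (algebraMap R₀ Λ₀) rfl y) ∧
      (∀ r₀ : R₀, g (algebraMap R₀ C₀ r₀) =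
        algebraMap (Localization.AtPrime (𝔮₀.comap (algebraMap R₀ Λ₀))) B'
          (algebraMap R₀ (Localization.AtPrime (𝔮₀.comap (algebraMap R₀ Λ₀))) r₀)) ∧
      ∀ x, h (g x) = algebraMap Λ₀ (Localization.AtPrime 𝔮₀) (ψ x)) :
    Resolvable R₀ ψ 𝔮₀ := by
  let algRL : Algebra (Localization.AtPrime (𝔮₀.comap (algebraMap R₀ Λ₀)))
      (Localization.AtPrime 𝔮₀) :=
    (Localization.localRingHom (𝔮₀.comap (algebraMap R₀ Λ₀)) 𝔮₀ (algebraMap R₀ Λ₀) rfl).toAlgebra
  have halg : ∀ r : R₀, algebraMap (Localization.AtPrime (𝔮₀.comap (algebraMap R₀ Λ₀)))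
      (Localization.AtPrime 𝔮₀)
      (algebraMap R₀ (Localization.AtPrime (𝔮₀.comap (algebraMap R₀ Λ₀))) r) =
        algebraMap Λ₀ (Localization.AtPrime 𝔮₀) (algebraMap R₀ Λ₀ r) := fun r =>
    Localization.localRingHom_to_map (𝔮₀.comap (algebraMap R₀ Λ₀)) 𝔮₀ (algebraMap R₀ Λ₀) rfl r
  have tower : IsScalarTower R₀ (Localization.AtPrime (𝔮₀.comap (algebraMap R₀ Λ₀)))
      (Localization.AtPrime 𝔮₀) :=
    IsScalarTower.of_algebraMap_eq (fun r => by
      rw [halg, ← IsScalarTower.algebraMap_apply])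
  have hdim : ringKrullDim (Localization.AtPrime 𝔮₀) = 0 := by
    have hkd : Ring.KrullDimLE 0 (Localization.AtPrime 𝔮₀) := by
      rw [Ring.krullDimLE_zero_iff]
      intro P hP
      have : maximalIdeal (Localization.AtPrime 𝔮₀) ≤ P := by
        rw [← Localization.AtPrime.map_eq_maximalIdeal, Ideal.map_le_iff_le_comap]
        intro x hx
        obtain ⟨m, hm⟩ := hnil x hx
        rw [Ideal.mem_comap]
        exact hP.mem_of_pow_mem m (by rw [hm]; exact Submodule.zero_mem _)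
      rw [← (IsLocalRing.maximalIdeal.isMaximal _).eq_of_le hP.ne_top this]
      exact IsLocalRing.maximalIdeal.isMaximal _
    exact le_antisymm (Ring.krullDimLE_iff.mp hkd) ringKrullDim_nonneg_of_nontrivial
  have hloc : IsLocalRing (Localization.AtPrime 𝔮₀) := inferInstance
  by_cases hle : singRad R₀ ψ ≤ 𝔮₀
  · have hmin : 𝔮₀ ∈ (singRad R₀ ψ).minimalPrimes := by
      refine ⟨⟨inferInstance, hle⟩, ?_⟩
      rintro P ⟨hP, _⟩ hPq
      have hkd : Ring.KrullDimLE 0 (Localization.AtPrime 𝔮₀) :=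
        Ring.krullDimLE_iff.mpr (by rw [hdim]; rfl)
      have hdisj : Disjoint (𝔮₀.primeCompl : Set Λ₀) (P : Set Λ₀) := by
        rw [Set.disjoint_left]
        intro x hx hxP
        exact hx (hPq hxP)
      have hPprime : (P.map (algebraMap Λ₀ (Localization.AtPrime 𝔮₀))).IsPrime :=
        IsLocalization.isPrime_of_isPrime_disjoint 𝔮₀.primeCompl _ P hP hdisj
      have hPmax : (P.map (algebraMap Λ₀ (Localization.AtPrime 𝔮₀))).IsMaximal :=
        Ideal.isMaximal_of_isPrime _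
      have hPeq : P.map (algebraMap Λ₀ (Localization.AtPrime 𝔮₀)) =
          IsLocalRing.maximalIdeal (Localization.AtPrime 𝔮₀) :=
        IsLocalRing.eq_maximalIdeal hPmax
      intro x hx
      have h1 : algebraMap Λ₀ (Localization.AtPrime 𝔮₀) x ∈
          P.map (algebraMap Λ₀ (Localization.AtPrime 𝔮₀)) := by
        rw [hPeq, ← Localization.AtPrime.map_eq_maximalIdeal]
        exact Ideal.mem_map_of_mem _ hx
      have h2 := IsLocalization.comap_map_of_isPrime_disjoint 𝔮₀.primeCompl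
        (Localization.AtPrime 𝔮₀) hP hdisj
      rw [← h2]
      exact h1
    refine Groth.Agent.S2034.result (Rₚ := Localization.AtPrime (𝔮₀.comap (algebraMap R₀ Λ₀)))
      (Λq := Localization.AtPrime 𝔮₀) ψ 𝔮₀ hmin hdim ?_
    obtain ⟨B', instB, algB, hsm, g, h, hh, hg, hhg⟩ := hfac
    let algR₀B : Algebra R₀ B' :=
      ((algebraMap (Localization.AtPrime (𝔮₀.comap (algebraMap R₀ Λ₀))) B').comp
        (algebraMap R₀ (Localization.AtPrime (𝔮₀.comap (algebraMap R₀ Λ₀))))).toAlgebra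
    have towerB : IsScalarTower R₀ (Localization.AtPrime (𝔮₀.comap (algebraMap R₀ Λ₀))) B' :=
      IsScalarTower.of_algebraMap_eq (fun _ => rfl)
    let gA : C₀ →ₐ[R₀] B' := { g with commutes' := hg }
    let g' : (Localization.AtPrime (𝔮₀.comap (algebraMap R₀ Λ₀))) ⊗[R₀] C₀ →ₐ[
        Localization.AtPrime (𝔮₀.comap (algebraMap R₀ Λ₀))] B' :=
      Algebra.TensorProduct.lift (Algebra.ofId _ B') gA (fun _ _ => Commute.all _ _)
    let h' : B' →ₐ[Localization.AtPrime (𝔮₀.comap (algebraMap R₀ Λ₀))]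
        Localization.AtPrime 𝔮₀ := { h with commutes' := hh }
    have hgh : h'.comp g' = Algebra.TensorProduct.lift
        (Algebra.ofId (Localization.AtPrime (𝔮₀.comap (algebraMap R₀ Λ₀)))
          (Localization.AtPrime 𝔮₀))
        ((IsScalarTower.toAlgHom R₀ Λ₀ (Localization.AtPrime 𝔮₀)).comp ψ)
        (fun _ _ => Commute.all _ _) := by
      apply Algebra.TensorProduct.ext'
      intro y c
      rw [AlgHom.comp_apply, Algebra.TensorProduct.lift_tmul, Algebra.TensorProduct.lift_tmul,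
        map_mul]
      congr 1
      · exact h'.commutes y
      · exact hhg c
    have hB' : singularIdeal (Localization.AtPrime (𝔮₀.comap (algebraMap R₀ Λ₀))) B' = ⊤ :=
      singularIdeal_eq_top_of_smooth
    have hrad : singRad (Localization.AtPrime (𝔮₀.comap (algebraMap R₀ Λ₀))) h' = ⊤ := by
      unfold singRad
      rw [hB', Ideal.map_top, Ideal.radical_top]
    refine ⟨B', inferInstance, inferInstance, hsm.2, g', h', hgh, ?_, ?_⟩
    · rw [hrad]
      exact le_top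
    · rw [hrad, top_le_iff, Localization.AtPrime.map_eq_maximalIdeal]
      exact (IsLocalRing.maximalIdeal.isMaximal _).ne_top
  · exact ⟨C₀, inferInstance, inferInstance, inferInstance, AlgHom.id R₀ C₀, ψ, AlgHom.comp_id ψ,
      le_rfl, hle⟩

section Lam

variable {k A P₀ Λ : Type u} [Field k] [CommRing A] [Algebra k A]
  [CommRing P₀] [Algebra k P₀] [CommRing Λ] [Algebra k Λ]
  (φy : P₀ →ₐ[k] Λ) (𝔮 : Ideal Λ) [𝔮.IsPrime] (n : ℕ)

local notation "Lq" => Localization.AtPrime 𝔮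
local notation "Λb" => Lq ⧸ maximalIdeal Lq ^ n

set_option maxHeartbeats 2000000 in
set_option synthInstance.maxHeartbeats 400000 in
theorem exists_lam (φ : A →ₐ[k] Λ) {d : ℕ} (π : Fin d → P₀)
    (hgen : Ideal.span (Set.range fun i => algebraMap Λ Lq (φy (π i))) = maximalIdeal Lq)
    (e N : ℕ) (hn : 0 < n) (hne : N + (d * e + 1) ≤ n)
    {r : ℕ} (a : Fin r → A)
    (hpow : maximalIdeal Lq ^ N ≤ Ideal.span (Set.range fun j => algebraMap Λ Lq (φ (a j))))
    (DD : Subalgebra k Λb) [IsLocalRing DD] [Module.Flat DD Λb]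
    (hmaxiff : ∀ a : DD, a ∈ maximalIdeal DD ↔ resMap Lq n hn a = 0)
    (hφyDD : ∀ f : P₀, Ideal.Quotient.mk (maximalIdeal Lq ^ n) (algebraMap Λ Lq (φy f)) ∈ DD)
    (hφDD : ∀ x : A, Ideal.Quotient.mk (maximalIdeal Lq ^ n) (algebraMap Λ Lq (φ x)) ∈ DD) :
    ∃ (lam0 : Fin d → Fin r → DD) (δz : Fin d → Λ) (l : Fin d → Fin r → Λ),
      (∀ i, (Ideal.Quotient.mk (maximalIdeal Lq ^ n) (algebraMap Λ Lq (φy (π i)))) ^ N =
        ∑ j, (lam0 i j : Λb) *
          Ideal.Quotient.mk (maximalIdeal Lq ^ n) (algebraMap Λ Lq (φ (a j)))) ∧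
      (∀ i, δz i ∉ 𝔮) ∧ (∀ i, δz i * φy (π i) ^ N = ∑ j, l i j * φ (a j)) ∧
      ∀ i j, ∀ lt : Lq, Ideal.Quotient.mk (maximalIdeal Lq ^ n) lt = (lam0 i j : Λb) →
        algebraMap Λ Lq (l i j) - algebraMap Λ Lq (δz i) * lt ∈
          Ideal.span (Set.range fun i => algebraMap Λ Lq (φy (π i)) ^ e) := by
  classical
  have hn0 : n ≠ 0 := hn.ne'
  have hlocΛb : IsLocalRing Λb := isLocalRing_quot_pow _ n hn0
  have hval : ∀ a : DD, algebraMap DD Λb a = (a : Λb) := fun a => rfl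
  have hlochom : IsLocalHom (algebraMap DD Λb) := by
    constructor
    intro a ha
    by_contra hna
    have h1 : a ∈ maximalIdeal DD := (IsLocalRing.mem_maximalIdeal a).mpr hna
    have h2 := (hmaxiff a).mp h1
    have h3 : IsUnit (resMap Lq n hn (algebraMap DD Λb a)) := ha.map (resMap Lq n hn)
    rw [hval, h2] at h3
    exact not_isUnit_zero h3
  have hff : Module.FaithfullyFlat DD Λb :=
    Module.FaithfullyFlat.of_flat_of_isLocalHom (A := DD) (B := Λb)
  have hϱm : ∀ i, algebraMap Λ Lq (φy (π i)) ∈ maximalIdeal Lq := fun i => by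
    rw [← hgen]
    exact Ideal.subset_span ⟨i, rfl⟩
  have hKq : maximalIdeal Lq ^ (d * e + 1) ≤
      Ideal.span (Set.range fun i => algebraMap Λ Lq (φy (π i)) ^ e) := by
    have h1 := pow_le_span_range_pow (fun i => algebraMap Λ Lq (φy (π i))) e (d * e + 1) le_rfl
    rwa [hgen] at h1
  have hnK : maximalIdeal Lq ^ n ≤
      Ideal.span (Set.range fun i => algebraMap Λ Lq (φy (π i)) ^ e) :=
    (Ideal.pow_le_pow_right (by omega)).trans hKq
  have hnHK : maximalIdeal Lq ^ n ≤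
      Ideal.span (Set.range fun i => algebraMap Λ Lq (φy (π i)) ^ e) •
        Ideal.span (Set.range fun j => algebraMap Λ Lq (φ (a j))) := by
    refine (Ideal.pow_le_pow_right hne).trans ?_
    rw [pow_add, smul_eq_mul, mul_comm]
    exact Ideal.mul_mono hKq hpow
  have h1 : ∀ i, (⟨_, hφyDD (π i)⟩ : DD) ^ N ∈
      Ideal.span (Set.range fun j => (⟨_, hφDD (a j)⟩ : DD)) := by
    intro i
    rw [← Ideal.comap_map_eq_self_of_faithfullyFlat (B := Λb)
      (Ideal.span (Set.range fun j => (⟨_, hφDD (a j)⟩ : DD))), Ideal.mem_comap, Ideal.map_span,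
      ← Set.range_comp]
    have h2 : algebraMap Λ Lq (φy (π i)) ^ N ∈
        Ideal.span (Set.range fun j => algebraMap Λ Lq (φ (a j))) :=
      hpow (Ideal.pow_mem_pow (hϱm i) N)
    have h3 := Ideal.mem_map_of_mem (Ideal.Quotient.mk (maximalIdeal Lq ^ n)) h2
    rw [Ideal.map_span, ← Set.range_comp, map_pow] at h3
    exact h3
  have h2 : ∀ i, ∃ c : Fin r → DD,
      (Ideal.Quotient.mk (maximalIdeal Lq ^ n) (algebraMap Λ Lq (φy (π i)))) ^ N =
        ∑ j, (c j : Λb) *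
          Ideal.Quotient.mk (maximalIdeal Lq ^ n) (algebraMap Λ Lq (φ (a j))) := by
    intro i
    obtain ⟨c, hc⟩ := Ideal.mem_span_range_iff_exists_fun.mp (h1 i)
    refine ⟨c, ?_⟩
    have h3 := congrArg DD.val hc
    rw [map_sum, map_pow] at h3
    simp only [map_mul] at h3
    exact h3.symm
  choose lam0 hlam0 using h2
  have h3 : ∀ i, ∃ (δz : Λ) (l : Fin r → Λ), δz ∉ 𝔮 ∧
      δz * φy (π i) ^ N = ∑ j, l j * φ (a j) ∧
      ∀ j, ∀ lt : Lq, Ideal.Quotient.mk (maximalIdeal Lq ^ n) lt = (lam0 i j : Λb) →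
        algebraMap Λ Lq (l j) - algebraMap Λ Lq δz * lt ∈
          Ideal.span (Set.range fun i => algebraMap Λ Lq (φy (π i)) ^ e) := by
    intro i
    have hlift : ∀ j, ∃ lt : Lq, Ideal.Quotient.mk (maximalIdeal Lq ^ n) lt = (lam0 i j : Λb) :=
      fun j => Ideal.Quotient.mk_surjective _
    choose lt₀ hlt₀ using hlift
    have hE : algebraMap Λ Lq (φy (π i)) ^ N - ∑ j, lt₀ j * algebraMap Λ Lq (φ (a j)) ∈
        maximalIdeal Lq ^ n := by
      rw [← Ideal.Quotient.eq_zero_iff_mem, map_sub, map_pow, map_sum, hlam0 i, sub_eq_zero]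
      refine Finset.sum_congr rfl (fun j _ => ?_)
      rw [map_mul, hlt₀]
    obtain ⟨μ, hμK, hμsum⟩ := (Submodule.mem_ideal_smul_span_iff_exists_sum _ _ _).mp (hnHK hE)
    rw [Finsupp.sum_fintype μ (fun i c => c • algebraMap Λ Lq (φ (a i)))
      (fun j => zero_smul _ _)] at hμsum
    have hexact : algebraMap Λ Lq (φy (π i)) ^ N =
        ∑ j, (lt₀ j + μ j) * algebraMap Λ Lq (φ (a j)) := by
      have : ∑ j, (lt₀ j + μ j) * algebraMap Λ Lq (φ (a j)) =
          ∑ j, lt₀ j * algebraMap Λ Lq (φ (a j)) + ∑ j, μ j • algebraMap Λ Lq (φ (a j)) := by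
        rw [← Finset.sum_add_distrib]
        refine Finset.sum_congr rfl (fun j _ => ?_)
        rw [add_mul, smul_eq_mul]
      rw [this, hμsum]
      ring
    obtain ⟨s', hs'⟩ := IsLocalization.exist_integer_multiples 𝔮.primeCompl Finset.univ
      (fun j => lt₀ j + μ j)
    have hs'' : ∀ j, ∃ l' : Λ, algebraMap Λ Lq l' = algebraMap Λ Lq (s' : Λ) * (lt₀ j + μ j) := by
      intro j
      obtain ⟨l', hl'⟩ := hs' j (Finset.mem_univ j)
      exact ⟨l', by rw [hl']; exact Algebra.smul_def _ _⟩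
    choose l' hl' using hs''
    have hzero : algebraMap Λ Lq ((s' : Λ) * φy (π i) ^ N - ∑ j, l' j * φ (a j)) = 0 := by
      rw [map_sub, map_mul, map_pow, map_sum, hexact, Finset.mul_sum, sub_eq_zero]
      refine Finset.sum_congr rfl (fun j _ => ?_)
      rw [map_mul, hl']
      ring
    obtain ⟨s'', hs''0⟩ := (IsLocalization.map_eq_zero_iff 𝔮.primeCompl Lq _).mp hzero
    refine ⟨(s'' : Λ) * (s' : Λ), fun j => (s'' : Λ) * l' j, ?_, ?_, ?_⟩
    · exact fun hmem => (𝔮.primeCompl.mul_mem s''.2 s'.2) hmem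
    · have h4 : (s'' : Λ) * ((s' : Λ) * φy (π i) ^ N) = (s'' : Λ) * ∑ j, l' j * φ (a j) := by
        rw [← sub_eq_zero, ← mul_sub]
        exact hs''0
      rw [mul_assoc, h4, Finset.mul_sum]
      refine Finset.sum_congr rfl (fun j _ => ?_)
      ring
    · intro j lt hlt
      have h5 : lt₀ j - lt ∈ Ideal.span (Set.range fun i => algebraMap Λ Lq (φy (π i)) ^ e) := by
        apply hnK
        rw [← Ideal.Quotient.eq_zero_iff_mem, map_sub, hlt₀, hlt, sub_self]
      have h6 : algebraMap Λ Lq ((s'' : Λ) * l' j) - algebraMap Λ Lq ((s'' : Λ) * (s' : Λ)) * lt =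
          algebraMap Λ Lq (s'' : Λ) * algebraMap Λ Lq (s' : Λ) * ((lt₀ j - lt) + μ j) := by
        rw [map_mul, map_mul, hl']
        ring
      rw [h6]
      exact Ideal.mul_mem_left _ _ (Ideal.add_mem _ h5 (hμK j))
  choose δz l hδz hrel hcong using h3
  exact ⟨lam0, δz, l, hlam0, hδz, hrel, hcong⟩

end Lam

end Helper27.Insep
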