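import Mathlib
import Groth.Agent.Lib.Helper27.LiftProbG

set_option autoImplicit false
universe u

namespace Helper27.ResMod

open MvPolynomial Smoothing

theorem isStrictlyStandard_map {R₁ A₁ R₂ A₂ : Type u} [CommRing R₁] [CommRing A₁] [Algebra R₁ A₁]
    [CommRing R₂] [CommRing A₂] [Algebra R₂ A₂]
    (ρ : R₁ →+* R₂) (hρ : Function.Surjective ρ) (qA : A₁ →+* A₂) (hqA : Function.Surjective qA)
    (hqAker : RingHom.ker qA ≤ (RingHom.ker ρ).map (algebraMap R₁ A₁))
    (hqAc : ∀ x, qA (algebraMap R₁ A₁ x) = algebraMap R₂ A₂ (ρ x))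
    (a : A₁) (ha : Smoothing.IsStrictlyStandard R₁ A₁ a) :
    Smoothing.IsStrictlyStandard R₂ A₂ (qA a) := by
  classical
  obtain ⟨P, hmem, hk⟩ := ha
  obtain ⟨hom₂, hhom₂⟩ : ∃ hom₂ : MvPolynomial (Fin P.n) R₂ →ₐ[R₂] A₂,
      ∀ i, hom₂ (X i) = qA (P.hom (X i)) :=
    ⟨aeval (fun i => qA (P.hom (X i))), fun i => aeval_X _ _⟩
  have hmap : ∀ p, hom₂ (MvPolynomial.map ρ p) = qA (P.hom p) := by
    intro p
    have h : (hom₂.toRingHom.comp (MvPolynomial.map ρ)) = qA.comp P.hom.toRingHom := by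
      refine MvPolynomial.ringHom_ext (fun x => ?_) (fun i => ?_)
      · show hom₂ (MvPolynomial.map ρ (C x)) = qA (P.hom (C x))
        rw [map_C, ← MvPolynomial.algebraMap_eq, ← MvPolynomial.algebraMap_eq, hom₂.commutes,
          P.hom.commutes, hqAc]
      · show hom₂ (MvPolynomial.map ρ (X i)) = qA (P.hom (X i))
        rw [map_X, hhom₂]
    exact RingHom.congr_fun h p
  have hmapsurj : Function.Surjective
      (MvPolynomial.map ρ : MvPolynomial (Fin P.n) R₁ → MvPolynomial (Fin P.n) R₂) :=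
    MvPolynomial.map_surjective ρ hρ
  have hsurj₂ : Function.Surjective hom₂ := by
    intro y
    obtain ⟨x, rfl⟩ := hqA y
    obtain ⟨p, rfl⟩ := P.surj x
    exact ⟨MvPolynomial.map ρ p, hmap p⟩
  have hrel0 : ∀ j, P.hom (P.rel j) = 0 := by
    intro j
    have : P.rel j ∈ RingHom.ker P.hom.toRingHom := P.ker_eq ▸ Ideal.subset_span ⟨j, rfl⟩
    exact this
  have hspanmap : ∀ x ∈ Ideal.span (Set.range P.rel),
      MvPolynomial.map ρ x ∈ Ideal.span (Set.range fun j => MvPolynomial.map ρ (P.rel j)) := by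
    intro x hx
    have h := Ideal.mem_map_of_mem (MvPolynomial.map ρ) hx
    rw [Ideal.map_span, ← Set.range_comp] at h
    exact h
  have hker₂ : RingHom.ker hom₂.toRingHom =
      Ideal.span (Set.range fun j => MvPolynomial.map ρ (P.rel j)) := by
    apply le_antisymm
    · intro p₂ hp₂
      obtain ⟨p, rfl⟩ := hmapsurj p₂
      have h1 : qA (P.hom p) = 0 := by rw [← hmap]; exact hp₂
      have h2 : P.hom p ∈ (RingHom.ker ρ).map (algebraMap R₁ A₁) := hqAker h1
      have h3 : (RingHom.ker ρ).map (algebraMap R₁ A₁) =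
          ((RingHom.ker ρ).map (C : R₁ →+* MvPolynomial (Fin P.n) R₁)).map P.hom.toRingHom := by
        rw [Ideal.map_map]
        congr 1
        ext x
        show algebraMap R₁ A₁ x = P.hom (C x)
        rw [← MvPolynomial.algebraMap_eq, P.hom.commutes]
      rw [h3] at h2
      obtain ⟨p', hp', hpp'⟩ := (Ideal.mem_map_iff_of_surjective P.hom.toRingHom P.surj).mp h2
      have hpp'' : P.hom p' = P.hom p := hpp'
      have h4 : p - p' ∈ Ideal.span (Set.range P.rel) := by
        rw [← P.ker_eq, RingHom.mem_ker]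
        show P.hom (p - p') = 0
        rw [map_sub, hpp'', sub_self]
      have h5 : MvPolynomial.map ρ p' = 0 := by
        have : (RingHom.ker ρ).map (C : R₁ →+* MvPolynomial (Fin P.n) R₁) ≤
            RingHom.ker (MvPolynomial.map ρ : MvPolynomial (Fin P.n) R₁ →+* _) := by
          rw [Ideal.map_le_iff_le_comap]
          intro k hk
          show MvPolynomial.map ρ (C k) = 0
          rw [map_C, RingHom.mem_ker.mp hk, map_zero]
        exact this hp'
      have h6 := hspanmap _ h4
      rw [map_sub, h5, sub_zero] at h6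
      exact h6
    · rw [Ideal.span_le]
      rintro _ ⟨j, rfl⟩
      show hom₂ (MvPolynomial.map ρ (P.rel j)) = 0
      rw [hmap, hrel0, map_zero]
  refine ⟨⟨P.n, P.m, P.c, P.hcn, P.hcm, fun j => MvPolynomial.map ρ (P.rel j), hom₂,
    hsurj₂, hker₂⟩, ?_, ?_⟩
  · have h1 := Ideal.mem_map_of_mem qA hmem
    rw [Ideal.map_span, ← Set.range_comp] at h1
    have h2 : (fun cols : Fin P.c → Fin P.n =>
        hom₂ (jacobianMinor (fun j => MvPolynomial.map ρ (P.rel j)) (Fin.castLE P.hcm) cols)) =
        (⇑qA ∘ fun cols : Fin P.c → Fin P.n =>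
          P.hom (jacobianMinor P.rel (Fin.castLE P.hcm) cols)) := by
      funext cols
      show hom₂ _ = qA (P.hom _)
      rw [← Helper27.LiftProb.map_jacobianMinor, hmap]
    show qA a ∈ Ideal.span (Set.range fun cols : Fin P.c → Fin P.n =>
        hom₂ (jacobianMinor (fun j => MvPolynomial.map ρ (P.rel j)) (Fin.castLE P.hcm) cols))
    rw [h2]
    exact h1
  · intro a'' ha'' j hj
    obtain ⟨a', ha'⟩ := P.surj a
    have h1 := hk a' ha' j hj
    have h2 : MvPolynomial.map ρ (a' * P.rel j) ∈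
        Ideal.span ((fun j => MvPolynomial.map ρ (P.rel j)) '' {j' : Fin P.m | (j' : ℕ) < P.c}) ⊔
        Ideal.span (Set.range fun j => MvPolynomial.map ρ (P.rel j)) ^ 2 := by
      have h3 := Ideal.mem_map_of_mem (MvPolynomial.map ρ) h1
      rw [Ideal.map_sup, Ideal.map_pow, Ideal.map_span, Ideal.map_span, Set.image_image,
        ← Set.range_comp] at h3
      exact h3
    have h4 : a'' - MvPolynomial.map ρ a' ∈
        Ideal.span (Set.range fun j => MvPolynomial.map ρ (P.rel j)) := by
      rw [← hker₂, RingHom.mem_ker]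
      show hom₂ (a'' - MvPolynomial.map ρ a') = 0
      rw [map_sub, hmap, ha']
      have : hom₂ a'' = qA a := ha''
      rw [this, sub_self]
    have h5 : (a'' - MvPolynomial.map ρ a') * MvPolynomial.map ρ (P.rel j) ∈
        Ideal.span (Set.range fun j => MvPolynomial.map ρ (P.rel j)) ^ 2 := by
      rw [pow_two]
      exact Ideal.mul_mem_mul h4 (Ideal.subset_span ⟨j, rfl⟩)
    have h6 : a'' * MvPolynomial.map ρ (P.rel j) = MvPolynomial.map ρ (a' * P.rel j) +
        (a'' - MvPolynomial.map ρ a') * MvPolynomial.map ρ (P.rel j) := by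
      rw [map_mul]
      ring
    show a'' * MvPolynomial.map ρ (P.rel j) ∈ _
    rw [h6]
    exact Ideal.add_mem _ h2 (Ideal.mem_sup_right h5)

end Helper27.ResMod
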