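import Mathlib
import Groth.Prelude.Def_Smoothing
import Groth.Agent.Lib.Helper27.LiftLemA

set_option autoImplicit false
universe u

namespace Helper27.LiftLem

open MvPolynomial

section Subst

variable {R : Type u} [CommRing R] {n c : ℕ} (r : Fin n → R) (π : R) (s : Fin n → Fin c → R)

noncomputable def zz (i : Fin n) : MvPolynomial (Fin (c + n)) R :=
  ∑ k, C (s i k) * X (Fin.castAdd n k) + C π * X (Fin.natAdd c i)

noncomputable def gsig (i : Fin n) : MvPolynomial (Fin (c + n)) R :=
  C (r i) + C (π ^ 2) * zz π s i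

noncomputable def sigma : MvPolynomial (Fin n) R →ₐ[R] MvPolynomial (Fin (c + n)) R :=
  aeval (gsig r π s)

theorem sigma_X (i : Fin n) : sigma r π s (X i) = gsig r π s i := aeval_X _ _

theorem aeval_C_eq (q : MvPolynomial (Fin n) R) :
    aeval (fun i => (C (r i) : MvPolynomial (Fin (c + n)) R)) q = C (eval r q) := by
  have h1 : aeval (fun i => (C (r i) : MvPolynomial (Fin (c + n)) R)) =
      (Algebra.ofId R (MvPolynomial (Fin (c + n)) R)).comp (aeval r) := by
    ext i
    simp [Algebra.ofId_apply]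
  rw [h1, AlgHom.comp_apply, Algebra.ofId_apply, MvPolynomial.algebraMap_eq]
  simp

theorem expand (p : MvPolynomial (Fin n) R) : ∃ Q : MvPolynomial (Fin (c + n)) R,
    sigma r π s p = C (eval r p) + C (π ^ 2) * ∑ i, C (eval r (pderiv i p)) * zz π s i +
      C (π ^ 4) * Q := by
  have h1 := taylor2 (R := R) (fun i => (C (r i) : MvPolynomial (Fin (c + n)) R))
    (fun i => C (π ^ 2) * zz π s i) p
  have hle : Ideal.span (Set.range fun i => C (π ^ 2) * zz π s i) ^ 2 ≤
      Ideal.span {(C (π ^ 4) : MvPolynomial (Fin (c + n)) R)} := by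
    have h2 : Ideal.span (Set.range fun i => C (π ^ 2) * zz π s i) ≤
        Ideal.span {(C (π ^ 2) : MvPolynomial (Fin (c + n)) R)} := by
      refine Ideal.span_le.mpr ?_
      rintro _ ⟨i, rfl⟩
      exact Ideal.mul_mem_right _ _ (Ideal.subset_span rfl)
    refine (Ideal.pow_right_mono h2 2).trans ?_
    rw [Ideal.span_singleton_pow, ← C_pow]
    have : (π ^ 2) ^ 2 = π ^ 4 := by ring
    rw [this]
  obtain ⟨Q, hQ⟩ := Ideal.mem_span_singleton'.mp (hle h1)
  refine ⟨Q, ?_⟩
  have h3 : (fun i => (C (r i) : MvPolynomial (Fin (c + n)) R)) +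
      (fun i => C (π ^ 2) * zz π s i) = gsig r π s := by
    funext i; rfl
  rw [h3, aeval_C_eq] at hQ
  simp only [aeval_C_eq] at hQ
  have h4 : sigma r π s p = aeval (gsig r π s) p := rfl
  rw [h4]
  have h5 : ∑ i, C (eval r (pderiv i p)) * (C (π ^ 2) * zz π s i) =
      C (π ^ 2) * ∑ i, C (eval r (pderiv i p)) * zz π s i := by
    rw [Finset.mul_sum]
    refine Finset.sum_congr rfl fun i _ => ?_
    ring
  rw [h5] at hQ
  linear_combination (-1 : MvPolynomial (Fin (c + n)) R) * hQ

theorem sum_zz (ρ : Fin n → R) :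
    ∑ i, C (ρ i) * zz π s i = ∑ k, C (∑ i, ρ i * s i k) * X (Fin.castAdd n k) +
      C π * ∑ i, C (ρ i) * X (Fin.natAdd c i) := by
  unfold zz
  simp only [mul_add, Finset.sum_add_distrib, Finset.mul_sum]
  congr 1
  · rw [Finset.sum_comm]
    refine Finset.sum_congr rfl fun k _ => ?_
    rw [map_sum, Finset.sum_mul]
    refine Finset.sum_congr rfl fun i _ => ?_
    rw [C_mul]; ring
  · refine Finset.sum_congr rfl fun i _ => ?_
    ring

theorem pderiv_natAdd_gsig (i l : Fin n) :
    pderiv (Fin.natAdd c i) (gsig r π s l) = if l = i then C (π ^ 3) else 0 := by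
  classical
  unfold gsig zz
  have h1 : ∀ k : Fin c, pderiv (Fin.natAdd c i) (C (s l k) * X (Fin.castAdd n k) :
      MvPolynomial (Fin (c + n)) R) = 0 := by
    intro k
    rw [pderiv_C_mul, pderiv_X, Pi.single_apply]
    have : ¬ Fin.castAdd n k = Fin.natAdd c i := by
      intro h
      have := congrArg Fin.val h
      simp at this
      omega
    simp [this]
  simp only [map_add, pderiv_C, zero_add, pderiv_C_mul, map_sum, h1, Finset.sum_const_zero,
    pderiv_X, Pi.single_apply]
  by_cases hli : l = i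
  · subst hli
    simp
    ring
  · have : ¬ Fin.natAdd c l = Fin.natAdd c i := fun h => hli (Fin.natAdd_injective _ _ h)
    simp [hli, this]

theorem pderiv_natAdd_sigma (i : Fin n) (p : MvPolynomial (Fin n) R) :
    pderiv (Fin.natAdd c i) (sigma r π s p) = C (π ^ 3) * sigma r π s (pderiv i p) := by
  unfold sigma
  rw [pderiv_aeval_chain]
  simp only [pderiv_natAdd_gsig, mul_ite, mul_zero, Finset.sum_ite_eq', Finset.mem_univ, if_true]
  ring

theorem minor_sigma {m c' : ℕ} (f : Fin m → MvPolynomial (Fin n) R) (rows : Fin c' → Fin m)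
    (cols : Fin c' → Fin n) :
    Smoothing.jacobianMinor (fun j => sigma r π s (f j)) rows (fun k => Fin.natAdd c (cols k)) =
      C (π ^ 3) ^ c' * sigma r π s (Smoothing.jacobianMinor f rows cols) := by
  unfold Smoothing.jacobianMinor
  rw [AlgHom.map_det]
  have h1 : (Matrix.of fun j k : Fin c' => pderiv (Fin.natAdd c (cols k))
      (sigma r π s (f (rows j)))) = (C (π ^ 3) : MvPolynomial (Fin (c + n)) R) •
        (sigma r π s).mapMatrix (Matrix.of fun j k : Fin c' => pderiv (cols k) (f (rows j))) := by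
    refine Matrix.ext fun j k => ?_
    simp only [Matrix.of_apply, Matrix.smul_apply, AlgHom.mapMatrix_apply, Matrix.map_apply,
      smul_eq_mul]
    exact pderiv_natAdd_sigma r π s _ _
  rw [h1, Matrix.det_smul, Fintype.card_fin]

noncomputable def Gof (u : R) (ρ : Fin c → Fin n → R) (T : Fin c → MvPolynomial (Fin (c + n)) R)
    (j : Fin c) : MvPolynomial (Fin (c + n)) R :=
  C u * X (Fin.castAdd n j) + ∑ i, C (ρ j i) * X (Fin.natAdd c i) + C π * T j

theorem pderiv_castAdd_Gof (u : R) (ρ : Fin c → Fin n → R)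
    (T : Fin c → MvPolynomial (Fin (c + n)) R) (j k : Fin c) :
    pderiv (Fin.castAdd n k) (Gof π u ρ T j) =
      (if j = k then C u else 0) + C π * pderiv (Fin.castAdd n k) (T j) := by
  classical
  unfold Gof
  have h1 : ∀ i : Fin n, pderiv (Fin.castAdd n k) (C (ρ j i) * X (Fin.natAdd c i) :
      MvPolynomial (Fin (c + n)) R) = 0 := by
    intro i
    rw [pderiv_C_mul, pderiv_X, Pi.single_apply]
    have : ¬ Fin.natAdd c i = Fin.castAdd n k := by
      intro h
      have := congrArg Fin.val h
      simp at this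
      omega
    simp [this]
  simp only [map_add, pderiv_C_mul, map_sum, h1, Finset.sum_const_zero, add_zero, pderiv_X,
    Pi.single_apply]
  by_cases hjk : j = k
  · subst hjk; simp
  · have : ¬ Fin.castAdd n j = Fin.castAdd n k := fun h => hjk (Fin.castAdd_inj.mp h)
    simp [hjk, this]

theorem det_Gof_sub_one_mem (u t₁ : R) (hu : u - 1 = π * t₁) (ρ : Fin c → Fin n → R)
    (T : Fin c → MvPolynomial (Fin (c + n)) R) :
    Matrix.det (Matrix.of fun j k : Fin c => pderiv (Fin.castAdd n k) (Gof π u ρ T j)) - 1 ∈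
      Ideal.span {(C π : MvPolynomial (Fin (c + n)) R)} := by
  classical
  have h1 := det_sub_det_mem (Ideal.span {(C π : MvPolynomial (Fin (c + n)) R)})
    (Matrix.of fun j k : Fin c => pderiv (Fin.castAdd n k) (Gof π u ρ T j)) 1 ?_
  · rwa [Matrix.det_one] at h1
  · intro j k
    rw [Matrix.of_apply, pderiv_castAdd_Gof, Matrix.one_apply]
    by_cases hjk : j = k
    · simp only [hjk, if_true]
      have : C u + C π * pderiv (Fin.castAdd n k) (T k) - 1 =
          (C t₁ + pderiv (Fin.castAdd n k) (T k)) * C π := by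
        have : (C u : MvPolynomial (Fin (c + n)) R) = 1 + C π * C t₁ := by
          rw [← C_mul, ← hu, ← C_1, ← C_add]; congr 1; ring
        rw [this]; ring
      rw [this]
      exact Ideal.mul_mem_left _ _ (Ideal.subset_span rfl)
    · simp only [hjk, if_false, zero_add, sub_zero]
      exact Ideal.mul_mem_right _ _ (Ideal.subset_span rfl)

theorem sigma_eq_Gof (p : MvPolynomial (Fin n) R) (j : Fin c) (u t : R)
    (Q : MvPolynomial (Fin (c + n)) R)
    (hQ : sigma r π s p = C (eval r p) + C (π ^ 2) * ∑ i, C (eval r (pderiv i p)) * zz π s i +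
      C (π ^ 4) * Q)
    (ht : eval r p = π ^ 4 * t)
    (hs : ∀ k : Fin c, ∑ i, eval r (pderiv i p) * s i k = if j = k then u * π else 0) :
    sigma r π s p = C (π ^ 3) * (C u * X (Fin.castAdd n j) +
      ∑ i, C (eval r (pderiv i p)) * X (Fin.natAdd c i) + C π * (C t + Q)) := by
  classical
  rw [hQ, sum_zz, ht]
  have h1 : ∑ k, C (∑ i, eval r (pderiv i p) * s i k) * X (Fin.castAdd n k) =
      C (u * π) * (X (Fin.castAdd n j) : MvPolynomial (Fin (c + n)) R) := by
    simp only [hs]
    rw [Finset.sum_eq_single j]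
    · simp
    · intro k _ hk
      have : ¬ j = k := fun h => hk h.symm
      simp [this]
    · intro h; exact absurd (Finset.mem_univ _) h
  rw [h1]
  simp only [C_mul, C_pow]
  ring

end Subst

end Helper27.LiftLem
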