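import Mathlib
import Groth.Prelude.Def_Smoothing
import Groth.Agent.Lib.Helper27.LiftLemA

set_option autoImplicit false
universe u

namespace Helper27.LiftLem

open MvPolynomial

theorem exists_S {R A : Type u} [CommRing R] [CommRing A] [Algebra R A] (π : R) {n m c : ℕ}
    (hcm : c ≤ m) (f : Fin m → MvPolynomial (Fin n) R) (hom : MvPolynomial (Fin n) R →ₐ[R] A)
    (hmem : algebraMap R A π ∈ Ideal.span (Set.range fun cols : Fin c → Fin n =>
      hom (Smoothing.jacobianMinor f (Fin.castLE hcm) cols)))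
    (ρ : A →ₐ[R] R ⧸ Ideal.span {π ^ 4}) (r : Fin n → R)
    (hρeval : ∀ p, ρ (hom p) = Ideal.Quotient.mk (Ideal.span {π ^ 4}) (eval r p)) :
    ∃ (u t₁ : R) (S : Fin n → Fin c → R), u - 1 = π * t₁ ∧ ∀ j k : Fin c,
      ∑ i, eval r (pderiv i (f (Fin.castLE hcm j))) * S i k = if j = k then u * π else 0 := by
  classical
  obtain ⟨cf, hcf⟩ := (Ideal.mem_span_range_iff_exists_fun).mp hmem
  have hex : ∀ cols, ∃ e : R, Ideal.Quotient.mk (Ideal.span {π ^ 4}) e = ρ (cf cols) := fun cols =>
    Ideal.Quotient.mk_surjective _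
  choose e he using hex
  let d : (Fin c → Fin n) → R := fun cols => Matrix.det (Matrix.of fun j k : Fin c =>
    eval r (pderiv (cols k) (f (Fin.castLE hcm j))))
  have hd : ∀ cols, eval r (Smoothing.jacobianMinor f (Fin.castLE hcm) cols) = d cols := by
    intro cols
    unfold Smoothing.jacobianMinor
    rw [RingHom.map_det]
    congr 1
  have h1 : Ideal.Quotient.mk (Ideal.span {π ^ 4}) π =
      Ideal.Quotient.mk (Ideal.span {π ^ 4}) (∑ cols, e cols * d cols) := by
    have h2 := congrArg ρ hcf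
    rw [AlgHom.commutes, Ideal.Quotient.algebraMap_eq, map_sum] at h2
    rw [← h2, map_sum]
    refine Finset.sum_congr rfl fun cols _ => ?_
    rw [map_mul, map_mul, hρeval, hd, he]
  obtain ⟨t₀, ht₀⟩ := Ideal.mem_span_singleton'.mp (Ideal.Quotient.eq.mp h1)
  have hdm : (1 - t₀ * π ^ 3) * π ∈ Ideal.span (Set.range fun cols : Fin c → Fin n =>
      Matrix.det (Matrix.of fun j k : Fin c =>
        (fun j i => eval r (pderiv i (f (Fin.castLE hcm j)))) j (cols k))) := by
    have h3 : (1 - t₀ * π ^ 3) * π = ∑ cols, e cols * d cols := by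
      have : π - ∑ cols, e cols * d cols = t₀ * π ^ 4 := ht₀.symm
      linear_combination this
    rw [h3]
    exact Ideal.sum_mem _ fun cols _ => Ideal.mul_mem_left _ _ (Ideal.subset_span ⟨cols, rfl⟩)
  obtain ⟨S, hS⟩ := exists_right_inverse (fun j i => eval r (pderiv i (f (Fin.castLE hcm j))))
    ((1 - t₀ * π ^ 3) * π) hdm
  exact ⟨1 - t₀ * π ^ 3, - t₀ * π ^ 2, S, by ring, hS⟩

end Helper27.LiftLem
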