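import Mathlib
import Groth.Prelude.Def_Smoothing
import Groth.Agent.Lib.Helper27.StdElemE
import Groth.Agent.Lib.Helper27.LiftLemC
import Groth.Agent.Lib.Helper27.LiftLemD
import Groth.Agent.Lib.Helper27.LiftLemE

set_option autoImplicit false
universe u

namespace Helper27.LiftLem

open MvPolynomial

theorem smul_kill {Λ R : Type*} [CommRing R] [CommRing Λ] [Algebra R Λ] (π : R)
    (hΛ : ∀ x : Λ, π ^ 2 • x = 0 → π • x = 0) (t : Λ) (ht : π ^ 4 • t = 0) : π • t = 0 := by
  have h1 : π ^ 2 • (π ^ 2 • t) = 0 := by rw [smul_smul, ← pow_add]; exact ht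
  have h2 := hΛ _ h1
  have h3 : π ^ 2 • (π • t) = 0 := by
    rw [smul_smul] at h2 ⊢
    rw [← h2]; congr 1; ring
  have h4 := hΛ _ h3
  have h5 : π ^ 2 • t = 0 := by
    rw [smul_smul] at h4
    rw [← h4]; congr 1; ring
  exact hΛ _ h5

set_option maxHeartbeats 2000000 in
theorem main {R Λ A : Type u} [CommRing R] [CommRing Λ] [Algebra R Λ] (π : R)
    (hΛ : ∀ x : Λ, π ^ 2 • x = 0 → π • x = 0) [CommRing A] [Algebra R A] (φ : A →ₐ[R] Λ)
    (hπ : Smoothing.IsStrictlyStandard R A (algebraMap R A π))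
    (ρ : A →ₐ[R] R ⧸ Ideal.span {π ^ 4})
    (hρ : ∀ (a : A) (r : R), Ideal.Quotient.mk (Ideal.span {π ^ 4}) r = ρ a →
      algebraMap R Λ r - φ a ∈ Ideal.span {algebraMap R Λ (π ^ 4)}) :
    ∃ (B : Type u) (_ : CommRing B) (_ : Algebra R B), Algebra.FinitePresentation R B ∧
      ∃ (α : A →ₐ[R] B) (β : B →ₐ[R] Λ), β.comp α = φ ∧
        ∀ r : R, (∀ x : R, π ^ 2 * x = 0 → π * (r * x) = 0) →
          algebraMap R B r ∈ Smoothing.singularIdeal R B := by
  classical
  obtain ⟨⟨n, m, c, hcn, hcm, f, hom, surj, ker_eq⟩, hmem, hkt⟩ := hπ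
  dsimp only [Smoothing.KillsTail] at hmem hkt
  -- the point r
  have hrex : ∀ i, ∃ ri : R, Ideal.Quotient.mk (Ideal.span {π ^ 4}) ri = ρ (hom (X i)) := fun i =>
    Ideal.Quotient.mk_surjective _
  choose r hr using hrex
  have hρeval : ∀ p, ρ (hom p) = Ideal.Quotient.mk (Ideal.span {π ^ 4}) (eval r p) := by
    have h1 : ρ.comp hom = (Ideal.Quotient.mkₐ R (Ideal.span {π ^ 4})).comp (aeval r) := by
      ext i
      simp only [AlgHom.comp_apply, aeval_X, Ideal.Quotient.mkₐ_eq_mk]
      exact (hr i).symm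
    intro p
    have h2 := congrArg (fun g : MvPolynomial (Fin n) R →ₐ[R] R ⧸ Ideal.span {π ^ 4} => g p) h1
    simpa using h2
  have hfker : ∀ j, hom (f j) = 0 := by
    intro j
    have h1 : f j ∈ RingHom.ker hom.toRingHom := ker_eq ▸ Ideal.subset_span ⟨j, rfl⟩
    exact h1
  have htex : ∀ j, ∃ t : R, eval r (f j) = π ^ 4 * t := by
    intro j
    have h1 := hρeval (f j)
    rw [hfker, map_zero] at h1
    have h2 := Ideal.Quotient.eq_zero_iff_mem.mp h1.symm
    obtain ⟨t, ht⟩ := Ideal.mem_span_singleton'.mp h2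
    exact ⟨t, by rw [← ht]; ring⟩
  choose t ht using htex
  -- the matrix S
  have hSex := exists_S π hcm f hom hmem ρ r hρeval
  obtain ⟨u, t₁, S, hu, hS⟩ := hSex
  -- the lambdas
  have hlamex : ∀ i, ∃ l : Λ, φ (hom (X i)) = algebraMap R Λ (r i) + π ^ 4 • l := by
    intro i
    have h1 := hρ (hom (X i)) (r i) (hr i)
    obtain ⟨w, hw⟩ := Ideal.mem_span_singleton'.mp h1
    refine ⟨-w, ?_⟩
    rw [Algebra.smul_def, mul_neg, mul_comm, hw]
    ring
  choose lam hlam using hlamex
  -- expansions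
  have hQex := fun j => expand r π S (f j)
  choose Q hQ using hQex
  let P' := MvPolynomial (Fin (c + n)) R
  let F : Fin m → MvPolynomial (Fin (c + n)) R := fun j => sigma r π S (f j)
  let T : Fin c → MvPolynomial (Fin (c + n)) R := fun j =>
    C (t (Fin.castLE hcm j)) + Q (Fin.castLE hcm j)
  let ρm : Fin c → Fin n → R := fun j i => eval r (pderiv i (f (Fin.castLE hcm j)))
  let G : Fin c → MvPolynomial (Fin (c + n)) R := Gof π u ρm T
  let b : Fin m → MvPolynomial (Fin (c + n)) R := fun j =>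
    C (π ^ 2 * t j) + ∑ i, C (eval r (pderiv i (f j))) * zz π S i + C (π ^ 2) * Q j
  have hF1 : ∀ j : Fin c, F (Fin.castLE hcm j) = C (π ^ 3) * G j := fun j =>
    sigma_eq_Gof r π S (f (Fin.castLE hcm j)) j u (t (Fin.castLE hcm j)) (Q (Fin.castLE hcm j))
      (hQ _) (ht _) (hS j)
  have hF2 : ∀ j, F j = C (π ^ 2) * b j := by
    intro j
    show sigma r π S (f j) = _
    rw [hQ j, ht j]
    simp only [b, C_mul, C_pow]
    ring
  have hF3 : ∀ j : Fin m, c ≤ (j : ℕ) → C π * F j ∈
      Ideal.span (Set.range fun j' : Fin c => F (Fin.castLE hcm j')) ⊔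
        Ideal.span (Set.range F) ^ 2 := by
    intro j hj
    have h1 := hkt (C π) (by rw [← MvPolynomial.algebraMap_eq, AlgHom.commutes]) j hj
    have h2 := Ideal.mem_map_of_mem (sigma r π S).toRingHom h1
    rw [Ideal.map_sup, Ideal.map_pow, Ideal.map_span, Ideal.map_span,
      Helper27.StdElem.image_lt_eq_range hcm f, ← Set.range_comp, ← Set.range_comp] at h2
    have h3 : (sigma r π S).toRingHom (C π * f j) = C π * F j := by
      rw [map_mul]
      congr 1
      exact (sigma r π S).commutes π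
    rw [h3] at h2
    exact h2
  have hΔ := det_Gof_sub_one_mem π u t₁ hu ρm T
  -- the algebra B
  let Irel : Ideal (MvPolynomial (Fin (c + n)) R) := Ideal.span (Set.range (Fin.append G F))
  have hGrel : ∀ j, G j ∈ Irel := fun j =>
    Ideal.subset_span ⟨Fin.castAdd m j, Fin.append_left G F j⟩
  have hFrel : ∀ j, F j ∈ Irel := fun j =>
    Ideal.subset_span ⟨Fin.natAdd c j, Fin.append_right G F j⟩
  have hfp : Algebra.FinitePresentation R (MvPolynomial (Fin (c + n)) R ⧸ Irel) :=
    Algebra.FinitePresentation.quotient (Submodule.fg_span (Set.finite_range _))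
  -- α
  have hαker : RingHom.ker hom.toRingHom ≤
      RingHom.ker ((Ideal.Quotient.mkₐ R Irel).comp (sigma r π S)).toRingHom := by
    rw [ker_eq]
    refine Ideal.span_le.mpr ?_
    rintro _ ⟨j, rfl⟩
    show _ ∈ RingHom.ker _
    rw [RingHom.mem_ker]
    change Ideal.Quotient.mk Irel (sigma r π S (f j)) = 0
    rw [Ideal.Quotient.eq_zero_iff_mem]
    exact hFrel j
  let α : A →ₐ[R] (MvPolynomial (Fin (c + n)) R ⧸ Irel) :=
    AlgHom.liftOfSurjective hom surj ((Ideal.Quotient.mkₐ R Irel).comp (sigma r π S)) hαker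
  have hα : ∀ p, α (hom p) = Ideal.Quotient.mk Irel (sigma r π S p) := fun p =>
    AlgHom.liftOfSurjective_apply hom surj _ hαker p
  -- β
  let β₀ : MvPolynomial (Fin (c + n)) R →ₐ[R] Λ :=
    aeval (Fin.append (fun _ : Fin c => (0 : Λ)) (fun i : Fin n => π • lam i))
  have hβv : ∀ k : Fin c, β₀ (X (Fin.castAdd n k)) = 0 := fun k => by
    simp only [β₀, aeval_X, Fin.append_left]
  have hβw : ∀ i : Fin n, β₀ (X (Fin.natAdd c i)) = π • lam i := fun i => by
    simp only [β₀, aeval_X, Fin.append_right]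
  have hβzz : ∀ i, β₀ (zz π S i) = π ^ 2 • lam i := by
    intro i
    unfold zz
    simp only [map_add, map_sum, map_mul, hβv, hβw, mul_zero, Finset.sum_const_zero, zero_add,
      algHom_C, Algebra.smul_def, map_pow]
    ring
  have hβσ : β₀.comp (sigma r π S) = φ.comp hom := by
    ext i
    simp only [AlgHom.comp_apply, sigma_X]
    rw [hlam i]
    unfold gsig
    simp only [map_add, map_mul, algHom_C, hβzz, Algebra.smul_def, map_pow]
    ring
  have hβF : ∀ j, β₀ (F j) = 0 := by
    intro j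
    have h1 := congrArg (fun g : MvPolynomial (Fin n) R →ₐ[R] Λ => g (f j)) hβσ
    simp only [AlgHom.comp_apply] at h1
    rw [hfker, map_zero] at h1
    exact h1
  have hβG : ∀ j, β₀ (G j) = 0 := by
    intro j
    have h1 : β₀ (G j) = π • (∑ i, ρm j i • lam i + β₀ (T j)) := by
      simp only [G, Gof, map_add, map_sum, map_mul, hβv, hβw, mul_zero, zero_add, algHom_C,
        Algebra.smul_def, Finset.mul_sum, mul_add]
      congr 1
      refine Finset.sum_congr rfl fun i _ => ?_
      ring
    rw [h1]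
    refine smul_kill π hΛ _ ?_
    have h2 : π ^ 4 • (∑ i, ρm j i • lam i + β₀ (T j)) = π ^ 3 • β₀ (G j) := by
      rw [h1, smul_smul]
      congr 1
      ring
    rw [h2]
    have h3 : π ^ 3 • β₀ (G j) = β₀ (F (Fin.castLE hcm j)) := by
      rw [hF1, map_mul, algHom_C, Algebra.smul_def]
    rw [h3, hβF]
  have hβrel : ∀ a ∈ Irel, β₀ a = 0 := by
    intro a ha
    have hle : Irel ≤ RingHom.ker β₀.toRingHom := by
      refine Ideal.span_le.mpr ?_
      rintro _ ⟨i, rfl⟩
      show _ ∈ RingHom.ker _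
      rw [RingHom.mem_ker]
      induction i using Fin.addCases with
      | left i => rw [Fin.append_left]; exact hβG i
      | right i => rw [Fin.append_right]; exact hβF i
    exact hle ha
  let β : (MvPolynomial (Fin (c + n)) R ⧸ Irel) →ₐ[R] Λ := Ideal.Quotient.liftₐ Irel β₀ hβrel
  refine ⟨MvPolynomial (Fin (c + n)) R ⧸ Irel, inferInstance, inferInstance, hfp, α, β, ?_, ?_⟩
  · apply AlgHom.ext
    intro a
    obtain ⟨p, rfl⟩ := surj a
    change β (α (hom p)) = φ (hom p)
    rw [hα]
    have h1 := congrArg (fun g : MvPolynomial (Fin n) R →ₐ[R] Λ => g p) hβσ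
    simp only [AlgHom.comp_apply] at h1
    rw [← h1]
    rfl
  · intro r₀ hr₀
    unfold Smoothing.singularIdeal
    rw [PrimeSpectrum.mem_vanishingIdeal]
    intro 𝔭 h𝔭
    by_contra hr𝔭
    have hkey : ∃ g, Smoothing.IsStrictlyStandard R (MvPolynomial (Fin (c + n)) R ⧸ Irel) g ∧
        g ∉ 𝔭.asIdeal := by
      by_cases hπ𝔭 : algebraMap R (MvPolynomial (Fin (c + n)) R ⧸ Irel) π ∈ 𝔭.asIdeal
      · exact exists_std_of_mem (Nat.le_add_right c n) hcm G F b π r₀ hF1 hF2 hF3
          (Fin.castAdd n) hΔ hr₀ 𝔭.asIdeal hπ𝔭 hr𝔭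
      · refine ⟨algebraMap R _ (π ^ (3 * c + 1 + 1)), ?_, ?_⟩
        · refine std_pow (Nat.le_add_right c n) hcm G F π hF1 hF3 (3 * c + 1) ?_ ?_
          · intro j
            have := j.2
            omega
          · -- minors
            have h1 : α (algebraMap R A π) ∈ Ideal.map α
                (Ideal.span (Set.range fun cols : Fin c → Fin n =>
                  hom (Smoothing.jacobianMinor f (Fin.castLE hcm) cols))) :=
              Ideal.mem_map_of_mem _ hmem
            rw [Ideal.map_span, ← Set.range_comp, AlgHom.commutes] at h1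
            obtain ⟨cf, hcf⟩ := (Ideal.mem_span_range_iff_exists_fun).mp h1
            have h2 : algebraMap R (MvPolynomial (Fin (c + n)) R ⧸ Irel) (π ^ (3 * c + 1)) =
                ∑ cols : Fin c → Fin n, cf cols *
                  (Ideal.Quotient.mk Irel (Smoothing.jacobianMinor F (Fin.castLE hcm)
                    (fun k => Fin.natAdd c (cols k)))) := by
              have h3 : algebraMap R (MvPolynomial (Fin (c + n)) R ⧸ Irel) (π ^ (3 * c + 1)) =
                  algebraMap R _ (π ^ (3 * c)) * algebraMap R _ π := by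
                rw [← map_mul, pow_succ]
              rw [h3, ← hcf, Finset.mul_sum]
              refine Finset.sum_congr rfl fun cols _ => ?_
              simp only [Function.comp_apply]
              rw [hα, minor_sigma r π S f (Fin.castLE hcm) cols, map_mul]
              have h4 : algebraMap R (MvPolynomial (Fin (c + n)) R ⧸ Irel) (π ^ (3 * c)) =
                  Ideal.Quotient.mk Irel (C (π ^ 3) ^ c) := by
                rw [← C_pow, ← pow_mul]
                rfl
              rw [h4]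
              ring
            rw [h2]
            exact Ideal.sum_mem _ fun cols _ => Ideal.mul_mem_left _ _
              (Ideal.subset_span ⟨fun k => Fin.natAdd c (cols k), rfl⟩)
        · intro h1
          rw [map_pow] at h1
          exact hπ𝔭 (𝔭.isPrime.mem_of_pow_mem _ h1)
    obtain ⟨g, hg, hg𝔭⟩ := hkey
    have h1 := Helper27.StdElem.mem_singularIdeal_of_isStrictlyStandard g hg
    unfold Smoothing.singularIdeal at h1
    rw [PrimeSpectrum.mem_vanishingIdeal] at h1
    exact hg𝔭 (h1 𝔭 h𝔭)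

end Helper27.LiftLem
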