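import Mathlib
import Groth.Prelude.Def_Smoothing
import Groth.Agent.S6829
import Groth.Agent.Lib.Helper27.LiftLemF
import Groth.Agent.Lib.Helper27.DesingA

set_option autoImplicit false
universe u

namespace Helper27.Desing

open TensorProduct

theorem tmul_algebraMap {R A D : Type*} [CommRing R] [CommRing A] [Algebra R A] [CommRing D]
    [Algebra R D] (r : R) :
    (1 : D) ⊗ₜ[R] algebraMap R A r = algebraMap D (D ⊗[R] A) (algebraMap R D r) := by
  rw [Algebra.TensorProduct.algebraMap_apply]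
  calc (1 : D) ⊗ₜ[R] algebraMap R A r = (1 : D) ⊗ₜ[R] (r • (1 : A)) := by
        rw [Algebra.algebraMap_eq_smul_one]
    _ = (r • (1 : D)) ⊗ₜ[R] (1 : A) := (TensorProduct.smul_tmul r (1 : D) (1 : A)).symm
    _ = (algebraMap R D r) ⊗ₜ[R] (1 : A) := by rw [← Algebra.algebraMap_eq_smul_one]

set_option maxHeartbeats 1000000 in
theorem main2 {R Λ A D : Type u} [CommRing R] [IsNoetherianRing R] [CommRing Λ] [Algebra R Λ]
    (π : R) (hR : ∀ r : R, π ^ 2 * r = 0 → π * r = 0)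
    (hΛ : ∀ x : Λ, π ^ 2 • x = 0 → π • x = 0) [CommRing A] [Algebra R A]
    [Algebra.FinitePresentation R A] [CommRing D] [Algebra R D] [Algebra.FinitePresentation R D]
    [Algebra D Λ] [IsScalarTower R D Λ]
    (φ : A →ₐ[R] Λ) (hπ : Smoothing.IsStrictlyStandard R A (algebraMap R A π))
    (ψ : A →ₐ[R] D ⧸ Ideal.span {algebraMap R D (π ^ 4)})
    (hψ : ∀ (a : A) (d : D), Ideal.Quotient.mk (Ideal.span {algebraMap R D (π ^ 4)}) d = ψ a →
      algebraMap D Λ d - φ a ∈ Ideal.span {algebraMap R Λ (π ^ 4)}) :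
    ∃ (B : Type u) (_ : CommRing B) (_ : Algebra D B), Algebra.FinitePresentation D B ∧
      ∃ (α : A →+* B) (β : B →ₐ[D] Λ), (∀ a, β (α a) = φ a) ∧
        (∀ r : R, α (algebraMap R A r) = algebraMap D B (algebraMap R D r)) ∧
        ∀ (𝔔 : Ideal B) [𝔔.IsPrime] (d : D), d ∈ Smoothing.singularIdeal R D →
          algebraMap D B d ∉ 𝔔 →
            Algebra.IsSmoothAt D 𝔔 ∧ Algebra.IsSmoothAt R (𝔔.under D) := by
  classical
  have hnoeth : IsNoetherianRing D := Algebra.FiniteType.isNoetherianRing R D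
  obtain ⟨π', hπ'def⟩ : ∃ π' : D, π' = algebraMap R D π := ⟨_, rfl⟩
  have hΛ' : ∀ x : Λ, π' ^ 2 • x = 0 → π' • x = 0 := by
    intro x hx
    have h1 : π' ^ 2 • x = π ^ 2 • x := by rw [hπ'def, ← map_pow, algebraMap_smul]
    have h2 : π' • x = π • x := by rw [hπ'def, algebraMap_smul]
    rw [h2]
    exact hΛ x (h1 ▸ hx)
  let φ' : D ⊗[R] A →ₐ[D] Λ :=
    Algebra.TensorProduct.lift (Algebra.ofId D Λ) φ (fun _ _ => Commute.all _ _)
  have hφ' : ∀ d a, φ' (d ⊗ₜ a) = algebraMap D Λ d * φ a := by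
    intro d a
    simp [φ', Algebra.ofId_apply]
  have hss : Smoothing.IsStrictlyStandard D (D ⊗[R] A) (algebraMap D (D ⊗[R] A) π') := by
    have h1 := (Groth.Agent.S6829.result (R := R) (A := A) (R' := D) (algebraMap R A π)).2 hπ
    have h2 : algebraMap D (D ⊗[R] A) π' = (1 : D) ⊗ₜ[R] algebraMap R A π := by
      rw [hπ'def, tmul_algebraMap]
    rw [h2]
    exact h1
  have hI : Ideal.span {algebraMap R D (π ^ 4)} = Ideal.span {π' ^ 4} := by
    rw [map_pow, hπ'def]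
  let ψ₂ : A →ₐ[R] D ⧸ Ideal.span {π' ^ 4} :=
    (Ideal.quotientEquivAlgOfEq R hI).toAlgHom.comp ψ
  let ρ' : D ⊗[R] A →ₐ[D] D ⧸ Ideal.span {π' ^ 4} :=
    Algebra.TensorProduct.lift (Algebra.ofId D _) ψ₂ (fun _ _ => Commute.all _ _)
  have hρ'app : ∀ d a, ρ' (d ⊗ₜ a) = Ideal.Quotient.mk _ d * ψ₂ a := by
    intro d a
    simp [ρ', Algebra.ofId_apply]
  obtain ⟨IΛ, hIΛdef⟩ : ∃ IΛ : Ideal Λ, IΛ = Ideal.span {algebraMap D Λ (π' ^ 4)} := ⟨_, rfl⟩
  have hIΛ : IΛ = Ideal.span {algebraMap R Λ (π ^ 4)} := by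
    rw [hIΛdef, hπ'def, ← map_pow, ← IsScalarTower.algebraMap_apply]
  have hδker : ∀ a ∈ Ideal.span {π' ^ 4},
      ((Ideal.Quotient.mkₐ D IΛ).comp (Algebra.ofId D Λ)) a = 0 := by
    intro a ha
    obtain ⟨w, rfl⟩ := Ideal.mem_span_singleton'.mp ha
    rw [AlgHom.comp_apply, Algebra.ofId_apply, Ideal.Quotient.mkₐ_eq_mk,
      Ideal.Quotient.eq_zero_iff_mem, map_mul, hIΛdef]
    exact Ideal.mul_mem_left _ _ (Ideal.subset_span rfl)
  let δbar : (D ⧸ Ideal.span {π' ^ 4}) →ₐ[D] Λ ⧸ IΛ :=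
    Ideal.Quotient.liftₐ _ ((Ideal.Quotient.mkₐ D IΛ).comp (Algebra.ofId D Λ)) hδker
  have hδbar : ∀ d, δbar (Ideal.Quotient.mk _ d) = Ideal.Quotient.mk IΛ (algebraMap D Λ d) :=
    fun d => rfl
  have hχ : (Ideal.Quotient.mkₐ D IΛ).comp φ' = δbar.comp ρ' := by
    refine Algebra.TensorProduct.ext' fun d a => ?_
    rw [AlgHom.comp_apply, AlgHom.comp_apply, hφ', hρ'app, map_mul, map_mul, hδbar,
      Ideal.Quotient.mkₐ_eq_mk]
    congr 1
    obtain ⟨d₀, hd₀⟩ := Ideal.Quotient.mk_surjective (ψ a)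
    have h1 : ψ₂ a = Ideal.Quotient.mk _ d₀ := by
      show (Ideal.quotientEquivAlgOfEq R hI) (ψ a) = _
      rw [← hd₀]
      rfl
    rw [h1, hδbar]
    have h2 := hψ a d₀ hd₀
    rw [← hIΛ] at h2
    exact (Ideal.Quotient.eq.mpr h2).symm
  have hρ' : ∀ (a' : D ⊗[R] A) (d : D), Ideal.Quotient.mk (Ideal.span {π' ^ 4}) d = ρ' a' →
      algebraMap D Λ d - φ' a' ∈ Ideal.span {algebraMap D Λ (π' ^ 4)} := by
    intro a' d hd
    rw [← hIΛdef, ← Ideal.Quotient.eq, ← hδbar, hd]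
    have h1 := congrArg (fun g : D ⊗[R] A →ₐ[D] Λ ⧸ IΛ => g a') hχ
    simp only [AlgHom.comp_apply] at h1
    exact h1.symm
  obtain ⟨B, instB, algB, hfp, α', β', hβα, hsing⟩ :=
    Helper27.LiftLem.main (R := D) (Λ := Λ) (A := D ⊗[R] A) π' hΛ' φ' hss ρ' hρ'
  refine ⟨B, instB, algB, hfp,
    α'.toRingHom.comp (Algebra.TensorProduct.includeRight : A →ₐ[R] D ⊗[R] A).toRingHom, β',
    ?_, ?_, ?_⟩
  · intro a
    have h1 := congrArg (fun g : D ⊗[R] A →ₐ[D] Λ => g ((1 : D) ⊗ₜ[R] a)) hβα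
    simp only [AlgHom.comp_apply] at h1
    rw [hφ', map_one, one_mul] at h1
    exact h1
  · intro r
    have h1 : ((1 : D) ⊗ₜ[R] algebraMap R A r : D ⊗[R] A) =
        algebraMap D (D ⊗[R] A) (algebraMap R D r) := tmul_algebraMap r
    show α' ((1 : D) ⊗ₜ[R] algebraMap R A r) = _
    rw [h1, α'.commutes]
  · intro 𝔔 _ d hd hd𝔔
    have hd𝔮 : d ∉ 𝔔.under D := hd𝔔
    have hsm𝔮 : Algebra.IsSmoothAt R (𝔔.under D) := by
      by_contra h
      unfold Smoothing.singularIdeal at hd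
      rw [PrimeSpectrum.mem_vanishingIdeal] at hd
      exact hd𝔮 (hd ⟨𝔔.under D, inferInstance⟩ h)
    refine ⟨?_, hsm𝔮⟩
    obtain ⟨r, hr𝔮, hr⟩ := exists_ann_notMem π hR (𝔔.under D)
    rw [← hπ'def] at hr
    have h1 := hsing r hr
    by_contra h
    unfold Smoothing.singularIdeal at h1
    rw [PrimeSpectrum.mem_vanishingIdeal] at h1
    exact hr𝔮 (h1 ⟨𝔔, inferInstance⟩ h)

end Helper27.Desing
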