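import Mathlib
import Groth.Prelude.Def_Smoothing
import Groth.Agent.Lib.Helper27.DesingB

set_option autoImplicit false
universe u

namespace Helper27.Desing

set_option maxHeartbeats 1000000 in
theorem main3 {R Λ A D : Type u} [CommRing R] [IsNoetherianRing R]
    [CommRing Λ] [Algebra R Λ] (π : R) (hR : ∀ r : R, π ^ 2 * r = 0 → π * r = 0)
    (hΛ : ∀ x : Λ, π ^ 2 • x = 0 → π • x = 0) [CommRing A] [Algebra R A]
    [Algebra.FinitePresentation R A] [CommRing D] [Algebra R D] [Algebra.FinitePresentation R D]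
    (φ : A →ₐ[R] Λ) (δ : D →ₐ[R] Λ) (hπ : Smoothing.IsStrictlyStandard R A (algebraMap R A π))
    (ψ : A →ₐ[R] D ⧸ Ideal.span {algebraMap R D (π ^ 4)})
    (hψ : ∀ (a : A) (d : D), Ideal.Quotient.mk (Ideal.span {algebraMap R D (π ^ 4)}) d = ψ a →
      δ d - φ a ∈ Ideal.span {algebraMap R Λ (π ^ 4)}) :
    ∃ (B : Type u) (_ : CommRing B) (_ : Algebra R B) (_ : Algebra D B) (_ : IsScalarTower R D B),
      Algebra.FinitePresentation R B ∧
      ∃ (α : A →ₐ[R] B) (β : B →ₐ[R] Λ), β.comp α = φ ∧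
        β.comp (IsScalarTower.toAlgHom R D B) = δ ∧
        (Smoothing.singularIdeal R D).map (algebraMap D B) ≤ Smoothing.singularIdeal D B ∧
        (Smoothing.singularIdeal R D).map (algebraMap D B) ≤ Smoothing.singularIdeal R B := by
  classical
  let algDΛ : Algebra D Λ := δ.toRingHom.toAlgebra
  have towerΛ : IsScalarTower R D Λ :=
    IsScalarTower.of_algebraMap_eq (fun r => (δ.commutes r).symm)
  have hψ' : ∀ (a : A) (d : D),
      Ideal.Quotient.mk (Ideal.span {algebraMap R D (π ^ 4)}) d = ψ a →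
      algebraMap D Λ d - φ a ∈ Ideal.span {algebraMap R Λ (π ^ 4)} := hψ
  obtain ⟨B, instB, algDB, hfp, α, β, hβα, hαr, hsm⟩ := main2 π hR hΛ φ hπ ψ hψ'
  let algRB : Algebra R B := ((algebraMap D B).comp (algebraMap R D)).toAlgebra
  have towerB : IsScalarTower R D B := IsScalarTower.of_algebraMap_eq (fun r => rfl)
  have hfpR : Algebra.FinitePresentation R B := Algebra.FinitePresentation.trans R D B
  let αR : A →ₐ[R] B := { α with commutes' := fun r => hαr r }
  let βR : B →ₐ[R] Λ := β.restrictScalars R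
  refine ⟨B, instB, algRB, algDB, towerB, hfpR, αR, βR, ?_, ?_, ?_, ?_⟩
  · apply AlgHom.ext
    intro a
    exact hβα a
  · apply AlgHom.ext
    intro d
    exact β.commutes d
  · rw [Ideal.map_le_iff_le_comap]
    intro d hd
    show algebraMap D B d ∈ Smoothing.singularIdeal D B
    unfold Smoothing.singularIdeal
    rw [PrimeSpectrum.mem_vanishingIdeal]
    intro 𝔓 h𝔓
    by_contra hd𝔓
    exact h𝔓 (hsm 𝔓.asIdeal d hd hd𝔓).1
  · rw [Ideal.map_le_iff_le_comap]
    intro d hd
    show algebraMap D B d ∈ Smoothing.singularIdeal R B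
    unfold Smoothing.singularIdeal
    rw [PrimeSpectrum.mem_vanishingIdeal]
    intro 𝔓 h𝔓
    by_contra hd𝔓
    obtain ⟨h1, h2⟩ := hsm 𝔓.asIdeal d hd hd𝔓
    let := Localization.AtPrime.algebraOfLiesOver (𝔓.asIdeal.under D) 𝔓.asIdeal
    have h3 : Algebra.FormallySmooth (Localization.AtPrime (𝔓.asIdeal.under D))
        (Localization.AtPrime 𝔓.asIdeal) :=
      Algebra.FormallySmooth.localization_base (R := D) (𝔓.asIdeal.under D).primeCompl
    have h4 : Algebra.FormallySmooth R (Localization.AtPrime 𝔓.asIdeal) :=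
      Algebra.FormallySmooth.comp R (Localization.AtPrime (𝔓.asIdeal.under D)) _
    exact h𝔓 h4

end Helper27.Desing
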