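import Mathlib
import Groth.Agent.Lib.Helper27.DimZeroC

set_option autoImplicit false
universe u

namespace Helper27.ResMod

open Helper27.DimZero

theorem finitePresentation_quotient {R A : Type u} [CommRing R] [IsNoetherianRing R] [CommRing A]
    [Algebra R A] [Algebra.FinitePresentation R A] (I : Ideal R) :
    Algebra.FinitePresentation (R ⧸ I) (A ⧸ I.map (algebraMap R A)) := by
  have hfg : (I.map (algebraMap R A)).FG := Ideal.FG.map (IsNoetherian.noetherian I) _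
  have h1 : Algebra.FinitePresentation R (A ⧸ I.map (algebraMap R A)) :=
    Algebra.FinitePresentation.quotient hfg
  exact Algebra.FinitePresentation.of_restrict_scalars_finitePresentation R (R ⧸ I) _

theorem map_mem_singularIdeal {R₁ A₁ R₂ A₂ : Type u} [CommRing R₁] [CommRing A₁] [Algebra R₁ A₁]
    [Algebra.FinitePresentation R₁ A₁]
    [CommRing R₂] [CommRing A₂] [Algebra R₂ A₂] [Algebra.FinitePresentation R₂ A₂]
    (ρ : R₁ →+* R₂) (hρ : Function.Surjective ρ) (qA : A₁ →+* A₂) (hqA : Function.Surjective qA)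
    (hqAker : RingHom.ker qA ≤ (RingHom.ker ρ).map (algebraMap R₁ A₁))
    (hqAc : ∀ x, qA (algebraMap R₁ A₁ x) = algebraMap R₂ A₂ (ρ x))
    (a : A₁) (ha : a ∈ Smoothing.singularIdeal R₁ A₁) :
    qA a ∈ Smoothing.singularIdeal R₂ A₂ := by
  apply mem_singularIdeal_of_formallySmooth_away
  apply formallySmooth_away_of_lift
  intro T _ _ J hJ u hu
  have hAa : Algebra.FormallySmooth R₁ (Localization.Away a) :=
    formallySmooth_away_of_mem_singularIdeal a ha
  let algT : Algebra R₁ T := ((algebraMap R₂ T).comp ρ).toAlgebra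
  have hT : ∀ x : R₁, algebraMap R₁ T x = algebraMap R₂ T (ρ x) := fun _ => rfl
  obtain ⟨w₀, hw₀⟩ : ∃ w₀ : A₁ →ₐ[R₁] T ⧸ J, ∀ x, w₀ x = u (qA x) :=
    ⟨{ (u.toRingHom.comp qA) with
        commutes' := fun x => by
          show u (qA (algebraMap R₁ A₁ x)) = Ideal.Quotient.mk J (algebraMap R₁ T x)
          rw [hqAc, u.commutes, hT]
          rfl }, fun _ => rfl⟩
  have hw₀a : IsUnit (w₀ a) := by rw [hw₀]; exact hu
  obtain ⟨w₁, hw₁⟩ : ∃ w₁ : Localization.Away a →ₐ[R₁] T ⧸ J,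
      ∀ x, w₁ (algebraMap A₁ _ x) = w₀ x :=
    ⟨IsLocalization.Away.liftAlgHom (A := R₁) (S := Localization.Away a) a (f := w₀) hw₀a,
      fun x => IsLocalization.Away.lift_eq a hw₀a x⟩
  obtain ⟨κ, hκ⟩ := Algebra.FormallySmooth.comp_surjective R₁ (Localization.Away a) J hJ w₁
  have hκ' : ∀ x, Ideal.Quotient.mk J (κ x) = w₁ x := fun x => DFunLike.congr_fun hκ x
  obtain ⟨v₀, hv₀⟩ : ∃ v₀ : A₁ →ₐ[R₁] T, ∀ x, v₀ x = κ (algebraMap A₁ _ x) :=
    ⟨κ.comp (IsScalarTower.toAlgHom R₁ A₁ _), fun _ => rfl⟩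
  have hkill : RingHom.ker qA ≤ RingHom.ker v₀.toRingHom := by
    refine hqAker.trans ?_
    rw [Ideal.map_le_iff_le_comap]
    intro k hk
    show v₀ (algebraMap R₁ A₁ k) = 0
    rw [v₀.commutes, hT, (RingHom.mem_ker).mp hk, map_zero]
  obtain ⟨v, hv⟩ : ∃ v : A₂ →+* T, ∀ x, v (qA x) = v₀ x :=
    ⟨RingHom.liftOfSurjective qA hqA ⟨v₀.toRingHom, hkill⟩, fun x =>
      RingHom.liftOfRightInverse_comp_apply _ _ _ ⟨v₀.toRingHom, hkill⟩ x⟩
  refine ⟨{ v with commutes' := fun y => ?_ }, ?_⟩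
  · obtain ⟨x, rfl⟩ := hρ y
    show v (algebraMap R₂ A₂ (ρ x)) = algebraMap R₂ T (ρ x)
    rw [← hqAc, hv, v₀.commutes, hT]
  · apply AlgHom.ext
    intro y
    obtain ⟨x, rfl⟩ := hqA y
    show Ideal.Quotient.mk J (v (qA x)) = u (qA x)
    rw [hv, hv₀, hκ', hw₁, hw₀]

end Helper27.ResMod
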