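import Mathlib
import Groth.Agent.Lib.Helper27.LiftProbI

set_option autoImplicit false
universe u

namespace Helper27.ResMod

set_option maxHeartbeats 1000000 in
theorem liftProb_abs {R Λ Rb Λb Cb : Type u} [CommRing R] [IsNoetherianRing R] [CommRing Λ]
    [Algebra R Λ] (ϖ : R) (hR : ∀ r : R, ϖ ^ 2 * r = 0 → ϖ * r = 0)
    (hΛ : ∀ x : Λ, ϖ ^ 2 • x = 0 → ϖ • x = 0)
    [CommRing Rb] [Algebra R Rb] (hRb : Function.Surjective (algebraMap R Rb))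
    (hRbker : RingHom.ker (algebraMap R Rb) = Ideal.span {ϖ ^ 2})
    [CommRing Λb] [Algebra R Λb] (qΛ : Λ →ₐ[R] Λb) (hqΛ : Function.Surjective qΛ)
    (hqΛker : ∀ l, qΛ l = 0 → l ∈ Ideal.span {algebraMap R Λ (ϖ ^ 2)})
    [CommRing Cb] [Algebra R Cb] [Algebra Rb Cb] [IsScalarTower R Rb Cb]
    [Algebra.FinitePresentation Rb Cb]
    (g : Cb →ₐ[R] Λb) :
    ∃ (D : Type u) (_ : CommRing D) (_ : Algebra R D), Algebra.FinitePresentation R D ∧
      ∃ (δ : D →ₐ[R] Λ) (ψ : Cb →ₐ[R] D ⧸ Ideal.span {algebraMap R D ϖ}),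
        (∀ (c : Cb) (d : D) (l : Λ), Ideal.Quotient.mk (Ideal.span {algebraMap R D ϖ}) d = ψ c →
          qΛ l = g c → δ d - l ∈ Ideal.span {algebraMap R Λ ϖ}) ∧
        (∀ (Q : Ideal D) [Q.IsPrime], algebraMap R D ϖ ∉ Q → Algebra.IsSmoothAt R Q) ∧
        (∀ (Q : Ideal (D ⧸ Ideal.span {algebraMap R D ϖ})) [Q.IsPrime],
          Algebra.IsSmoothAt Rb (Q.comap ψ) →
            Algebra.IsSmoothAt R
              (Q.comap (Ideal.Quotient.mk (Ideal.span {algebraMap R D ϖ})))) := by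
  classical
  have hle : Ideal.span {ϖ ^ 2} ≤ RingHom.ker (algebraMap R Rb) := le_of_eq hRbker.symm
  obtain ⟨ι, hι⟩ : ∃ ι : (R ⧸ Ideal.span {ϖ ^ 2}) →+* Rb,
      ∀ x, ι (Ideal.Quotient.mk _ x) = algebraMap R Rb x :=
    ⟨Ideal.Quotient.lift _ (algebraMap R Rb) (fun x hx => hle hx), fun x => rfl⟩
  have hιbij : Function.Bijective ι := by
    constructor
    · rw [injective_iff_map_eq_zero]
      intro x hx
      obtain ⟨x, rfl⟩ := Ideal.Quotient.mk_surjective x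
      rw [hι] at hx
      have : x ∈ Ideal.span {ϖ ^ 2} := hRbker ▸ hx
      exact Ideal.Quotient.eq_zero_iff_mem.mpr this
    · intro y
      obtain ⟨x, rfl⟩ := hRb y
      exact ⟨Ideal.Quotient.mk _ x, hι x⟩
  let algQ : Algebra (R ⧸ Ideal.span {ϖ ^ 2}) Rb := ι.toAlgebra
  let algQC : Algebra (R ⧸ Ideal.span {ϖ ^ 2}) Cb := ((algebraMap Rb Cb).comp ι).toAlgebra
  have tower1 : IsScalarTower (R ⧸ Ideal.span {ϖ ^ 2}) Rb Cb :=
    IsScalarTower.of_algebraMap_eq (fun _ => rfl)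
  have tower2 : IsScalarTower R (R ⧸ Ideal.span {ϖ ^ 2}) Cb :=
    IsScalarTower.of_algebraMap_eq (fun x => by
      show algebraMap R Cb x = algebraMap Rb Cb (ι (Ideal.Quotient.mk _ x))
      rw [hι, ← IsScalarTower.algebraMap_apply])
  obtain ⟨eQ, heQ⟩ : ∃ eQ : (R ⧸ Ideal.span {ϖ ^ 2}) ≃ₐ[R ⧸ Ideal.span {ϖ ^ 2}] Rb,
      ∀ x, eQ x = ι x :=
    ⟨AlgEquiv.ofBijective (Algebra.ofId _ _) hιbij, fun _ => rfl⟩
  have hfpQ : Algebra.FinitePresentation (R ⧸ Ideal.span {ϖ ^ 2}) Rb :=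
    Algebra.FinitePresentation.equiv eQ
  have hfsQ : Algebra.FormallySmooth (R ⧸ Ideal.span {ϖ ^ 2}) Rb :=
    Algebra.FormallySmooth.of_equiv eQ
  have hfpC : Algebra.FinitePresentation (R ⧸ Ideal.span {ϖ ^ 2}) Cb :=
    Algebra.FinitePresentation.trans _ Rb _
  obtain ⟨e, he⟩ := Helper27.LiftProb.exists_lift qΛ hqΛ
    (Ideal.Quotient.mkₐ R (Ideal.span {algebraMap R Λ (ϖ ^ 2)}))
    (fun l hl => Ideal.Quotient.eq_zero_iff_mem.mpr (hqΛker l hl))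
  obtain ⟨D, instD, algD, hfpD, δ, ψ, hcompat, hb, hc⟩ :=
    Helper27.LiftProb.main ϖ hR hΛ (e.comp g)
  refine ⟨D, instD, algD, hfpD, δ, ψ, ?_, hb, ?_⟩
  · intro c d l hd hl
    refine hcompat c d l hd ?_
    show Ideal.Quotient.mk _ l = e (g c)
    rw [← hl, he]
    rfl
  · intro Q _ hsm
    refine hc Q ?_
    unfold Algebra.IsSmoothAt at hsm ⊢
    have tower3 : IsScalarTower (R ⧸ Ideal.span {ϖ ^ 2}) Rb
        (Localization.AtPrime (Q.comap ψ)) := inferInstance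
    exact Algebra.FormallySmooth.comp (R ⧸ Ideal.span {ϖ ^ 2}) Rb _

end Helper27.ResMod
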