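import Mathlib
import Groth.Agent.Lib.Helper27.ResModA
import Groth.Agent.Lib.Helper27.ResModC
import Groth.Agent.Lib.Helper27.DesingC

set_option autoImplicit false
universe u

namespace Helper27.ResMod

theorem isSmoothAt_of_eq {R D : Type*} [CommRing R] [CommRing D] [Algebra R D] {P P' : Ideal D}
    [P.IsPrime] [P'.IsPrime] (h : P = P') (hs : Algebra.IsSmoothAt R P) :
    Algebra.IsSmoothAt R P' := by
  subst h
  exact hs

theorem pow_kill {S : Type*} [CommRing S] (p : S) (h : ∀ x, p ^ 2 * x = 0 → p * x = 0) :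
    ∀ (k : ℕ) (x : S), p ^ (k + 1) * x = 0 → p * x = 0 := by
  intro k
  induction k with
  | zero =>
    intro x hx
    simpa using hx
  | succ k ih =>
    intro x hx
    apply ih
    have h1 : p ^ 2 * (p ^ k * x) = 0 := by
      have : p ^ 2 * (p ^ k * x) = p ^ (k + 1 + 1) * x := by ring
      rw [this]
      exact hx
    have h2 := h _ h1
    rw [← mul_assoc, ← pow_succ'] at h2
    exact h2

theorem pow4_kill {S : Type*} [CommRing S] (p : S) (h : ∀ x, p ^ 2 * x = 0 → p * x = 0)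
    (x : S) (hx : (p ^ 4) ^ 2 * x = 0) : p ^ 4 * x = 0 := by
  have h1 : p ^ (7 + 1) * x = 0 := by
    rw [← hx]
    ring
  have h2 := pow_kill p h 7 x h1
  calc p ^ 4 * x = p ^ 3 * (p * x) := by ring
    _ = 0 := by rw [h2, mul_zero]

set_option maxHeartbeats 1000000 in
theorem step {R₁ A₁ Λ₁ R₂ A₂ Λ₂ : Type u} [CommRing R₁] [IsNoetherianRing R₁] [CommRing A₁]
    [Algebra R₁ A₁] [Algebra.FinitePresentation R₁ A₁] [CommRing Λ₁] [Algebra R₁ Λ₁]
    (φ₁ : A₁ →ₐ[R₁] Λ₁) (𝔮₁ : Ideal Λ₁) (π : R₁)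
    (hR : ∀ x : R₁, π ^ 2 * x = 0 → π * x = 0)
    (hΛ : ∀ x : Λ₁, algebraMap R₁ Λ₁ π ^ 2 * x = 0 → algebraMap R₁ Λ₁ π * x = 0)
    (hstd : Smoothing.IsStrictlyStandard R₁ A₁ (algebraMap R₁ A₁ π))
    [CommRing R₂] [CommRing A₂] [Algebra R₂ A₂] [CommRing Λ₂] [Algebra R₂ Λ₂]
    (φ₂ : A₂ →ₐ[R₂] Λ₂)
    (ρ : R₁ →+* R₂) (hρ : Function.Surjective ρ) (hρker : RingHom.ker ρ = Ideal.span {π ^ 8})
    (qA : A₁ →+* A₂) (hqA : Function.Surjective qA)
    (hqAker : RingHom.ker qA ≤ (RingHom.ker ρ).map (algebraMap R₁ A₁))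
    (hqAc : ∀ x, qA (algebraMap R₁ A₁ x) = algebraMap R₂ A₂ (ρ x))
    (qΛ : Λ₁ →+* Λ₂) (hqΛ : Function.Surjective qΛ)
    (hqΛker : RingHom.ker qΛ = (RingHom.ker ρ).map (algebraMap R₁ Λ₁))
    (hqΛc : ∀ x, qΛ (algebraMap R₁ Λ₁ x) = algebraMap R₂ Λ₂ (ρ x))
    (hφ : ∀ a, φ₂ (qA a) = qΛ (φ₁ a))
    (hres : Smoothing.Resolvable R₂ φ₂ (𝔮₁.map qΛ)) : Smoothing.Resolvable R₁ φ₁ 𝔮₁ := by
  classical
  obtain ⟨C₂, instC₂, algC₂, hfpC, g₂, h₂, hgh, hle₂, hnle₂⟩ := hres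
  let algR₂ : Algebra R₁ R₂ := ρ.toAlgebra
  let algA₂ : Algebra R₁ A₂ := ((algebraMap R₂ A₂).comp ρ).toAlgebra
  let algΛ₂ : Algebra R₁ Λ₂ := ((algebraMap R₂ Λ₂).comp ρ).toAlgebra
  let algC₂' : Algebra R₁ C₂ := ((algebraMap R₂ C₂).comp ρ).toAlgebra
  have tA₂ : IsScalarTower R₁ R₂ A₂ := IsScalarTower.of_algebraMap_eq (fun _ => rfl)
  have tΛ₂ : IsScalarTower R₁ R₂ Λ₂ := IsScalarTower.of_algebraMap_eq (fun _ => rfl)
  have tC₂ : IsScalarTower R₁ R₂ C₂ := IsScalarTower.of_algebraMap_eq (fun _ => rfl)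
  obtain ⟨qΛa, hqΛa⟩ : ∃ qΛa : Λ₁ →ₐ[R₁] Λ₂, ∀ x, qΛa x = qΛ x :=
    ⟨{ qΛ with commutes' := fun x => hqΛc x }, fun _ => rfl⟩
  obtain ⟨qAa, hqAa⟩ : ∃ qAa : A₁ →ₐ[R₁] A₂, ∀ x, qAa x = qA x :=
    ⟨{ qA with commutes' := fun x => hqAc x }, fun _ => rfl⟩
  have hnoethA : IsNoetherianRing A₁ := Algebra.FiniteType.isNoetherianRing R₁ A₁
  have hfpA₂R₁ : Algebra.FinitePresentation R₁ A₂ :=
    Algebra.FinitePresentation.of_surjective (f := qAa)
      (fun y => by obtain ⟨x, rfl⟩ := hqA y; exact ⟨x, hqAa x⟩) (IsNoetherian.noetherian _)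
  have hftR₂ : Algebra.FiniteType R₁ R₂ :=
    Algebra.FiniteType.of_surjective (Algebra.ofId R₁ R₂) hρ
  have hfpA₂ : Algebra.FinitePresentation R₂ A₂ :=
    Algebra.FinitePresentation.of_restrict_scalars_finitePresentation R₁ R₂ A₂
  have hR4 : ∀ r : R₁, (π ^ 4) ^ 2 * r = 0 → π ^ 4 * r = 0 := pow4_kill π hR
  have hΛ4 : ∀ x : Λ₁, (π ^ 4) ^ 2 • x = 0 → π ^ 4 • x = 0 := by
    intro x hx
    rw [Algebra.smul_def, map_pow, map_pow] at hx
    rw [Algebra.smul_def, map_pow]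
    exact pow4_kill _ hΛ x hx
  have hΛ' : ∀ x : Λ₁, π ^ 2 • x = 0 → π • x = 0 := by
    intro x hx
    rw [Algebra.smul_def, map_pow] at hx
    rw [Algebra.smul_def]
    exact hΛ x hx
  have hker8 : RingHom.ker (algebraMap R₁ R₂) = Ideal.span {(π ^ 4) ^ 2} := by
    show RingHom.ker ρ = _
    rw [hρker, ← pow_mul]
  have hqΛker' : RingHom.ker qΛ = Ideal.span {algebraMap R₁ Λ₁ (π ^ 8)} := by
    rw [hqΛker, hρker, Ideal.map_span, Set.image_singleton]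
  have hkerΛ8 : ∀ l, qΛa l = 0 → l ∈ Ideal.span {algebraMap R₁ Λ₁ ((π ^ 4) ^ 2)} := by
    intro l hl
    rw [← pow_mul]
    rw [hqΛa] at hl
    have : l ∈ RingHom.ker qΛ := hl
    rw [hqΛker'] at this
    exact this
  obtain ⟨D, instD, algD, hfpD, δ, ψ, hcompat, hb, hc⟩ :=
    liftProb_abs (π ^ 4) hR4 hΛ4 (Rb := R₂) hρ hker8 qΛa
      (fun y => by obtain ⟨x, rfl⟩ := hqΛ y; exact ⟨x, hqΛa x⟩) hkerΛ8 (h₂.restrictScalars R₁)
  obtain ⟨ψA, hψA⟩ : ∃ ψA : A₁ →ₐ[R₁] D ⧸ Ideal.span {algebraMap R₁ D (π ^ 4)},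
      ∀ a, ψA a = ψ (g₂ (qA a)) :=
    ⟨ψ.comp ((g₂.restrictScalars R₁).comp qAa), fun a => by
      show ψ (g₂ (qAa a)) = _
      rw [hqAa]⟩
  have hgh' : ∀ x, h₂ (g₂ x) = φ₂ x := fun x => DFunLike.congr_fun hgh x
  have hcompatA : ∀ (a : A₁) (d : D),
      Ideal.Quotient.mk (Ideal.span {algebraMap R₁ D (π ^ 4)}) d = ψA a →
        δ d - φ₁ a ∈ Ideal.span {algebraMap R₁ Λ₁ (π ^ 4)} := by
    intro a d hd
    refine hcompat (g₂ (qA a)) d (φ₁ a) (by rw [hd, hψA]) ?_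
    show qΛa (φ₁ a) = h₂ (g₂ (qA a))
    rw [hqΛa, ← hφ, hgh']
  obtain ⟨B, instB, algB, algDB, towerB, hfpB, α, β, hβα, hβδ, -, hHB⟩ :=
    Helper27.Desing.main3 π hR hΛ' φ₁ δ hstd ψA hcompatA
  have hβδ' : ∀ d, β (algebraMap D B d) = δ d := fun d => DFunLike.congr_fun hβδ d
  obtain ⟨𝔥, h𝔥⟩ : ∃ 𝔥 : Ideal Λ₁, 𝔥 = Smoothing.singRad R₁ β := ⟨_, rfl⟩
  have h𝔥rad : 𝔥.IsRadical := by
    rw [h𝔥]
    exact Ideal.radical_isRadical _
  have hHD : ∀ d ∈ Smoothing.singularIdeal R₁ D, δ d ∈ 𝔥 := by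
    intro d hd
    rw [h𝔥, ← hβδ']
    exact Ideal.le_radical (Ideal.mem_map_of_mem _ (hHB (Ideal.mem_map_of_mem _ hd)))
  have hπD : algebraMap R₁ D π ∈ Smoothing.singularIdeal R₁ D := by
    unfold Smoothing.singularIdeal
    rw [PrimeSpectrum.mem_vanishingIdeal]
    intro Q hQ
    by_contra hn
    exact hQ (hb Q.asIdeal (fun h => hn (Q.isPrime.mem_of_pow_mem 4 (by rwa [map_pow] at h))))
  have hπ𝔥 : algebraMap R₁ Λ₁ π ∈ 𝔥 := by
    have := hHD _ hπD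
    rwa [δ.commutes] at this
  have hker𝔥 : RingHom.ker qΛ ≤ 𝔥 := by
    rw [hqΛker', Ideal.span_le, Set.singleton_subset_iff, map_pow]
    exact Ideal.pow_mem_of_mem _ hπ𝔥 8 (by norm_num)
  have hstar : ∀ c ∈ Smoothing.singularIdeal R₂ C₂, ∀ l, qΛ l = h₂ c → l ∈ 𝔥 := by
    intro c hc' l hl
    obtain ⟨d, hd⟩ := Ideal.Quotient.mk_surjective (ψ c)
    have hdH : d ∈ Smoothing.singularIdeal R₁ D := by
      unfold Smoothing.singularIdeal
      rw [PrimeSpectrum.mem_vanishingIdeal]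
      intro Q hQ
      by_contra hdQ
      by_cases hπQ : algebraMap R₁ D π ∈ Q.asIdeal
      · have hkerQ : Ideal.span {algebraMap R₁ D (π ^ 4)} ≤ Q.asIdeal := by
          rw [Ideal.span_le, Set.singleton_subset_iff, map_pow]
          exact Ideal.pow_mem_of_mem _ hπQ 4 (by norm_num)
        have hcomap : (Q.asIdeal.map (Ideal.Quotient.mk
            (Ideal.span {algebraMap R₁ D (π ^ 4)}))).comap (Ideal.Quotient.mk _) = Q.asIdeal := by
          rw [Ideal.comap_map_of_surjective _ Ideal.Quotient.mk_surjective,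
            ← RingHom.ker_eq_comap_bot, Ideal.mk_ker, sup_eq_left]
          exact hkerQ
        have hprime : (Q.asIdeal.map (Ideal.Quotient.mk
            (Ideal.span {algebraMap R₁ D (π ^ 4)}))).IsPrime :=
          Ideal.map_isPrime_of_surjective Ideal.Quotient.mk_surjective
            (by rw [Ideal.mk_ker]; exact hkerQ)
        have hcn : c ∉ (Q.asIdeal.map (Ideal.Quotient.mk
            (Ideal.span {algebraMap R₁ D (π ^ 4)}))).comap ψ := by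
          intro hcm
          rw [Ideal.mem_comap, ← hd] at hcm
          have h1 : d ∈ (Q.asIdeal.map (Ideal.Quotient.mk
            (Ideal.span {algebraMap R₁ D (π ^ 4)}))).comap (Ideal.Quotient.mk _) := hcm
          rw [hcomap] at h1
          exact hdQ h1
        have hsmC : Algebra.IsSmoothAt R₂ ((Q.asIdeal.map (Ideal.Quotient.mk
            (Ideal.span {algebraMap R₁ D (π ^ 4)}))).comap ψ) := by
          unfold Smoothing.singularIdeal at hc'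
          rw [PrimeSpectrum.mem_vanishingIdeal] at hc'
          by_contra hns
          have hP : ((Q.asIdeal.map (Ideal.Quotient.mk
            (Ideal.span {algebraMap R₁ D (π ^ 4)}))).comap ψ).IsPrime := inferInstance
          exact hcn (hc' ⟨_, hP⟩ hns)
        have hsmD := hc _ hsmC
        exact hQ (isSmoothAt_of_eq hcomap hsmD)
      · exact hQ (hb Q.asIdeal
          (fun h => hπQ (Q.isPrime.mem_of_pow_mem 4 (by rwa [map_pow] at h))))
    have h1 : δ d ∈ 𝔥 := hHD d hdH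
    have h2 : δ d - l ∈ Ideal.span {algebraMap R₁ Λ₁ (π ^ 4)} :=
      hcompat c d l hd (by rw [hqΛa]; exact hl)
    have h3 : Ideal.span {algebraMap R₁ Λ₁ (π ^ 4)} ≤ 𝔥 := by
      rw [Ideal.span_le, Set.singleton_subset_iff, map_pow]
      exact Ideal.pow_mem_of_mem _ hπ𝔥 4 (by norm_num)
    have h4 := 𝔥.sub_mem h1 (h3 h2)
    simpa using h4
  have hmapC : (Smoothing.singularIdeal R₂ C₂).map h₂ ≤ 𝔥.map qΛ := by
    rw [Ideal.map_le_iff_le_comap]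
    intro c hc'
    obtain ⟨l, hl⟩ := hqΛ (h₂ c)
    rw [Ideal.mem_comap, ← hl]
    exact Ideal.mem_map_of_mem _ (hstar c hc' l hl)
  have hradmap : (𝔥.map qΛ).IsRadical := by
    rw [← Ideal.radical_eq_iff, ← Ideal.map_radical_of_surjective hqΛ hker𝔥, h𝔥rad.radical]
  have hsing₂ : Smoothing.singRad R₂ h₂ ≤ 𝔥.map qΛ := by
    unfold Smoothing.singRad
    exact hradmap.radical_le_iff.mpr hmapC
  have hcomap𝔥 : (𝔥.map qΛ).comap qΛ = 𝔥 := by
    rw [Ideal.comap_map_of_surjective _ hqΛ, ← RingHom.ker_eq_comap_bot, sup_eq_left]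
    exact hker𝔥
  refine ⟨B, instB, algB, hfpB, α, β, hβα, ?_, ?_⟩
  · rw [← h𝔥]
    unfold Smoothing.singRad
    rw [h𝔥rad.radical_le_iff, Ideal.map_le_iff_le_comap]
    intro a ha
    rw [Ideal.mem_comap, ← hcomap𝔥, Ideal.mem_comap, ← hφ]
    apply hsing₂
    apply hle₂
    exact Ideal.le_radical (Ideal.mem_map_of_mem _
      (map_mem_singularIdeal ρ hρ qA hqA hqAker hqAc a ha))
  · intro hle
    apply hnle₂
    rw [← h𝔥] at hle
    exact hsing₂.trans (Ideal.map_mono hle)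

end Helper27.ResMod
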