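import Mathlib
import Groth.Agent.Lib.Helper27.ResModB
import Groth.Agent.Lib.Helper27.ResModD
import Groth.Agent.Lib.Helper27.StdElemE

set_option autoImplicit false
universe u

namespace Helper27.ResMod

open Smoothing

section

variable {R A Λ : Type u} [CommRing R] [CommRing A] [Algebra R A] [CommRing Λ] [Algebra R Λ]

theorem exists_quotMap (φ : A →ₐ[R] Λ) (I : Ideal R) :
    ∃ φI : (A ⧸ I.map (algebraMap R A)) →ₐ[R ⧸ I] (Λ ⧸ I.map (algebraMap R Λ)),
      ∀ a : A, φI (Ideal.Quotient.mk _ a) = Ideal.Quotient.mk _ (φ a) := by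
  have hle : I.map (algebraMap R A) ≤ (I.map (algebraMap R Λ)).comap φ.toRingHom := by
    rw [Ideal.map_le_iff_le_comap]
    intro x hx
    rw [Ideal.mem_comap, Ideal.mem_comap]
    show φ (algebraMap R A x) ∈ I.map (algebraMap R Λ)
    rw [φ.commutes]
    exact Ideal.mem_map_of_mem _ hx
  refine ⟨{ Ideal.quotientMap (I.map (algebraMap R Λ)) φ.toRingHom hle with
    commutes' := fun x => ?_ }, fun a => ?_⟩
  · obtain ⟨x, rfl⟩ := Ideal.Quotient.mk_surjective x
    show Ideal.quotientMap (I.map (algebraMap R Λ)) φ.toRingHom hle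
      (Ideal.Quotient.mk _ (algebraMap R A x)) = Ideal.Quotient.mk _ (algebraMap R Λ x)
    rw [Ideal.quotientMap_mk]
    show Ideal.Quotient.mk _ (φ (algebraMap R A x)) = _
    rw [φ.commutes]
  · show Ideal.quotientMap (I.map (algebraMap R Λ)) φ.toRingHom hle (Ideal.Quotient.mk _ a) = _
    rw [Ideal.quotientMap_mk]
    rfl

/-- resolvability of the standard quotient problem modulo `I` -/
def PQ (φ : A →ₐ[R] Λ) (𝔮 : Ideal Λ) (I : Ideal R) : Prop :=
  ∀ φI : (A ⧸ I.map (algebraMap R A)) →ₐ[R ⧸ I] (Λ ⧸ I.map (algebraMap R Λ)),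
    (∀ a : A, φI (Ideal.Quotient.mk _ a) = Ideal.Quotient.mk _ (φ a)) →
      Smoothing.Resolvable (R ⧸ I) φI (𝔮.map (Ideal.Quotient.mk (I.map (algebraMap R Λ))))

theorem isStrictlyStandard_zero [Algebra.FinitePresentation R A] :
    Smoothing.IsStrictlyStandard R A 0 := by
  obtain ⟨n, m, f, φ, hφ, hker⟩ := Helper27.StdElem.exists_presentation (R := R) (A := A)
  refine ⟨⟨n, m, 0, Nat.zero_le _, Nat.zero_le _, f, φ, hφ, hker⟩, Ideal.zero_mem _, ?_⟩
  intro a' ha' j _
  have h1 : a' ∈ Ideal.span (Set.range f) := by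
    rw [← hker]
    exact ha'
  refine Ideal.mem_sup_right ?_
  rw [pow_two]
  exact Ideal.mul_mem_mul h1 (Ideal.subset_span ⟨j, rfl⟩)

end

set_option maxHeartbeats 1000000 in
theorem bottom {R A Λ : Type u} [CommRing R] [IsNoetherianRing R] [CommRing A] [Algebra R A]
    [Algebra.FinitePresentation R A] [CommRing Λ] [Algebra R Λ] (φ : A →ₐ[R] Λ) (𝔮 : Ideal Λ)
    (h : PQ φ 𝔮 ⊥) : Smoothing.Resolvable R φ 𝔮 := by
  obtain ⟨φI, hφI⟩ := exists_quotMap φ ⊥
  have hres := h φI hφI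
  have hstd : Smoothing.IsStrictlyStandard R A (algebraMap R A 0) := by
    rw [map_zero]
    exact isStrictlyStandard_zero
  refine step φ 𝔮 (0 : R) (fun x _ => zero_mul x) (fun x _ => by rw [map_zero, zero_mul]) hstd φI
    (Ideal.Quotient.mk ⊥) Ideal.Quotient.mk_surjective ?_
    (Ideal.Quotient.mk _) Ideal.Quotient.mk_surjective ?_ (fun x => rfl)
    (Ideal.Quotient.mk _) Ideal.Quotient.mk_surjective ?_ (fun x => rfl) hφI hres
  · rw [Ideal.mk_ker]
    simp
  · rw [Ideal.mk_ker, Ideal.mk_ker]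
  · rw [Ideal.mk_ker, Ideal.mk_ker]

end Helper27.ResMod
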