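import Mathlib
import Groth.Agent.Lib.Helper27.ResModE

set_option autoImplicit false
universe u

namespace Helper27.ResMod

open Smoothing

set_option maxHeartbeats 1000000 in
theorem chain_step {R A Λ : Type u} [CommRing R] [IsNoetherianRing R] [CommRing A] [Algebra R A]
    [Algebra.FinitePresentation R A] [CommRing Λ] [Algebra R Λ] (φ : A →ₐ[R] Λ) (𝔮 : Ideal Λ)
    (I I' : Ideal R) (π : R) (hI' : I' = I ⊔ Ideal.span {π ^ 8})
    (hRI : ∀ x : R, π ^ 2 * x ∈ I → π * x ∈ I)
    (hΛI : ∀ x : Λ, algebraMap R Λ π ^ 2 * x ∈ I.map (algebraMap R Λ) →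
      algebraMap R Λ π * x ∈ I.map (algebraMap R Λ))
    (hstd : Smoothing.IsStrictlyStandard R A (algebraMap R A π))
    (h : PQ φ 𝔮 I') : PQ φ 𝔮 I := by
  intro φI hφI
  have hII' : I ≤ I' := hI' ▸ le_sup_left
  obtain ⟨φI', hφI'⟩ := exists_quotMap φ I'
  have hres := h φI' hφI'
  have hfp : Algebra.FinitePresentation (R ⧸ I) (A ⧸ I.map (algebraMap R A)) :=
    finitePresentation_quotient I
  have hstd₁ : Smoothing.IsStrictlyStandard (R ⧸ I) (A ⧸ I.map (algebraMap R A))
      (algebraMap (R ⧸ I) (A ⧸ I.map (algebraMap R A)) (Ideal.Quotient.mk I π)) :=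
    isStrictlyStandard_map (Ideal.Quotient.mk I) Ideal.Quotient.mk_surjective
      (Ideal.Quotient.mk (I.map (algebraMap R A))) Ideal.Quotient.mk_surjective
      (by rw [Ideal.mk_ker, Ideal.mk_ker]) (fun x => rfl) _ hstd
  have hAmono : I.map (algebraMap R A) ≤ I'.map (algebraMap R A) := Ideal.map_mono hII'
  have hΛmono : I.map (algebraMap R Λ) ≤ I'.map (algebraMap R Λ) := Ideal.map_mono hII'
  have hρker : RingHom.ker (Ideal.Quotient.factor hII') =
      Ideal.span {Ideal.Quotient.mk I π ^ 8} := by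
    rw [Ideal.Quotient.factor_ker, hI', Ideal.map_sup, Ideal.map_quotient_self, bot_sup_eq,
      Ideal.map_span, Set.image_singleton, map_pow]
  have hcommA : (algebraMap (R ⧸ I) (A ⧸ I.map (algebraMap R A))).comp (Ideal.Quotient.mk I) =
      (Ideal.Quotient.mk (I.map (algebraMap R A))).comp (algebraMap R A) := rfl
  have hcommΛ : (algebraMap (R ⧸ I) (Λ ⧸ I.map (algebraMap R Λ))).comp (Ideal.Quotient.mk I) =
      (Ideal.Quotient.mk (I.map (algebraMap R Λ))).comp (algebraMap R Λ) := rfl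
  have hqAker : RingHom.ker (Ideal.Quotient.factor hAmono) =
      (RingHom.ker (Ideal.Quotient.factor hII')).map
        (algebraMap (R ⧸ I) (A ⧸ I.map (algebraMap R A))) := by
    rw [Ideal.Quotient.factor_ker, Ideal.Quotient.factor_ker, Ideal.map_map, Ideal.map_map,
      hcommA]
  have hqΛker : RingHom.ker (Ideal.Quotient.factor hΛmono) =
      (RingHom.ker (Ideal.Quotient.factor hII')).map
        (algebraMap (R ⧸ I) (Λ ⧸ I.map (algebraMap R Λ))) := by
    rw [Ideal.Quotient.factor_ker, Ideal.Quotient.factor_ker, Ideal.map_map, Ideal.map_map,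
      hcommΛ]
  have h𝔮 : (𝔮.map (Ideal.Quotient.mk (I.map (algebraMap R Λ)))).map
      (Ideal.Quotient.factor hΛmono) = 𝔮.map (Ideal.Quotient.mk (I'.map (algebraMap R Λ))) := by
    rw [Ideal.map_map, Ideal.Quotient.factor_comp_mk]
  refine step φI (𝔮.map (Ideal.Quotient.mk _)) (Ideal.Quotient.mk I π) ?_ ?_ hstd₁ φI'
    (Ideal.Quotient.factor hII') (Ideal.Quotient.factor_surjective hII') hρker
    (Ideal.Quotient.factor hAmono) (Ideal.Quotient.factor_surjective hAmono) (le_of_eq hqAker) ?_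
    (Ideal.Quotient.factor hΛmono) (Ideal.Quotient.factor_surjective hΛmono) hqΛker ?_ ?_ ?_
  · intro x hx
    obtain ⟨x, rfl⟩ := Ideal.Quotient.mk_surjective x
    rw [← map_pow, ← map_mul, Ideal.Quotient.eq_zero_iff_mem] at hx
    rw [← map_mul, Ideal.Quotient.eq_zero_iff_mem]
    exact hRI x hx
  · intro x hx
    obtain ⟨x, rfl⟩ := Ideal.Quotient.mk_surjective x
    have e : algebraMap (R ⧸ I) (Λ ⧸ I.map (algebraMap R Λ)) (Ideal.Quotient.mk I π) =
        Ideal.Quotient.mk _ (algebraMap R Λ π) := rfl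
    rw [e] at hx ⊢
    rw [← map_pow, ← map_mul, Ideal.Quotient.eq_zero_iff_mem] at hx
    rw [← map_mul, Ideal.Quotient.eq_zero_iff_mem]
    exact hΛI x hx
  · intro x
    obtain ⟨x, rfl⟩ := Ideal.Quotient.mk_surjective x
    rfl
  · intro x
    obtain ⟨x, rfl⟩ := Ideal.Quotient.mk_surjective x
    rfl
  · intro a
    obtain ⟨a, rfl⟩ := Ideal.Quotient.mk_surjective a
    rw [Ideal.Quotient.factor_mk, hφI', hφI, Ideal.Quotient.factor_mk]
  · rw [h𝔮]
    exact hres

end Helper27.ResMod
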