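import Mathlib
import Groth.Agent.Lib.Helper27.ResModF

set_option autoImplicit false
universe u

namespace Helper27.ResMod

open Smoothing

set_option maxHeartbeats 1000000 in
theorem main {R A Λ : Type u} [CommRing R] [IsNoetherianRing R]
    [CommRing A] [Algebra R A] [Algebra.FinitePresentation R A] [CommRing Λ] [Algebra R Λ]
    (φ : A →ₐ[R] Λ) (𝔮 : Ideal Λ) {r : ℕ} (π : Fin r → R)
    (hR : ∀ i : Fin r, ∀ x : R ⧸ Ideal.span (Set.range fun j : {j : Fin r // (j : ℕ) < (i : ℕ)} => π j ^ 8),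
      Ideal.Quotient.mk _ (π i) ^ 2 * x = 0 → Ideal.Quotient.mk _ (π i) * x = 0)
    (hΛ : ∀ i : Fin r, ∀ x : Λ ⧸ Ideal.span (Set.range fun j : {j : Fin r // (j : ℕ) < (i : ℕ)} =>
        algebraMap R Λ (π j) ^ 8),
      Ideal.Quotient.mk _ (algebraMap R Λ (π i)) ^ 2 * x = 0 → Ideal.Quotient.mk _ (algebraMap R Λ (π i)) * x = 0)
    (hstd : ∀ i, Smoothing.IsStrictlyStandard R A (algebraMap R A (π i)))
    (K : Ideal R) (hK : K = Ideal.span (Set.range fun i => π i ^ 8))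
    (φK : (A ⧸ K.map (algebraMap R A)) →ₐ[R ⧸ K] (Λ ⧸ K.map (algebraMap R Λ)))
    (hφK : ∀ a : A, φK (Ideal.Quotient.mk _ a) = Ideal.Quotient.mk _ (φ a))
    (hres : Smoothing.Resolvable (R ⧸ K) φK (𝔮.map (Ideal.Quotient.mk (K.map (algebraMap R Λ))))) :
    Smoothing.Resolvable R φ 𝔮 := by
  classical
  obtain ⟨J, hJ⟩ : ∃ J : ℕ → Ideal R, ∀ i, J i =
      Ideal.span ((fun j : Fin r => π j ^ 8) '' {j | (j : ℕ) < i}) := ⟨_, fun _ => rfl⟩
  have hJ0 : J 0 = ⊥ := by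
    rw [hJ]
    simp
  have hJr : J r = K := by
    rw [hJ, hK]
    congr 1
    have : {j : Fin r | (j : ℕ) < r} = Set.univ := by
      ext j
      simp
    rw [this, Set.image_univ]
  have hJsucc : ∀ i : Fin r, J ((i : ℕ) + 1) = J i ⊔ Ideal.span {π i ^ 8} := by
    intro i
    rw [hJ, hJ, ← Ideal.span_union]
    congr 1
    have : {j : Fin r | (j : ℕ) < (i : ℕ) + 1} = {j : Fin r | (j : ℕ) < (i : ℕ)} ∪ {i} := by
      ext j
      simp only [Set.mem_ofPred_eq, Set.mem_union, Set.mem_singleton_iff, Fin.ext_iff]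
      omega
    rw [this, Set.image_union, Set.image_singleton]
  have hrange : ∀ i : Fin r,
      Ideal.span (Set.range fun j : {j : Fin r // (j : ℕ) < (i : ℕ)} => π j ^ 8) = J i := by
    intro i
    rw [hJ]
    congr 1
    ext x
    constructor
    · rintro ⟨⟨j, hj⟩, rfl⟩
      exact ⟨j, hj, rfl⟩
    · rintro ⟨j, hj, rfl⟩
      exact ⟨⟨j, hj⟩, rfl⟩
  have hrangeΛ : ∀ i : Fin r,
      Ideal.span (Set.range fun j : {j : Fin r // (j : ℕ) < (i : ℕ)} =>
        algebraMap R Λ (π j) ^ 8) = (J i).map (algebraMap R Λ) := by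
    intro i
    rw [hJ, Ideal.map_span]
    congr 1
    ext x
    constructor
    · rintro ⟨⟨j, hj⟩, rfl⟩
      exact ⟨π j ^ 8, ⟨j, hj, rfl⟩, by simp⟩
    · rintro ⟨_, ⟨j, hj, rfl⟩, rfl⟩
      exact ⟨⟨j, hj⟩, by simp⟩
  have hRI : ∀ i : Fin r, ∀ x : R, π i ^ 2 * x ∈ J i → π i * x ∈ J i := by
    intro i x hx
    rw [← hrange i] at hx ⊢
    have h1 := hR i (Ideal.Quotient.mk _ x) (by
      rw [← map_pow, ← map_mul, Ideal.Quotient.eq_zero_iff_mem]
      exact hx)
    rw [← map_mul, Ideal.Quotient.eq_zero_iff_mem] at h1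
    exact h1
  have hΛI : ∀ i : Fin r, ∀ x : Λ, algebraMap R Λ (π i) ^ 2 * x ∈ (J i).map (algebraMap R Λ) →
      algebraMap R Λ (π i) * x ∈ (J i).map (algebraMap R Λ) := by
    intro i x hx
    rw [← hrangeΛ i] at hx ⊢
    have h1 := hΛ i (Ideal.Quotient.mk _ x) (by
      rw [← map_pow, ← map_mul, Ideal.Quotient.eq_zero_iff_mem]
      exact hx)
    rw [← map_mul, Ideal.Quotient.eq_zero_iff_mem] at h1
    exact h1
  have htop : PQ φ 𝔮 K := by
    intro φI hφI
    have : φI = φK := AlgHom.ext (fun x => by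
      obtain ⟨a, rfl⟩ := Ideal.Quotient.mk_surjective x
      rw [hφI, hφK])
    subst this
    exact hres
  have hchain : ∀ k, k ≤ r → PQ φ 𝔮 (J (r - k)) := by
    intro k
    induction k with
    | zero =>
      intro _
      rw [Nat.sub_zero, hJr]
      exact htop
    | succ k ih =>
      intro hk
      have hi : r - (k + 1) < r := by omega
      have h1 : r - k = (r - (k + 1)) + 1 := by omega
      have h2 := ih (by omega)
      rw [h1] at h2
      exact chain_step φ 𝔮 (J (r - (k + 1))) (J (r - (k + 1) + 1)) (π ⟨r - (k + 1), hi⟩)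
        (hJsucc ⟨r - (k + 1), hi⟩) (hRI ⟨r - (k + 1), hi⟩) (hΛI ⟨r - (k + 1), hi⟩)
        (hstd ⟨r - (k + 1), hi⟩) h2
  have hbot := hchain r le_rfl
  rw [Nat.sub_self, hJ0] at hbot
  exact bottom φ 𝔮 hbot

end Helper27.ResMod
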