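import Mathlib
import Groth.Agent.Lib.Helper27.InsepL
import Groth.Agent.Lib.Helper27.ResModG

set_option autoImplicit false
universe u

namespace Helper27.Insep

open IsLocalRing TensorProduct Smoothing Helper27.SepRes

section G

variable {Q R C₁ B' : Type u} [CommRing Q] [CommRing R] [CommRing C₁] [CommRing B']
  [Algebra Q R] [Algebra Q C₁] [Algebra R B']

theorem exists_g (K : Ideal R) (hK0 : ∀ x ∈ K, algebraMap R B' x = 0) (b : C₁ →+* B')
    (hb : ∀ p : Q, b (algebraMap Q C₁ p) = algebraMap R B' (algebraMap Q R p)) :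
    ∃ g : ((R ⊗[Q] C₁) ⧸ K.map (algebraMap R (R ⊗[Q] C₁))) →+* B',
      ∀ (r : R) (c : C₁), g (Ideal.Quotient.mk _ (r ⊗ₜ[Q] c)) = algebraMap R B' r * b c := by
  let algQB : Algebra Q B' := ((algebraMap R B').comp (algebraMap Q R)).toAlgebra
  have tower : IsScalarTower Q R B' := IsScalarTower.of_algebraMap_eq (fun _ => rfl)
  let bA : C₁ →ₐ[Q] B' := { b with commutes' := hb }
  let g₁ : R ⊗[Q] C₁ →ₐ[R] B' :=
    Algebra.TensorProduct.lift (Algebra.ofId R B') bA (fun _ _ => Commute.all _ _)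
  have hg₁ : ∀ (r : R) (c : C₁), g₁ (r ⊗ₜ[Q] c) = algebraMap R B' r * b c := by
    intro r c
    show Algebra.TensorProduct.lift (Algebra.ofId R B') bA _ (r ⊗ₜ[Q] c) = _
    rw [Algebra.TensorProduct.lift_tmul]
    rfl
  have hker : ∀ x ∈ K.map (algebraMap R (R ⊗[Q] C₁)), g₁.toRingHom x = 0 := by
    intro x hx
    have h1 : K.map (algebraMap R (R ⊗[Q] C₁)) ≤ RingHom.ker g₁.toRingHom := by
      rw [Ideal.map_le_iff_le_comap]
      intro y hy
      rw [Ideal.mem_comap, RingHom.mem_ker]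
      show g₁ (algebraMap R (R ⊗[Q] C₁) y) = 0
      rw [g₁.commutes]
      exact hK0 y hy
    exact h1 hx
  refine ⟨Ideal.Quotient.lift _ g₁.toRingHom hker, fun r c => ?_⟩
  rw [Ideal.Quotient.lift_mk]
  exact hg₁ r c

theorem quot_tensor_ext {T : Type*} [CommRing T] (I : Ideal (R ⊗[Q] C₁))
    (f₁ f₂ : ((R ⊗[Q] C₁) ⧸ I) →+* T)
    (h : ∀ (r : R) (c : C₁), f₁ (Ideal.Quotient.mk _ (r ⊗ₜ[Q] c)) =
      f₂ (Ideal.Quotient.mk _ (r ⊗ₜ[Q] c))) : f₁ = f₂ := by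
  apply Ideal.Quotient.ringHom_ext
  refine RingHom.ext fun x => ?_
  show f₁ (Ideal.Quotient.mk _ x) = f₂ (Ideal.Quotient.mk _ x)
  induction x using TensorProduct.induction_on with
  | zero => simp
  | tmul r c => exact h r c
  | add x y hx hy => rw [map_add, map_add, map_add, hx, hy]

end G

section H

open MvPolynomial

attribute [local instance] algRB

variable {k A P₀ Λ : Type u} [Field k] [CommRing A] [Algebra k A] [Algebra.FinitePresentation k A]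
  [CommRing P₀] [Algebra k P₀] [CommRing Λ] [Algebra k Λ]
  (φy : P₀ →ₐ[k] Λ) (𝔮 : Ideal Λ) [𝔮.IsPrime] (n : ℕ) {d : ℕ}
  [Algebra (MvPolynomial (Fin d) P₀) Λ] (K : Ideal (MvPolynomial (Fin d) P₀))

local notation "Lq" => Localization.AtPrime 𝔮
local notation "Λb" => Lq ⧸ maximalIdeal Lq ^ n
local notation "RR" => MvPolynomial (Fin d) P₀
local notation "QQ" => MvPolynomial (Fin d) k
local notation "Λ₀" => Λ ⧸ Ideal.map (algebraMap (MvPolynomial (Fin d) P₀) Λ) K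
local notation "mkΛ" => Ideal.Quotient.mk (Ideal.map (algebraMap (MvPolynomial (Fin d) P₀) Λ) K)
local notation "𝔮₀" => Ideal.map (Ideal.Quotient.mk (Ideal.map (algebraMap (MvPolynomial (Fin d) P₀) Λ) K)) 𝔮
local notation "R₀" => MvPolynomial (Fin d) P₀ ⧸ K
local notation "Rₚ" => Localization.AtPrime (Ideal.comap (algebraMap (MvPolynomial (Fin d) P₀ ⧸ K) (Λ ⧸ Ideal.map (algebraMap (MvPolynomial (Fin d) P₀) Λ) K)) (Ideal.map (Ideal.Quotient.mk (Ideal.map (algebraMap (MvPolynomial (Fin d) P₀) Λ) K)) 𝔮))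
local notation "Λq" => Localization.AtPrime (Ideal.map (Ideal.Quotient.mk (Ideal.map (algebraMap (MvPolynomial (Fin d) P₀) Λ) K)) 𝔮)

set_option maxHeartbeats 4000000 in
set_option synthInstance.maxHeartbeats 400000 in
theorem quot_problem' (φ : A →ₐ[k] Λ)
    (π : Fin d → P₀) (hπq : ∀ i, φy (π i) ∈ 𝔮)
    (hgen : Ideal.span (Set.range fun i => algebraMap Λ Lq (φy (π i))) = maximalIdeal Lq)
    (hloc : ∀ f, φy f ∈ 𝔮 → ∃ s, φy s ∉ 𝔮 ∧ s * f ∈ Ideal.span (Set.range π))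
    (hflat : letI := ((algebraMap Λ Lq).comp φy.toRingHom).toAlgebra
      Module.Flat P₀ Lq)
    (e : ℕ) (hn : 0 < n) (hne : d * e + 1 ≤ n)
    (DD : Subalgebra k Λb) [IsLocalRing DD]
    (hφyDD : ∀ f : P₀, Ideal.Quotient.mk (maximalIdeal Lq ^ n) (algebraMap Λ Lq (φy f)) ∈ DD)
    (hφDD : ∀ x : A, Ideal.Quotient.mk (maximalIdeal Lq ^ n) (algebraMap Λ Lq (φ x)) ∈ DD)
    [Module.Flat DD Λb]
    (hmaxmap : (maximalIdeal DD).map (algebraMap DD Λb) =
      (maximalIdeal Lq).map (Ideal.Quotient.mk (maximalIdeal Lq ^ n)))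
    [Algebra.EssFiniteType k DD]
    (F : IntermediateField k (ResidueField Lq))
    (hmaxiff : ∀ a : DD, a ∈ maximalIdeal DD ↔ resMap Lq n hn a = 0)
    (hrF : ∀ a : DD, resMap Lq n hn a ∈ F)
    (hFr : ∀ f : ResidueField Lq, f ∈ F → ∃ a : DD, resMap Lq n hn a = f)
    {t : ℕ} (z : Fin t → P₀)
    (hz : ∀ i, residue Lq (algebraMap Λ Lq (φy (z i))) ∈ F)
    (hspan : Submodule.span F (Set.range fun i => KaehlerDifferential.D k F ⟨_, hz i⟩) = ⊤)
    {r : ℕ} (a : Fin r → A) (N : ℕ) (lam0 : Fin d → Fin r → DD)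
    (hrel0 : ∀ i, (Ideal.Quotient.mk (maximalIdeal Lq ^ n) (algebraMap Λ Lq (φy (π i)))) ^ N =
      ∑ j, (lam0 i j : Λb) * Ideal.Quotient.mk (maximalIdeal Lq ^ n) (algebraMap Λ Lq (φ (a j))))
    (δ : Fin d → Λ) (hδ : ∀ i, δ i ∉ 𝔮) (lam : Fin d → Fin r → Λ)
    (hcong : ∀ i j, ∀ lt : Lq, Ideal.Quotient.mk (maximalIdeal Lq ^ n) lt = (lam0 i j : Λb) →
      algebraMap Λ Lq (lam i j) - algebraMap Λ Lq (δ i) ^ N * lt ∈
        Ideal.span (Set.range fun i => algebraMap Λ Lq (φy (π i)) ^ e))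
    (hB : BB a N d →+* Λ) (hBA : ∀ x, hB (algebraMap A _ x) = φ x)
    (hBx : ∀ i, hB (bx a N d i) = δ i * φy (π i)) (hBz : ∀ i j, hB (bz a N d i j) = lam i j)
    [IsNoetherianRing RR]
    (hRC : ∀ f, algebraMap RR Λ (C f) = φy f)
    (hRX : ∀ i, algebraMap RR Λ (X i) = δ i)
    [Algebra QQ RR]
    (hQR : ∀ i, algebraMap QQ RR (X i) = C (π i) * X i)
    (hQRk : ∀ c : k, algebraMap QQ RR (C c) = C (algebraMap k P₀ c))
    {C₁ : Type u} [CommRing C₁] [Algebra (BB a N d) C₁] [Algebra QQ C₁]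
    [IsScalarTower QQ (BB a N d) C₁]
    [Algebra.FinitePresentation QQ C₁]
    (ρ : C₁ →ₐ[BB a N d] BB a N d)
    (φC₁ : C₁ →+* Λ) (hφC₁ : ∀ c, φC₁ c = hB (ρ c))
    (c : ℕ) (hc : 0 < c) (he : e = c * 8)
    (hK : K = Ideal.span (Set.range fun i => ((C (π i) * X i : RR) ^ c) ^ 8))
    (φK : ((RR ⊗[QQ] C₁) ⧸ K.map (algebraMap RR (RR ⊗[QQ] C₁))) →ₐ[R₀] Λ₀)
    (hφK : ∀ (x : RR) (c₁ : C₁),
      φK (Ideal.Quotient.mk _ (x ⊗ₜ[QQ] c₁)) = mkΛ (algebraMap RR Λ x * φC₁ c₁)) :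
    Resolvable R₀
      (A := (RR ⊗[QQ] C₁) ⧸ K.map (algebraMap RR (RR ⊗[QQ] C₁)))
      (Λ := Λ₀) φK 𝔮₀ := by
  classical
  have he0 : 0 < e := by omega
  have towerB := towerRB (k := k) a N d
  have hγe : ∀ i, (C (π i) * X i : RR) ^ e ∈ K := by
    intro i
    rw [hK, he, pow_mul]
    exact Ideal.subset_span ⟨i, rfl⟩
  have hKq : K.map (algebraMap RR Λ) ≤ 𝔮 := by
    rw [hK, Ideal.map_span, Ideal.span_le]
    rintro _ ⟨_, ⟨i, rfl⟩, rfl⟩
    rw [SetLike.mem_coe, map_pow, map_pow, map_mul, hRC, hRX, ← pow_mul]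
    exact Ideal.pow_mem_of_mem _ (Ideal.mul_mem_right _ _ (hπq i)) _ (by omega)
  have h𝔮₀prime : (𝔮₀).IsPrime :=
    Ideal.map_isPrime_of_surjective Ideal.Quotient.mk_surjective (by rw [Ideal.mk_ker]; exact hKq)
  have hcomap : (𝔮₀).comap mkΛ = 𝔮 := by
    rw [Ideal.comap_map_of_surjective _ Ideal.Quotient.mk_surjective,
      ← RingHom.ker_eq_comap_bot, Ideal.mk_ker, sup_eq_left]
    exact hKq
  have hmem : ∀ x : Λ, mkΛ x ∈ 𝔮₀ ↔ x ∈ 𝔮 := by
    intro x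
    rw [← Ideal.mem_comap, hcomap]
  have halgR₀Λ₀ : ∀ x : RR, algebraMap R₀ Λ₀ (Ideal.Quotient.mk K x) = mkΛ (algebraMap RR Λ x) :=
    fun x => rfl
  let ω : Lq →+* Λq := Localization.localRingHom 𝔮 𝔮₀ mkΛ hcomap.symm
  have hω : ∀ x : Λ, ω (algebraMap Λ Lq x) = algebraMap Λ₀ Λq (mkΛ x) :=
    fun x => Localization.localRingHom_to_map 𝔮 𝔮₀ mkΛ hcomap.symm x
  let algRL : Algebra Rₚ Λq :=
    (Localization.localRingHom (Ideal.comap (algebraMap R₀ Λ₀) 𝔮₀) 𝔮₀ (algebraMap R₀ Λ₀)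
      rfl).toAlgebra
  have halgRL : ∀ r₀ : R₀, algebraMap Rₚ Λq (algebraMap R₀ Rₚ r₀) =
      algebraMap Λ₀ Λq (algebraMap R₀ Λ₀ r₀) :=
    fun r₀ => Localization.localRingHom_to_map _ 𝔮₀ (algebraMap R₀ Λ₀) rfl r₀
  have hRpΛq : ∀ x : RR, algebraMap Rₚ Λq (algebraMap R₀ Rₚ (Ideal.Quotient.mk K x)) =
      algebraMap Λ₀ Λq (mkΛ (algebraMap RR Λ x)) := fun x => by rw [halgRL, halgR₀Λ₀]
  have hunitR : ∀ x : RR, algebraMap RR Λ x ∉ 𝔮 →
      IsUnit (algebraMap R₀ Rₚ (Ideal.Quotient.mk K x)) := by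
    intro x hx
    refine IsLocalization.map_units Rₚ
      (⟨Ideal.Quotient.mk K x, ?_⟩ : (Ideal.comap (algebraMap R₀ Λ₀) 𝔮₀).primeCompl)
    show Ideal.Quotient.mk K x ∉ Ideal.comap (algebraMap R₀ Λ₀) 𝔮₀
    rw [Ideal.mem_comap, halgR₀Λ₀, hmem]
    exact hx
  let σ : P₀ →+* Rₚ := (algebraMap R₀ Rₚ).comp ((Ideal.Quotient.mk K).comp (C : P₀ →+* RR))
  have hσ : ∀ f, σ f = algebraMap R₀ Rₚ (Ideal.Quotient.mk K (C f)) := fun f => rfl
  let τ : Fin d → Rₚ := fun i => algebraMap R₀ Rₚ (Ideal.Quotient.mk K (X i))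
  have hτ : ∀ i, τ i = algebraMap R₀ Rₚ (Ideal.Quotient.mk K (X i)) := fun i => rfl
  have hτunit : ∀ i, IsUnit (τ i) := fun i => hunitR (X i) (by rw [hRX]; exact hδ i)
  have hσunit : ∀ s : P₀, φy s ∉ 𝔮 → IsUnit (σ s) :=
    fun s hs => hunitR (C s) (by rw [hRC]; exact hs)
  have hστ : ∀ i, σ (π i) * τ i = algebraMap R₀ Rₚ (Ideal.Quotient.mk K (C (π i) * X i)) :=
    fun i => by rw [hσ, hτ, map_mul, map_mul]
  have hσπ : ∀ i, σ (π i) ^ e = 0 := by
    intro i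
    have h1 : (σ (π i) * τ i) ^ e = 0 := by
      rw [hστ, ← map_pow, ← map_pow, Ideal.Quotient.eq_zero_iff_mem.mpr (hγe i), map_zero]
    rw [mul_pow] at h1
    exact ((hτunit i).pow e).mul_left_eq_zero.mp h1
  have hcompat : ∀ f : P₀, algebraMap Rₚ Λq (σ f) = ω (algebraMap Λ Lq (φy f)) := by
    intro f
    rw [hσ, hRpΛq, hRC, hω]
  obtain ⟨B', instB, algB, hsm, β, h, hA, hx, hzz, hkk⟩ := quot_factor φy 𝔮 n φ π hπq hgen hloc
    hflat e hn hne DD hφyDD hφDD hmaxmap F hmaxiff hrF hFr z hz hspan a N lam0 hrel0 σ τ ω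
    hσunit hσπ hcompat
  have hωK : ∀ y ∈ Ideal.span (Set.range fun i => algebraMap Λ Lq (φy (π i)) ^ e), ω y = 0 := by
    intro y hy
    have h2 : Ideal.span (Set.range fun i => algebraMap Λ Lq (φy (π i)) ^ e) ≤ RingHom.ker ω := by
      rw [Ideal.span_le]
      rintro _ ⟨i, rfl⟩
      rw [SetLike.mem_coe, RingHom.mem_ker, map_pow, ← hcompat, ← map_pow, hσπ, map_zero]
    exact h2 hy
  have hτω : ∀ i, algebraMap Rₚ Λq (τ i) = ω (algebraMap Λ Lq (δ i)) := fun i => by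
    rw [hτ, hRpΛq, hRX, hω]
  have hhβ : (h : B' →+* Λq).comp β = ((algebraMap Λ₀ Λq).comp mkΛ).comp hB := by
    apply hom_ext
    · intro x
      show h (β (algebraMap A _ x)) = algebraMap Λ₀ Λq (mkΛ (hB (algebraMap A _ x)))
      rw [hA, hBA, hω]
    · intro i
      show h (β (bx a N d i)) = algebraMap Λ₀ Λq (mkΛ (hB (bx a N d i)))
      rw [hx, h.commutes, hστ, hRpΛq, hBx, map_mul, hRC, hRX, mul_comm]
    · intro i j
      show h (β (bz a N d i j)) = algebraMap Λ₀ Λq (mkΛ (hB (bz a N d i j)))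
      obtain ⟨lt, hlt⟩ := Ideal.Quotient.mk_surjective (lam0 i j : Λb)
      rw [hzz i j lt hlt, hBz, ← hω, hτω, ← map_pow, ← map_mul]
      have h1 := hωK _ (hcong i j lt hlt)
      rw [map_sub, sub_eq_zero] at h1
      exact h1.symm
  let algRB' : Algebra RR B' :=
    ((algebraMap Rₚ B').comp ((algebraMap R₀ Rₚ).comp (Ideal.Quotient.mk K))).toAlgebra
  have halgRB' : ∀ x : RR, algebraMap RR B' x =
      algebraMap Rₚ B' (algebraMap R₀ Rₚ (Ideal.Quotient.mk K x)) := fun x => rfl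
  have hK0 : ∀ x ∈ K, algebraMap RR B' x = 0 := by
    intro x hx
    rw [halgRB', Ideal.Quotient.eq_zero_iff_mem.mpr hx, map_zero, map_zero]
  have hβQ : ∀ p : QQ, β (algebraMap QQ (BB a N d) p) = algebraMap RR B' (algebraMap QQ RR p) := by
    have : β.comp (algebraMap QQ (BB a N d)) = (algebraMap RR B').comp (algebraMap QQ RR) := by
      refine MvPolynomial.ringHom_ext (fun c' => ?_) (fun i => ?_)
      · show β (algebraMap QQ (BB a N d) (C c')) = algebraMap RR B' (algebraMap QQ RR (C c'))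
        rw [hQRk, halgRB', ← hσ]
        have h1 : (C c' : QQ) = algebraMap k QQ c' := rfl
        rw [h1, ← IsScalarTower.algebraMap_apply k QQ (BB a N d),
          IsScalarTower.algebraMap_apply k A (BB a N d), hkk]
      · show β (algebraMap QQ (BB a N d) (X i)) = algebraMap RR B' (algebraMap QQ RR (X i))
        rw [algebraMap_RB_X, hx, hQR, halgRB', hστ]
    exact fun p => RingHom.congr_fun this p
  let b : C₁ →+* B' := β.comp ρ.toRingHom
  have hb : ∀ p : QQ, b (algebraMap QQ C₁ p) = algebraMap RR B' (algebraMap QQ RR p) := by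
    intro p
    show β (ρ (algebraMap QQ C₁ p)) = _
    rw [IsScalarTower.algebraMap_apply QQ (BB a N d) C₁, ρ.commutes]
    exact hβQ p
  obtain ⟨g, hg⟩ := exists_g (Q := QQ) (R := RR) (C₁ := C₁) K hK0 b hb
  have hnil : ∀ x ∈ 𝔮₀, IsNilpotent (algebraMap Λ₀ Λq x) := by
    intro x hx
    obtain ⟨y, hy, rfl⟩ := (Ideal.mem_map_iff_of_surjective mkΛ Ideal.Quotient.mk_surjective).mp hx
    rw [← hω]
    have h1 : algebraMap Λ Lq y ∈ Ideal.span (Set.range fun i => algebraMap Λ Lq (φy (π i))) := by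
      rw [hgen]
      exact (IsLocalization.AtPrime.to_map_mem_maximal_iff Lq 𝔮 _).mpr hy
    have h2 : (Ideal.span (Set.range fun i => algebraMap Λ Lq (φy (π i)))).map ω ≤
        nilradical Λq := by
      rw [Ideal.map_span, Ideal.span_le]
      rintro _ ⟨_, ⟨i, rfl⟩, rfl⟩
      rw [SetLike.mem_coe, mem_nilradical]
      exact ⟨e, by rw [← map_pow]; exact hωK _ (Ideal.subset_span ⟨i, rfl⟩)⟩
    exact mem_nilradical.mp (h2 (Ideal.mem_map_of_mem ω h1))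
  have hfp : Algebra.FinitePresentation R₀
      ((RR ⊗[QQ] C₁) ⧸ K.map (algebraMap RR (RR ⊗[QQ] C₁))) :=
    Helper27.ResMod.finitePresentation_quotient K
  refine resolvable_quot φK 𝔮₀ hnil ⟨B', instB, algB, hsm, g, h, ?_, ?_, ?_⟩
  · intro y
    exact h.commutes y
  · intro r₀
    obtain ⟨x, rfl⟩ := Ideal.Quotient.mk_surjective r₀
    show g (Ideal.Quotient.mk _ (algebraMap RR (RR ⊗[QQ] C₁) x)) = _
    rw [Algebra.TensorProduct.algebraMap_apply, Algebra.algebraMap_self, RingHom.id_apply, hg,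
      map_one, mul_one]
    rfl
  · intro y
    have h1 : (h : B' →+* Λq).comp g = (algebraMap Λ₀ Λq).comp φK.toRingHom := by
      apply quot_tensor_ext
      intro x c₁
      show h (g (Ideal.Quotient.mk _ (x ⊗ₜ c₁))) =
        algebraMap Λ₀ Λq (φK (Ideal.Quotient.mk _ (x ⊗ₜ c₁)))
      rw [hg, map_mul, hφK, map_mul, map_mul, hφC₁]
      congr 1
      · rw [halgRB', h.commutes, hRpΛq]
      · exact RingHom.congr_fun hhβ (ρ c₁)
    exact RingHom.congr_fun h1 y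

end H

end Helper27.Insep
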