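import Mathlib
import Groth.Agent.Lib.Helper27.SmoothRetractC
import Groth.Agent.Lib.Helper27.StdElemB

set_option autoImplicit false
universe u
open scoped TensorProduct
open KaehlerDifferential

namespace Helper27.SymOmega

open Groth.Agent.Lib.Helper27.SmoothRetract Helper27.StdElem Algebra MvPolynomial

section Basic

variable {A N : Type u} [CommRing A] [AddCommGroup N] [Module A N]
  {m : ℕ} (π : (Fin m → A) →ₗ[A] N) (s : N →ₗ[A] (Fin m → A))

def Eof : (Fin m → A) →ₗ[A] (Fin m → A) := LinearMap.id - s ∘ₗ π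

lemma Eof_apply (v : Fin m → A) : Eof π s v = v - s (π v) := rfl

variable (hπs : π ∘ₗ s = LinearMap.id)

include hπs in
lemma pi_Eof (v : Fin m → A) : π (Eof π s v) = 0 := by
  have h : π (s (π v)) = π v := LinearMap.congr_fun hπs (π v)
  rw [Eof_apply, map_sub, h, sub_self]

include hπs in
lemma Eof_idem : Eof π s ∘ₗ Eof π s = Eof π s := by
  refine LinearMap.ext fun v => ?_
  rw [LinearMap.comp_apply, Eof_apply π s (Eof π s v), pi_Eof π s hπs, map_zero, sub_zero]

lemma Eof_of_mem_ker (w : Fin m → A) (hw : π w = 0) : Eof π s w = w := by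
  rw [Eof_apply, hw, map_zero, sub_zero]

lemma single_sub_Eof (j : Fin m) :
    (Pi.single j (1 : A) : Fin m → A) - Eof π s (Pi.single j 1) = s (π (Pi.single j 1)) := by
  rw [Eof_apply]; abel

end Basic
end Helper27.SymOmega

namespace Helper27.SymOmega

open Groth.Agent.Lib.Helper27.SmoothRetract Helper27.StdElem Algebra MvPolynomial

section LemmaX

variable {A B N : Type u} [CommRing A] [CommRing B] [Algebra A B] [AddCommGroup N] [Module A N]
  {m : ℕ} (π : (Fin m → A) →ₗ[A] N) (s : N →ₗ[A] (Fin m → A))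
  (ι : B1 (Eof π s) ≃ₐ[A] B)

noncomputable def qmap : MvPolynomial (Fin m) A →ₐ[A] B := ι.toAlgHom.comp (r1 (Eof π s))

lemma qmap_surjective : Function.Surjective (qmap π s ι) :=
  ι.surjective.comp (r1_surjective _)

lemma qmap_lin (w : Fin m → A) : qmap π s ι (lin w) = ∑ j, w j • qmap π s ι (X j) := by
  rw [lin_apply, map_sum]
  refine Finset.sum_congr rfl fun j _ => ?_
  rw [map_mul, ← MvPolynomial.algebraMap_eq, AlgHom.commutes, Algebra.smul_def]

lemma qmap_lin_of_ker (w : Fin m → A) (hw : π w = 0) : qmap π s ι (lin w) = 0 := by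
  have h : lin w = lin (Eof π s w) := by rw [Eof_of_mem_ker π s w hw]
  rw [h]
  unfold qmap
  rw [AlgHom.comp_apply, r1_lin_E, map_zero]

lemma ker_qmap : RingHom.ker (qmap π s ι).toRingHom = relIdeal (Eof π s) := by
  ext x
  rw [RingHom.mem_ker]
  change ι (r1 _ x) = 0 ↔ _
  rw [EmbeddingLike.map_eq_zero_iff]
  exact Ideal.Quotient.eq_zero_iff_mem

noncomputable def gens : Algebra.Generators A B (Fin m) :=
  Generators.ofAlgHom (qmap π s ι) (qmap_surjective π s ι)

lemma gens_val (j : Fin m) : (gens π s ι).val j = qmap π s ι (X j) := rfl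

lemma gens_ker : (gens π s ι).toExtension.ker = relIdeal (Eof π s) := by
  unfold gens
  rw [ofAlgHom_ker, ker_qmap]

lemma pderiv_lin (w : Fin m → A) (k : Fin m) :
    pderiv k (lin w : MvPolynomial (Fin m) A) = C (w k) := by
  rw [lin_apply, map_sum]
  simp only [Derivation.leibniz, pderiv_C, pderiv_X, smul_zero, add_zero]
  rw [Finset.sum_eq_single k]
  · simp
  · intro j _ hj
    simp [hj]
  · intro h; exact absurd (Finset.mem_univ k) h

end LemmaX

end Helper27.SymOmega

namespace Helper27.SymOmega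

open Groth.Agent.Lib.Helper27.SmoothRetract Helper27.StdElem Algebra MvPolynomial

section LemmaX2

variable {A B N : Type u} [CommRing A] [CommRing B] [Algebra A B] [AddCommGroup N] [Module A N]
  {m : ℕ} (π : (Fin m → A) →ₗ[A] N) (s : N →ₗ[A] (Fin m → A))
  (ι : B1 (Eof π s) ≃ₐ[A] B)

noncomputable def Theta : (gens π s ι).toExtension.CotangentSpace →ₗ[B] B ⊗[A] N :=
  (gens π s ι).cotangentSpaceBasis.constr B (fun j => (1 : B) ⊗ₜ[A] π (Pi.single j 1))

lemma Theta_basis (j : Fin m) :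
    Theta π s ι ((gens π s ι).cotangentSpaceBasis j) = (1 : B) ⊗ₜ[A] π (Pi.single j 1) := by
  unfold Theta
  rw [Module.Basis.constr_basis]

lemma sum_tmul_pi (w : Fin m → A) :
    ∑ k, algebraMap A B (w k) • ((1 : B) ⊗ₜ[A] π (Pi.single k 1)) = (1 : B) ⊗ₜ[A] π w := by
  have hw : w = ∑ k, w k • (Pi.single k (1 : A) : Fin m → A) := by
    ext j
    simp [Finset.sum_apply, Pi.single_apply]
  conv_rhs => rw [hw]
  rw [map_sum, TensorProduct.tmul_sum]
  refine Finset.sum_congr rfl fun k _ => ?_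
  rw [map_smul, TensorProduct.tmul_smul, algebraMap_smul]

lemma Theta_cotangentComplex_mk (w : Fin m → A) (hw : lin w ∈ (gens π s ι).toExtension.ker) :
    Theta π s ι ((gens π s ι).toExtension.cotangentComplex
      (Extension.Cotangent.mk ⟨lin w, hw⟩)) = (1 : B) ⊗ₜ[A] π w := by
  unfold Theta
  rw [Module.Basis.constr_apply_fintype]
  rw [← sum_tmul_pi π w]
  refine Finset.sum_congr rfl fun k _ => ?_
  congr 1
  have := equivFun_cotangentComplex_mk (gens π s ι) ⟨lin w, hw⟩ k
  rw [this]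
  show algebraMap (gens π s ι).Ring B (pderiv k (lin w)) = _
  rw [pderiv_lin]
  unfold gens
  rw [ofAlgHom_algebraMap, ← MvPolynomial.algebraMap_eq, AlgHom.commutes]

variable (hπs : π ∘ₗ s = LinearMap.id)

include hπs in
lemma Theta_comp_cotangentComplex :
    Theta π s ι ∘ₗ (gens π s ι).toExtension.cotangentComplex = 0 := by
  have hker : Ideal.span (Set.range fun i : Fin m => lin (Eof π s (Pi.single i 1))) =
      (gens π s ι).toExtension.ker := by
    rw [gens_ker]; rfl
  have hspan := Extension.Cotangent.span_eq_top_of_span_eq_ker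
    (P := (gens π s ι).toExtension) _ hker
  refine LinearMap.ext_on hspan ?_
  rintro _ ⟨i, rfl⟩
  rw [LinearMap.comp_apply, LinearMap.zero_apply, Theta_cotangentComplex_mk,
    pi_Eof π s hπs, TensorProduct.tmul_zero]

end LemmaX2

end Helper27.SymOmega

namespace Helper27.SymOmega

open Groth.Agent.Lib.Helper27.SmoothRetract Helper27.StdElem Algebra MvPolynomial

section LemmaX3

variable {A B N : Type u} [CommRing A] [CommRing B] [Algebra A B] [AddCommGroup N] [Module A N]
  {m : ℕ} (π : (Fin m → A) →ₗ[A] N) (s : N →ₗ[A] (Fin m → A))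
  (ι : B1 (Eof π s) ≃ₐ[A] B) (hπs : π ∘ₗ s = LinearMap.id)

include hπs in
lemma ker_toKaehler_le :
    LinearMap.ker (gens π s ι).toExtension.toKaehler ≤ LinearMap.ker (Theta π s ι) := by
  intro x hx
  obtain ⟨y, rfl⟩ := ((gens π s ι).toExtension.exact_cotangentComplex_toKaehler x).mp hx
  exact LinearMap.congr_fun (Theta_comp_cotangentComplex π s ι hπs) y

noncomputable def Theta' : Ω[B⁄A] →ₗ[B] B ⊗[A] N :=
  ((LinearMap.ker (gens π s ι).toExtension.toKaehler).liftQ (Theta π s ι)
    (ker_toKaehler_le π s ι hπs)) ∘ₗ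
    ((gens π s ι).toExtension.toKaehler.quotKerEquivOfSurjective
      (gens π s ι).toExtension.toKaehler_surjective).symm.toLinearMap

lemma Theta'_toKaehler (x : (gens π s ι).toExtension.CotangentSpace) :
    Theta' π s ι hπs ((gens π s ι).toExtension.toKaehler x) = Theta π s ι x := by
  unfold Theta'
  rw [LinearMap.comp_apply]
  have h : ((gens π s ι).toExtension.toKaehler.quotKerEquivOfSurjective
      (gens π s ι).toExtension.toKaehler_surjective).symm
        ((gens π s ι).toExtension.toKaehler x) = Submodule.Quotient.mk x := by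
    rw [LinearEquiv.symm_apply_eq]
    rfl
  rw [LinearEquiv.coe_coe, h, Submodule.liftQ_apply]

lemma Theta'_D (j : Fin m) :
    Theta' π s ι hπs (D A B (qmap π s ι (X j))) = (1 : B) ⊗ₜ[A] π (Pi.single j 1) := by
  rw [← gens_val, ← Generators.toKaehler_cotangentSpaceBasis, Theta'_toKaehler, Theta_basis]

noncomputable def xi : N →ₗ[A] Ω[B⁄A] :=
  (Fintype.linearCombination A (fun j => D A B (qmap π s ι (X j)))) ∘ₗ s

lemma xi_apply (ν : N) : xi π s ι ν = ∑ j, s ν j • D A B (qmap π s ι (X j)) := by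
  unfold xi
  rw [LinearMap.comp_apply, Fintype.linearCombination_apply]

noncomputable def Xi : B ⊗[A] N →ₗ[B] Ω[B⁄A] := LinearMap.liftBaseChange B (xi π s ι)

lemma Xi_tmul (b : B) (ν : N) : Xi π s ι (b ⊗ₜ ν) = b • xi π s ι ν := by
  unfold Xi
  rw [LinearMap.liftBaseChange_tmul]

include hπs in
lemma Theta'_comp_Xi : Theta' π s ι hπs ∘ₗ Xi π s ι = LinearMap.id := by
  refine TensorProduct.AlgebraTensorModule.ext fun b ν => ?_
  rw [LinearMap.comp_apply, LinearMap.id_apply, Xi_tmul, map_smul, xi_apply, map_sum]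
  have h1 : ∀ j, Theta' π s ι hπs (s ν j • D A B (qmap π s ι (X j))) =
      algebraMap A B (s ν j) • ((1 : B) ⊗ₜ[A] π (Pi.single j 1)) := by
    intro j
    rw [← algebraMap_smul B (s ν j), map_smul, Theta'_D]
  simp_rw [h1]
  have h2 : π (s ν) = ν := LinearMap.congr_fun hπs ν
  rw [sum_tmul_pi, h2, TensorProduct.smul_tmul', smul_eq_mul, mul_one]

lemma D_sum_smul (w : Fin m → A) :
    ∑ l, w l • D A B (qmap π s ι (X l)) = D A B (qmap π s ι (lin w)) := by
  rw [qmap_lin, map_sum]
  refine Finset.sum_congr rfl fun l _ => ?_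
  rw [Derivation.map_smul]

include hπs in
lemma Xi_comp_Theta' : Xi π s ι ∘ₗ Theta' π s ι hπs = LinearMap.id := by
  rw [← LinearMap.cancel_right (gens π s ι).toExtension.toKaehler_surjective]
  refine (gens π s ι).cotangentSpaceBasis.ext fun j => ?_
  rw [LinearMap.comp_apply, LinearMap.comp_apply, LinearMap.comp_apply, LinearMap.id_apply,
    Generators.toKaehler_cotangentSpaceBasis, gens_val, Theta'_D, Xi_tmul, one_smul, xi_apply]
  rw [← single_sub_Eof π s j]
  simp only [Pi.sub_apply, sub_smul, Finset.sum_sub_distrib]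
  rw [D_sum_smul, D_sum_smul, qmap_lin_of_ker π s ι _ (pi_Eof π s hπs _), map_zero, sub_zero,
    lin_single]

noncomputable def kaehlerEquiv : Ω[B⁄A] ≃ₗ[B] B ⊗[A] N :=
  LinearEquiv.ofLinearMap (Theta' π s ι hπs) (Xi π s ι) (Theta'_comp_Xi π s ι hπs)
    (Xi_comp_Theta' π s ι hπs)

end LemmaX3

end Helper27.SymOmega

namespace Helper27.SymOmega

open Groth.Agent.Lib.Helper27.SmoothRetract Helper27.StdElem Algebra MvPolynomial

section Main

variable {R A B N : Type u} [CommRing R] [CommRing A] [CommRing B] [Algebra R A] [Algebra A B]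
  [Algebra R B] [IsScalarTower R A B] [AddCommGroup N] [Module A N]
  {m n : ℕ} (π : (Fin m → A) →ₗ[A] N) (s : N →ₗ[A] (Fin m → A))
  (ι : B1 (Eof π s) ≃ₐ[A] B) (hπs : π ∘ₗ s = LinearMap.id)

include hπs ι in
lemma formallySmooth_of_equiv : Algebra.FormallySmooth A B :=
  haveI := formallySmooth_B1 (Eof π s) (Eof_idem π s hπs)
  Algebra.FormallySmooth.of_equiv ι

theorem jacobiZariski_split [Algebra.FormallySmooth A B] :
    Nonempty (Ω[B⁄R] ≃ₗ[B] (B ⊗[A] Ω[A⁄R]) × Ω[B⁄A]) := by
  have hex := KaehlerDifferential.exact_mapBaseChange_map R A B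
  have hsurj := KaehlerDifferential.map_surjective R A B
  have hinj : Function.Injective (KaehlerDifferential.mapBaseChange R A B) := by
    rw [injective_iff_map_eq_zero]
    intro x hx
    obtain ⟨y, rfl⟩ := (Algebra.H1Cotangent.exact_δ_mapBaseChange R A B x).mp hx
    rw [Subsingleton.elim y 0, map_zero]
  obtain ⟨l, hl⟩ := Module.projective_lifting_property (KaehlerDifferential.map R A B B)
    LinearMap.id hsurj
  exact ⟨(hex.splitSurjectiveEquiv hinj ⟨l, hl⟩).1⟩

include hπs ι in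
theorem free_kaehler (eN : (Ω[A⁄R] × N) ≃ₗ[A] (Fin n → A)) : Module.Free B Ω[B⁄R] := by
  have := formallySmooth_of_equiv π s ι hπs
  obtain ⟨e1⟩ := jacobiZariski_split (R := R) (A := A) (B := B)
  let e2 : Ω[B⁄A] ≃ₗ[B] B ⊗[A] N := kaehlerEquiv π s ι hπs
  let e3 : ((B ⊗[A] Ω[A⁄R]) × (B ⊗[A] N)) ≃ₗ[B] B ⊗[A] (Ω[A⁄R] × N) :=
    (TensorProduct.prodRight A B B Ω[A⁄R] N).symm
  let e4 : B ⊗[A] (Ω[A⁄R] × N) ≃ₗ[B] B ⊗[A] (Fin n → A) :=
    TensorProduct.AlgebraTensorModule.congr (LinearEquiv.refl B B) eN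
  have : Module.Free B (B ⊗[A] (Fin n → A)) := inferInstance
  exact Module.Free.of_equiv
    (e1 ≪≫ₗ (LinearEquiv.prodCongr (LinearEquiv.refl B _) e2) ≪≫ₗ e3 ≪≫ₗ e4).symm

end Main

end Helper27.SymOmega
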