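import Mathlib
import Groth.Agent.Lib.Helper27.SymOmegaA
import Groth.Agent.Lib.Helper27.StdElemD

set_option autoImplicit false
universe u
open scoped TensorProduct
open KaehlerDifferential

namespace Helper27.SymOmega

open Groth.Agent.Lib.Helper27.SmoothRetract Helper27.StdElem Algebra MvPolynomial

section Global

variable (A : Type u) {M₀ : Type u} [CommRing A] [AddCommGroup M₀] [Module A M₀] {m : ℕ}
  (v : Fin m → M₀)

def relK : Submodule A (Fin m → A) := LinearMap.ker (Fintype.linearCombination A v)

variable {A} in
lemma mem_relK (k : Fin m → A) : k ∈ relK A v ↔ ∑ j, k j • v j = 0 := by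
  unfold relK
  rw [LinearMap.mem_ker, Fintype.linearCombination_apply]

noncomputable def idealL : Ideal (MvPolynomial (Fin m) A) :=
  Ideal.span (lin '' (relK A v : Set (Fin m → A)))

abbrev CC : Type u := MvPolynomial (Fin m) A ⧸ idealL A v

noncomputable def mkC : MvPolynomial (Fin m) A →ₐ[A] CC A v := Ideal.Quotient.mkₐ A (idealL A v)

lemma mkC_surjective : Function.Surjective (mkC A v) := Ideal.Quotient.mkₐ_surjective A _

lemma mkC_lin (k : Fin m → A) (hk : k ∈ relK A v) : mkC A v (lin k) = 0 :=
  Ideal.Quotient.eq_zero_iff_mem.mpr (Ideal.subset_span ⟨k, hk, rfl⟩)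

lemma ev0_mem_L : ∀ x ∈ idealL A v,
    (MvPolynomial.aeval (fun _ => (0 : A)) : MvPolynomial (Fin m) A →ₐ[A] A) x = 0 := by
  intro x hx
  have : idealL A v ≤ RingHom.ker
      (MvPolynomial.aeval (fun _ => (0 : A)) : MvPolynomial (Fin m) A →ₐ[A] A).toRingHom := by
    unfold idealL
    rw [Ideal.span_le]
    rintro _ ⟨k, _, rfl⟩
    change MvPolynomial.aeval (fun _ => (0 : A)) (lin k) = 0
    rw [aeval_lin]
    simp
  exact RingHom.mem_ker.mp (this hx)

noncomputable def retr : CC A v →ₐ[A] A :=
  Ideal.Quotient.liftₐ (idealL A v) (MvPolynomial.aeval (fun _ => (0 : A))) (ev0_mem_L A v)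

lemma finiteType_CC : Algebra.FiniteType A (CC A v) :=
  Algebra.FiniteType.of_surjective (mkC A v) (mkC_surjective A v)

end Global

end Helper27.SymOmega

namespace Helper27.SymOmega

open Groth.Agent.Lib.Helper27.SmoothRetract Helper27.StdElem Algebra MvPolynomial

section Local

variable (A : Type u) {M₀ : Type u} [CommRing A] [AddCommGroup M₀] [Module A M₀] {m : ℕ}
  (v : Fin m → M₀) (a : A)

noncomputable def va (j : Fin m) : LocalizedModule (Submonoid.powers a) M₀ :=
  LocalizedModule.mkLinearMap (Submonoid.powers a) M₀ (v j)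

noncomputable def pia : (Fin m → Localization.Away a) →ₗ[Localization.Away a]
    LocalizedModule (Submonoid.powers a) M₀ :=
  Fintype.linearCombination (Localization.Away a) (va A v a)

lemma pia_apply (w : Fin m → Localization.Away a) : pia A v a w = ∑ j, w j • va A v a j := by
  unfold pia
  rw [Fintype.linearCombination_apply]

lemma pia_algebraMap (k : Fin m → A) :
    pia A v a (fun j => algebraMap A (Localization.Away a) (k j)) =
      LocalizedModule.mkLinearMap (Submonoid.powers a) M₀ (∑ j, k j • v j) := by
  rw [pia_apply, map_sum]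
  refine Finset.sum_congr rfl fun j _ => ?_
  rw [algebraMap_smul, map_smul]
  rfl

lemma pia_surjective (hv : Submodule.span A (Set.range v) = ⊤) :
    Function.Surjective (pia A v a) := by
  rw [← LinearMap.range_eq_top]
  unfold pia
  rw [Fintype.range_linearCombination]
  have := span_eq_top_of_isLocalizedModule (Localization.Away a) (Submonoid.powers a)
    (LocalizedModule.mkLinearMap (Submonoid.powers a) M₀) hv
  rw [← Set.range_comp] at this
  exact this

/-- the unit property of `a` in `T`. -/
lemma isUnit_a_TT :
    IsUnit (algebraMap A (Localization.Away (algebraMap A (CC A v) a)) a) := by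
  rw [IsScalarTower.algebraMap_apply A (CC A v) (Localization.Away (algebraMap A (CC A v) a))]
  exact IsLocalization.Away.algebraMap_isUnit _

noncomputable def iotaT :
    Localization.Away a →+* Localization.Away (algebraMap A (CC A v) a) :=
  IsLocalization.Away.lift a (g := algebraMap A (Localization.Away (algebraMap A (CC A v) a)))
    (isUnit_a_TT A v a)

lemma iotaT_algebraMap (x : A) :
    iotaT A v a (algebraMap A (Localization.Away a) x) =
      algebraMap A (Localization.Away (algebraMap A (CC A v) a)) x :=
  IsLocalization.Away.lift_eq _ _ _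

@[reducible] noncomputable def algT :
    Algebra (Localization.Away a) (Localization.Away (algebraMap A (CC A v) a)) :=
  (iotaT A v a).toAlgebra

attribute [local instance] algT

lemma algebraMap_T (x : Localization.Away a) :
    algebraMap (Localization.Away a) (Localization.Away (algebraMap A (CC A v) a)) x =
      iotaT A v a x := rfl

instance towerT :
    IsScalarTower A (Localization.Away a) (Localization.Away (algebraMap A (CC A v) a)) :=
  IsScalarTower.of_algebraMap_eq (fun x => by
    rw [algebraMap_T, iotaT_algebraMap])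

noncomputable def yT (j : Fin m) : Localization.Away (algebraMap A (CC A v) a) :=
  algebraMap (CC A v) _ (mkC A v (X j))

end Local

end Helper27.SymOmega

namespace Helper27.SymOmega

open Groth.Agent.Lib.Helper27.SmoothRetract Helper27.StdElem Algebra MvPolynomial

section Local2

variable (A : Type u) {M₀ : Type u} [CommRing A] [AddCommGroup M₀] [Module A M₀] {m : ℕ}
  (v : Fin m → M₀) (a : A)

attribute [local instance] algT

lemma sum_smul_yT_of_relK (k : Fin m → A) (hk : k ∈ relK A v) :
    ∑ j, algebraMap A (Localization.Away (algebraMap A (CC A v) a)) (k j) * yT A v a j = 0 := by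
  have h1 : mkC A v (lin k) = 0 := mkC_lin A v k hk
  rw [lin_apply, map_sum] at h1
  have h2 := congrArg (algebraMap (CC A v) (Localization.Away (algebraMap A (CC A v) a))) h1
  rw [map_sum, map_zero] at h2
  rw [← h2]
  refine Finset.sum_congr rfl fun j _ => ?_
  rw [map_mul, map_mul]
  congr 1

lemma sum_smul_yT_of_ker (w : Fin m → Localization.Away a) (hw : pia A v a w = 0) :
    ∑ j, w j • yT A v a j = 0 := by
  obtain ⟨b, hb⟩ := IsLocalization.exist_integer_multiples_of_finite (Submonoid.powers a) w
  choose w' hw' using hb
  have h1 : pia A v a (fun j => algebraMap A (Localization.Away a) (w' j)) = 0 := by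
    have : (fun j => algebraMap A (Localization.Away a) (w' j)) = (b : A) • w := by
      funext j
      rw [hw' j]
      rfl
    rw [this, LinearMap.map_smul_of_tower, hw, smul_zero]
  rw [pia_algebraMap] at h1
  obtain ⟨c, hc⟩ := (IsLocalizedModule.eq_zero_iff (Submonoid.powers a)
    (LocalizedModule.mkLinearMap (Submonoid.powers a) M₀)).mp h1
  have hk : (fun j => (c : A) * w' j) ∈ relK A v := by
    rw [mem_relK]
    rw [Submonoid.smul_def, Finset.smul_sum] at hc
    rw [← hc]
    refine Finset.sum_congr rfl fun j _ => ?_
    rw [mul_smul]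
  have h2 := sum_smul_yT_of_relK A v a _ hk
  have hub : IsUnit (algebraMap A (Localization.Away (algebraMap A (CC A v) a)) (b : A)) := by
    obtain ⟨n, hn⟩ := b.2
    rw [← hn, map_pow]
    exact (isUnit_a_TT A v a).pow n
  have huc : IsUnit (algebraMap A (Localization.Away (algebraMap A (CC A v) a)) (c : A)) := by
    obtain ⟨n, hn⟩ := c.2
    rw [← hn, map_pow]
    exact (isUnit_a_TT A v a).pow n
  have h3 : algebraMap A (Localization.Away (algebraMap A (CC A v) a)) (c : A) *
      (algebraMap A (Localization.Away (algebraMap A (CC A v) a)) (b : A) *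
        ∑ j, w j • yT A v a j) = 0 := by
    rw [← h2, Finset.mul_sum, Finset.mul_sum]
    refine Finset.sum_congr rfl fun j _ => ?_
    rw [map_mul, Algebra.smul_def, algebraMap_T]
    have h4 : algebraMap A (Localization.Away (algebraMap A (CC A v) a)) (w' j) =
        algebraMap A (Localization.Away (algebraMap A (CC A v) a)) (b : A) * iotaT A v a (w j) := by
      rw [← iotaT_algebraMap, hw' j, Algebra.smul_def, map_mul, iotaT_algebraMap]
    rw [h4]
    ring
  exact (hub.mul_right_eq_zero).mp ((huc.mul_right_eq_zero).mp h3)

end Local2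

end Helper27.SymOmega

namespace Helper27.SymOmega

open Groth.Agent.Lib.Helper27.SmoothRetract Helper27.StdElem Algebra MvPolynomial

section Local3

variable (A : Type u) {M₀ : Type u} [CommRing A] [AddCommGroup M₀] [Module A M₀] {m : ℕ}
  (v : Fin m → M₀) (a : A)
  (s : LocalizedModule (Submonoid.powers a) M₀ →ₗ[Localization.Away a] (Fin m → Localization.Away a))
  (hs : pia A v a ∘ₗ s = LinearMap.id)

attribute [local instance] algT

include hs in
lemma aeval_yT_mem : ∀ x ∈ relIdeal (Eof (pia A v a) s),
    (MvPolynomial.aeval (yT A v a) : MvPolynomial (Fin m) (Localization.Away a) →ₐ[_] _) x = 0 := by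
  intro x hx
  have : relIdeal (Eof (pia A v a) s) ≤ RingHom.ker
      (MvPolynomial.aeval (yT A v a) :
        MvPolynomial (Fin m) (Localization.Away a) →ₐ[Localization.Away a]
          Localization.Away (algebraMap A (CC A v) a)).toRingHom := by
    unfold relIdeal
    rw [Ideal.span_le]
    rintro _ ⟨i, rfl⟩
    change MvPolynomial.aeval (yT A v a) (lin (Eof (pia A v a) s (Pi.single i 1))) = 0
    rw [aeval_lin]
    exact sum_smul_yT_of_ker A v a _ (pi_Eof _ s hs _)
  exact RingHom.mem_ker.mp (this hx)

noncomputable def hmap : B1 (Eof (pia A v a) s) →ₐ[Localization.Away a]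
    Localization.Away (algebraMap A (CC A v) a) :=
  Ideal.Quotient.liftₐ (relIdeal (Eof (pia A v a) s)) (MvPolynomial.aeval (yT A v a))
    (aeval_yT_mem A v a s hs)

lemma hmap_r1 (p : MvPolynomial (Fin m) (Localization.Away a)) :
    hmap A v a s hs (r1 _ p) = MvPolynomial.aeval (yT A v a) p :=
  AlgHom.congr_fun (Ideal.Quotient.liftₐ_comp (relIdeal (Eof (pia A v a) s)) _
    (aeval_yT_mem A v a s hs)) p

lemma aeval_r1_mem : ∀ x ∈ idealL A v,
    (MvPolynomial.aeval (fun j => r1 (Eof (pia A v a) s) (X j)) :
      MvPolynomial (Fin m) A →ₐ[A] B1 (Eof (pia A v a) s)) x = 0 := by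
  intro x hx
  have : idealL A v ≤ RingHom.ker
      (MvPolynomial.aeval (fun j => r1 (Eof (pia A v a) s) (X j)) :
        MvPolynomial (Fin m) A →ₐ[A] B1 (Eof (pia A v a) s)).toRingHom := by
    unfold idealL
    rw [Ideal.span_le]
    rintro _ ⟨k, hk, rfl⟩
    change MvPolynomial.aeval (fun j => r1 (Eof (pia A v a) s) (X j)) (lin k) = 0
    rw [aeval_lin]
    have h1 : pia A v a (fun j => algebraMap A (Localization.Away a) (k j)) = 0 := by
      rw [pia_algebraMap, (mem_relK v k).mp hk, map_zero]
    have h2 := r1_lin_E (Eof (pia A v a) s) (fun j => algebraMap A (Localization.Away a) (k j))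
    rw [Eof_of_mem_ker _ s _ h1, lin_apply, map_sum] at h2
    rw [← h2]
    refine Finset.sum_congr rfl fun j _ => ?_
    rw [map_mul, ← MvPolynomial.algebraMap_eq, AlgHom.commutes, ← Algebra.smul_def,
      algebraMap_smul]
  exact RingHom.mem_ker.mp (this hx)

noncomputable def g1 : CC A v →ₐ[A] B1 (Eof (pia A v a) s) :=
  Ideal.Quotient.liftₐ (idealL A v) (MvPolynomial.aeval (fun j => r1 (Eof (pia A v a) s) (X j)))
    (aeval_r1_mem A v a s)

lemma g1_mkC (p : MvPolynomial (Fin m) A) :
    g1 A v a s (mkC A v p) =
      MvPolynomial.aeval (fun j => r1 (Eof (pia A v a) s) (X j)) p :=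
  AlgHom.congr_fun (Ideal.Quotient.liftₐ_comp (idealL A v) _ (aeval_r1_mem A v a s)) p

lemma isUnit_g1 : IsUnit ((g1 A v a s).toRingHom (algebraMap A (CC A v) a)) := by
  change IsUnit (g1 A v a s (algebraMap A (CC A v) a))
  rw [AlgHom.commutes, IsScalarTower.algebraMap_apply A (Localization.Away a)]
  exact (IsLocalization.Away.algebraMap_isUnit a).map _

noncomputable def g0 : Localization.Away (algebraMap A (CC A v) a) →+* B1 (Eof (pia A v a) s) :=
  IsLocalization.Away.lift (algebraMap A (CC A v) a) (isUnit_g1 A v a s)

lemma g0_algebraMap (z : CC A v) : g0 A v a s (algebraMap (CC A v) _ z) = g1 A v a s z :=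
  IsLocalization.Away.lift_eq _ _ _

end Local3

end Helper27.SymOmega

namespace Helper27.SymOmega

open Groth.Agent.Lib.Helper27.SmoothRetract Helper27.StdElem Algebra MvPolynomial

section Local4

variable (A : Type u) {M₀ : Type u} [CommRing A] [AddCommGroup M₀] [Module A M₀] {m : ℕ}
  (v : Fin m → M₀) (a : A)
  (s : LocalizedModule (Submonoid.powers a) M₀ →ₗ[Localization.Away a] (Fin m → Localization.Away a))
  (hs : pia A v a ∘ₗ s = LinearMap.id)

attribute [local instance] algT

lemma g0_iotaT (c : Localization.Away a) :
    g0 A v a s (iotaT A v a c) = algebraMap (Localization.Away a) (B1 (Eof (pia A v a) s)) c := by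
  have h : (g0 A v a s).comp (iotaT A v a) =
      algebraMap (Localization.Away a) (B1 (Eof (pia A v a) s)) := by
    refine IsLocalization.ringHom_ext (Submonoid.powers a) ?_
    ext x
    simp only [RingHom.comp_apply]
    rw [iotaT_algebraMap,
      IsScalarTower.algebraMap_apply A (CC A v) (Localization.Away (algebraMap A (CC A v) a)),
      g0_algebraMap, AlgHom.commutes,
      IsScalarTower.algebraMap_apply A (Localization.Away a) (B1 (Eof (pia A v a) s))]
  exact RingHom.congr_fun h c

lemma g0_yT (j : Fin m) : g0 A v a s (yT A v a j) = r1 (Eof (pia A v a) s) (X j) := by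
  unfold yT
  rw [g0_algebraMap, g1_mkC, aeval_X]

lemma g0_hmap (b : B1 (Eof (pia A v a) s)) : g0 A v a s (hmap A v a s hs b) = b := by
  obtain ⟨p, rfl⟩ := r1_surjective _ b
  rw [hmap_r1]
  have h : (g0 A v a s).comp (MvPolynomial.aeval (yT A v a) :
      MvPolynomial (Fin m) (Localization.Away a) →ₐ[Localization.Away a]
        Localization.Away (algebraMap A (CC A v) a)).toRingHom =
      (r1 (Eof (pia A v a) s)).toRingHom := by
    refine MvPolynomial.ringHom_ext ?_ ?_
    · intro c
      simp only [RingHom.comp_apply, AlgHom.toRingHom_eq_coe, RingHom.coe_coe]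
      rw [← MvPolynomial.algebraMap_eq, AlgHom.commutes, AlgHom.commutes, algebraMap_T, g0_iotaT]
    · intro j
      simp only [RingHom.comp_apply, AlgHom.toRingHom_eq_coe, RingHom.coe_coe]
      rw [aeval_X, g0_yT]
  exact RingHom.congr_fun h p

lemma hmap_algebraMap (x : A) :
    hmap A v a s hs (algebraMap A (B1 (Eof (pia A v a) s)) x) =
      algebraMap A (Localization.Away (algebraMap A (CC A v) a)) x := by
  rw [IsScalarTower.algebraMap_apply A (Localization.Away a) (B1 (Eof (pia A v a) s)),
    AlgHom.commutes, algebraMap_T, iotaT_algebraMap]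

lemma hmap_g0 (t : Localization.Away (algebraMap A (CC A v) a)) :
    hmap A v a s hs (g0 A v a s t) = t := by
  have h : ((hmap A v a s hs).toRingHom.comp (g0 A v a s)) =
      RingHom.id (Localization.Away (algebraMap A (CC A v) a)) := by
    refine IsLocalization.ringHom_ext (Submonoid.powers (algebraMap A (CC A v) a)) ?_
    refine RingHom.ext fun z => ?_
    obtain ⟨p, rfl⟩ := mkC_surjective A v z
    simp only [RingHom.comp_apply, RingHom.id_apply, AlgHom.toRingHom_eq_coe, RingHom.coe_coe]
    rw [g0_algebraMap, g1_mkC]
    have h2 : ((hmap A v a s hs).toRingHom.comp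
        (MvPolynomial.aeval (fun j => r1 (Eof (pia A v a) s) (X j)) :
          MvPolynomial (Fin m) A →ₐ[A] B1 (Eof (pia A v a) s)).toRingHom) =
        (algebraMap (CC A v) (Localization.Away (algebraMap A (CC A v) a))).comp
          (mkC A v).toRingHom := by
      refine MvPolynomial.ringHom_ext ?_ ?_
      · intro x
        simp only [RingHom.comp_apply, AlgHom.toRingHom_eq_coe, RingHom.coe_coe]
        rw [← MvPolynomial.algebraMap_eq, AlgHom.commutes, AlgHom.commutes, hmap_algebraMap,
          ← IsScalarTower.algebraMap_apply]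
      · intro j
        simp only [RingHom.comp_apply, AlgHom.toRingHom_eq_coe, RingHom.coe_coe]
        rw [aeval_X, hmap_r1, aeval_X]
        rfl
    exact RingHom.congr_fun h2 p
  exact RingHom.congr_fun h t

noncomputable def iotaEquiv : B1 (Eof (pia A v a) s) ≃ₐ[Localization.Away a]
    Localization.Away (algebraMap A (CC A v) a) :=
  AlgEquiv.ofBijective (hmap A v a s hs)
    ⟨Function.LeftInverse.injective (g := g0 A v a s) (g0_hmap A v a s hs),
      Function.RightInverse.surjective (g := g0 A v a s) (hmap_g0 A v a s hs)⟩

end Local4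

end Helper27.SymOmega

namespace Helper27.SymOmega

open Groth.Agent.Lib.Helper27.SmoothRetract Helper27.StdElem Algebra MvPolynomial

section Final

variable {R A : Type u} [CommRing R] [CommRing A] [Algebra R A] {n m : ℕ}
  (P : Algebra.Generators R A (Fin n)) (f : Fin m → P.Ring)
  (hker : Ideal.span (Set.range f) = P.toExtension.ker)

noncomputable def cotGen (j : Fin m) : P.toExtension.Cotangent :=
  Extension.Cotangent.mk ⟨f j, rel_mem_ker P f hker j⟩

attribute [local instance] algT

theorem towerRT (a : A) :
    IsScalarTower R (Localization.Away a)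
      (Localization.Away (algebraMap A (CC A (cotGen P f hker)) a)) :=
  IsScalarTower.of_algebraMap_eq (fun r => by
    rw [algebraMap_T, IsScalarTower.algebraMap_apply R A (Localization.Away a), iotaT_algebraMap,
      ← IsScalarTower.algebraMap_apply])

theorem free_kaehler_away (a : A) [Algebra.FormallySmooth R (Localization.Away a)] :
    Module.Free (Localization.Away (algebraMap A (CC A (cotGen P f hker)) a))
      Ω[Localization.Away (algebraMap A (CC A (cotGen P f hker)) a)⁄R] := by
  have htower := towerRT P f hker a
  let S := Submonoid.powers a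
  obtain ⟨ρ, hρ⟩ := exists_retraction_of_formallySmooth (R := R) P S
  have hexd : Function.Exact (LocalizedModule.map S P.toExtension.cotangentComplex)
      (LocalizedModule.map S P.toExtension.toKaehler) :=
    LocalizedModule.map_exact S _ _ P.toExtension.exact_cotangentComplex_toKaehler
  have hsurj : Function.Surjective (LocalizedModule.map S P.toExtension.toKaehler) :=
    LocalizedModule.map_surjective S _ P.toExtension.toKaehler_surjective
  let e := (Function.Exact.splitInjectiveEquiv (R := Localization S)
    (M := LocalizedModule S P.toExtension.Cotangent)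
    (N := LocalizedModule S P.toExtension.CotangentSpace)
    (P := LocalizedModule S Ω[A⁄R])
    (f := LocalizedModule.map S P.toExtension.cotangentComplex)
    (g := LocalizedModule.map S P.toExtension.toKaehler) hexd hsurj ⟨ρ, hρ⟩).1
  let e1 : LocalizedModule S P.toExtension.CotangentSpace ≃ₗ[Localization.Away a]
      (Fin n → Localization.Away a) :=
    (P.cotangentSpaceBasis.ofIsLocalizedModule (Localization.Away a) S
      (LocalizedModule.mkLinearMap S P.toExtension.CotangentSpace)).equivFun
  let e0 := (IsLocalizedModule.iso S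
    (KaehlerDifferential.map R R A (Localization.Away a))).extendScalarsOfIsLocalization
      S (Localization.Away a)
  let eN : (Ω[Localization.Away a⁄R] × LocalizedModule S P.toExtension.Cotangent)
      ≃ₗ[Localization.Away a] (Fin n → Localization.Away a) :=
    (LinearEquiv.prodComm _ _ _) ≪≫ₗ (LinearEquiv.prodCongr (LinearEquiv.refl _ _) e0.symm) ≪≫ₗ
      e.symm ≪≫ₗ e1
  have hfree : Module.Free (Localization.Away a)
      (LocalizedModule S P.toExtension.CotangentSpace) := Module.Free.of_equiv e1.symm
  have hproj : Module.Projective (Localization.Away a)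
      (LocalizedModule S P.toExtension.Cotangent) :=
    Module.Projective.of_split (LocalizedModule.map S P.toExtension.cotangentComplex) ρ hρ
  have hv : Submodule.span A (Set.range (cotGen P f hker)) = ⊤ :=
    Extension.Cotangent.span_eq_top_of_span_eq_ker (P := P.toExtension) f hker
  obtain ⟨s, hs⟩ := Module.projective_lifting_property (pia A (cotGen P f hker) a) LinearMap.id
    (pia_surjective A (cotGen P f hker) a hv)
  exact free_kaehler (R := R) (pia A (cotGen P f hker) a) s
    (iotaEquiv A (cotGen P f hker) a s hs) hs eN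

end Final

end Helper27.SymOmega
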