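import Mathlib
import Groth.Prelude.Def_Smoothing
import Groth.Agent.Lib.Helper27.StdElemD

set_option autoImplicit false
universe u v w

namespace Helper27.StdConv

open Algebra MvPolynomial

section Split

variable {R : Type u} {A : Type u} [CommRing R] [CommRing A] [Algebra R A]
variable {ι : Type w} (P : Algebra.Generators R A ι)

theorem exists_retraction_equiv (S : Submonoid A)
    [Algebra.FormallySmooth R (Localization S)] :
    ∃ (ρ : LocalizedModule S P.toExtension.CotangentSpace →ₗ[Localization S]
        LocalizedModule S P.toExtension.Cotangent)
      (_ : LocalizedModule S P.toExtension.CotangentSpace ≃ₗ[Localization S]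
        LocalizedModule S P.toExtension.Cotangent × Ω[Localization S⁄R]),
      ρ ∘ₗ LocalizedModule.map S P.toExtension.cotangentComplex = LinearMap.id := by
  have hex : Function.Exact (LocalizedModule.map S P.toExtension.cotangentComplex)
      (LocalizedModule.map S P.toExtension.toKaehler) :=
    LocalizedModule.map_exact S _ _ P.toExtension.exact_cotangentComplex_toKaehler
  have hsurj : Function.Surjective (LocalizedModule.map S P.toExtension.toKaehler) :=
    LocalizedModule.map_surjective S _ P.toExtension.toKaehler_surjective
  obtain ⟨ρ, hρ⟩ := Helper27.StdElem.exists_retraction_of_formallySmooth (R := R) P S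
  have E1 := (Function.Exact.splitInjectiveEquiv (R := Localization S)
    (M := LocalizedModule S P.toExtension.Cotangent)
    (N := LocalizedModule S P.toExtension.CotangentSpace)
    (P := LocalizedModule S Ω[A⁄R])
    (f := LocalizedModule.map S P.toExtension.cotangentComplex)
    (g := LocalizedModule.map S P.toExtension.toKaehler) hex hsurj ⟨ρ, hρ⟩).1
  have E2 := (IsLocalizedModule.iso S
    (KaehlerDifferential.map R R A (Localization S))).extendScalarsOfIsLocalization
      S (Localization S)
  exact ⟨ρ, E1 ≪≫ₗ (LinearEquiv.prodCongr (LinearEquiv.refl _ _) E2), hρ⟩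

theorem free_prod {n₀ : ℕ} (P : Algebra.Generators R A (Fin n₀)) (S : Submonoid A)
    [Algebra.FormallySmooth R (Localization S)] (p q : ℕ)
    (e : (Ω[Localization S⁄R] × (Fin p → Localization S)) ≃ₗ[Localization S]
      (Fin q → Localization S)) :
    Module.Free (Localization S)
      (LocalizedModule S P.toExtension.Cotangent × (Fin q → Localization S)) := by
  obtain ⟨ρ, E, -⟩ := exists_retraction_equiv (R := R) P S
  have hfreeN : Module.Free (Localization S) (LocalizedModule S P.toExtension.CotangentSpace) :=
    Module.Free.of_basis (P.cotangentSpaceBasis.ofIsLocalizedModule (Localization S) S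
      (LocalizedModule.mkLinearMap S P.toExtension.CotangentSpace))
  let Ψ : (LocalizedModule S P.toExtension.Cotangent × (Fin q → Localization S)) ≃ₗ[Localization S]
      (LocalizedModule S P.toExtension.CotangentSpace × (Fin p → Localization S)) :=
    (LinearEquiv.prodCongr (LinearEquiv.refl _ _) e.symm) ≪≫ₗ
      (LinearEquiv.prodAssoc _ _ _ _).symm ≪≫ₗ
      (LinearEquiv.prodCongr E.symm (LinearEquiv.refl _ _))
  exact Module.Free.of_equiv Ψ.symm

end Split

end Helper27.StdConv
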