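import Mathlib
import Groth.Prelude.Def_Smoothing
import Groth.Agent.Lib.Helper27.StdConvA

set_option autoImplicit false
universe u v w

namespace Helper27.StdConv

open Algebra MvPolynomial

section Basis

variable {A : Type u} [CommRing A] (a : A) (M₀ : Type u) [AddCommGroup M₀] [Module A M₀] (q : ℕ)

noncomputable def iotaV : M₀ × (Fin q → A) →ₗ[A]
    LocalizedModule (Submonoid.powers a) M₀ × (Fin q → Localization.Away a) :=
  (LocalizedModule.mkLinearMap (Submonoid.powers a) M₀).prodMap
    (LinearMap.pi fun j => (Algebra.linearMap A (Localization.Away a)) ∘ₗ LinearMap.proj j)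

instance : IsLocalizedModule (Submonoid.powers a) (iotaV a M₀ q) := by
  unfold iotaV
  infer_instance

theorem iotaV_apply (m : M₀) (w : Fin q → A) :
    iotaV a M₀ q (m, w) = (LocalizedModule.mkLinearMap (Submonoid.powers a) M₀ m,
      fun j => algebraMap A (Localization.Away a) (w j)) := rfl

theorem exists_basis [Module.Finite A M₀] [Nontrivial (Localization.Away a)]
    [Module.Free (Localization.Away a)
      (LocalizedModule (Submonoid.powers a) M₀ × (Fin q → Localization.Away a))] :
    ∃ (c : ℕ) (b' : Module.Basis (Fin c) (Localization.Away a)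
        (LocalizedModule (Submonoid.powers a) M₀ × (Fin q → Localization.Away a)))
      (x : Fin c → M₀ × (Fin q → A)), ∀ i, b' i = iotaV a M₀ q (x i) := by
  have : Module.Finite (Localization.Away a) (LocalizedModule (Submonoid.powers a) M₀) :=
    Module.Finite.of_isLocalizedModule (Submonoid.powers a)
      (LocalizedModule.mkLinearMap (Submonoid.powers a) M₀)
  let b := Module.finBasis (Localization.Away a)
    (LocalizedModule (Submonoid.powers a) M₀ × (Fin q → Localization.Away a))
  have h1 : ∀ i, ∃ (x : M₀ × (Fin q → A)) (s : Submonoid.powers a),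
      s • b i = iotaV a M₀ q x := fun i => by
    obtain ⟨⟨x, s⟩, h⟩ := IsLocalizedModule.surj (Submonoid.powers a) (iotaV a M₀ q) (b i)
    exact ⟨x, s, h⟩
  choose x s hs using h1
  refine ⟨_, b.isUnitSMul (fun i => IsLocalization.map_units (Localization.Away a) (s i)), x, ?_⟩
  intro i
  rw [Module.Basis.isUnitSMul_apply, ← hs i, algebraMap_smul]
  rfl

theorem span_data {c : ℕ} (b' : Module.Basis (Fin c) (Localization.Away a)
      (LocalizedModule (Submonoid.powers a) M₀ × (Fin q → Localization.Away a)))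
    (x : Fin c → M₀ × (Fin q → A)) (hb' : ∀ i, b' i = iotaV a M₀ q (x i))
    (ζ₀ : M₀ × (Fin q → A)) :
    ∃ (e : ℕ) (C : Fin c → A), a ^ e • ζ₀ = ∑ i, C i • x i := by
  obtain ⟨s, hs⟩ := IsLocalization.exist_integer_multiples_of_finite (Submonoid.powers a)
    (fun i => b'.repr (iotaV a M₀ q ζ₀) i)
  choose C hC using hs
  have h1 : iotaV a M₀ q ((s : A) • ζ₀) = iotaV a M₀ q (∑ i, C i • x i) := by
    rw [map_smul, map_sum]
    conv_lhs => rw [← b'.sum_repr (iotaV a M₀ q ζ₀), Finset.smul_sum]
    refine Finset.sum_congr rfl fun i _ => ?_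
    rw [map_smul, ← hb', ← algebraMap_smul (Localization.Away a) (C i) (b' i), hC, smul_assoc]
  obtain ⟨s', hs'⟩ := (IsLocalizedModule.eq_iff_exists (Submonoid.powers a) (iotaV a M₀ q)).mp h1
  obtain ⟨e, he⟩ := (s' * s).2
  refine ⟨e, fun i => (s' : A) * C i, ?_⟩
  have he' : a ^ e = (s' : A) * (s : A) := he
  rw [he', mul_smul]
  rw [show (s' : A) • ((s : A) • ζ₀) = s' • ((s : A) • ζ₀) from rfl, hs',
    show s' • (∑ i, C i • x i) = (s' : A) • (∑ i, C i • x i) from rfl, Finset.smul_sum]
  refine Finset.sum_congr rfl fun i _ => ?_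
  rw [mul_smul]

theorem minors_data {N₀ : Type u} [AddCommGroup N₀] [Module A N₀] {n₀ : ℕ}
    (bN : Module.Basis (Fin n₀) A N₀) (d₀ : M₀ →ₗ[A] N₀)
    (ρ : LocalizedModule (Submonoid.powers a) N₀ →ₗ[Localization.Away a]
      LocalizedModule (Submonoid.powers a) M₀)
    (hρ : ρ ∘ₗ LocalizedModule.map (Submonoid.powers a) d₀ = LinearMap.id)
    {c : ℕ} (b' : Module.Basis (Fin c) (Localization.Away a)
      (LocalizedModule (Submonoid.powers a) M₀ × (Fin q → Localization.Away a)))
    (x : Fin c → M₀ × (Fin q → A)) (hb' : ∀ i, b' i = iotaV a M₀ q (x i)) :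
    ∃ e : ℕ, a ^ e ∈ Ideal.span (Set.range fun cols : Fin c → Fin (n₀ + q) =>
      Matrix.det (Matrix.of fun i k : Fin c =>
        (Fin.append (fun k' => bN.repr (d₀ (x i).1) k') (fun j => (x i).2 j) : Fin (n₀ + q) → A)
          (cols k))) := by
  classical
  set S := Submonoid.powers a with hS
  let Aa := Localization.Away a
  let JacA : Fin c → Fin (n₀ + q) → A := fun i =>
    Fin.append (fun k' => bN.repr (d₀ (x i).1) k') (fun j => (x i).2 j)
  let D : (LocalizedModule S M₀ × (Fin q → Aa)) →ₗ[Aa] (LocalizedModule S N₀ × (Fin q → Aa)) :=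
    (LocalizedModule.map S d₀).prodMap LinearMap.id
  let L : (LocalizedModule S N₀ × (Fin q → Aa)) →ₗ[Aa] (LocalizedModule S M₀ × (Fin q → Aa)) :=
    ρ.prodMap LinearMap.id
  have hLD : L ∘ₗ D = LinearMap.id := by
    apply LinearMap.ext
    rintro ⟨m, w⟩
    have := LinearMap.congr_fun hρ m
    simp only [LinearMap.comp_apply, LinearMap.id_apply] at this
    exact Prod.ext this rfl
  let bNq : Module.Basis (Fin n₀) Aa (LocalizedModule S N₀) :=
    bN.ofIsLocalizedModule Aa S (LocalizedModule.mkLinearMap S N₀)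
  let bW : Module.Basis (Fin (n₀ + q)) Aa (LocalizedModule S N₀ × (Fin q → Aa)) :=
    (bNq.prod (Pi.basisFun Aa (Fin q))).reindex finSumFinEquiv
  let Jq : Matrix (Fin (n₀ + q)) (Fin c) Aa := LinearMap.toMatrix b' bW D
  let T : Matrix (Fin c) (Fin (n₀ + q)) Aa := LinearMap.toMatrix bW b' L
  have hTJ : T * Jq = 1 := by
    rw [← LinearMap.toMatrix_comp, hLD, LinearMap.toMatrix_id]
  have hDb : ∀ i, D (b' i) = (LocalizedModule.mkLinearMap S N₀ (d₀ (x i).1),
      fun j => algebraMap A Aa ((x i).2 j)) := by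
    intro i
    rw [hb', iotaV_apply]
    simp [D, LocalizedModule.mkLinearMap_apply]
    rfl
  have hJq : ∀ k i, Jq k i = algebraMap A Aa (JacA i k) := by
    intro k i
    show (LinearMap.toMatrix b' bW D) k i = _
    rw [LinearMap.toMatrix_apply, hDb, Module.Basis.repr_reindex_apply]
    induction k using Fin.addCases with
    | left k' =>
      rw [finSumFinEquiv_symm_apply_castAdd, Module.Basis.prod_repr_inl]
      simp only [JacA, Fin.append_left]
      exact Module.Basis.ofIsLocalizedModule_repr_apply _ _ _ _ _ _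
    | right j =>
      rw [finSumFinEquiv_symm_apply_natAdd, Module.Basis.prod_repr_inr]
      simp only [JacA, Fin.append_right]
      simp
  set I : Ideal A := Ideal.span (Set.range fun cols : Fin c → Fin (n₀ + q) =>
      Matrix.det (Matrix.of fun i k : Fin c => JacA i (cols k))) with hI
  have htop : I.map (algebraMap A Aa) = ⊤ := by
    by_contra hne
    obtain ⟨Q, hQ, hIQ⟩ := Ideal.exists_le_maximal _ hne
    let res : Aa →+* Q.ResidueField := algebraMap Aa Q.ResidueField
    have hres : T.map res * Jq.map res = 1 := by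
      rw [← Matrix.map_mul, hTJ, Matrix.map_one _ (map_zero _) (map_one _)]
    obtain ⟨cols, hcols⟩ := Helper27.StdElem.exists_cols_det_ne_zero _ _ hres
    apply hcols
    have h1 : (Jq.map res).submatrix cols id = (res.comp (algebraMap A Aa)).mapMatrix
        ((Matrix.of fun i k : Fin c => JacA i (cols k)).transpose) := by
      ext k i
      simp [hJq]
    rw [h1, ← RingHom.map_det, Matrix.det_transpose, RingHom.comp_apply]
    have hmem : algebraMap A Aa (Matrix.det (Matrix.of fun i k : Fin c => JacA i (cols k))) ∈ Q :=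
      hIQ (Ideal.mem_map_of_mem _ (Ideal.subset_span ⟨cols, rfl⟩))
    exact (Ideal.algebraMap_residueField_eq_zero).mpr hmem
  have h1 : algebraMap A Aa 1 ∈ I.map (algebraMap A Aa) := by rw [htop]; trivial
  obtain ⟨m, hm, hmI⟩ := (IsLocalization.algebraMap_mem_map_algebraMap_iff S Aa I 1).mp h1
  obtain ⟨e, he⟩ := hm
  refine ⟨e, ?_⟩
  have he' : a ^ e = m := he
  rw [he']
  simpa using hmI

end Basis

end Helper27.StdConv
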