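import Mathlib
import Groth.Prelude.Def_Smoothing
import Groth.Agent.Lib.Helper27.StdElemE
import Groth.Agent.Lib.Helper27.StdConvC

set_option autoImplicit false
universe u

namespace Helper27.StdConv

open Algebra MvPolynomial

section PolyMain

variable {R A : Type u} [CommRing R] [CommRing A] [Algebra R A] {n₀ m₀ : ℕ}
  (f₀ : Fin m₀ → MvPolynomial (Fin n₀) R) (φ₀ : MvPolynomial (Fin n₀) R →ₐ[R] A)
  (q c : ℕ) (g : Fin c → MvPolynomial (Fin n₀) R) (h : Fin c → Fin q → MvPolynomial (Fin n₀) R)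

noncomputable def Fof (i : Fin c) : MvPolynomial (Fin (n₀ + q)) R :=
  rho1 n₀ q (g i) + ∑ j, rho1 n₀ q (h i j) * YY n₀ q j

noncomputable def relOf : Fin (c + (m₀ + q)) → MvPolynomial (Fin (n₀ + q)) R :=
  Fin.append (Fof q c g h) (Fin.append (fun ℓ => rho1 n₀ q (f₀ ℓ)) (YY n₀ q))

theorem relOf_left (i : Fin c) : relOf f₀ q c g h (Fin.castAdd _ i) = Fof q c g h i := by
  simp [relOf, Fin.append_left]

theorem relOf_mid (ℓ : Fin m₀) :
    relOf f₀ q c g h (Fin.natAdd c (Fin.castAdd q ℓ)) = rho1 n₀ q (f₀ ℓ) := by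
  simp [relOf, Fin.append_right, Fin.append_left]

theorem relOf_right (j : Fin q) :
    relOf f₀ q c g h (Fin.natAdd c (Fin.natAdd m₀ j)) = YY n₀ q j := by
  simp [relOf, Fin.append_right]

include φ₀ in
theorem phi1_Fof (hg : ∀ i, φ₀ (g i) = 0) (i : Fin c) :
    φ₀ (ev n₀ q (Fof q c g h i)) = 0 := by
  unfold Fof
  rw [map_add, map_add, ev_rho1, hg, zero_add, map_sum, map_sum]
  refine Finset.sum_eq_zero fun j _ => ?_
  rw [map_mul, map_mul]
  have : ev n₀ q (YY (R := R) n₀ q j) = 0 := by simp [ev, YY, Fin.append_right]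
  rw [this, map_zero, mul_zero]

theorem ker_phi1 (hker₀ : RingHom.ker φ₀.toRingHom = Ideal.span (Set.range f₀))
    (hg : ∀ i, φ₀ (g i) = 0) :
    RingHom.ker (φ₀.comp (ev n₀ q)).toRingHom = Ideal.span (Set.range (relOf f₀ q c g h)) := by
  apply le_antisymm
  · intro x hx
    have hx' : φ₀ (ev n₀ q x) = 0 := hx
    have h1 : ev n₀ q x ∈ Ideal.span (Set.range f₀) := by rw [← hker₀]; exact hx'
    have h2 : rho1 n₀ q (ev n₀ q x) ∈ Ideal.span (Set.range (relOf f₀ q c g h)) := by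
      have := Ideal.mem_map_of_mem (rho1 (R := R) n₀ q) h1
      rw [Ideal.map_span] at this
      refine (Ideal.span_le.mpr ?_) this
      rintro _ ⟨_, ⟨ℓ, rfl⟩, rfl⟩
      exact Ideal.subset_span ⟨_, relOf_mid f₀ q c g h ℓ⟩
    have h3 : x - rho1 n₀ q (ev n₀ q x) ∈ Ideal.span (Set.range (relOf f₀ q c g h)) := by
      refine (Ideal.span_le.mpr ?_) (sub_rho1_ev_mem n₀ q x)
      rintro _ ⟨j, rfl⟩
      exact Ideal.subset_span ⟨_, relOf_right f₀ q c g h j⟩
    have : x = (x - rho1 n₀ q (ev n₀ q x)) + rho1 n₀ q (ev n₀ q x) := by ring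
    rw [this]
    exact Ideal.add_mem _ h3 h2
  · rw [Ideal.span_le]
    rintro _ ⟨k, rfl⟩
    rw [SetLike.mem_coe, RingHom.mem_ker]
    show φ₀ (ev n₀ q (relOf f₀ q c g h k)) = 0
    induction k using Fin.addCases with
    | left i => rw [relOf_left]; exact phi1_Fof φ₀ q c g h hg i
    | right k' =>
      induction k' using Fin.addCases with
      | left ℓ =>
        rw [relOf_mid, ev_rho1]
        have : f₀ ℓ ∈ RingHom.ker φ₀.toRingHom := by
          rw [hker₀]; exact Ideal.subset_span ⟨ℓ, rfl⟩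
        exact this
      | right j =>
        rw [relOf_right]
        have : ev n₀ q (YY (R := R) n₀ q j) = 0 := by simp [ev, YY, Fin.append_right]
        rw [this, map_zero]

theorem mul_mem_sup_of (hker₀ : RingHom.ker φ₀.toRingHom = Ideal.span (Set.range f₀))
    (hg : ∀ i, φ₀ (g i) = 0) (D : Fin c → MvPolynomial (Fin n₀) R)
    (w x₀ : MvPolynomial (Fin n₀) R) (y : Fin q → MvPolynomial (Fin n₀) R)
    (hu₁ : w * x₀ - ∑ i, D i * g i ∈ (RingHom.ker φ₀.toRingHom) ^ 2)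
    (hu₂ : ∀ j, w * y j - ∑ i, D i * h i j ∈ RingHom.ker φ₀.toRingHom) :
    rho1 n₀ q w * (rho1 n₀ q x₀ + ∑ j, rho1 n₀ q (y j) * YY n₀ q j) ∈
      Ideal.span (Set.range (Fof q c g h)) ⊔ Ideal.span (Set.range (relOf f₀ q c g h)) ^ 2 := by
  have hkerI := ker_phi1 f₀ φ₀ q c g h hker₀ hg
  have hI : ∀ x ∈ RingHom.ker φ₀.toRingHom,
      rho1 n₀ q x ∈ Ideal.span (Set.range (relOf f₀ q c g h)) := by
    intro x hx
    rw [← hkerI, RingHom.mem_ker]
    show φ₀ (ev n₀ q (rho1 n₀ q x)) = 0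
    rw [ev_rho1]; exact hx
  have hI2 : ∀ x ∈ (RingHom.ker φ₀.toRingHom) ^ 2,
      rho1 n₀ q x ∈ Ideal.span (Set.range (relOf f₀ q c g h)) ^ 2 := by
    intro x hx
    have := Ideal.mem_map_of_mem (rho1 (R := R) n₀ q) hx
    rw [Ideal.map_pow] at this
    exact Ideal.pow_right_mono (Ideal.map_le_iff_le_comap.mpr hI) 2 this
  have hY : ∀ j, YY n₀ q j ∈ Ideal.span (Set.range (relOf f₀ q c g h)) := fun j =>
    Ideal.subset_span ⟨_, relOf_right f₀ q c g h j⟩
  have E1 : ∑ i, rho1 n₀ q (D i) * Fof q c g h i =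
      rho1 n₀ q (∑ i, D i * g i) + ∑ j, rho1 n₀ q (∑ i, D i * h i j) * YY n₀ q j := by
    simp only [Fof, mul_add, Finset.sum_add_distrib, map_sum, map_mul, Finset.mul_sum,
      Finset.sum_mul]
    congr 1
    rw [Finset.sum_comm]
    refine Finset.sum_congr rfl fun j _ => Finset.sum_congr rfl fun i _ => by ring
  have E2 : rho1 n₀ q w * (rho1 n₀ q x₀ + ∑ j, rho1 n₀ q (y j) * YY n₀ q j) =
      ∑ i, rho1 n₀ q (D i) * Fof q c g h i +
        (rho1 n₀ q (w * x₀ - ∑ i, D i * g i) +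
          ∑ j, rho1 n₀ q (w * y j - ∑ i, D i * h i j) * YY n₀ q j) := by
    rw [E1]
    simp only [map_sub, map_mul, sub_mul, Finset.sum_sub_distrib, mul_add, Finset.mul_sum]
    have : ∑ j, rho1 n₀ q w * (rho1 n₀ q (y j) * YY n₀ q j) =
        ∑ j, rho1 n₀ q w * rho1 n₀ q (y j) * YY n₀ q j :=
      Finset.sum_congr rfl fun j _ => by ring
    rw [this]
    ring
  rw [E2]
  refine Ideal.add_mem _ (Ideal.mem_sup_left ?_) (Ideal.mem_sup_right ?_)
  · exact Ideal.sum_mem _ fun i _ => Ideal.mul_mem_left _ _ (Ideal.subset_span ⟨i, rfl⟩)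
  · refine Ideal.add_mem _ (hI2 _ hu₁) (Ideal.sum_mem _ fun j _ => ?_)
    rw [pow_two]
    exact Ideal.mul_mem_mul (hI _ (hu₂ j)) (hY j)

end PolyMain

end Helper27.StdConv
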