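import Mathlib
import Groth.Prelude.Def_Smoothing
import Groth.Agent.Lib.Helper27.StdElemE
import Groth.Agent.Lib.Helper27.StdConvD

set_option autoImplicit false
universe u

namespace Helper27.StdConv

open Algebra MvPolynomial

section Minor

variable {R A : Type u} [CommRing R] [CommRing A] [Algebra R A] {n₀ : ℕ}
  (φ₀ : MvPolynomial (Fin n₀) R →ₐ[R] A)
  (q c : ℕ) (g : Fin c → MvPolynomial (Fin n₀) R) (h : Fin c → Fin q → MvPolynomial (Fin n₀) R)

theorem ev_YY (j : Fin q) : ev n₀ q (YY (R := R) n₀ q j) = 0 := by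
  simp [ev, YY, Fin.append_right]

theorem phi1_pderiv_Fof (i : Fin c) (k : Fin (n₀ + q)) :
    φ₀ (ev n₀ q (pderiv k (Fof q c g h i))) =
      (Fin.append (fun k' => φ₀ (pderiv k' (g i))) (fun j => φ₀ (h i j)) : Fin (n₀ + q) → A) k := by
  classical
  unfold Fof
  induction k using Fin.addCases with
  | left k' =>
    rw [Fin.append_left, map_add, pderiv_castAdd_rho1, map_add, ev_rho1, map_add, map_sum,
      map_sum, map_sum]
    rw [Finset.sum_eq_zero, add_zero]
    intro j _
    rw [Derivation.leibniz, pderiv_castAdd_YY, smul_zero, zero_add, smul_eq_mul, map_mul, ev_YY,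
      zero_mul, map_zero]
  | right j₀ =>
    rw [Fin.append_right, map_add, pderiv_natAdd_rho1, zero_add, map_sum, map_sum, map_sum]
    rw [Finset.sum_eq_single j₀]
    · rw [Derivation.leibniz, pderiv_natAdd_YY, if_pos rfl, pderiv_natAdd_rho1, smul_zero,
        add_zero, smul_eq_mul, mul_one, ev_rho1]
    · intro j _ hj
      rw [Derivation.leibniz, pderiv_natAdd_YY, if_neg hj, pderiv_natAdd_rho1, smul_zero,
        smul_zero, add_zero, map_zero, map_zero]
    · intro hj; exact absurd (Finset.mem_univ _) hj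

end Minor

section Bridge

variable {R A : Type u} [CommRing R] [CommRing A] [Algebra R A] (E : Algebra.Extension.{u} R A)
  (q c : ℕ)

theorem bridge (g : Fin c → E.ker) (h : Fin c → Fin q → E.Ring)
    (x : Fin c → E.Cotangent × (Fin q → A))
    (hx1 : ∀ i, (x i).1 = Extension.Cotangent.mk (g i))
    (hx2 : ∀ i j, (x i).2 j = algebraMap E.Ring A (h i j))
    (x₀ : E.ker) (y : Fin q → E.Ring) (w : E.Ring) (C : Fin c → A) (D : Fin c → E.Ring)
    (hD : ∀ i, algebraMap E.Ring A (D i) = C i)
    (heq : algebraMap E.Ring A w • ((Extension.Cotangent.mk x₀,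
      fun j => algebraMap E.Ring A (y j)) : E.Cotangent × (Fin q → A)) = ∑ i, C i • x i) :
    (w * (x₀ : E.Ring) - ∑ i, D i * (g i : E.Ring) ∈ E.ker ^ 2) ∧
    ∀ j, w * y j - ∑ i, D i * h i j ∈ E.ker := by
  constructor
  · have h1 := congrArg Prod.fst heq
    rw [Prod.smul_fst, Prod.fst_sum] at h1
    have h2 : algebraMap E.Ring A w • (Extension.Cotangent.mk x₀ : E.Cotangent) =
        Extension.Cotangent.mk (w • x₀) := by
      rw [algebraMap_smul, map_smul]
    have h3 : ∑ i, (C i • x i).1 = (Extension.Cotangent.mk (∑ i, D i • g i) : E.Cotangent) := by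
      rw [map_sum]
      refine Finset.sum_congr rfl fun i _ => ?_
      rw [Prod.smul_fst, hx1, ← hD, algebraMap_smul, map_smul]
    rw [h2, h3, Extension.Cotangent.mk_eq_mk_iff_sub_mem] at h1
    have h4 : ((∑ i, D i • g i : E.ker) : E.Ring) = ∑ i, D i * (g i : E.Ring) := by
      rw [Submodule.coe_sum]
      rfl
    have h5 : ((w • x₀ : E.ker) : E.Ring) = w * (x₀ : E.Ring) := rfl
    rw [h4, h5] at h1
    exact h1
  · intro j
    have h1 := congrFun (congrArg Prod.snd heq) j
    rw [Prod.smul_snd, Pi.smul_apply, Prod.snd_sum, Finset.sum_apply] at h1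
    show w * y j - ∑ i, D i * h i j ∈ RingHom.ker (algebraMap E.Ring A)
    rw [RingHom.mem_ker, map_sub, map_mul, map_sum, sub_eq_zero]
    rw [smul_eq_mul] at h1
    rw [h1]
    refine Finset.sum_congr rfl fun i _ => ?_
    rw [Prod.smul_snd, Pi.smul_apply, smul_eq_mul, hx2, map_mul, hD]

end Bridge

section Card

variable {A : Type u} [CommRing A] (a : A) (M₀ : Type u) [AddCommGroup M₀] [Module A M₀] (q : ℕ)

theorem card_le [Nontrivial (Localization.Away a)] {N₀ : Type u} [AddCommGroup N₀] [Module A N₀]
    {n₀ : ℕ} (bN : Module.Basis (Fin n₀) A N₀) (d₀ : M₀ →ₗ[A] N₀)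
    (ρ : LocalizedModule (Submonoid.powers a) N₀ →ₗ[Localization.Away a]
      LocalizedModule (Submonoid.powers a) M₀)
    (hρ : ρ ∘ₗ LocalizedModule.map (Submonoid.powers a) d₀ = LinearMap.id)
    {c : ℕ} (b' : Module.Basis (Fin c) (Localization.Away a)
      (LocalizedModule (Submonoid.powers a) M₀ × (Fin q → Localization.Away a))) :
    c ≤ n₀ + q := by
  classical
  let D : (LocalizedModule (Submonoid.powers a) M₀ × (Fin q → Localization.Away a))
      →ₗ[Localization.Away a]
      (LocalizedModule (Submonoid.powers a) N₀ × (Fin q → Localization.Away a)) :=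
    (LocalizedModule.map (Submonoid.powers a) d₀).prodMap LinearMap.id
  let L : (LocalizedModule (Submonoid.powers a) N₀ × (Fin q → Localization.Away a))
      →ₗ[Localization.Away a]
      (LocalizedModule (Submonoid.powers a) M₀ × (Fin q → Localization.Away a)) :=
    ρ.prodMap LinearMap.id
  have hLD : L ∘ₗ D = LinearMap.id := by
    apply LinearMap.ext
    rintro ⟨m, w⟩
    have := LinearMap.congr_fun hρ m
    simp only [LinearMap.comp_apply, LinearMap.id_apply] at this
    exact Prod.ext this rfl
  let bNq : Module.Basis (Fin n₀) (Localization.Away a)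
      (LocalizedModule (Submonoid.powers a) N₀) :=
    bN.ofIsLocalizedModule (Localization.Away a) (Submonoid.powers a)
      (LocalizedModule.mkLinearMap (Submonoid.powers a) N₀)
  let bW := bNq.prod (Pi.basisFun (Localization.Away a) (Fin q))
  have hli : LinearIndependent (Localization.Away a) (D ∘ b') :=
    b'.linearIndependent.map' D (LinearMap.ker_eq_bot_of_inverse hLD)
  have := bW.card_le_card_of_linearIndependent hli
  simpa using this

end Card

end Helper27.StdConv
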