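import Mathlib
import Groth.Prelude.Def_Smoothing
import Groth.Agent.Lib.Helper27.StdElemE
import Groth.Agent.Lib.Helper27.StdConvA
import Groth.Agent.Lib.Helper27.StdConvB
import Groth.Agent.Lib.Helper27.StdConvE

set_option autoImplicit false
universe u

namespace Helper27.StdConv

open Algebra MvPolynomial

theorem isStrictlyStandard_zero {R A : Type u} [CommRing R] [CommRing A] [Algebra R A]
    {n₀ m₀ : ℕ} (f₀ : Fin m₀ → MvPolynomial (Fin n₀) R) (φ₀ : MvPolynomial (Fin n₀) R →ₐ[R] A)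
    (hφ₀ : Function.Surjective φ₀)
    (hker₀ : RingHom.ker φ₀.toRingHom = Ideal.span (Set.range f₀)) :
    Smoothing.IsStrictlyStandard R A 0 := by
  refine ⟨{ n := n₀, m := m₀, c := 0, hcn := Nat.zero_le _, hcm := Nat.zero_le _, rel := f₀,
            hom := φ₀, surj := hφ₀, ker_eq := hker₀ }, Ideal.zero_mem _, ?_⟩
  intro a' ha' j _
  refine Ideal.mem_sup_right ?_
  rw [pow_two]
  have h1 : a' ∈ Ideal.span (Set.range f₀) := by rw [← hker₀]; exact ha'
  exact Ideal.mul_mem_mul h1 (Ideal.subset_span ⟨j, rfl⟩)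

set_option maxHeartbeats 1000000 in
theorem main {R A : Type u} [CommRing R] [CommRing A] [Algebra R A]
    [Algebra.FinitePresentation R A] (a : A) [Algebra.Smooth R (Localization.Away a)]
    (p q : ℕ) (e : (Ω[Localization.Away a⁄R] × (Fin p → Localization.Away a))
      ≃ₗ[Localization.Away a] (Fin q → Localization.Away a)) :
    ∃ e₀ : ℕ, ∀ n : ℕ, e₀ ≤ n → Smoothing.IsStrictlyStandard R A (a ^ n) := by
  classical
  obtain ⟨n₀, m₀, f₀, φ₀, hφ₀, hker₀⟩ := Helper27.StdElem.exists_presentation (R := R) (A := A)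
  by_cases hnt : Nontrivial (Localization.Away a)
  swap
  · rw [not_nontrivial_iff_subsingleton] at hnt
    have h01 : algebraMap A (Localization.Away a) 1 = algebraMap A (Localization.Away a) 0 :=
      Subsingleton.elim _ _
    obtain ⟨⟨_, k, rfl⟩, hk⟩ := (IsLocalization.eq_iff_exists (Submonoid.powers a) _).mp h01
    refine ⟨k, fun n hn => ?_⟩
    have hk' : a ^ k = 0 := by simpa using hk
    have : a ^ n = 0 := by
      rw [← Nat.sub_add_cancel hn, pow_add, hk', mul_zero]
    rw [this]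
    exact isStrictlyStandard_zero f₀ φ₀ hφ₀ hker₀
  let P₀ := Generators.ofAlgHom φ₀ hφ₀
  have halg : ∀ z, algebraMap P₀.Ring A z = φ₀ z := Helper27.StdElem.ofAlgHom_algebraMap φ₀ hφ₀
  have hkerE : P₀.toExtension.ker = RingHom.ker φ₀.toRingHom :=
    Helper27.StdElem.ofAlgHom_ker φ₀ hφ₀
  have hker' : Ideal.span (Set.range f₀) = P₀.toExtension.ker := by rw [hkerE, hker₀]
  have hfin : Module.Finite A P₀.toExtension.Cotangent := by
    have htop := Extension.Cotangent.span_eq_top_of_span_eq_ker (P := P₀.toExtension) f₀ hker'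
    exact ⟨⟨Finset.univ.image _, by simpa using htop⟩⟩
  have : Algebra.FormallySmooth R (Localization (Submonoid.powers a)) :=
    (inferInstance : Algebra.Smooth R (Localization.Away a)).formallySmooth
  obtain ⟨ρ, hρ⟩ := Helper27.StdElem.exists_retraction_of_formallySmooth (R := R) P₀
    (Submonoid.powers a)
  have hfree := free_prod (R := R) P₀ (Submonoid.powers a) p q e
  obtain ⟨c, b', x, hb'⟩ := exists_basis a P₀.toExtension.Cotangent q
  have hcn : c ≤ n₀ + q := card_le a _ q P₀.cotangentSpaceBasis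
    P₀.toExtension.cotangentComplex ρ hρ b'
  obtain ⟨eM, heM⟩ := minors_data a _ q P₀.cotangentSpaceBasis
    P₀.toExtension.cotangentComplex ρ hρ b' x hb'
  have hg : ∀ i, ∃ gi : P₀.toExtension.ker, Extension.Cotangent.mk gi = (x i).1 := fun i =>
    Extension.Cotangent.mk_surjective _
  choose g hg using hg
  have hh : ∀ i j, ∃ hij : MvPolynomial (Fin n₀) R, φ₀ hij = (x i).2 j := fun i j => hφ₀ _
  choose h hh using hh
  obtain ⟨ã, hã⟩ := hφ₀ a
  let g' : Fin c → MvPolynomial (Fin n₀) R := fun i => (g i : P₀.toExtension.Ring)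
  have hg0 : ∀ i, φ₀ (g' i) = 0 := by
    intro i
    have h1 : (g i : P₀.toExtension.Ring) ∈ P₀.toExtension.ker := (g i).2
    have h2 : (g i : P₀.toExtension.Ring) ∈ RingHom.ker φ₀.toRingHom := hkerE ▸ h1
    exact h2
  have hspan : ∀ ζ₀ : P₀.toExtension.Cotangent × (Fin q → A), ∃ e₁, ∀ n, e₁ ≤ n →
      ∃ C : Fin c → A, a ^ n • ζ₀ = ∑ i, C i • x i := by
    intro ζ₀
    obtain ⟨e₁, C, hC⟩ := span_data a _ q b' x hb' ζ₀
    refine ⟨e₁, fun n hn => ⟨fun i => a ^ (n - e₁) * C i, ?_⟩⟩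
    have h1 : a ^ n = a ^ (n - e₁) * a ^ e₁ := by rw [← pow_add, Nat.sub_add_cancel hn]
    rw [h1, mul_smul, hC, Finset.smul_sum]
    refine Finset.sum_congr rfl fun i _ => ?_
    rw [mul_smul]
  have hf₀ker : ∀ ℓ, f₀ ℓ ∈ P₀.toExtension.ker := fun ℓ => hker' ▸ Ideal.subset_span ⟨ℓ, rfl⟩
  have hζ1 : ∀ ℓ : Fin m₀, ∃ e₁, ∀ n, e₁ ≤ n → ∃ C : Fin c → A,
      a ^ n • ((Extension.Cotangent.mk ⟨f₀ ℓ, hf₀ker ℓ⟩, 0) :
        P₀.toExtension.Cotangent × (Fin q → A)) = ∑ i, C i • x i := fun ℓ => hspan _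
  choose e1 he1 using hζ1
  have hζ2 : ∀ j₀ : Fin q, ∃ e₁, ∀ n, e₁ ≤ n → ∃ C : Fin c → A,
      a ^ n • ((0, Pi.single j₀ 1) :
        P₀.toExtension.Cotangent × (Fin q → A)) = ∑ i, C i • x i := fun j₀ => hspan _
  choose e2 he2 using hζ2
  refine ⟨eM + ∑ ℓ, e1 ℓ + ∑ j₀, e2 j₀, fun n hn => ?_⟩
  have hn1 : ∀ ℓ, e1 ℓ ≤ n := fun ℓ =>
    le_trans (Finset.single_le_sum (fun _ _ => Nat.zero_le _) (Finset.mem_univ ℓ)) (by omega)
  have hn2 : ∀ j₀, e2 j₀ ≤ n := fun j₀ =>
    le_trans (Finset.single_le_sum (fun _ _ => Nat.zero_le _) (Finset.mem_univ j₀)) (by omega)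
  have hnM : eM ≤ n := by omega
  have hsurj1 : Function.Surjective (φ₀.comp (ev n₀ q)) := by
    intro y
    obtain ⟨p', rfl⟩ := hφ₀ y
    exact ⟨rho1 n₀ q p', by rw [AlgHom.comp_apply, ev_rho1]⟩
  let MP : Smoothing.MarkedPresentation R A :=
    { n := n₀ + q, m := c + (m₀ + q), c := c, hcn := hcn, hcm := Nat.le_add_right _ _
      rel := relOf f₀ q c g' h, hom := φ₀.comp (ev n₀ q), surj := hsurj1
      ker_eq := ker_phi1 f₀ φ₀ q c g' h hker₀ hg0 }
  refine ⟨MP, ?_, ?_⟩
  · have hgen : ∀ cols : Fin c → Fin (n₀ + q),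
        MP.hom (Smoothing.jacobianMinor MP.rel (Fin.castLE MP.hcm) cols) =
        Matrix.det (Matrix.of fun i k : Fin c =>
          (Fin.append (fun k' => P₀.cotangentSpaceBasis.repr
            (P₀.toExtension.cotangentComplex (x i).1) k') (fun j => (x i).2 j) :
              Fin (n₀ + q) → A) (cols k)) := by
      intro cols
      unfold Smoothing.jacobianMinor
      rw [AlgHom.map_det]
      congr 1
      refine Matrix.ext fun i k => ?_
      simp only [AlgHom.mapMatrix_apply, Matrix.map_apply, Matrix.of_apply]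
      have hrel : MP.rel (Fin.castLE MP.hcm i) = Fof q c g' h i := relOf_left f₀ q c g' h i
      rw [hrel]
      show φ₀ (ev n₀ q (pderiv (cols k) (Fof q c g' h i))) = _
      rw [phi1_pderiv_Fof]
      congr 1
      · funext k'
        rw [← hg i]
        have h1 := Helper27.StdElem.equivFun_cotangentComplex_mk P₀ (g i) k'
        rw [Module.Basis.equivFun_apply] at h1
        rw [h1, halg]
      · funext j
        exact hh i j
    have h1 : a ^ n = a ^ (n - eM) * a ^ eM := by rw [← pow_add, Nat.sub_add_cancel hnM]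
    rw [h1]
    refine Ideal.mul_mem_left _ _ ?_
    convert heM using 3
    funext cols
    exact hgen cols
  · intro a' ha' j hj
    have hkerMP : ∀ z, z ∈ Ideal.span (Set.range MP.rel) ↔ φ₀ (ev n₀ q z) = 0 := by
      intro z
      rw [← MP.ker_eq, RingHom.mem_ker]
      rfl
    have ha'' : φ₀ (ev n₀ q (rho1 n₀ q (ã ^ n))) = a ^ n := by rw [ev_rho1, map_pow, hã]
    have hdiff : a' - rho1 n₀ q (ã ^ n) ∈ Ideal.span (Set.range MP.rel) := by
      rw [hkerMP, map_sub, map_sub, ha'', sub_eq_zero]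
      exact ha'
    have hrange : MP.rel '' {j' : Fin MP.m | (j' : ℕ) < MP.c} = Set.range (Fof q c g' h) := by
      rw [Helper27.StdElem.image_lt_eq_range MP.hcm MP.rel]
      congr 1
      funext i
      exact relOf_left f₀ q c g' h i
    rw [hrange]
    suffices hsuff : rho1 n₀ q (ã ^ n) * MP.rel j ∈
        Ideal.span (Set.range (Fof q c g' h)) ⊔ Ideal.span (Set.range MP.rel) ^ 2 by
      have h1 : a' * MP.rel j =
          (a' - rho1 n₀ q (ã ^ n)) * MP.rel j + rho1 n₀ q (ã ^ n) * MP.rel j := by ring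
      rw [h1]
      refine Ideal.add_mem _ (Ideal.mem_sup_right ?_) hsuff
      rw [pow_two]
      exact Ideal.mul_mem_mul hdiff (Ideal.subset_span ⟨j, rfl⟩)
    have hx1 : ∀ i, (x i).1 = Extension.Cotangent.mk (g i) := fun i => (hg i).symm
    have hx2 : ∀ i j', (x i).2 j' = algebraMap P₀.toExtension.Ring A (h i j') := fun i j' =>
      ((halg (h i j')).trans (hh i j')).symm
    have hwn : algebraMap P₀.toExtension.Ring A (ã ^ n) = a ^ n :=
      (halg (ã ^ n)).trans (by rw [map_pow, hã])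
    induction j using Fin.addCases with
    | left i =>
      exfalso
      have h1 : (c : ℕ) ≤ (i : ℕ) := hj
      exact absurd i.2 (not_lt.mpr h1)
    | right k' =>
      induction k' using Fin.addCases with
      | left ℓ =>
        obtain ⟨C, hC⟩ := he1 ℓ n (hn1 ℓ)
        choose D hD using fun i => hφ₀ (C i)
        have hrelj : MP.rel (Fin.natAdd c (Fin.castAdd q ℓ)) = rho1 n₀ q (f₀ ℓ) :=
          relOf_mid f₀ q c g' h ℓ
        rw [hrelj]
        obtain ⟨hu₁, hu₂⟩ := bridge P₀.toExtension q c g h x hx1 hx2 ⟨f₀ ℓ, hf₀ker ℓ⟩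
          (fun _ => 0) (ã ^ n) C D (fun i => (halg (D i)).trans (hD i))
          (by
            rw [hwn]
            convert hC using 2
            refine Prod.ext rfl ?_
            funext j'
            simp)
        have hu₁' : ã ^ n * f₀ ℓ - ∑ i, D i * g' i ∈ RingHom.ker φ₀.toRingHom ^ 2 :=
          Ideal.pow_right_mono (le_of_eq hkerE) 2 hu₁
        have hu₂' : ∀ j', ã ^ n * (fun _ : Fin q => (0 : MvPolynomial (Fin n₀) R)) j' -
            ∑ i, D i * h i j' ∈ RingHom.ker φ₀.toRingHom := fun j' => (le_of_eq hkerE) (hu₂ j')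
        have h3 := mul_mem_sup_of f₀ φ₀ q c g' h hker₀ hg0 D (ã ^ n) (f₀ ℓ) (fun _ => 0)
          hu₁' hu₂'
        simpa using h3
      | right j₀ =>
        obtain ⟨C, hC⟩ := he2 j₀ n (hn2 j₀)
        choose D hD using fun i => hφ₀ (C i)
        have hrelj : MP.rel (Fin.natAdd c (Fin.natAdd m₀ j₀)) = YY n₀ q j₀ :=
          relOf_right f₀ q c g' h j₀
        rw [hrelj]
        obtain ⟨hu₁, hu₂⟩ := bridge P₀.toExtension q c g h x hx1 hx2 0
          (Pi.single j₀ 1) (ã ^ n) C D (fun i => (halg (D i)).trans (hD i))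
          (by
            rw [hwn]
            convert hC using 2
            refine Prod.ext (map_zero _) ?_
            funext j'
            by_cases hj' : j' = j₀
            · subst hj'; simp
            · simp [hj'])
        have hu₁' : ã ^ n * 0 - ∑ i, D i * g' i ∈ RingHom.ker φ₀.toRingHom ^ 2 :=
          Ideal.pow_right_mono (le_of_eq hkerE) 2 hu₁
        have hu₂' : ∀ j', ã ^ n * (Pi.single j₀ 1 : Fin q → MvPolynomial (Fin n₀) R) j' -
            ∑ i, D i * h i j' ∈ RingHom.ker φ₀.toRingHom := fun j' => (le_of_eq hkerE) (hu₂ j')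
        have h3 := mul_mem_sup_of f₀ φ₀ q c g' h hker₀ hg0 D (ã ^ n) 0 (Pi.single j₀ 1)
          hu₁' hu₂'
        have h4 : (rho1 n₀ q (0 : MvPolynomial (Fin n₀) R) +
            ∑ j', rho1 n₀ q ((Pi.single j₀ 1 : Fin q → MvPolynomial (Fin n₀) R) j') *
              YY n₀ q j') = YY n₀ q j₀ := by
          rw [map_zero, zero_add, Finset.sum_eq_single j₀]
          · simp
          · intro j' _ hj'
            simp [hj']
          · intro hj'; exact absurd (Finset.mem_univ _) hj'
        rw [h4] at h3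
        exact h3

end Helper27.StdConv
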