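import Mathlib
import Groth.Agent.Lib.Helper27.SymOmegaB
import Groth.Agent.Lib.Helper27.DimZeroC
import Groth.Agent.S2031

set_option autoImplicit false
universe u

namespace Helper27.SymOmega

open Groth.Agent.Lib.Helper27.SmoothRetract Helper27.StdElem Algebra MvPolynomial

section Final2

variable {R A : Type u} [CommRing R] [CommRing A] [Algebra R A] {n m : ℕ}
  (P : Algebra.Generators R A (Fin n)) (f : Fin m → P.Ring)
  (hker : Ideal.span (Set.range f) = P.toExtension.ker)

attribute [local instance] algT

theorem formallySmooth_away_CC (a : A) [Algebra.FormallySmooth R (Localization.Away a)] :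
    Algebra.FormallySmooth R (Localization.Away (algebraMap A (CC A (cotGen P f hker)) a)) := by
  have htower := towerRT P f hker a
  let S := Submonoid.powers a
  obtain ⟨ρ, hρ⟩ := exists_retraction_of_formallySmooth (R := R) P S
  have hproj : Module.Projective (Localization.Away a)
      (LocalizedModule S P.toExtension.Cotangent) :=
    Module.Projective.of_split (LocalizedModule.map S P.toExtension.cotangentComplex) ρ hρ
  have hv : Submodule.span A (Set.range (cotGen P f hker)) = ⊤ :=
    Extension.Cotangent.span_eq_top_of_span_eq_ker (P := P.toExtension) f hker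
  obtain ⟨s, hs⟩ := Module.projective_lifting_property (pia A (cotGen P f hker) a) LinearMap.id
    (pia_surjective A (cotGen P f hker) a hv)
  have h1 : Algebra.FormallySmooth (Localization.Away a)
      (Localization.Away (algebraMap A (CC A (cotGen P f hker)) a)) :=
    formallySmooth_of_equiv (pia A (cotGen P f hker) a) s (iotaEquiv A (cotGen P f hker) a s hs) hs
  exact Algebra.FormallySmooth.comp R (Localization.Away a) _

end Final2

theorem exists_stablyFree_equiv {R S : Type u} [CommRing R] [CommRing S] [Algebra R S]
    [Module.Free S Ω[S⁄R]] [Module.Finite S Ω[S⁄R]] :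
    ∃ (q : ℕ), Nonempty ((Ω[S⁄R] × (Fin 0 → S)) ≃ₗ[S] (Fin q → S)) := by
  rcases subsingleton_or_nontrivial S with hS | hS
  · have : Subsingleton Ω[S⁄R] := Module.subsingleton S _
    exact ⟨0, ⟨LinearEquiv.ofSubsingleton _ _⟩⟩
  · exact ⟨Module.finrank S Ω[S⁄R],
      ⟨LinearEquiv.prodUnique ≪≫ₗ (Module.finBasis S Ω[S⁄R]).equivFun⟩⟩

theorem exists_sym_cover {R A : Type u} [CommRing R] [IsNoetherianRing R] [CommRing A]
    [Algebra R A] [Algebra.FinitePresentation R A] :
    ∃ (C : Type u) (_ : CommRing C) (_ : Algebra A C) (_ : Algebra R C) (_ : IsScalarTower R A C),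
      Algebra.FinitePresentation R C ∧ Nonempty (C →ₐ[A] A) ∧
      ∀ a ∈ Smoothing.singularIdeal R A,
        algebraMap A C a ∈ Smoothing.singularIdeal R C ∧
        ∃ e₀ : ℕ, ∀ n, e₀ ≤ n → Smoothing.IsStrictlyStandard R C (algebraMap A C a ^ n) := by
  obtain ⟨n, m, f, φ, hφ, hkerφ⟩ := Helper27.StdElem.exists_presentation (R := R) (A := A)
  let P := Algebra.Generators.ofAlgHom φ hφ
  have hker : Ideal.span (Set.range f) = P.toExtension.ker := by
    rw [Helper27.StdElem.ofAlgHom_ker, hkerφ]
  have hnoeth : IsNoetherianRing A := Algebra.FiniteType.isNoetherianRing R A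
  have hft : Algebra.FiniteType A (CC A (cotGen P f hker)) := finiteType_CC A _
  have hfpA : Algebra.FinitePresentation A (CC A (cotGen P f hker)) :=
    Algebra.FinitePresentation.of_finiteType.mp hft
  have hfp : Algebra.FinitePresentation R (CC A (cotGen P f hker)) :=
    Algebra.FinitePresentation.trans R A _
  refine ⟨CC A (cotGen P f hker), inferInstance, inferInstance, inferInstance, inferInstance,
    hfp, ⟨retr A _⟩, ?_⟩
  intro a ha
  have hfs : Algebra.FormallySmooth R (Localization.Away a) :=
    Helper27.DimZero.formallySmooth_away_of_mem_singularIdeal a ha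
  have hfsC := formallySmooth_away_CC P f hker a
  refine ⟨Helper27.DimZero.mem_singularIdeal_of_formallySmooth_away _ hfsC, ?_⟩
  have hsm : Algebra.Smooth R (Localization.Away (algebraMap A (CC A (cotGen P f hker)) a)) :=
    ⟨hfsC, inferInstance⟩
  have hfree := free_kaehler_away P f hker a
  obtain ⟨q, ⟨e⟩⟩ := exists_stablyFree_equiv (R := R)
    (S := Localization.Away (algebraMap A (CC A (cotGen P f hker)) a))
  exact Groth.Agent.S2031.result (algebraMap A (CC A (cotGen P f hker)) a) 0 q e

end Helper27.SymOmega
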