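import Mathlib
import Groth.Agent.Lib.Helper27.SepResJ
import Groth.Agent.Lib.Helper27.ResModG
import Groth.Agent.Lib.Helper27.RegParam

set_option autoImplicit false
universe u

namespace Helper27.SepRes

open Smoothing IsLocalRing MvPolynomial

theorem pow_kill_mem {S : Type*} [CommRing S] (J : Ideal S) (p : S)
    (h : ∀ x, p ^ 2 * x ∈ J → p * x ∈ J) :
    ∀ (m : ℕ) (x : S), p ^ (m + 1) * x ∈ J → p * x ∈ J := by
  intro m
  induction m with
  | zero =>
    intro x hx
    simpa using hx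
  | succ m ih =>
    intro x hx
    have h1 : p ^ 2 * (p ^ m * x) ∈ J := by
      have : p ^ 2 * (p ^ m * x) = p ^ (m + 1 + 1) * x := by ring
      rw [this]
      exact hx
    have h2 := h _ h1
    have h3 : p ^ (m + 1) * x ∈ J := by
      have : p ^ (m + 1) * x = p * (p ^ m * x) := by ring
      rw [this]
      exact h2
    exact ih x h3

theorem pow_c_kill_mem {S : Type*} [CommRing S] (J : Ideal S) (p : S)
    (h : ∀ x, p ^ 2 * x ∈ J → p * x ∈ J) (c : ℕ) (hc : 0 < c) (x : S)
    (hx : (p ^ c) ^ 2 * x ∈ J) : p ^ c * x ∈ J := by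
  have h1 : p ^ (2 * c - 1 + 1) * x ∈ J := by
    have : 2 * c - 1 + 1 = c * 2 := by omega
    rw [this, pow_mul]
    exact hx
  have h2 := pow_kill_mem J p h _ x h1
  have h3 : p ^ c * x = p ^ (c - 1) * (p * x) := by
    have : c = c - 1 + 1 := by omega
    conv_lhs => rw [this, pow_succ]
    ring
  rw [h3]
  exact Ideal.mul_mem_left _ _ h2

set_option maxHeartbeats 1000000 in
theorem core_resolvable {k Λ C₁ : Type u} [Field k] {d : ℕ} (c : ℕ) (hc : 0 < c)
    [CommRing Λ] [Algebra (MvPolynomial (Fin d) k) Λ] [Algebra k Λ]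
    [IsScalarTower k (MvPolynomial (Fin d) k) Λ]
    [CommRing C₁] [Algebra (MvPolynomial (Fin d) k) C₁]
    [Algebra.FinitePresentation (MvPolynomial (Fin d) k) C₁]
    (φC : C₁ →ₐ[MvPolynomial (Fin d) k] Λ)
    (𝔮 : Ideal Λ) [𝔮.IsPrime] [IsRegularLocalRing (Localization.AtPrime 𝔮)]
    (hd : ringKrullDim (Localization.AtPrime 𝔮) = d)
    (hgen : Ideal.span (Set.range fun i => algebraMap Λ (Localization.AtPrime 𝔮)
      (algebraMap (MvPolynomial (Fin d) k) Λ (X i))) = maximalIdeal (Localization.AtPrime 𝔮))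
    [Algebra.IsGeometricallyReduced k 𝔮.ResidueField]
    (hstd : ∀ i : Fin d, IsStrictlyStandard (MvPolynomial (Fin d) k) C₁
      (algebraMap (MvPolynomial (Fin d) k) C₁ (X i ^ c)))
    (hann : ∀ i : Fin d, ∀ x : Λ,
      (algebraMap (MvPolynomial (Fin d) k) Λ (X i)) ^ 2 * x ∈
        Helper27.RegParam.JJ (c * 8) (fun i => algebraMap (MvPolynomial (Fin d) k) Λ (X i)) i →
      (algebraMap (MvPolynomial (Fin d) k) Λ (X i)) * x ∈
        Helper27.RegParam.JJ (c * 8) (fun i => algebraMap (MvPolynomial (Fin d) k) Λ (X i)) i) :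
    Resolvable (MvPolynomial (Fin d) k) φC 𝔮 := by
  obtain ⟨K, hKdef⟩ : ∃ K : Ideal (MvPolynomial (Fin d) k),
      K = Ideal.span (Set.range fun i : Fin d => ((X i : MvPolynomial (Fin d) k) ^ c) ^ 8) := ⟨_, rfl⟩
  have hK : K = Ke (c * 8) := by
    rw [hKdef, Ke]
    refine congrArg _ (congrArg _ (funext fun i => ?_))
    rw [pow_mul]
  obtain ⟨φK, hφK⟩ := Helper27.ResMod.exists_quotMap φC K
  have hfpq := Helper27.ResMod.finitePresentation_quotient (R := MvPolynomial (Fin d) k)
    (A := C₁) K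
  have hres := quot_problem (c * 8) (by omega) K hK 𝔮 hd hgen φK
  refine Helper27.ResMod.main φC 𝔮 (fun i : Fin d => (X i : MvPolynomial (Fin d) k) ^ c)
    ?_ ?_ hstd K hKdef φK hφK hres
  · intro i x hx
    obtain ⟨p, rfl⟩ := Ideal.Quotient.mk_surjective x
    rw [← map_pow, ← map_mul, Ideal.Quotient.eq_zero_iff_mem] at hx
    rw [← map_mul, Ideal.Quotient.eq_zero_iff_mem]
    have hI : (Ideal.span (Set.range fun j : {j : Fin d // (j : ℕ) < (i : ℕ)} =>
        ((X (j : Fin d) : MvPolynomial (Fin d) k) ^ c) ^ 8)) =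
        Ideal.span (Set.range fun j : {j : Fin d // (j : ℕ) < (i : ℕ)} =>
          (X (j : Fin d) : MvPolynomial (Fin d) k) ^ (c * 8)) := by
      refine congrArg _ (congrArg _ (funext fun j => ?_))
      rw [pow_mul]
    rw [hI] at hx ⊢
    have hx' : (X i : MvPolynomial (Fin d) k) ^ (c * 2) * p ∈
        Ideal.span (Set.range fun j : {j : Fin d // (j : ℕ) < (i : ℕ)} =>
          (X (j : Fin d) : MvPolynomial (Fin d) k) ^ (c * 8)) := by
      rw [pow_mul]
      exact hx
    have h1 := mem_of_X_pow_mul_mem (c * 8) (fun j : {j : Fin d // (j : ℕ) < (i : ℕ)} => (j : Fin d))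
      i (fun j hj => by
        have := j.2
        rw [hj] at this
        exact lt_irrefl _ this) (c * 2) p hx'
    exact Ideal.mul_mem_left _ _ h1
  · intro i x hx
    obtain ⟨y, rfl⟩ := Ideal.Quotient.mk_surjective x
    rw [← map_pow, ← map_mul, Ideal.Quotient.eq_zero_iff_mem] at hx
    rw [← map_mul, Ideal.Quotient.eq_zero_iff_mem]
    have hI : (Ideal.span (Set.range fun j : {j : Fin d // (j : ℕ) < (i : ℕ)} =>
        algebraMap (MvPolynomial (Fin d) k) Λ ((X (j : Fin d) : MvPolynomial (Fin d) k) ^ c) ^ 8)) =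
        Helper27.RegParam.JJ (c * 8) (fun i => algebraMap (MvPolynomial (Fin d) k) Λ (X i)) i := by
      unfold Helper27.RegParam.JJ
      refine congrArg _ (congrArg _ (funext fun j => ?_))
      rw [map_pow, ← pow_mul]
    rw [hI] at hx ⊢
    rw [map_pow] at hx ⊢
    exact pow_c_kill_mem _ _ (hann i) c hc y hx

end Helper27.SepRes
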