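import Mathlib
import Groth.Prelude.Def_Smoothing

set_option autoImplicit false
universe u

namespace Helper27.SepRes

open Smoothing IsLocalRing MvPolynomial

theorem exists_pow_map_le {Λ : Type u} [CommRing Λ] (𝔮 : Ideal Λ) [𝔮.IsPrime]
    [IsNoetherianRing (Localization.AtPrime 𝔮)] (I : Ideal Λ)
    (hmin : 𝔮 ∈ I.radical.minimalPrimes) :
    ∃ n : ℕ, 0 < n ∧ (𝔮 ^ n).map (algebraMap Λ (Localization.AtPrime 𝔮)) ≤
      I.map (algebraMap Λ (Localization.AtPrime 𝔮)) := by
  have hIq : I ≤ 𝔮 := Ideal.le_radical.trans hmin.1.2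
  have hrad : (I.map (algebraMap Λ (Localization.AtPrime 𝔮))).radical =
      maximalIdeal (Localization.AtPrime 𝔮) := by
    apply le_antisymm
    · rw [Ideal.IsPrime.radical_le_iff (inferInstance : (maximalIdeal (Localization.AtPrime 𝔮)).IsPrime),
        ← Localization.AtPrime.map_eq_maximalIdeal]
      exact Ideal.map_mono hIq
    · rw [Ideal.radical_eq_sInf]
      refine le_sInf ?_
      rintro P ⟨hIP, hP⟩
      have hP' : (P.comap (algebraMap Λ (Localization.AtPrime 𝔮))).IsPrime := Ideal.IsPrime.comap _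
      have h1 : I ≤ P.comap (algebraMap Λ (Localization.AtPrime 𝔮)) := Ideal.le_comap_of_map_le hIP
      have h2 : P.comap (algebraMap Λ (Localization.AtPrime 𝔮)) ≤ 𝔮 := by
        intro x hx
        by_contra hxq
        have hu : IsUnit (algebraMap Λ (Localization.AtPrime 𝔮) x) :=
          IsLocalization.map_units _ (⟨x, hxq⟩ : 𝔮.primeCompl)
        exact hP.ne_top (Ideal.eq_top_of_isUnit_mem _ hx hu)
      have h3 : 𝔮 ≤ P.comap (algebraMap Λ (Localization.AtPrime 𝔮)) :=
        hmin.2 ⟨hP', (Ideal.IsPrime.radical_le_iff hP').mpr h1⟩ h2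
      rw [← Localization.AtPrime.map_eq_maximalIdeal]
      exact (Ideal.map_mono h3).trans Ideal.map_comap_le
  obtain ⟨n, hn⟩ := Ideal.exists_radical_pow_le_of_fg (I.map (algebraMap Λ (Localization.AtPrime 𝔮)))
    (IsNoetherian.noetherian _)
  refine ⟨n + 1, Nat.succ_pos n, ?_⟩
  rw [Ideal.map_pow, Localization.AtPrime.map_eq_maximalIdeal, ← hrad]
  exact (Ideal.pow_le_pow_right (Nat.le_succ n)).trans hn

theorem singularIdeal_le_of_formallySmooth {k R D : Type u} [CommRing k] [CommRing R] [CommRing D]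
    [Algebra k R] [Algebra R D] [Algebra k D] [IsScalarTower k R D] [Algebra.FormallySmooth k R] :
    singularIdeal R D ≤ singularIdeal k D := by
  unfold singularIdeal
  apply PrimeSpectrum.vanishingIdeal_anti_mono
  rw [Set.compl_subset_compl]
  intro P hP
  have h1 : Algebra.FormallySmooth R (Localization.AtPrime P.asIdeal) := hP
  show Algebra.FormallySmooth k (Localization.AtPrime P.asIdeal)
  exact Algebra.FormallySmooth.comp k R _

theorem resolvable_restrict {k R A C₁ Λ : Type u} [Field k] [CommRing R] [Algebra k R]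
    [Algebra.FinitePresentation k R] [Algebra.FormallySmooth k R]
    [CommRing A] [Algebra k A] [CommRing C₁] [Algebra R C₁] [CommRing Λ] [Algebra R Λ] [Algebra k Λ]
    [IsScalarTower k R Λ]
    (φ : A →ₐ[k] Λ) (φC : C₁ →ₐ[R] Λ) (g₀ : A →+* C₁) (hcomp : ∀ x, φC (g₀ x) = φ x)
    (hg₀ : ∀ c : k, g₀ (algebraMap k A c) = algebraMap R C₁ (algebraMap k R c))
    (hsing : ∀ a ∈ singularIdeal k A, g₀ a ∈ singularIdeal R C₁) (𝔮 : Ideal Λ)
    (hres : Resolvable R φC 𝔮) : Resolvable k φ 𝔮 := by
  obtain ⟨D, _, _, hfp, g, h, hgh, hle, hnle⟩ := hres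
  let algkD : Algebra k D := ((algebraMap R D).comp (algebraMap k R)).toAlgebra
  have towerD : IsScalarTower k R D := IsScalarTower.of_algebraMap_eq (fun _ => rfl)
  have hfpD : Algebra.FinitePresentation k D := Algebra.FinitePresentation.trans k R D
  let g' : A →ₐ[k] D :=
    { g.toRingHom.comp g₀ with
      commutes' := fun c => by
        show g (g₀ (algebraMap k A c)) = algebraMap k D c
        rw [hg₀, g.commutes]
        rfl }
  have hrad : singRad R h ≤ singRad k (h.restrictScalars k) := by
    unfold singRad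
    apply Ideal.radical_mono
    rw [Ideal.map_le_iff_le_comap]
    intro x hx
    rw [Ideal.mem_comap]
    exact Ideal.mem_map_of_mem (h.restrictScalars k)
      (singularIdeal_le_of_formallySmooth (k := k) (R := R) (D := D) hx)
  refine ⟨D, inferInstance, algkD, hfpD, g', h.restrictScalars k, ?_, ?_, ?_⟩
  · ext x
    show h (g (g₀ x)) = φ x
    rw [← hcomp]
    exact DFunLike.congr_fun hgh (g₀ x)
  · refine le_trans ?_ hrad
    refine le_trans ?_ hle
    unfold singRad
    rw [Ideal.radical_le_radical_iff, Ideal.map_le_iff_le_comap]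
    intro a ha
    rw [Ideal.mem_comap, ← hcomp]
    exact Ideal.le_radical (Ideal.mem_map_of_mem φC (hsing a ha))
  · exact fun hcon => hnle (hrad.trans hcon)

end Helper27.SepRes
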