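import Mathlib
import Groth.Agent.Lib.Helper27.SepResG
import Groth.Agent.Lib.Helper27.SepResH
import Groth.Agent.Lib.Helper27.SepResK
import Groth.Agent.Lib.Helper27.SepResL

set_option autoImplicit false
universe u

namespace Helper27.SepRes

open Smoothing IsLocalRing MvPolynomial

attribute [local instance] algRB

set_option maxHeartbeats 2000000 in
theorem main {k A Λ : Type u} [Field k] [CommRing A]
    [Algebra k A] [Algebra.FinitePresentation k A] [CommRing Λ] [Algebra k Λ] [IsNoetherianRing Λ]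
    (φ : A →ₐ[k] Λ) (𝔮 : Ideal Λ) [𝔮.IsPrime] (hmin : 𝔮 ∈ (Smoothing.singRad k φ).minimalPrimes)
    [IsRegularLocalRing (Localization.AtPrime 𝔮)]
    [Algebra.IsGeometricallyReduced k 𝔮.ResidueField] : Smoothing.Resolvable k φ 𝔮 := by
  classical
  obtain ⟨d, hd⟩ : ∃ d : ℕ, ringKrullDim (Localization.AtPrime 𝔮) = d :=
    ⟨_, (IsRegularLocalRing.spanFinrank_maximalIdeal (R := Localization.AtPrime 𝔮)).symm⟩
  obtain ⟨n, hn, hpow⟩ := exists_pow_map_le 𝔮 ((singularIdeal k A).map φ) hmin
  have hnoeth : IsNoetherianRing A := Algebra.FiniteType.isNoetherianRing k A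
  obtain ⟨r, a, ha⟩ := Submodule.fg_iff_exists_fin_generating_family.mp
    (IsNoetherian.noetherian (singularIdeal k A))
  have haH : ∀ ℓ, a ℓ ∈ singularIdeal k A := fun ℓ => by
    rw [← ha]
    exact Submodule.subset_span ⟨ℓ, rfl⟩
  have hasm : ∀ ℓ, Algebra.FormallySmooth k (Localization.Away (a ℓ)) := fun ℓ =>
    Helper27.DimZero.formallySmooth_away_of_mem_singularIdeal (a ℓ) (haH ℓ)
  have hfpB := finitePresentation_BB (k := k) a n d
  have towerB := towerRB (k := k) a n d
  obtain ⟨C₁, _, _, _, towerC, hfpC, ⟨ρ⟩, hcov⟩ :=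
    Helper27.SymOmega.exists_sym_cover (R := MvPolynomial (Fin d) k) (A := BB a n d)
  have hbx := fun i => (hcov (bx a n d i) (bx_mem_singularIdeal (k := k) a n d hasm i)).2
  choose e₀ he₀ using hbx
  obtain ⟨c, hc, hce⟩ : ∃ c : ℕ, 0 < c ∧ ∀ i, e₀ i ≤ c :=
    ⟨1 + ∑ i, e₀ i, by omega, fun i => by
      have := Finset.single_le_sum (f := e₀) (fun _ _ => Nat.zero_le _) (Finset.mem_univ i)
      omega⟩
  obtain ⟨ϖ, hgen, hI, hann⟩ := Helper27.RegParam.exists_good 𝔮 (c * 8) hd (by omega)
    ((singularIdeal k A).map φ) n hn hpow d le_rfl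
  have hIspan : (singularIdeal k A).map φ = Ideal.span (Set.range fun j => φ (a j)) := by
    have : singularIdeal k A = Ideal.span (Set.range a) := ha.symm
    rw [this, Ideal.map_span, ← Set.range_comp]
    rfl
  have hlam : ∀ i, ∃ lam : Fin r → Λ, ∑ j, lam j * φ (a j) = ϖ i ^ n := fun i =>
    Ideal.mem_span_range_iff_exists_fun.mp (by rw [← hIspan]; exact hI i)
  choose lam hlam' using hlam
  let algRΛ : Algebra (MvPolynomial (Fin d) k) Λ := (aeval ϖ : MvPolynomial (Fin d) k →ₐ[k] Λ).toRingHom.toAlgebra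
  have towerΛ : IsScalarTower k (MvPolynomial (Fin d) k) Λ :=
    IsScalarTower.of_algebraMap_eq (fun c => ((aeval ϖ : MvPolynomial (Fin d) k →ₐ[k] Λ).commutes c).symm)
  have halgX : ∀ i, algebraMap (MvPolynomial (Fin d) k) Λ (X i) = ϖ i := fun i => by
    show (aeval ϖ : MvPolynomial (Fin d) k →ₐ[k] Λ) (X i) = ϖ i
    rw [aeval_X]
  obtain ⟨hB, hBA, hBx, hBz⟩ := exists_hom a n d φ.toRingHom ϖ lam (fun i => (hlam' i).symm)
  have hBR : ∀ p : MvPolynomial (Fin d) k, hB (algebraMap _ (BB a n d) p) =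
      algebraMap (MvPolynomial (Fin d) k) Λ p := by
    have : hB.comp (algebraMap (MvPolynomial (Fin d) k) (BB a n d)) =
        algebraMap (MvPolynomial (Fin d) k) Λ := by
      refine MvPolynomial.ringHom_ext (fun c => ?_) (fun i => ?_)
      · show hB (algebraMap (MvPolynomial (Fin d) k) (BB a n d) (algebraMap k _ c)) =
          algebraMap (MvPolynomial (Fin d) k) Λ (algebraMap k _ c)
        rw [← IsScalarTower.algebraMap_apply k (MvPolynomial (Fin d) k) (BB a n d),
          IsScalarTower.algebraMap_apply k A (BB a n d), hBA,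
          ← IsScalarTower.algebraMap_apply k (MvPolynomial (Fin d) k) Λ]
        exact φ.commutes c
      · show hB (algebraMap (MvPolynomial (Fin d) k) (BB a n d) (X i)) = _
        rw [algebraMap_RB_X, hBx, halgX]
    exact fun p => RingHom.congr_fun this p
  let hBalg : BB a n d →ₐ[MvPolynomial (Fin d) k] Λ := { hB with commutes' := hBR }
  let φC : C₁ →ₐ[MvPolynomial (Fin d) k] Λ := hBalg.comp (ρ.restrictScalars (MvPolynomial (Fin d) k))
  have hgenX : Ideal.span (Set.range fun i => algebraMap Λ (Localization.AtPrime 𝔮)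
      (algebraMap (MvPolynomial (Fin d) k) Λ (X i))) = maximalIdeal (Localization.AtPrime 𝔮) := by
    simp only [halgX]
    exact hgen
  have hstd : ∀ i : Fin d, IsStrictlyStandard (MvPolynomial (Fin d) k) C₁
      (algebraMap (MvPolynomial (Fin d) k) C₁ (X i ^ c)) := by
    intro i
    have h1 := he₀ i c (hce i)
    rw [map_pow, IsScalarTower.algebraMap_apply (MvPolynomial (Fin d) k) (BB a n d) C₁,
      algebraMap_RB_X]
    exact h1
  have hannX : ∀ i : Fin d, ∀ x : Λ,
      (algebraMap (MvPolynomial (Fin d) k) Λ (X i)) ^ 2 * x ∈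
        Helper27.RegParam.JJ (c * 8) (fun i => algebraMap (MvPolynomial (Fin d) k) Λ (X i)) i →
      (algebraMap (MvPolynomial (Fin d) k) Λ (X i)) * x ∈
        Helper27.RegParam.JJ (c * 8) (fun i => algebraMap (MvPolynomial (Fin d) k) Λ (X i)) i := by
    intro i x hx
    simp only [halgX] at hx ⊢
    exact hann i i.2 x hx
  have hcore := core_resolvable c hc φC 𝔮 hd hgenX hstd hannX
  refine resolvable_restrict (R := MvPolynomial (Fin d) k) φ φC
    ((algebraMap (BB a n d) C₁).comp (algebraMap A (BB a n d))) ?_ ?_ ?_ 𝔮 hcore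
  · intro x
    show hB (ρ (algebraMap (BB a n d) C₁ (algebraMap A (BB a n d) x))) = φ x
    rw [ρ.commutes]
    exact hBA x
  · intro c'
    show algebraMap (BB a n d) C₁ (algebraMap A (BB a n d) (algebraMap k A c')) = _
    rw [← IsScalarTower.algebraMap_apply k A (BB a n d),
      IsScalarTower.algebraMap_apply k (MvPolynomial (Fin d) k) (BB a n d),
      ← IsScalarTower.algebraMap_apply (MvPolynomial (Fin d) k) (BB a n d) C₁]
  · intro x hx
    refine (hcov _ ?_).1
    apply map_le_singularIdeal (k := k) a n d hasm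
    apply Ideal.mem_map_of_mem
    have : Ideal.span (Set.range a) = singularIdeal k A := ha
    rw [this]
    exact hx

end Helper27.SepRes
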