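import Mathlib
import Groth.Agent.Lib.Helper27.InsepE
import Groth.Agent.Lib.Helper27.InsepF
import Groth.Agent.Lib.Helper27.InsepG
import Groth.Agent.Lib.Helper27.InsepM
import Groth.Agent.Lib.Helper27.SepResM
import Groth.Agent.S6829

set_option autoImplicit false
universe u

namespace Helper27.Insep

open Smoothing IsLocalRing MvPolynomial TensorProduct Helper27.SepRes

attribute [local instance] algRB

set_option maxHeartbeats 8000000 in
set_option synthInstance.maxHeartbeats 400000 in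
theorem main {k A Λ : Type u} [Field k] (p : ℕ) [Fact p.Prime] [CharP k p] [CommRing A]
    [Algebra k A] [Algebra.FinitePresentation k A] [CommRing Λ] [Algebra k Λ] [IsNoetherianRing Λ]
    (hreg : CAlg.IsGeometricallyRegular k Λ) (φ : A →ₐ[k] Λ) (𝔮 : Ideal Λ) [𝔮.IsPrime]
    (hmin : 𝔮 ∈ (Smoothing.singRad k φ).minimalPrimes) : Smoothing.Resolvable k φ 𝔮 := by
  classical
  have hregq := Groth.Agent.Lib.Helper49.GeomRegFS.isGeometricallyRegular_localization hreg 𝔮
  have hNq : IsNoetherianRing (Localization.AtPrime 𝔮) :=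
    IsLocalization.isNoetherianRing 𝔮.primeCompl _ inferInstance
  have hregloc : IsRegularLocalRing (Localization.AtPrime 𝔮) := by
    have h1 := hregq k (Module.Finite.self k)
    haveI : IsRegularRing (Localization.AtPrime 𝔮) :=
      IsRegularRing.of_ringEquiv (Algebra.TensorProduct.lid k (Localization.AtPrime 𝔮)).toRingEquiv
    exact IsRegularLocalRing.of_isRegularRing_of_isLocalRing _
  obtain ⟨d, hd⟩ : ∃ d : ℕ, ringKrullDim (Localization.AtPrime 𝔮) = d :=
    ⟨_, (IsRegularLocalRing.spanFinrank_maximalIdeal (R := Localization.AtPrime 𝔮)).symm⟩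
  obtain ⟨N, hN, hpow⟩ := exists_pow_map_le 𝔮 ((singularIdeal k A).map φ) hmin
  have hnoeth : IsNoetherianRing A := Algebra.FiniteType.isNoetherianRing k A
  obtain ⟨r, a, ha⟩ := Submodule.fg_iff_exists_fin_generating_family.mp
    (IsNoetherian.noetherian (singularIdeal k A))
  have haH : ∀ ℓ, a ℓ ∈ singularIdeal k A := fun ℓ => by
    rw [← ha]
    exact Submodule.subset_span ⟨ℓ, rfl⟩
  have hasm : ∀ ℓ, Algebra.FormallySmooth k (Localization.Away (a ℓ)) := fun ℓ =>
    Helper27.DimZero.formallySmooth_away_of_mem_singularIdeal (a ℓ) (haH ℓ)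
  have hfpB := finitePresentation_BB (k := k) a N d
  have towerB := towerRB (k := k) a N d
  obtain ⟨C₁, _, _, _, towerC, hfpC, ⟨ρ⟩, hcov⟩ :=
    Helper27.SymOmega.exists_sym_cover (R := MvPolynomial (Fin d) k) (A := BB a N d)
  have hbx := fun i => (hcov (bx a N d i) (bx_mem_singularIdeal (k := k) a N d hasm i)).2
  choose e₀ he₀ using hbx
  obtain ⟨c, hc, hce⟩ : ∃ c : ℕ, 0 < c ∧ ∀ i, e₀ i ≤ c :=
    ⟨1 + ∑ i, e₀ i, by omega, fun i => by
      have := Finset.single_le_sum (f := e₀) (fun _ _ => Nat.zero_le _) (Finset.mem_univ i)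
      omega⟩
  have hn : 0 < N + (d * (c * 8) + 1) := by omega
  have hIspan : (singularIdeal k A).map φ = Ideal.span (Set.range fun j => φ (a j)) := by
    have : singularIdeal k A = Ideal.span (Set.range a) := ha.symm
    rw [this, Ideal.map_span, ← Set.range_comp]
    rfl
  have hpow' : maximalIdeal (Localization.AtPrime 𝔮) ^ N ≤
      Ideal.span (Set.range fun j => algebraMap Λ (Localization.AtPrime 𝔮) (φ (a j))) := by
    have h1 := hpow
    rw [Ideal.map_pow, Localization.AtPrime.map_eq_maximalIdeal, hIspan, Ideal.map_span,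
      ← Set.range_comp] at h1
    exact h1
  obtain ⟨sA, hsA⟩ := (Algebra.FiniteType.out : (⊤ : Subalgebra k A).FG)
  obtain ⟨P₀, instP, algP, hfpP, hfsP, φy, πz, DD, hlocDD, F, t, z, hz, hπzq, hgenz, hlocz, hflat,
    hE, hφyDD, hflatDD, hmaxmap, hess, hart, hmaxiff, hrF, hFr, hspan⟩ :=
    exists_yd 𝔮 p hreg d hd (N + (d * (c * 8) + 1)) hn (sA.image φ)
  have hφDD : ∀ x : A, Ideal.Quotient.mk (maximalIdeal (Localization.AtPrime 𝔮) ^
      (N + (d * (c * 8) + 1))) (algebraMap Λ (Localization.AtPrime 𝔮) (φ x)) ∈ DD := by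
    let ψ : A →ₐ[k] (Localization.AtPrime 𝔮 ⧸ maximalIdeal (Localization.AtPrime 𝔮) ^
        (N + (d * (c * 8) + 1))) :=
      (Ideal.Quotient.mkₐ k _).comp ((IsScalarTower.toAlgHom k Λ (Localization.AtPrime 𝔮)).comp φ)
    have h1 : Algebra.adjoin k (sA : Set A) ≤ DD.comap ψ := by
      apply Algebra.adjoin_le
      intro x hx
      show ψ x ∈ DD
      exact hE (φ x) (Finset.mem_image_of_mem φ hx)
    intro x
    have h2 : x ∈ Algebra.adjoin k (sA : Set A) := by
      rw [hsA]
      trivial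
    exact h1 h2
  have hnoethP : IsNoetherianRing P₀ := Algebra.FiniteType.isNoetherianRing k P₀
  have hFF := hFF_of_flat 𝔮 φy.toRingHom hflat
  obtain ⟨π, hπu, hπall⟩ := exists_params ((algebraMap Λ (Localization.AtPrime 𝔮)).comp
    φy.toRingHom) hFF d hd (c * 8) (by omega) πz hgenz d le_rfl
  choose u hu hπeq using hπu
  have huq : ∀ i, φy (u i) ∉ 𝔮 := fun i hmem =>
    hu i ((IsLocalization.AtPrime.to_map_mem_maximal_iff _ 𝔮 _).mpr hmem)
  have hπq : ∀ i, φy (π i) ∈ 𝔮 := fun i => by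
    rw [hπeq, map_mul]
    exact Ideal.mul_mem_left _ _ (hπzq i)
  have hgen : Ideal.span (Set.range fun i => algebraMap Λ (Localization.AtPrime 𝔮) (φy (π i))) =
      maximalIdeal (Localization.AtPrime 𝔮) := by
    rw [← hgenz]
    have h1 : (fun i => algebraMap Λ (Localization.AtPrime 𝔮) (φy (π i))) =
        fun i => algebraMap Λ (Localization.AtPrime 𝔮) (φy (u i)) *
          algebraMap Λ (Localization.AtPrime 𝔮) (φy (πz i)) := by
      funext i
      rw [hπeq, map_mul, map_mul]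
    rw [h1]
    exact span_range_unit_mul' _ _ (fun i =>
      IsLocalization.map_units (Localization.AtPrime 𝔮) (⟨φy (u i), huq i⟩ : 𝔮.primeCompl))
  have hloc : ∀ f, φy f ∈ 𝔮 → ∃ s, φy s ∉ 𝔮 ∧ s * f ∈ Ideal.span (Set.range π) :=
    params_props (φy : P₀ →+* Λ) 𝔮 πz π u huq hπeq hlocz
  obtain ⟨lam0, δz, l, hrel0, hδz, hrelz, hcongz⟩ := exists_lam φy 𝔮 (N + (d * (c * 8) + 1)) φ π
    hgen (c * 8) N hn le_rfl a hpow' DD hmaxiff hφyDD hφDD
  have hgenϖ₀ : Ideal.span (Set.range fun i => algebraMap Λ (Localization.AtPrime 𝔮)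
      (δz i * φy (π i))) = maximalIdeal (Localization.AtPrime 𝔮) := by
    rw [Helper27.RegParam.span_range_algebraMap_mul 𝔮 (fun i => φy (π i)) δz hδz]
    exact hgen
  obtain ⟨v, hv, hannΛ⟩ := exists_good_mul 𝔮 (c * 8) hd (by omega)
    (fun i => δz i * φy (π i)) hgenϖ₀ d le_rfl
  obtain ⟨δ, hδdef⟩ : ∃ δ : Fin d → Λ, ∀ i, δ i = v i * δz i := ⟨_, fun _ => rfl⟩
  have hδ : ∀ i, δ i ∉ 𝔮 := fun i hmem => by
    rw [hδdef] at hmem
    rcases (Ideal.IsPrime.mul_mem_iff_mem_or_mem ‹_›).mp hmem with h1 | h1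
    · exact hv i h1
    · exact hδz i h1
  have hδϖ : ∀ i, δ i * φy (π i) = v i * (δz i * φy (π i)) := fun i => by
    rw [hδdef, mul_assoc]
  obtain ⟨lam, hlamdef⟩ : ∃ lam : Fin d → Fin r → Λ,
      ∀ i j, lam i j = v i ^ N * δz i ^ (N - 1) * l i j := ⟨_, fun _ _ => rfl⟩
  have hlam : ∀ i, (v i * (δz i * φy (π i))) ^ N = ∑ j, lam i j * φ (a j) := by
    intro i
    have h1 : (v i * (δz i * φy (π i))) ^ N =
        v i ^ N * δz i ^ (N - 1) * (δz i * φy (π i) ^ N) := by
      rw [mul_pow, mul_pow, ← pow_sub_one_mul hN.ne' (δz i)]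
      ring
    rw [h1, hrelz, Finset.mul_sum]
    refine Finset.sum_congr rfl (fun j _ => ?_)
    rw [hlamdef]
    ring
  have hcong : ∀ i j, ∀ lt : Localization.AtPrime 𝔮,
      Ideal.Quotient.mk (maximalIdeal (Localization.AtPrime 𝔮) ^ (N + (d * (c * 8) + 1))) lt =
        (lam0 i j : Localization.AtPrime 𝔮 ⧸ maximalIdeal (Localization.AtPrime 𝔮) ^
          (N + (d * (c * 8) + 1))) →
      algebraMap Λ (Localization.AtPrime 𝔮) (lam i j) -
        algebraMap Λ (Localization.AtPrime 𝔮) (δ i) ^ N * lt ∈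
        Ideal.span (Set.range fun i => algebraMap Λ (Localization.AtPrime 𝔮) (φy (π i)) ^
          (c * 8)) := by
    intro i j lt hlt
    have h1 : algebraMap Λ (Localization.AtPrime 𝔮) (lam i j) -
        algebraMap Λ (Localization.AtPrime 𝔮) (δ i) ^ N * lt =
        algebraMap Λ (Localization.AtPrime 𝔮) (v i ^ N * δz i ^ (N - 1)) *
          (algebraMap Λ (Localization.AtPrime 𝔮) (l i j) -
            algebraMap Λ (Localization.AtPrime 𝔮) (δz i) * lt) := by
      rw [hlamdef, hδdef, map_mul, map_mul, map_mul, mul_pow,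
        ← pow_sub_one_mul hN.ne' (algebraMap Λ (Localization.AtPrime 𝔮) (δz i)), map_pow,
        map_pow]
      ring
    rw [h1]
    exact Ideal.mul_mem_left _ _ (hcongz i j lt hlt)
  let algRΛ : Algebra (MvPolynomial (Fin d) P₀) Λ :=
    (MvPolynomial.eval₂Hom φy.toRingHom δ).toAlgebra
  have hRC : ∀ f, algebraMap (MvPolynomial (Fin d) P₀) Λ (C f) = φy f :=
    fun f => eval₂Hom_C _ _ f
  have hRX : ∀ i, algebraMap (MvPolynomial (Fin d) P₀) Λ (X i) = δ i :=
    fun i => eval₂Hom_X' _ _ i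
  have towerkRΛ : IsScalarTower k (MvPolynomial (Fin d) P₀) Λ :=
    IsScalarTower.of_algebraMap_eq (fun c' => by
      rw [MvPolynomial.algebraMap_apply, hRC, AlgHom.commutes])
  have hfpR : Algebra.FinitePresentation k (MvPolynomial (Fin d) P₀) :=
    Algebra.FinitePresentation.trans k P₀ _
  have hfsR : Algebra.FormallySmooth k (MvPolynomial (Fin d) P₀) :=
    Algebra.FormallySmooth.comp k P₀ _
  have hnoethR : IsNoetherianRing (MvPolynomial (Fin d) P₀) := inferInstance
  have hγΛ : ∀ i, algebraMap (MvPolynomial (Fin d) P₀) Λ (C (π i) * X i) =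
      v i * (δz i * φy (π i)) := fun i => by
    rw [map_mul, hRC, hRX, mul_comm, hδϖ]
  let algQR : Algebra (MvPolynomial (Fin d) k) (MvPolynomial (Fin d) P₀) :=
    (aeval (fun i => (C (π i) * X i : MvPolynomial (Fin d) P₀)) :
      MvPolynomial (Fin d) k →ₐ[k] MvPolynomial (Fin d) P₀).toRingHom.toAlgebra
  have hQR : ∀ i, algebraMap (MvPolynomial (Fin d) k) (MvPolynomial (Fin d) P₀) (X i) =
      C (π i) * X i := fun i => by
    show (aeval (fun i => (C (π i) * X i : MvPolynomial (Fin d) P₀)) :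
      MvPolynomial (Fin d) k →ₐ[k] MvPolynomial (Fin d) P₀) (X i) = _
    rw [aeval_X]
  have hQRk : ∀ c' : k, algebraMap (MvPolynomial (Fin d) k) (MvPolynomial (Fin d) P₀) (C c') =
      C (algebraMap k P₀ c') := fun c' => by
    show (aeval (fun i => (C (π i) * X i : MvPolynomial (Fin d) P₀)) :
      MvPolynomial (Fin d) k →ₐ[k] MvPolynomial (Fin d) P₀) (C c') = _
    rw [aeval_C, MvPolynomial.algebraMap_apply]
  have towerkQR : IsScalarTower k (MvPolynomial (Fin d) k) (MvPolynomial (Fin d) P₀) :=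
    IsScalarTower.of_algebraMap_eq (fun c' =>
      ((aeval (fun i => (C (π i) * X i : MvPolynomial (Fin d) P₀)) :
        MvPolynomial (Fin d) k →ₐ[k] MvPolynomial (Fin d) P₀).commutes c').symm)
  let algQΛ : Algebra (MvPolynomial (Fin d) k) Λ :=
    (aeval (fun i => v i * (δz i * φy (π i))) : MvPolynomial (Fin d) k →ₐ[k] Λ).toRingHom.toAlgebra
  have towerΛ : IsScalarTower k (MvPolynomial (Fin d) k) Λ :=
    IsScalarTower.of_algebraMap_eq (fun c' =>
      ((aeval (fun i => v i * (δz i * φy (π i))) :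
        MvPolynomial (Fin d) k →ₐ[k] Λ).commutes c').symm)
  have halgX : ∀ i, algebraMap (MvPolynomial (Fin d) k) Λ (X i) = v i * (δz i * φy (π i)) :=
    fun i => by
    show (aeval (fun i => v i * (δz i * φy (π i))) : MvPolynomial (Fin d) k →ₐ[k] Λ) (X i) = _
    rw [aeval_X]
  have halgC : ∀ c' : k, algebraMap (MvPolynomial (Fin d) k) Λ (C c') = algebraMap k Λ c' :=
    fun c' => by
    show (aeval (fun i => v i * (δz i * φy (π i))) : MvPolynomial (Fin d) k →ₐ[k] Λ) (C c') = _
    rw [aeval_C]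
  have towerQRΛ : IsScalarTower (MvPolynomial (Fin d) k) (MvPolynomial (Fin d) P₀) Λ := by
    have h1 : algebraMap (MvPolynomial (Fin d) k) Λ =
        (algebraMap (MvPolynomial (Fin d) P₀) Λ).comp
          (algebraMap (MvPolynomial (Fin d) k) (MvPolynomial (Fin d) P₀)) := by
      refine MvPolynomial.ringHom_ext (fun c' => ?_) (fun i => ?_)
      · show algebraMap (MvPolynomial (Fin d) k) Λ (C c') =
          algebraMap (MvPolynomial (Fin d) P₀) Λ
            (algebraMap (MvPolynomial (Fin d) k) (MvPolynomial (Fin d) P₀) (C c'))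
        rw [hQRk, hRC, AlgHom.commutes, halgC]
      · show algebraMap (MvPolynomial (Fin d) k) Λ (X i) =
          algebraMap (MvPolynomial (Fin d) P₀) Λ
            (algebraMap (MvPolynomial (Fin d) k) (MvPolynomial (Fin d) P₀) (X i))
        rw [halgX, hQR, hγΛ]
    exact IsScalarTower.of_algebraMap_eq (fun q => RingHom.congr_fun h1 q)
  obtain ⟨hB, hBA, hBx, hBz⟩ := exists_hom a N d φ.toRingHom
    (fun i => v i * (δz i * φy (π i))) lam hlam
  have hBR : ∀ q : MvPolynomial (Fin d) k, hB (algebraMap _ (BB a N d) q) =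
      algebraMap (MvPolynomial (Fin d) k) Λ q := by
    have : hB.comp (algebraMap (MvPolynomial (Fin d) k) (BB a N d)) =
        algebraMap (MvPolynomial (Fin d) k) Λ := by
      refine MvPolynomial.ringHom_ext (fun c' => ?_) (fun i => ?_)
      · show hB (algebraMap (MvPolynomial (Fin d) k) (BB a N d) (algebraMap k _ c')) =
          algebraMap (MvPolynomial (Fin d) k) Λ (algebraMap k _ c')
        rw [← IsScalarTower.algebraMap_apply k (MvPolynomial (Fin d) k) (BB a N d),
          IsScalarTower.algebraMap_apply k A (BB a N d), hBA,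
          ← IsScalarTower.algebraMap_apply k (MvPolynomial (Fin d) k) Λ]
        exact φ.commutes c'
      · show hB (algebraMap (MvPolynomial (Fin d) k) (BB a N d) (X i)) = _
        rw [algebraMap_RB_X, hBx, halgX]
    exact fun q => RingHom.congr_fun this q
  let hBalg : BB a N d →ₐ[MvPolynomial (Fin d) k] Λ := { hB with commutes' := hBR }
  let φC₁ : C₁ →ₐ[MvPolynomial (Fin d) k] Λ :=
    hBalg.comp (ρ.restrictScalars (MvPolynomial (Fin d) k))
  have hφC₁ : ∀ c₁, φC₁ c₁ = hB (ρ c₁) := fun c₁ => rfl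
  let φCR : MvPolynomial (Fin d) P₀ ⊗[MvPolynomial (Fin d) k] C₁ →ₐ[MvPolynomial (Fin d) P₀] Λ :=
    Algebra.TensorProduct.lift (Algebra.ofId (MvPolynomial (Fin d) P₀) Λ) φC₁
      (fun _ _ => Commute.all _ _)
  have hφCR : ∀ (x : MvPolynomial (Fin d) P₀) (c₁ : C₁),
      φCR (x ⊗ₜ[MvPolynomial (Fin d) k] c₁) =
        algebraMap (MvPolynomial (Fin d) P₀) Λ x * φC₁ c₁ := by
    intro x c₁
    show Algebra.TensorProduct.lift (Algebra.ofId (MvPolynomial (Fin d) P₀) Λ) φC₁ _
      (x ⊗ₜ[MvPolynomial (Fin d) k] c₁) = _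
    rw [Algebra.TensorProduct.lift_tmul]
    rfl
  have hstd : ∀ i : Fin d, IsStrictlyStandard (MvPolynomial (Fin d) P₀)
      (MvPolynomial (Fin d) P₀ ⊗[MvPolynomial (Fin d) k] C₁)
      (algebraMap (MvPolynomial (Fin d) P₀) (MvPolynomial (Fin d) P₀ ⊗[MvPolynomial (Fin d) k] C₁)
        ((C (π i) * X i) ^ c)) := by
    intro i
    have h1 : IsStrictlyStandard (MvPolynomial (Fin d) k) C₁
        (algebraMap (MvPolynomial (Fin d) k) C₁ (X i ^ c)) := by
      have h2 := he₀ i c (hce i)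
      rw [map_pow, IsScalarTower.algebraMap_apply (MvPolynomial (Fin d) k) (BB a N d) C₁,
        algebraMap_RB_X]
      exact h2
    have h3 := (Groth.Agent.S6829.result (R := MvPolynomial (Fin d) k) (A := C₁)
      (R' := MvPolynomial (Fin d) P₀) (algebraMap (MvPolynomial (Fin d) k) C₁ (X i ^ c))).2 h1
    have h4 : algebraMap (MvPolynomial (Fin d) P₀)
        (MvPolynomial (Fin d) P₀ ⊗[MvPolynomial (Fin d) k] C₁) ((C (π i) * X i) ^ c) =
        (1 : MvPolynomial (Fin d) P₀) ⊗ₜ[MvPolynomial (Fin d) k]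
          algebraMap (MvPolynomial (Fin d) k) C₁ (X i ^ c) := by
      rw [Algebra.TensorProduct.algebraMap_apply, Algebra.algebraMap_self, RingHom.id_apply,
        ← hQR, ← map_pow,
        Algebra.algebraMap_eq_smul_one (A := MvPolynomial (Fin d) P₀)
          (X i ^ c : MvPolynomial (Fin d) k),
        TensorProduct.smul_tmul, ← Algebra.algebraMap_eq_smul_one]
    rw [h4]
    exact h3
  obtain ⟨K, hK⟩ : ∃ K : Ideal (MvPolynomial (Fin d) P₀),
      K = Ideal.span (Set.range fun i : Fin d =>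
        ((C (π i) * X i : MvPolynomial (Fin d) P₀) ^ c) ^ 8) := ⟨_, rfl⟩
  obtain ⟨φK, hφK0⟩ := Helper27.ResMod.exists_quotMap φCR K
  have hφK : ∀ (x : MvPolynomial (Fin d) P₀) (c₁ : C₁),
      φK (Ideal.Quotient.mk _ (x ⊗ₜ[MvPolynomial (Fin d) k] c₁)) =
        Ideal.Quotient.mk (K.map (algebraMap (MvPolynomial (Fin d) P₀) Λ))
          (algebraMap (MvPolynomial (Fin d) P₀) Λ x * (φC₁ : C₁ →+* Λ) c₁) := by
    intro x c₁
    rw [hφK0, hφCR]
    rfl
  have hBx' : ∀ i, hB (bx a N d i) = δ i * φy (π i) := fun i => by rw [hBx, hδϖ]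
  have hres := quot_problem' φy 𝔮 (N + (d * (c * 8) + 1)) K φ π hπq hgen hloc hflat (c * 8) hn
    (by omega) DD hφyDD hφDD hmaxmap F hmaxiff hrF hFr z hz hspan a N lam0 hrel0 δ hδ lam hcong
    hB hBA hBx' hBz hRC hRX hQR hQRk ρ (φC₁ : C₁ →+* Λ) (fun c₁ => rfl) c hc rfl hK φK hφK
  have hcore : Resolvable (MvPolynomial (Fin d) P₀) φCR 𝔮 := by
    refine Helper27.ResMod.main φCR 𝔮
      (fun i : Fin d => (C (π i) * X i : MvPolynomial (Fin d) P₀) ^ c) ?_ ?_ hstd K hK φK hφK0 hres
    · intro i x hx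
      obtain ⟨q, rfl⟩ := Ideal.Quotient.mk_surjective x
      rw [← map_pow, ← map_mul, Ideal.Quotient.eq_zero_iff_mem] at hx
      rw [← map_mul, Ideal.Quotient.eq_zero_iff_mem]
      have hI : (Ideal.span (Set.range fun j : {j : Fin d // (j : ℕ) < (i : ℕ)} =>
          ((C (π j) * X (j : Fin d) : MvPolynomial (Fin d) P₀) ^ c) ^ 8)) = II (c * 8) π i := by
        unfold II
        refine congrArg _ (congrArg _ (funext fun j => ?_))
        rw [pow_mul]
      rw [hI] at hx ⊢
      exact pow_c_kill_mem _ _ (ann_R (c * 8) π (fun i => hπall i i.2) i) c hc q hx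
    · intro i x hx
      obtain ⟨y, rfl⟩ := Ideal.Quotient.mk_surjective x
      rw [← map_pow, ← map_mul, Ideal.Quotient.eq_zero_iff_mem] at hx
      rw [← map_mul, Ideal.Quotient.eq_zero_iff_mem]
      have hI : (Ideal.span (Set.range fun j : {j : Fin d // (j : ℕ) < (i : ℕ)} =>
          algebraMap (MvPolynomial (Fin d) P₀) Λ
            ((C (π j) * X (j : Fin d) : MvPolynomial (Fin d) P₀) ^ c) ^ 8)) =
          Helper27.RegParam.JJ (c * 8) (fun i => v i * (δz i * φy (π i))) i := by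
        unfold Helper27.RegParam.JJ
        refine congrArg _ (congrArg _ (funext fun j => ?_))
        rw [map_pow, ← pow_mul, hγΛ]
      rw [hI] at hx ⊢
      rw [map_pow, hγΛ] at hx ⊢
      exact pow_c_kill_mem _ _ (hannΛ i i.2) c hc y hx
  refine resolvable_restrict (R := MvPolynomial (Fin d) P₀) φ φCR
    ((Algebra.TensorProduct.includeRight : C₁ →ₐ[MvPolynomial (Fin d) k]
      MvPolynomial (Fin d) P₀ ⊗[MvPolynomial (Fin d) k] C₁).toRingHom.comp
      ((algebraMap (BB a N d) C₁).comp (algebraMap A (BB a N d)))) ?_ ?_ ?_ 𝔮 hcore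
  · intro x
    show φCR ((1 : MvPolynomial (Fin d) P₀) ⊗ₜ[MvPolynomial (Fin d) k]
      (algebraMap (BB a N d) C₁ (algebraMap A (BB a N d) x))) = φ x
    rw [hφCR, map_one, one_mul, hφC₁, ρ.commutes]
    exact hBA x
  · intro c'
    show (1 : MvPolynomial (Fin d) P₀) ⊗ₜ[MvPolynomial (Fin d) k]
      (algebraMap (BB a N d) C₁ (algebraMap A (BB a N d) (algebraMap k A c'))) = _
    rw [← IsScalarTower.algebraMap_apply k A (BB a N d),
      IsScalarTower.algebraMap_apply k (MvPolynomial (Fin d) k) (BB a N d),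
      ← IsScalarTower.algebraMap_apply (MvPolynomial (Fin d) k) (BB a N d) C₁,
      Algebra.TensorProduct.algebraMap_apply, Algebra.algebraMap_self, RingHom.id_apply,
      IsScalarTower.algebraMap_apply k (MvPolynomial (Fin d) k) (MvPolynomial (Fin d) P₀),
      Algebra.algebraMap_eq_smul_one (A := MvPolynomial (Fin d) P₀)
        (algebraMap k (MvPolynomial (Fin d) k) c'),
      TensorProduct.smul_tmul, ← Algebra.algebraMap_eq_smul_one]
  · intro x hx
    show (1 : MvPolynomial (Fin d) P₀) ⊗ₜ[MvPolynomial (Fin d) k]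
      (algebraMap (BB a N d) C₁ (algebraMap A (BB a N d) x)) ∈ _
    apply tmul_mem_singularIdeal
    refine (hcov _ ?_).1
    apply map_le_singularIdeal (k := k) a N d hasm
    apply Ideal.mem_map_of_mem
    have : Ideal.span (Set.range a) = singularIdeal k A := ha
    rw [this]
    exact hx

end Helper27.Insep
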