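import Mathlib
import Groth.Agent.Lib.Helper27.SepResG

set_option autoImplicit false
universe u

namespace Helper27.SepRes

open Smoothing MvPolynomial

attribute [local instance] algRB

theorem exists_fin_family_of_mem_map {R A Λ : Type u} [CommRing R] [CommRing A] [Algebra R A]
    [CommRing Λ] [Algebra R Λ] (f : A →ₐ[R] Λ) (H : Ideal A) (x : Λ) (hx : x ∈ H.map f) :
    ∃ (r : ℕ) (a : Fin r → A) (lam : Fin r → Λ), (∀ j, a j ∈ H) ∧ ∑ j, lam j * f (a j) = x := by
  classical
  have hx' : x ∈ Submodule.span Λ ((f : A → Λ) '' (H : Set A)) := hx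
  obtain ⟨t, ht, c, hc⟩ := (Submodule.mem_span_image_iff_exists_fun Λ).mp hx'
  refine ⟨t.card, fun j => (t.equivFin.symm j : A), fun j => c (t.equivFin.symm j),
    fun j => ht (t.equivFin.symm j).2, ?_⟩
  rw [← hc]
  exact Equiv.sum_comp t.equivFin.symm (fun i => c i * f (i : A))

theorem exists_smooth_factor_of_map_eq_top {R A Λ : Type u} [CommRing R] [CommRing A] [Algebra R A]
    [Algebra.FinitePresentation R A] [CommRing Λ] [Algebra R Λ] (f : A →ₐ[R] Λ)
    (h : (singularIdeal R A).map f = ⊤) :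
    ∃ (B : Type u) (_ : CommRing B) (_ : Algebra R B), Algebra.Smooth R B ∧
      ∃ (g : A →ₐ[R] B) (h' : B →ₐ[R] Λ), h'.comp g = f := by
  obtain ⟨r, a, lam, haH, hsum⟩ := exists_fin_family_of_mem_map f (singularIdeal R A) 1
    (by rw [h]; trivial)
  have hasm : ∀ ℓ, Algebra.FormallySmooth R (Localization.Away (a ℓ)) := fun ℓ =>
    Helper27.DimZero.formallySmooth_away_of_mem_singularIdeal (a ℓ) (haH ℓ)
  have hfpB := finitePresentation_BB (k := R) a 0 1
  have towerB := towerRB (k := R) a 0 1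
  have h1 : (1 : BB a 0 1) ∈ singularIdeal (MvPolynomial (Fin 1) R) (BB a 0 1) := by
    have h2 := brel_eq a 0 1 0
    rw [pow_zero] at h2
    rw [h2]
    refine Ideal.sum_mem _ fun j _ => Ideal.mul_mem_left _ _ ?_
    exact map_le_singularIdeal (k := R) a 0 1 hasm
      (Ideal.mem_map_of_mem _ (Ideal.subset_span ⟨j, rfl⟩))
  have h3 : singularIdeal (MvPolynomial (Fin 1) R) (BB a 0 1) = ⊤ :=
    (Ideal.eq_top_iff_one _).mpr h1
  have hsm1 : Algebra.FormallySmooth (MvPolynomial (Fin 1) R) (BB a 0 1) := by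
    rw [← Algebra.smoothLocus_eq_univ_iff]
    unfold singularIdeal at h3
    rw [PrimeSpectrum.vanishingIdeal_eq_top_iff] at h3
    exact Set.compl_empty_iff.mp h3
  have hfs : Algebra.FormallySmooth R (BB a 0 1) :=
    Algebra.FormallySmooth.comp R (MvPolynomial (Fin 1) R) _
  have hfpA := finitePresentation_BB_A a 0 1
  have hfp : Algebra.FinitePresentation R (BB a 0 1) := Algebra.FinitePresentation.trans R A _
  have hsm : Algebra.Smooth R (BB a 0 1) := ⟨hfs, hfp⟩
  obtain ⟨hB, hBA, -, -⟩ := exists_hom a 0 1 f.toRingHom (fun _ => 0) (fun _ j => lam j)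
    (fun i => by rw [pow_zero]; exact hsum.symm)
  refine ⟨BB a 0 1, inferInstance, inferInstance, hsm, IsScalarTower.toAlgHom R A (BB a 0 1),
    { hB with commutes' := fun x => ?_ }, ?_⟩
  · show hB (algebraMap R (BB a 0 1) x) = algebraMap R Λ x
    rw [IsScalarTower.algebraMap_apply R A (BB a 0 1), hBA]
    exact f.commutes x
  · ext x
    exact hBA x

end Helper27.SepRes
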