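import Mathlib
import Groth.Agent.Lib.Helper27.SepResM
import Groth.Agent.Lib.Helper27.SepResN
import Groth.Agent.Lib.Helper27.InsepN
import Groth.Agent.Lib.Helper49.MacLane2

set_option autoImplicit false
universe u

namespace Helper27.Popescu

open Smoothing IsLocalRing

theorem resolvable_field {k A Λ : Type u} [Field k] [CommRing A] [Algebra k A]
    [Algebra.FinitePresentation k A] [CommRing Λ] [Algebra k Λ] [IsNoetherianRing Λ]
    (hreg : CAlg.IsGeometricallyRegular k Λ) (φ : A →ₐ[k] Λ) (𝔮 : Ideal Λ) [𝔮.IsPrime]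
    (hmin : 𝔮 ∈ (singRad k φ).minimalPrimes) : Resolvable k φ 𝔮 := by
  obtain ⟨p, hp⟩ := CharP.exists k
  rcases CharP.char_is_prime_or_zero k p with hp' | hp'
  · haveI : Fact p.Prime := ⟨hp'⟩
    exact Helper27.Insep.main p hreg φ 𝔮 hmin
  · subst hp'
    haveI : CharZero k := CharP.charP_to_charZero k
    have hregq := Groth.Agent.Lib.Helper49.GeomRegFS.isGeometricallyRegular_localization hreg 𝔮
    have hNq : IsNoetherianRing (Localization.AtPrime 𝔮) :=
      IsLocalization.isNoetherianRing 𝔮.primeCompl _ inferInstance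
    have hregloc : IsRegularLocalRing (Localization.AtPrime 𝔮) := by
      have h1 := hregq k (Module.Finite.self k)
      haveI : IsRegularRing (Localization.AtPrime 𝔮) :=
        IsRegularRing.of_ringEquiv
          (Algebra.TensorProduct.lid k (Localization.AtPrime 𝔮)).toRingEquiv
      exact IsRegularLocalRing.of_isRegularRing_of_isLocalRing _
    haveI := Groth.Agent.Lib.Helper49.MacLane.geomReduced_of_perfectField k 𝔮.ResidueField
    exact Helper27.SepRes.main φ 𝔮 hmin

theorem indSmooth_field {k Λ : Type u} [Field k] [CommRing Λ] [Algebra k Λ] [IsNoetherianRing Λ]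
    (hreg : CAlg.IsGeometricallyRegular k Λ) : IndSmooth k Λ := by
  intro A _ _ hfp f
  suffices H : ∀ I : Ideal Λ, ∀ (A : Type u) [CommRing A] [Algebra k A],
      Algebra.FinitePresentation k A → ∀ f : A →ₐ[k] Λ, singRad k f = I →
      ∃ (B : Type u) (_ : CommRing B) (_ : Algebra k B), Algebra.Smooth k B ∧
        ∃ (g : A →ₐ[k] B) (h : B →ₐ[k] Λ), h.comp g = f from H _ A hfp f rfl
  intro I
  induction I using WellFoundedGT.induction with
  | ind I ih =>
  intro A _ _ hfp f hI
  by_cases htop : singRad k f = ⊤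
  · have h1 : (singularIdeal k A).map f = ⊤ := by
      rwa [singRad, Ideal.radical_eq_top] at htop
    exact Helper27.SepRes.exists_smooth_factor_of_map_eq_top f h1
  · obtain ⟨𝔮, hmin⟩ := Ideal.nonempty_minimalPrimes htop
    haveI := hmin.1.1
    obtain ⟨B, _, _, hfpB, g, h, hgh, hle, hnle⟩ := resolvable_field hreg f 𝔮 hmin
    have hlt : I < singRad k h := by
      subst hI
      refine lt_of_le_of_ne hle ?_
      intro heq
      exact hnle (heq ▸ hmin.1.2)
    obtain ⟨C, _, _, hsm, g', h', hgh'⟩ := ih _ hlt B hfpB h rfl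
    exact ⟨C, _, _, hsm, g'.comp g, h', by rw [← AlgHom.comp_assoc, hgh', hgh]⟩

end Helper27.Popescu
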