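import Mathlib
import Groth.Agent.Lib.Helper27.ResModD

set_option autoImplicit false
universe u

namespace Helper27.ResMod

set_option maxHeartbeats 1000000 in
theorem lift_res {R Λ A C₁ : Type u} [CommRing R] [IsNoetherianRing R] [CommRing Λ]
    [Algebra R Λ] (π : R) (hR : ∀ r : R, π ^ 2 * r = 0 → π * r = 0)
    (hΛ : ∀ x : Λ, π ^ 2 • x = 0 → π • x = 0) [CommRing A] [Algebra R A]
    [Algebra.FinitePresentation R A] (φ : A →ₐ[R] Λ)
    (hπ : Smoothing.IsStrictlyStandard R A (algebraMap R A π))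
    [CommRing C₁] [Algebra R C₁] [Algebra (R ⧸ Ideal.span {π ^ 8}) C₁]
    [IsScalarTower R (R ⧸ Ideal.span {π ^ 8}) C₁]
    [Algebra.FinitePresentation (R ⧸ Ideal.span {π ^ 8}) C₁]
    (γ : A →ₐ[R] C₁) (g : C₁ →ₐ[R] Λ ⧸ Ideal.span {algebraMap R Λ (π ^ 8)})
    (hfac : ∀ a : A, g (γ a) = Ideal.Quotient.mk (Ideal.span {algebraMap R Λ (π ^ 8)}) (φ a)) :
    ∃ (B : Type u) (_ : CommRing B) (_ : Algebra R B), Algebra.FinitePresentation R B ∧
      ∃ (α : A →ₐ[R] B) (β : B →ₐ[R] Λ), β.comp α = φ ∧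
        (∀ (Q : Ideal B) [Q.IsPrime], algebraMap R B π ∉ Q → Algebra.IsSmoothAt R Q) ∧
        (Smoothing.singularIdeal (R ⧸ Ideal.span {π ^ 8}) C₁).map g ≤
          ((Smoothing.singularIdeal R B).map β).radical.map
            (Ideal.Quotient.mk (Ideal.span {algebraMap R Λ (π ^ 8)})) := by
  classical
  have hR4 : ∀ r : R, (π ^ 4) ^ 2 * r = 0 → π ^ 4 * r = 0 := pow4_kill π hR
  have hΛm : ∀ x : Λ, algebraMap R Λ π ^ 2 * x = 0 → algebraMap R Λ π * x = 0 := by
    intro x hx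
    have h1 := hΛ x (by rw [Algebra.smul_def, map_pow]; exact hx)
    rwa [Algebra.smul_def] at h1
  have hΛ4 : ∀ x : Λ, (π ^ 4) ^ 2 • x = 0 → π ^ 4 • x = 0 := by
    intro x hx
    rw [Algebra.smul_def, map_pow, map_pow] at hx
    rw [Algebra.smul_def, map_pow]
    exact pow4_kill _ hΛm x hx
  have hker8 : RingHom.ker (algebraMap R (R ⧸ Ideal.span {π ^ 8})) =
      Ideal.span {(π ^ 4) ^ 2} := by
    rw [← pow_mul]
    exact Ideal.mk_ker
  obtain ⟨D, instD, algD, hfpD, δ, ψ, hcompat, hb, hc⟩ :=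
    liftProb_abs (π ^ 4) hR4 hΛ4 (Rb := R ⧸ Ideal.span {π ^ 8}) Ideal.Quotient.mk_surjective
      hker8 (Ideal.Quotient.mkₐ R (Ideal.span {algebraMap R Λ (π ^ 8)}))
      (Ideal.Quotient.mkₐ_surjective R _)
      (fun l hl => by
        rw [← pow_mul]
        exact Ideal.Quotient.eq_zero_iff_mem.mp hl) g
  obtain ⟨ψA, hψA⟩ : ∃ ψA : A →ₐ[R] D ⧸ Ideal.span {algebraMap R D (π ^ 4)},
      ∀ a, ψA a = ψ (γ a) := ⟨ψ.comp γ, fun _ => rfl⟩
  have hcompatA : ∀ (a : A) (d : D),
      Ideal.Quotient.mk (Ideal.span {algebraMap R D (π ^ 4)}) d = ψA a →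
        δ d - φ a ∈ Ideal.span {algebraMap R Λ (π ^ 4)} := by
    intro a d hd
    refine hcompat (γ a) d (φ a) (by rw [hd, hψA]) ?_
    show Ideal.Quotient.mk _ (φ a) = g (γ a)
    rw [hfac]
  obtain ⟨B, instB, algB, algDB, towerB, hfpB, α, β, hβα, hβδ, -, hHB⟩ :=
    Helper27.Desing.main3 π hR hΛ φ δ hπ ψA hcompatA
  have hβδ' : ∀ d, β (algebraMap D B d) = δ d := fun d => DFunLike.congr_fun hβδ d
  obtain ⟨𝔥, h𝔥⟩ : ∃ 𝔥 : Ideal Λ, 𝔥 = ((Smoothing.singularIdeal R B).map β).radical :=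
    ⟨_, rfl⟩
  have hHD : ∀ d ∈ Smoothing.singularIdeal R D, δ d ∈ 𝔥 := by
    intro d hd
    rw [h𝔥, ← hβδ']
    exact Ideal.le_radical (Ideal.mem_map_of_mem _ (hHB (Ideal.mem_map_of_mem _ hd)))
  have hπD : algebraMap R D π ∈ Smoothing.singularIdeal R D := by
    unfold Smoothing.singularIdeal
    rw [PrimeSpectrum.mem_vanishingIdeal]
    intro Q hQ
    by_contra hn
    exact hQ (hb Q.asIdeal (fun h => hn (Q.isPrime.mem_of_pow_mem 4 (by rwa [map_pow] at h))))
  have hπ𝔥 : algebraMap R Λ π ∈ 𝔥 := by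
    have := hHD _ hπD
    rwa [δ.commutes] at this
  have hstar : ∀ c ∈ Smoothing.singularIdeal (R ⧸ Ideal.span {π ^ 8}) C₁, ∀ l,
      Ideal.Quotient.mk (Ideal.span {algebraMap R Λ (π ^ 8)}) l = g c → l ∈ 𝔥 := by
    intro c hc' l hl
    obtain ⟨d, hd⟩ := Ideal.Quotient.mk_surjective (ψ c)
    have hdH : d ∈ Smoothing.singularIdeal R D := by
      unfold Smoothing.singularIdeal
      rw [PrimeSpectrum.mem_vanishingIdeal]
      intro Q hQ
      by_contra hdQ
      by_cases hπQ : algebraMap R D π ∈ Q.asIdeal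
      · have hkerQ : Ideal.span {algebraMap R D (π ^ 4)} ≤ Q.asIdeal := by
          rw [Ideal.span_le, Set.singleton_subset_iff, map_pow]
          exact Ideal.pow_mem_of_mem _ hπQ 4 (by norm_num)
        have hcomap : (Q.asIdeal.map (Ideal.Quotient.mk
            (Ideal.span {algebraMap R D (π ^ 4)}))).comap (Ideal.Quotient.mk _) = Q.asIdeal := by
          rw [Ideal.comap_map_of_surjective _ Ideal.Quotient.mk_surjective,
            ← RingHom.ker_eq_comap_bot, Ideal.mk_ker, sup_eq_left]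
          exact hkerQ
        have hprime : (Q.asIdeal.map (Ideal.Quotient.mk
            (Ideal.span {algebraMap R D (π ^ 4)}))).IsPrime :=
          Ideal.map_isPrime_of_surjective Ideal.Quotient.mk_surjective
            (by rw [Ideal.mk_ker]; exact hkerQ)
        have hcn : c ∉ (Q.asIdeal.map (Ideal.Quotient.mk
            (Ideal.span {algebraMap R D (π ^ 4)}))).comap ψ := by
          intro hcm
          rw [Ideal.mem_comap, ← hd] at hcm
          have h1 : d ∈ (Q.asIdeal.map (Ideal.Quotient.mk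
            (Ideal.span {algebraMap R D (π ^ 4)}))).comap (Ideal.Quotient.mk _) := hcm
          rw [hcomap] at h1
          exact hdQ h1
        have hsmC : Algebra.IsSmoothAt (R ⧸ Ideal.span {π ^ 8}) ((Q.asIdeal.map
            (Ideal.Quotient.mk (Ideal.span {algebraMap R D (π ^ 4)}))).comap ψ) := by
          unfold Smoothing.singularIdeal at hc'
          rw [PrimeSpectrum.mem_vanishingIdeal] at hc'
          by_contra hns
          have hP : ((Q.asIdeal.map (Ideal.Quotient.mk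
            (Ideal.span {algebraMap R D (π ^ 4)}))).comap ψ).IsPrime := inferInstance
          exact hcn (hc' ⟨_, hP⟩ hns)
        have hsmD := hc _ hsmC
        exact hQ (isSmoothAt_of_eq hcomap hsmD)
      · exact hQ (hb Q.asIdeal
          (fun h => hπQ (Q.isPrime.mem_of_pow_mem 4 (by rwa [map_pow] at h))))
    have h1 : δ d ∈ 𝔥 := hHD d hdH
    have h2 : δ d - l ∈ Ideal.span {algebraMap R Λ (π ^ 4)} := hcompat c d l hd hl
    have h3 : Ideal.span {algebraMap R Λ (π ^ 4)} ≤ 𝔥 := by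
      rw [Ideal.span_le, Set.singleton_subset_iff, map_pow, h𝔥]
      exact Ideal.pow_mem_of_mem _ (h𝔥 ▸ hπ𝔥) 4 (by norm_num)
    have h4 := 𝔥.sub_mem h1 (h3 h2)
    simpa using h4
  refine ⟨B, instB, algB, hfpB, α, β, hβα, ?_, ?_⟩
  · intro Q _ hQ
    have hπB : algebraMap R B π ∈ Smoothing.singularIdeal R B := by
      have h1 := hHB (Ideal.mem_map_of_mem (algebraMap D B) hπD)
      rwa [← IsScalarTower.algebraMap_apply] at h1
    unfold Smoothing.singularIdeal at hπB
    rw [PrimeSpectrum.mem_vanishingIdeal] at hπB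
    by_contra hns
    exact hQ (hπB ⟨Q, inferInstance⟩ hns)
  · rw [Ideal.map_le_iff_le_comap]
    intro c hc'
    obtain ⟨l, hl⟩ := Ideal.Quotient.mk_surjective (g c)
    rw [Ideal.mem_comap, ← hl, ← h𝔥]
    exact Ideal.mem_map_of_mem _ (hstar c hc' l hl)

end Helper27.ResMod
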