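import Mathlib
import Groth.Agent.Lib.Helper27.PopescuA
import Groth.Agent.Lib.Helper27.DesingA
import Groth.Agent.Lib.Helper27.ResModH
import Groth.Agent.S2029

set_option autoImplicit false
universe u

namespace Helper27.Popescu

open Smoothing IsLocalRing TensorProduct

theorem indSmooth_of_subsingleton {R Λ : Type u} [CommRing R] [CommRing Λ] [Algebra R Λ]
    [Subsingleton Λ] : IndSmooth R Λ := by
  intro A _ _ hfp f
  refine Helper27.SepRes.exists_smooth_factor_of_map_eq_top f ?_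
  rw [Ideal.eq_top_iff_one, Subsingleton.elim (1 : Λ) 0]
  exact zero_mem _

theorem finitePresentation_of_marked {R B : Type u} [CommRing R] [CommRing B] [Algebra R B]
    (P : MarkedPresentation R B) : Algebra.FinitePresentation R B := by
  refine Algebra.FinitePresentation.of_surjective (f := P.hom) P.surj ?_
  rw [P.ker_eq]
  exact Submodule.fg_span (Set.finite_range _)

theorem isStrictlyStandard_of_isElementaryStandard {R B : Type u} [CommRing R] [CommRing B]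
    [Algebra R B] {a : B} (h : IsElementaryStandard R B a) : IsStrictlyStandard R B a := by
  obtain ⟨P, ⟨a', ha'⟩, hk⟩ := h
  refine ⟨P, ?_, hk⟩
  rw [ha']
  exact Ideal.mul_mem_left _ _ (Ideal.subset_span ⟨Fin.castLE P.hcn, rfl⟩)

theorem isLocalization_residueField {R : Type u} [CommRing R] [IsReduced R] (𝔭 : Ideal R)
    [𝔭.IsPrime] (hmin : 𝔭 ∈ minimalPrimes R) :
    IsLocalization 𝔭.primeCompl 𝔭.ResidueField := by
  have hK0 : Ring.KrullDimLE 0 (Localization.AtPrime 𝔭) :=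
    Ring.KrullDimLE.of_isLocalization 𝔭 hmin _
  have hfield : IsField (Localization.AtPrime 𝔭) := Ring.KrullDimLE.isField_of_isReduced
  have hmax : maximalIdeal (Localization.AtPrime 𝔭) = ⊥ :=
    (IsLocalRing.isField_iff_maximalIdeal_eq).mp hfield
  have hbij : Function.Bijective
      (IsScalarTower.toAlgHom R (Localization.AtPrime 𝔭) 𝔭.ResidueField) := by
    refine ⟨?_, Ideal.Quotient.mk_surjective⟩
    rw [injective_iff_map_eq_zero]
    intro x hx
    have h1 : x ∈ maximalIdeal (Localization.AtPrime 𝔭) :=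
      (IsLocalRing.residue_eq_zero_iff x).mp hx
    rw [hmax] at h1
    exact h1
  exact IsLocalization.isLocalization_of_algEquiv 𝔭.primeCompl
    (AlgEquiv.ofBijective (IsScalarTower.toAlgHom R (Localization.AtPrime 𝔭) 𝔭.ResidueField) hbij)

theorem exists_std_factor {R Λ A : Type u} [CommRing R] [IsNoetherianRing R] [IsReduced R]
    [CommRing Λ] [IsNoetherianRing Λ] [Algebra R Λ] (hreg : CAlg.IsRegularHom R Λ) (𝔭 : Ideal R)
    [𝔭.IsPrime] (hmin : 𝔭 ∈ minimalPrimes R) [CommRing A] [Algebra R A]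
    [Algebra.FinitePresentation R A] (φ : A →ₐ[R] Λ) :
    ∃ (B : Type u) (_ : CommRing B) (_ : Algebra R B) (α : A →ₐ[R] B) (β : B →ₐ[R] Λ),
      β.comp α = φ ∧ ∃ s ∈ 𝔭.primeCompl, IsElementaryStandard R B (algebraMap R B s) := by
  haveI := isLocalization_residueField 𝔭 hmin
  obtain ⟨hN, hgr⟩ := hreg.2 𝔭
  have hind : IndSmooth 𝔭.ResidueField (𝔭.ResidueField ⊗[R] Λ) := indSmooth_field hgr
  obtain ⟨B', _, _, hsm, g, h, hgh⟩ := hind (𝔭.ResidueField ⊗[R] A) inferInstance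
    (Algebra.TensorProduct.map (AlgHom.id 𝔭.ResidueField 𝔭.ResidueField) φ)
  exact Groth.Agent.S2029.result φ 𝔭.primeCompl g h hgh

set_option maxHeartbeats 1000000 in
set_option synthInstance.maxHeartbeats 400000 in
theorem step_lift {R Λ B : Type u} [CommRing R] [IsNoetherianRing R] [IsReduced R] [CommRing Λ]
    [Algebra R Λ] [Module.Flat R Λ] (π : R)
    (hIH : IndSmooth (R ⧸ Ideal.span {π ^ 8})
      (Λ ⧸ (Ideal.span {π ^ 8}).map (algebraMap R Λ)))
    [CommRing B] [Algebra R B] [Algebra.FinitePresentation R B] (β : B →ₐ[R] Λ)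
    (hπ : IsStrictlyStandard R B (algebraMap R B π)) :
    ∃ (C : Type u) (_ : CommRing C) (_ : Algebra R C), Algebra.Smooth R C ∧
      ∃ (g : B →ₐ[R] C) (h : C →ₐ[R] Λ), h.comp g = β := by
  classical
  have hR : ∀ r : R, π ^ 2 * r = 0 → π * r = 0 := by
    intro r hr
    have h1 : (π * r) ^ 2 = 0 := by
      have : (π * r) ^ 2 = (π ^ 2 * r) * r := by ring
      rw [this, hr, zero_mul]
    exact pow_eq_zero_iff (two_ne_zero) |>.mp h1
  have hΛ : ∀ x : Λ, π ^ 2 • x = 0 → π • x = 0 :=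
    fun x hx => Helper27.Desing.smul_eq_zero_of_flat π hR x hx
  obtain ⟨J, hJ⟩ : ∃ J : Ideal R, J = Ideal.span {π ^ 8} := ⟨_, rfl⟩
  have hJmap : (Ideal.span {π ^ 8}).map (algebraMap R Λ) =
      Ideal.span {algebraMap R Λ (π ^ 8)} := by
    rw [Ideal.map_span, Set.image_singleton]
  let φb : (R ⧸ Ideal.span {π ^ 8}) ⊗[R] B →ₐ[R ⧸ Ideal.span {π ^ 8}]
      (Λ ⧸ (Ideal.span {π ^ 8}).map (algebraMap R Λ)) :=
    Algebra.TensorProduct.lift (Algebra.ofId _ _)
      ((Ideal.Quotient.mkₐ R ((Ideal.span {π ^ 8}).map (algebraMap R Λ))).comp β)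
      (fun _ _ => Commute.all _ _)
  obtain ⟨Cb, instCb, algCb, hsmCb, gb, hb, hgb⟩ :=
    hIH ((R ⧸ Ideal.span {π ^ 8}) ⊗[R] B) inferInstance φb
  letI : Algebra R Cb := Algebra.compHom Cb (algebraMap R (R ⧸ Ideal.span {π ^ 8}))
  haveI : IsScalarTower R (R ⧸ Ideal.span {π ^ 8}) Cb :=
    IsScalarTower.of_algebraMap_eq (fun _ => rfl)
  haveI : Algebra.FinitePresentation (R ⧸ Ideal.span {π ^ 8}) Cb := hsmCb.finitePresentation
  let γ : B →ₐ[R] Cb := (gb.restrictScalars R).comp Algebra.TensorProduct.includeRight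
  let e : (Λ ⧸ (Ideal.span {π ^ 8}).map (algebraMap R Λ)) ≃ₐ[R]
      Λ ⧸ Ideal.span {algebraMap R Λ (π ^ 8)} := Ideal.quotientEquivAlgOfEq R hJmap
  let g : Cb →ₐ[R] Λ ⧸ Ideal.span {algebraMap R Λ (π ^ 8)} :=
    e.toAlgHom.comp (hb.restrictScalars R)
  have hfac : ∀ b : B, g (γ b) =
      Ideal.Quotient.mk (Ideal.span {algebraMap R Λ (π ^ 8)}) (β b) := by
    intro b
    show e (hb (gb (1 ⊗ₜ b))) = _
    have h1 : hb (gb (1 ⊗ₜ b)) = φb (1 ⊗ₜ b) := by
      rw [← hgb]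
      rfl
    rw [h1]
    show e (Algebra.TensorProduct.lift _ _ _ (1 ⊗ₜ b)) = _
    rw [Algebra.TensorProduct.lift_tmul, map_one, one_mul]
    show e (Ideal.Quotient.mk _ (β b)) = _
    exact Ideal.quotientEquivAlgOfEq_mk R hJmap (β b)
  obtain ⟨B₂, instB₂, algB₂, hfpB₂, α, β₂, hβα, hsm, hle⟩ :=
    Helper27.ResMod.lift_res π hR hΛ β hπ γ g hfac
  have hπS : algebraMap R B₂ π ∈ singularIdeal R B₂ := by
    unfold Smoothing.singularIdeal
    rw [PrimeSpectrum.mem_vanishingIdeal]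
    intro Q hQ
    by_contra hn
    exact hQ (hsm Q.asIdeal hn)
  obtain ⟨𝔥, h𝔥⟩ : ∃ 𝔥 : Ideal Λ, 𝔥 = ((singularIdeal R B₂).map β₂).radical := ⟨_, rfl⟩
  rw [← h𝔥] at hle
  have hπ𝔥 : algebraMap R Λ π ∈ 𝔥 := by
    rw [h𝔥]
    refine Ideal.le_radical ?_
    have := Ideal.mem_map_of_mem β₂ hπS
    rwa [β₂.commutes] at this
  have h1 : (1 : Λ ⧸ Ideal.span {algebraMap R Λ (π ^ 8)}) ∈
      𝔥.map (Ideal.Quotient.mk (Ideal.span {algebraMap R Λ (π ^ 8)})) := by
    apply hle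
    have h2 : (1 : Cb) ∈ singularIdeal (R ⧸ Ideal.span {π ^ 8}) Cb := by
      rw [Helper27.SepRes.singularIdeal_eq_top_of_smooth]
      trivial
    have := Ideal.mem_map_of_mem g h2
    rwa [map_one] at this
  obtain ⟨x, hx𝔥, hx1⟩ :=
    (Ideal.mem_map_iff_of_surjective _ Ideal.Quotient.mk_surjective).mp h1
  have h3 : (1 : Λ) - x ∈ Ideal.span {algebraMap R Λ (π ^ 8)} := by
    rw [← Ideal.Quotient.eq_zero_iff_mem, map_sub, map_one, hx1, sub_self]
  have h4 : Ideal.span {algebraMap R Λ (π ^ 8)} ≤ 𝔥 := by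
    rw [Ideal.span_le, Set.singleton_subset_iff, map_pow]
    exact Ideal.pow_mem_of_mem _ hπ𝔥 8 (by norm_num)
  have h5 : (1 : Λ) ∈ 𝔥 := by
    have := 𝔥.add_mem (h4 h3) hx𝔥
    rwa [sub_add_cancel] at this
  have htop : (singularIdeal R B₂).map β₂ = ⊤ := by
    rw [← Ideal.radical_eq_top, ← h𝔥]
    exact (Ideal.eq_top_iff_one _).mpr h5
  obtain ⟨C, _, _, hsmC, g₂, h₂, hgh₂⟩ :=
    Helper27.SepRes.exists_smooth_factor_of_map_eq_top β₂ htop
  exact ⟨C, _, _, hsmC, g₂.comp α, h₂, by rw [← AlgHom.comp_assoc, hgh₂, hβα]⟩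

end Helper27.Popescu
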