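import Mathlib
import Groth.Agent.Lib.Helper27.PopescuB
import Groth.Agent.Lib.Helper56.HomPushout
import Groth.Agent.S2022

set_option autoImplicit false
universe u

namespace Helper27.Popescu

open Smoothing IsLocalRing TensorProduct

theorem isPushout_quotient {A B : Type u} [CommRing A] [CommRing B] [Algebra A B] (J : Ideal A) :
    Algebra.IsPushout A B (A ⧸ J) (B ⧸ J.map (algebraMap A B)) := by
  constructor
  refine IsBaseChange.of_equiv
    (Algebra.TensorProduct.quotIdealMapEquivTensorQuot B J).symm.toLinearEquiv fun x => ?_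
  obtain ⟨a, rfl⟩ := Ideal.Quotient.mk_surjective x
  simp only [AlgEquiv.toLinearEquiv_apply, AlgHom.toLinearMap_apply, IsScalarTower.coe_toAlgHom']
  rw [Algebra.TensorProduct.quotIdealMapEquivTensorQuot_symm_tmul]
  rw [Algebra.smul_def, mul_one]
  rfl

theorem isRegularHom_quotient {R Λ : Type u} [CommRing R] [CommRing Λ] [Algebra R Λ]
    (J : Ideal R) (h : CAlg.IsRegularHom R Λ) :
    CAlg.IsRegularHom (R ⧸ J) (Λ ⧸ J.map (algebraMap R Λ)) := by
  haveI := isPushout_quotient (B := Λ) J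
  exact Groth.Agent.Lib.Helper56.isRegularHom_of_isPushout R Λ (R ⧸ J)
    (Λ ⧸ J.map (algebraMap R Λ))
    (RingHom.surjectiveOnStalks_of_surjective Ideal.Quotient.mk_surjective) h

theorem step {R : Type u} [CommRing R] [IsNoetherianRing R]
    (IH : ∀ J : Ideal R, J ≠ ⊥ → ∀ (Λ : Type u) [CommRing Λ] [IsNoetherianRing Λ]
      [Algebra (R ⧸ J) Λ], CAlg.IsRegularHom (R ⧸ J) Λ → IndSmooth (R ⧸ J) Λ)
    (Λ : Type u) [CommRing Λ] [IsNoetherianRing Λ] [Algebra R Λ]
    (hreg : CAlg.IsRegularHom R Λ) : IndSmooth R Λ := by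
  rcases subsingleton_or_nontrivial Λ with hΛs | hΛn
  · exact indSmooth_of_subsingleton
  haveI : Nontrivial R := (algebraMap R Λ).domain_nontrivial
  haveI := hreg.1
  by_cases hN : nilradical R = ⊥
  · haveI : IsReduced R := nilradical_eq_bot_iff.mp hN
    obtain ⟨𝔭, hmin⟩ := Ideal.nonempty_minimalPrimes (bot_ne_top (α := Ideal R))
    haveI := hmin.1.1
    intro A _ _ hfp φ
    obtain ⟨B, _, _, α, β, hβα, s, hs, hstd⟩ := exists_std_factor hreg 𝔭 hmin φ
    haveI hfpB : Algebra.FinitePresentation R B := by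
      obtain ⟨P, -⟩ := hstd
      exact finitePresentation_of_marked P
    have hs0 : Ideal.span {s ^ 8} ≠ ⊥ := by
      intro h0
      rw [Ideal.span_singleton_eq_bot] at h0
      have h1 : s ^ 8 ∈ 𝔭 := by rw [h0]; exact zero_mem _
      exact hs (Ideal.IsPrime.mem_of_pow_mem inferInstance 8 h1)
    have hIH := IH (Ideal.span {s ^ 8}) hs0 (Λ ⧸ (Ideal.span {s ^ 8}).map (algebraMap R Λ))
      (isRegularHom_quotient _ hreg)
    obtain ⟨C, _, _, hsm, g, h, hgh⟩ :=
      step_lift s hIH β (isStrictlyStandard_of_isElementaryStandard hstd)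
    exact ⟨C, _, _, hsm, g.comp α, h, by rw [← AlgHom.comp_assoc, hgh, hβα]⟩
  · have hnil : IsNilpotent (nilradical R) := IsNoetherianRing.isNilpotent_nilradical R
    exact Groth.Agent.S2022.result (nilradical R) hnil
      (IH _ hN _ (isRegularHom_quotient _ hreg))

theorem popescu_aux (R₀ : Type u) [CommRing R₀] [IsNoetherianRing R₀] (I : Ideal R₀) :
    ∀ (R : Type u) [CommRing R] (π : R₀ →+* R), Function.Surjective π → RingHom.ker π = I →
      ∀ (Λ : Type u) [CommRing Λ] [IsNoetherianRing Λ] [Algebra R Λ],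
        CAlg.IsRegularHom R Λ → IndSmooth R Λ := by
  induction I using WellFoundedGT.induction with
  | ind I ih =>
  intro R _ π hπ hker Λ _ _ _ hreg
  haveI : IsNoetherianRing R := isNoetherianRing_of_surjective R₀ R π hπ
  refine step (fun J hJ Λ' _ _ _ hreg' => ?_) Λ hreg
  refine ih (RingHom.ker ((Ideal.Quotient.mk J).comp π)) ?_ (R ⧸ J)
    ((Ideal.Quotient.mk J).comp π) (Ideal.Quotient.mk_surjective.comp hπ) rfl Λ' hreg'
  rw [← hker]
  refine lt_of_le_of_ne (fun x hx => ?_) ?_
  · rw [RingHom.mem_ker] at hx ⊢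
    rw [RingHom.comp_apply, hx, map_zero]
  · intro heq
    apply hJ
    rw [eq_bot_iff]
    intro y hy
    obtain ⟨x, rfl⟩ := hπ y
    have h1 : x ∈ RingHom.ker ((Ideal.Quotient.mk J).comp π) := by
      rw [RingHom.mem_ker, RingHom.comp_apply]
      exact Ideal.Quotient.eq_zero_iff_mem.mpr hy
    rw [← heq, RingHom.mem_ker] at h1
    rw [h1]
    exact zero_mem _

theorem popescu {R Λ : Type u} [CommRing R] [IsNoetherianRing R] [CommRing Λ]
    [IsNoetherianRing Λ] [Algebra R Λ] (hreg : CAlg.IsRegularHom R Λ) : IndSmooth R Λ :=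
  popescu_aux R ⊥ R (RingHom.id R) Function.surjective_id (RingHom.ker_coe_equiv (RingEquiv.refl R))
    Λ hreg

end Helper27.Popescu
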