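import Mathlib

set_option autoImplicit false

namespace Groth.Agent.Lib.Helper27.WeaklyEtaleField

open TensorProduct

theorem pure_ker_lmul' (R S : Type*) [CommRing R] [CommRing S] [Algebra R S]
    [Algebra.WeaklyEtale R S] :
    (RingHom.ker (Algebra.TensorProduct.lmul' R (S := S))).Pure := by
  have h : (Algebra.TensorProduct.lmul' R (S := S)).toRingHom.Flat :=
    Algebra.WeaklyEtale.flat_lmul' R S
  let μ := Algebra.TensorProduct.lmul' R (S := S)
  have hμ : Function.Surjective μ := fun s => ⟨s ⊗ₜ 1, by simp [μ]⟩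
  let : Algebra (S ⊗[R] S) S := μ.toRingHom.toAlgebra
  have hflat : Module.Flat (S ⊗[R] S) S := h
  let e : ((S ⊗[R] S) ⧸ RingHom.ker μ) ≃ₐ[S ⊗[R] S] S :=
    Ideal.quotientKerAlgEquivOfSurjective (R₁ := S ⊗[R] S) (A := S ⊗[R] S) (B := S)
      (f := Algebra.ofId (S ⊗[R] S) S) hμ
  exact Module.Flat.of_linearEquiv e.toLinearEquiv

theorem exists_eq_mul_of_lmul'_eq_zero {R S : Type*} [CommRing R] [CommRing S] [Algebra R S]
    [Algebra.WeaklyEtale R S] {x : S ⊗[R] S} (hx : Algebra.TensorProduct.lmul' R x = 0) :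
    ∃ y : S ⊗[R] S, Algebra.TensorProduct.lmul' R y = 0 ∧ x = x * y := by
  have := pure_ker_lmul' R S
  obtain ⟨y, hy, hxy⟩ := Ideal.exists_eq_mul_of_pure
    (I := RingHom.ker (Algebra.TensorProduct.lmul' R (S := S))) (x := x) hx
  exact ⟨y, hy, hxy⟩

theorem formallyUnramified_of_weaklyEtale (R S : Type*) [CommRing R] [CommRing S] [Algebra R S]
    [Algebra.WeaklyEtale R S] : Algebra.FormallyUnramified R S := by
  have := pure_ker_lmul' R S
  rw [Algebra.formallyUnramified_iff, KaehlerDifferential, Ideal.cotangent_subsingleton_iff]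
  exact Ideal.isIdempotentElem_of_pure _

theorem exists_annihilator_of_mem {K A : Type*} [Field K] [CommRing A] [Algebra K A]
    [Algebra.WeaklyEtale K A] (N : Ideal A) {a : A} (ha : a ∈ N) :
    ∃ c : A, a * c = 0 ∧ 1 - c ∈ N := by
  classical
  have hx0 : Algebra.TensorProduct.lmul' K (S := A) (a ⊗ₜ[K] 1 - 1 ⊗ₜ[K] a) = 0 := by
    simp
  obtain ⟨y, hy, hxy⟩ := exists_eq_mul_of_lmul'_eq_zero hx0
  set x : A ⊗[K] A := a ⊗ₜ[K] 1 - 1 ⊗ₜ[K] a with hxdef
  set s : A ⊗[K] A := 1 - y with hsdef
  have hxs : x * s = 0 := by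
    rw [hsdef, mul_sub, mul_one, ← hxy, sub_self]
  have hμs : Algebra.TensorProduct.lmul' K (S := A) s = 1 := by
    rw [hsdef, map_sub, map_one, hy, sub_zero]
  let π : A →ₐ[K] A ⧸ N := Ideal.Quotient.mkₐ K N
  let θ : A ⊗[K] A →ₐ[A] A ⊗[K] (A ⧸ N) := Algebra.TensorProduct.map (AlgHom.id A A) π
  have hπa : π a = 0 := by
    show Ideal.Quotient.mk N a = 0
    rwa [Ideal.Quotient.eq_zero_iff_mem]
  have hθx : θ x = a • (1 : A ⊗[K] (A ⧸ N)) := by
    rw [hxdef, map_sub]
    simp only [θ, Algebra.TensorProduct.map_tmul, AlgHom.coe_id, id_eq, map_one, hπa,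
      TensorProduct.tmul_zero, sub_zero]
    rw [Algebra.TensorProduct.one_def, TensorProduct.smul_tmul', smul_eq_mul, mul_one]
  have hsbar : a • θ s = 0 := by
    have h1 : θ x * θ s = 0 := by rw [← map_mul, hxs, map_zero]
    rw [hθx, smul_mul_assoc, one_mul] at h1
    exact h1
  let f := Module.Basis.ofVectorSpace K (A ⧸ N)
  let bA := Algebra.TensorProduct.basis A f
  have hcoef : ∀ i, a * bA.repr (θ s) i = 0 := by
    intro i
    have := congrArg (fun z => bA.repr z i) hsbar
    simpa using this
  let μb : A ⊗[K] (A ⧸ N) →ₐ[K] A ⧸ N :=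
    Algebra.TensorProduct.lift π (AlgHom.id K (A ⧸ N)) (fun _ _ => Commute.all _ _)
  have hμθ : ∀ z : A ⊗[K] A, μb (θ z) = π (Algebra.TensorProduct.lmul' K z) := by
    intro z
    induction z using TensorProduct.induction_on with
    | zero => simp
    | tmul u v =>
      simp [θ, μb]
    | add u v hu hv => simp only [map_add, hu, hv]
  have hμbar : μb (θ s) = 1 := by rw [hμθ, hμs, map_one]
  choose g hg using fun i => Ideal.Quotient.mk_surjective (I := N) (f i)
  have hsum : θ s = (bA.repr (θ s)).sum (fun i c => c • bA i) := by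
    rw [← Finsupp.linearCombination_apply, Module.Basis.linearCombination_repr]
  obtain ⟨cf, hcf⟩ : ∃ cf, cf = bA.repr (θ s) := ⟨_, rfl⟩
  rw [← hcf] at hsum
  have hcoef' : ∀ i, a * cf i = 0 := by rw [hcf]; exact hcoef
  refine ⟨cf.sum (fun i c => c * g i), ?_, ?_⟩
  · rw [Finsupp.sum, Finset.mul_sum]
    apply Finset.sum_eq_zero
    intro i _
    rw [← mul_assoc, hcoef', zero_mul]
  · rw [← Ideal.Quotient.eq, map_one]
    rw [← hμbar, hsum]
    rw [Finsupp.sum, Finsupp.sum, map_sum, map_sum]
    apply Finset.sum_congr rfl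
    intro i _
    rw [Algebra.TensorProduct.basis_apply, TensorProduct.smul_tmul', smul_eq_mul, mul_one]
    simp only [μb, Algebra.TensorProduct.lift_tmul, AlgHom.coe_id, id_eq, map_mul, hg]
    rfl

theorem exists_eq_sq_mul {K A : Type*} [Field K] [CommRing A] [Algebra K A]
    [Algebra.WeaklyEtale K A] (a : A) : ∃ d : A, a = a * a * d := by
  obtain ⟨c, hc, hN⟩ := exists_annihilator_of_mem (K := K) (Ideal.span {a}) (Ideal.subset_span rfl)
  obtain ⟨d, hd⟩ := Ideal.mem_span_singleton'.mp hN
  refine ⟨d, ?_⟩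
  have : a = a * c + a * (d * a) := by rw [hd]; ring
  rw [hc, zero_add] at this
  exact this.trans (by ring)

theorem isReduced_of_weaklyEtale (K A : Type*) [Field K] [CommRing A] [Algebra K A]
    [Algebra.WeaklyEtale K A] : IsReduced A := by
  refine ⟨fun a ha => ?_⟩
  obtain ⟨d, hd⟩ := exists_eq_sq_mul (K := K) a
  have h2 : ∀ n : ℕ, a = a ^ (n + 1) * d ^ n := by
    intro n
    induction n with
    | zero => simp
    | succ n ih =>
      calc a = a ^ (n + 1) * d ^ n := ih
        _ = (a * a * d) * a ^ n * d ^ n := by rw [← hd]; ring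
        _ = a ^ (n + 1 + 1) * d ^ (n + 1) := by ring
  obtain ⟨n, hn⟩ := ha
  rw [h2 n, pow_succ, hn, zero_mul, zero_mul]

theorem aeval_restrict_apply {K A : Type*} [Field K] [CommRing A] [Algebra K A] (b : A)
    (U : Submodule K A) (hU : ∀ u ∈ U, b * u ∈ U) (q : Polynomial K) (u : U) :
    ((Polynomial.aeval ((LinearMap.mulLeft K b).restrict hU) q u : U) : A) =
      Polynomial.aeval b q * (u : A) := by
  induction q using Polynomial.induction_on generalizing u with
  | C a =>
    simp [Algebra.smul_def]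
  | add p q hp hq =>
    simp only [map_add, LinearMap.add_apply, Submodule.coe_add, hp, hq, add_mul]
  | monomial n a h =>
    have h1 : Polynomial.aeval ((LinearMap.mulLeft K b).restrict hU)
        (Polynomial.C a * Polynomial.X ^ (n + 1)) =
        Polynomial.aeval ((LinearMap.mulLeft K b).restrict hU) (Polynomial.C a * Polynomial.X ^ n) *
          (LinearMap.mulLeft K b).restrict hU := by
      rw [pow_succ, ← mul_assoc, map_mul, Polynomial.aeval_X]
    have h2 : Polynomial.aeval b (Polynomial.C a * Polynomial.X ^ (n + 1)) =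
        Polynomial.aeval b (Polynomial.C a * Polynomial.X ^ n) * b := by
      rw [pow_succ, ← mul_assoc, map_mul, Polynomial.aeval_X]
    rw [h1, h2, Module.End.mul_apply, h]
    show Polynomial.aeval b (Polynomial.C a * Polynomial.X ^ n) * (b * (u : A)) = _
    ring

theorem isIntegral_of_weaklyEtale {K A : Type*} [Field K] [CommRing A] [Algebra K A]
    [Algebra.WeaklyEtale K A] (b : A) : IsIntegral K b := by
  classical
  have hx0 : Algebra.TensorProduct.lmul' K (S := A) (b ⊗ₜ[K] 1 - 1 ⊗ₜ[K] b) = 0 := by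
    simp
  obtain ⟨y, hy, hxy⟩ := exists_eq_mul_of_lmul'_eq_zero hx0
  set s : A ⊗[K] A := 1 - y with hsdef
  have hxs : (b ⊗ₜ[K] 1) * s = (1 ⊗ₜ[K] b) * s := by
    have : (b ⊗ₜ[K] 1 - 1 ⊗ₜ[K] b) * s = 0 := by
      rw [hsdef, mul_sub, mul_one, ← hxy, sub_self]
    rwa [sub_mul, sub_eq_zero] at this
  have hμs : Algebra.TensorProduct.lmul' K (S := A) s = 1 := by
    rw [hsdef, map_sub, map_one, hy, sub_zero]
  let e := Module.Basis.ofVectorSpace K A
  let bA := Algebra.TensorProduct.basis A e
  obtain ⟨cf, hcf⟩ : ∃ cf, cf = bA.repr s := ⟨_, rfl⟩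
  have hsum : s = cf.sum (fun i c => c ⊗ₜ[K] e i) := by
    have h1 : s = (bA.repr s).sum (fun i c => c • bA i) := by
      rw [← Finsupp.linearCombination_apply, Module.Basis.linearCombination_repr]
    rw [← hcf] at h1
    rw [h1]
    apply Finsupp.sum_congr
    intro i _
    rw [Algebra.TensorProduct.basis_apply, TensorProduct.smul_tmul', smul_eq_mul, mul_one]
  have hrel : ∀ j, b * cf j =
      ∑ i ∈ cf.support, cf i * algebraMap K A (e.repr (b * e i) j) := by
    intro j
    have h1 : bA.repr ((b ⊗ₜ[K] 1) * s) j = b * cf j := by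
      have : (b ⊗ₜ[K] (1 : A)) * s = b • s := by
        rw [Algebra.smul_def, Algebra.TensorProduct.algebraMap_apply, Algebra.algebraMap_self,
          RingHom.id_apply]
      rw [this, map_smul, Finsupp.smul_apply, smul_eq_mul, hcf]
    have h2 : bA.repr ((1 ⊗ₜ[K] b) * s) j =
        ∑ i ∈ cf.support, cf i * algebraMap K A (e.repr (b * e i) j) := by
      conv_lhs => rw [hsum]
      rw [Finsupp.sum, Finset.mul_sum, map_sum, Finsupp.finsetSum_apply]
      apply Finset.sum_congr rfl
      intro i _
      rw [Algebra.TensorProduct.tmul_mul_tmul, one_mul, Algebra.TensorProduct.basis_repr_tmul]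
      simp
    rw [← h1, hxs, h2]
  let U : Submodule K A := Submodule.span K ((cf.support.image cf : Finset A) : Set A)
  have hcfU : ∀ i, cf i ∈ U := by
    intro i
    by_cases hi : i ∈ cf.support
    · exact Submodule.subset_span (Finset.mem_coe.mpr (Finset.mem_image_of_mem cf hi))
    · rw [Finsupp.notMem_support_iff.mp hi]; exact U.zero_mem
  have hU : ∀ u ∈ U, b * u ∈ U := by
    intro u hu
    induction hu using Submodule.span_induction with
    | mem u hu =>
      simp only [Finset.coe_image, Set.mem_image, Finset.mem_coe] at hu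
      obtain ⟨j, -, rfl⟩ := hu
      rw [hrel j]
      apply Submodule.sum_mem
      intro i _
      rw [mul_comm, ← Algebra.smul_def]
      exact U.smul_mem _ (hcfU i)
    | zero => rw [mul_zero]; exact U.zero_mem
    | add u v _ _ hu hv => rw [mul_add]; exact U.add_mem hu hv
    | smul c u _ hu => rw [mul_smul_comm]; exact U.smul_mem _ hu
  have hfin : Module.Finite K U := Module.Finite.span_finset K _
  obtain ⟨p, hp, hpf⟩ := LinearMap.exists_monic_and_aeval_eq_zero K
    ((LinearMap.mulLeft K b).restrict hU)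
  refine ⟨p, hp, ?_⟩
  have hkill : ∀ i, Polynomial.aeval b p * cf i = 0 := by
    intro i
    have := aeval_restrict_apply b U hU p ⟨cf i, hcfU i⟩
    rw [hpf] at this
    simpa using this.symm
  have h1 : (1 : A) = cf.sum (fun i c => c * e i) := by
    rw [← hμs]
    conv_lhs => rw [hsum]
    rw [Finsupp.sum, map_sum]
    rfl
  rw [← Polynomial.aeval_def]
  calc Polynomial.aeval b p = Polynomial.aeval b p * 1 := (mul_one _).symm
    _ = 0 := by
      rw [h1, Finsupp.sum, Finset.mul_sum]
      apply Finset.sum_eq_zero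
      intro i _
      rw [← mul_assoc, hkill, zero_mul]

theorem dvd_of_aeval_one_tmul_eq_zero {K A : Type*} [Field K] [CommRing A] [Algebra K A]
    (Ω : Type*) [Field Ω] [Algebra K Ω] (b : A) (hb : IsIntegral K b) (P : Polynomial Ω)
    (hP : Polynomial.aeval ((1 : Ω) ⊗ₜ[K] b) P = 0) :
    (minpoly K b).map (algebraMap K Ω) ∣ P := by
  classical
  set g := minpoly K b with hg
  set gΩ := g.map (algebraMap K Ω) with hgΩ
  have hmonic : gΩ.Monic := (minpoly.monic hb).map _
  have hβg : Polynomial.aeval ((1 : Ω) ⊗ₜ[K] b) gΩ = 0 := by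
    rw [hgΩ, Polynomial.aeval_map_algebraMap]
    have : ((1 : Ω) ⊗ₜ[K] b) = (Algebra.TensorProduct.includeRight : A →ₐ[K] Ω ⊗[K] A) b := rfl
    rw [this, Polynomial.aeval_algHom_apply, hg, minpoly.aeval, map_zero]
  set r := P %ₘ gΩ with hr
  have hrdeg : r.natDegree < g.natDegree ∨ r = 0 := by
    by_cases h0 : r = 0
    · exact Or.inr h0
    · left
      have h1 : r.degree < gΩ.degree := Polynomial.degree_modByMonic_lt P hmonic
      have h2 : gΩ.natDegree = g.natDegree := by
        rw [hgΩ]; exact Polynomial.natDegree_map _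
      rw [← h2]
      exact Polynomial.natDegree_lt_natDegree h0 h1
  have hβr : Polynomial.aeval ((1 : Ω) ⊗ₜ[K] b) r = 0 := by
    have h1 := Polynomial.modByMonic_add_div P gΩ
    have h2 : Polynomial.aeval ((1 : Ω) ⊗ₜ[K] b) P =
        Polynomial.aeval ((1 : Ω) ⊗ₜ[K] b) (P %ₘ gΩ + gΩ * (P /ₘ gΩ)) := by rw [h1]
    rw [hP, map_add, map_mul, hβg, zero_mul, add_zero] at h2
    exact h2.symm
  have hr0 : r = 0 := by
    rcases hrdeg with hlt | h0
    · have hli : LinearIndependent Ω (fun i : Fin g.natDegree => (1 : Ω) ⊗ₜ[K] (b ^ (i : ℕ))) :=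
        Module.Flat.linearIndependent_one_tmul (S := Ω) (linearIndependent_pow (K := K) b)
      have hsum : ∑ i : Fin g.natDegree, r.coeff (i : ℕ) • ((1 : Ω) ⊗ₜ[K] (b ^ (i : ℕ))) = 0 := by
        rw [← hβr, Polynomial.aeval_eq_sum_range' hlt, Finset.sum_range]
        apply Finset.sum_congr rfl
        intro i _
        rw [Algebra.TensorProduct.tmul_pow, one_pow]
      have hc := Fintype.linearIndependent_iff.mp hli (fun i => r.coeff (i : ℕ)) hsum
      ext n
      rw [Polynomial.coeff_zero]
      by_cases hn : n < g.natDegree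
      · exact hc ⟨n, hn⟩
      · exact Polynomial.coeff_eq_zero_of_natDegree_lt (lt_of_lt_of_le hlt (not_lt.mp hn))
    · exact h0
  rw [hr] at hr0
  exact (Polynomial.modByMonic_eq_zero_iff_dvd hmonic).mp hr0

theorem isSeparable_of_weaklyEtale {K A : Type*} [Field K] [CommRing A] [Algebra K A]
    [Algebra.WeaklyEtale K A] (b : A) : IsSeparable K b := by
  classical
  have hint : IsIntegral K b := isIntegral_of_weaklyEtale b
  let Ω := AlgebraicClosure K
  have hred : IsReduced (Ω ⊗[K] A) := isReduced_of_weaklyEtale Ω (Ω ⊗[K] A)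
  unfold IsSeparable
  by_contra hsep
  set g := minpoly K b with hg
  set gΩ := g.map (algebraMap K Ω) with hgΩ
  have h1 : ¬ gΩ.Separable := by
    rw [hgΩ, Polynomial.separable_map]; exact hsep
  rw [PerfectField.separable_iff_squarefree] at h1
  unfold Squarefree at h1
  push Not at h1
  obtain ⟨h, ⟨u, hu⟩, hh⟩ := h1
  have hmonic : gΩ.Monic := (minpoly.monic hint).map _
  have hβg : Polynomial.aeval ((1 : Ω) ⊗ₜ[K] b) gΩ = 0 := by
    rw [hgΩ, Polynomial.aeval_map_algebraMap]
    have : ((1 : Ω) ⊗ₜ[K] b) = (Algebra.TensorProduct.includeRight : A →ₐ[K] Ω ⊗[K] A) b := rfl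
    rw [this, Polynomial.aeval_algHom_apply, hg, minpoly.aeval, map_zero]
  have hnil : IsNilpotent (Polynomial.aeval ((1 : Ω) ⊗ₜ[K] b) (h * u)) := by
    refine ⟨2, ?_⟩
    rw [pow_two, ← map_mul]
    have : h * u * (h * u) = gΩ * u := by rw [hu]; ring
    rw [this, map_mul, hβg, zero_mul]
  have hzero := hnil.eq_zero
  have hdvd := dvd_of_aeval_one_tmul_eq_zero Ω b hint (h * u) hzero
  rw [← hg, ← hgΩ] at hdvd
  obtain ⟨w, hw⟩ := hdvd
  have hne : h * u ≠ 0 := by
    intro h0
    have : gΩ = 0 := by rw [hu, mul_assoc, h0, mul_zero]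
    exact hmonic.ne_zero this
  have : h * u * (1 - h * w) = 0 := by
    have : h * u * (h * w) = h * u := by
      rw [hu] at hw
      calc h * u * (h * w) = h * h * u * w := by ring
        _ = h * u := hw.symm
    rw [mul_sub, mul_one, this, sub_self]
  have h2 : 1 - h * w = 0 := by
    rcases mul_eq_zero.mp this with h3 | h3
    · exact absurd h3 hne
    · exact h3
  exact hh (isUnit_iff_exists_inv.mpr ⟨w, (sub_eq_zero.mp h2).symm⟩)

theorem algebra_isSeparable_of_weaklyEtale (K A : Type*) [Field K] [CommRing A] [Algebra K A]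
    [Algebra.WeaklyEtale K A] : Algebra.IsSeparable K A :=
  ⟨fun b => isSeparable_of_weaklyEtale b⟩


theorem isUnit_aeval_derivative_of_separable {K A : Type*} [Field K] [CommRing A] [Algebra K A]
    {b : A} {f : Polynomial K} (hf : f.Separable) (hb : Polynomial.aeval b f = 0) :
    IsUnit (Polynomial.aeval b (Polynomial.derivative f)) := by
  obtain ⟨a, c, h⟩ := hf
  have h1 := congrArg (Polynomial.aeval b) h
  rw [map_add, map_mul, map_mul, hb, mul_zero, zero_add, map_one] at h1
  exact isUnit_iff_exists_inv'.mpr ⟨_, h1⟩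

theorem formallyUnramified_of_adjoin_eq_top {K A : Type*} [Field K] [CommRing A] [Algebra K A]
    {s : Set A} (hs : Algebra.adjoin K s = ⊤) (hsep : ∀ b ∈ s, IsSeparable K b) :
    Algebra.FormallyUnramified K A := by
  rw [Algebra.FormallyUnramified.iff_comp_injective]
  intro B _ _ I hI f₁ f₂ e
  apply AlgHom.ext_of_adjoin_eq_top hs
  intro x hxs
  have hmem : f₁ x - f₂ x ∈ I := by
    simpa [Ideal.Quotient.mk_eq_mk_iff_sub_mem] using AlgHom.congr_fun e x
  have hsq : (f₁ x - f₂ x) ^ 2 = 0 := by
    have : (f₁ x - f₂ x) ^ 2 ∈ I ^ 2 := Ideal.pow_mem_pow hmem 2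
    rw [hI] at this
    exact this
  have h := Polynomial.aeval_add_of_sq_eq_zero (minpoly K x) (f₂ x) (f₁ x - f₂ x) hsq
  rw [add_sub_cancel, Polynomial.aeval_algHom_apply, Polynomial.aeval_algHom_apply,
    Polynomial.aeval_algHom_apply, minpoly.aeval, map_zero, map_zero, zero_add] at h
  have hu : IsUnit (f₂ (Polynomial.aeval x (Polynomial.derivative (minpoly K x)))) :=
    (isUnit_aeval_derivative_of_separable (hsep x hxs) (minpoly.aeval K x)).map f₂
  have := hu.mul_right_eq_zero.mp h.symm
  exact sub_eq_zero.mp this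

theorem formallyUnramified_of_isSeparable (K A : Type*) [Field K] [CommRing A] [Algebra K A]
    [Algebra.IsSeparable K A] : Algebra.FormallyUnramified K A :=
  formallyUnramified_of_adjoin_eq_top (s := Set.univ) (by simp)
    (fun b _ => Algebra.IsSeparable.isSeparable K b)

theorem isSeparable_of_surjective {K A B : Type*} [Field K] [CommRing A] [CommRing B]
    [Algebra K A] [Algebra K B] [Algebra.IsSeparable K A] (f : A →ₐ[K] B)
    (hf : Function.Surjective f) : Algebra.IsSeparable K B := by
  refine ⟨fun b => ?_⟩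
  obtain ⟨a, rfl⟩ := hf b
  have ha : IsSeparable K a := Algebra.IsSeparable.isSeparable K a
  have hint : IsIntegral K a := ha.isIntegral
  have hdvd : minpoly K (f a) ∣ minpoly K a := by
    apply minpoly.dvd
    rw [Polynomial.aeval_algHom_apply, minpoly.aeval, map_zero]
  exact Polynomial.Separable.of_dvd ha hdvd

theorem isSeparable_of_injective {K A B : Type*} [Field K] [CommRing A] [CommRing B]
    [Algebra K A] [Algebra K B] [Algebra.IsSeparable K B] (f : A →ₐ[K] B)
    (hf : Function.Injective f) : Algebra.IsSeparable K A := by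
  refine ⟨fun a => ?_⟩
  have hb : IsSeparable K (f a) := Algebra.IsSeparable.isSeparable K (f a)
  have hdvd : minpoly K a ∣ minpoly K (f a) := by
    apply minpoly.dvd
    apply hf
    rw [← Polynomial.aeval_algHom_apply, minpoly.aeval, map_zero]
  exact Polynomial.Separable.of_dvd hb hdvd

theorem etale_of_isSeparable_of_finiteType (K B : Type*) [Field K] [CommRing B] [Algebra K B]
    [Algebra.IsSeparable K B] [Algebra.FiniteType K B] : Algebra.Etale K B := by
  have h1 : Algebra.FormallyUnramified K B := formallyUnramified_of_isSeparable K B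
  have h2 : Algebra.FormallyEtale K B := Algebra.FormallyEtale.of_formallyUnramified_of_field K B
  have h3 : Algebra.FinitePresentation K B := Algebra.FinitePresentation.of_finiteType.mp inferInstance
  exact ⟨h2, h3⟩

theorem pure_of_forall_exists_eq_mul {R : Type*} [CommRing R] {I : Ideal R}
    (h : ∀ x ∈ I, ∃ y ∈ I, x = x * y) : I.Pure := by
  apply Ideal.Pure.of_inf_eq_mul
  intro J _
  apply le_antisymm
  · intro x hx
    obtain ⟨y, hy, hxy⟩ := h x hx.1
    rw [hxy, mul_comm x y]
    exact Ideal.mul_mem_mul hy hx.2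
  · exact Ideal.mul_le_inf

theorem flat_lmul'_of_pure (R S : Type*) [CommRing R] [CommRing S] [Algebra R S]
    (h : (RingHom.ker (Algebra.TensorProduct.lmul' R (S := S))).Pure) :
    (Algebra.TensorProduct.lmul' R (S := S)).Flat := by
  let μ := Algebra.TensorProduct.lmul' R (S := S)
  have hμ : Function.Surjective μ := fun s => ⟨s ⊗ₜ 1, by simp [μ]⟩
  show μ.toRingHom.Flat
  let : Algebra (S ⊗[R] S) S := μ.toRingHom.toAlgebra
  show Module.Flat (S ⊗[R] S) S
  let e : ((S ⊗[R] S) ⧸ RingHom.ker μ) ≃ₐ[S ⊗[R] S] S :=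
    Ideal.quotientKerAlgEquivOfSurjective (R₁ := S ⊗[R] S) (A := S ⊗[R] S) (B := S)
      (f := Algebra.ofId (S ⊗[R] S) S) hμ
  exact Module.Flat.of_linearEquiv e.symm.toLinearEquiv

theorem exists_eq_mul_of_isSeparable {K A : Type*} [Field K] [CommRing A] [Algebra K A]
    [Algebra.IsSeparable K A] (x : A ⊗[K] A) (hx : Algebra.TensorProduct.lmul' K x = 0) :
    ∃ y : A ⊗[K] A, Algebra.TensorProduct.lmul' K y = 0 ∧ x = x * y := by
  classical
  obtain ⟨T, hT⟩ := TensorProduct.exists_finset x
  let gens : Finset A := T.image Prod.fst ∪ T.image Prod.snd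
  let B : Subalgebra K A := Algebra.adjoin K (gens : Set A)
  have hfst : ∀ i ∈ T, i.1 ∈ B := fun i hi =>
    Algebra.subset_adjoin (Finset.mem_coe.mpr (Finset.mem_union_left _ (Finset.mem_image_of_mem _ hi)))
  have hsnd : ∀ i ∈ T, i.2 ∈ B := fun i hi =>
    Algebra.subset_adjoin (Finset.mem_coe.mpr (Finset.mem_union_right _ (Finset.mem_image_of_mem _ hi)))
  have hBfg : B.FG := ⟨gens, rfl⟩
  have hBft : Algebra.FiniteType K B := (Subalgebra.fg_iff_finiteType B).mp hBfg
  have hBsep : Algebra.IsSeparable K B := isSeparable_of_injective B.val Subtype.val_injective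
  have hBun : Algebra.FormallyUnramified K B := formallyUnramified_of_isSeparable K B
  obtain ⟨t, ht1, ht2⟩ := Algebra.FormallyUnramified.iff_exists_tensorProduct.mp hBun
  let ι : B ⊗[K] B →ₐ[K] A ⊗[K] A := Algebra.TensorProduct.map B.val B.val
  have hμι : ∀ z : B ⊗[K] B, Algebra.TensorProduct.lmul' K (ι z) =
      ((Algebra.TensorProduct.lmul' K z : B) : A) := by
    intro z
    induction z using TensorProduct.induction_on with
    | zero => simp
    | tmul u v => simp [ι]
    | add u v hu hv => simp only [map_add, hu, hv, Subalgebra.coe_add]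
  let xB : B ⊗[K] B := ∑ i ∈ T.attach, (⟨i.1.1, hfst i.1 i.2⟩ : B) ⊗ₜ[K] (⟨i.1.2, hsnd i.1 i.2⟩ : B)
  have hιx : ι xB = x := by
    rw [hT, ← Finset.sum_attach, map_sum]
    apply Finset.sum_congr rfl
    intro i _
    simp [ι]
  have hxB : xB ∈ KaehlerDifferential.ideal K B := by
    show Algebra.TensorProduct.lmul' K xB = 0
    apply Subtype.val_injective
    rw [← hμι, hιx, hx]
    rfl
  have hkey : ∀ z ∈ Ideal.span (Set.range fun s : B => (1 : B) ⊗ₜ[K] s - s ⊗ₜ[K] (1 : B)),
      z * t = 0 := by
    intro z hz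
    induction hz using Submodule.span_induction with
    | mem u hu =>
      obtain ⟨s, rfl⟩ := hu
      exact ht1 s
    | zero => rw [zero_mul]
    | add u v _ _ hu hv => rw [add_mul, hu, hv, add_zero]
    | smul c u _ hu => rw [smul_eq_mul, mul_assoc, hu, mul_zero]
  have hkill : xB * t = 0 := by
    rw [← KaehlerDifferential.span_range_eq_ideal] at hxB
    exact hkey xB hxB
  refine ⟨ι (1 - t), ?_, ?_⟩
  · rw [hμι, map_sub, map_one, ht2, sub_self]
    rfl
  · rw [← hιx, ← map_mul, mul_sub, mul_one, hkill, sub_zero]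

theorem weaklyEtale_of_isSeparable (K A : Type*) [Field K] [CommRing A] [Algebra K A]
    [Algebra.IsSeparable K A] : Algebra.WeaklyEtale K A where
  flat := inferInstance
  flat_lmul' := by
    apply flat_lmul'_of_pure
    apply pure_of_forall_exists_eq_mul
    intro x hx
    obtain ⟨y, hy, hxy⟩ := exists_eq_mul_of_isSeparable x hx
    exact ⟨y, hy, hxy⟩

theorem weaklyEtale_iff_isSeparable (K A : Type*) [Field K] [CommRing A] [Algebra K A] :
    Algebra.WeaklyEtale K A ↔ Algebra.IsSeparable K A :=
  ⟨fun _ => algebra_isSeparable_of_weaklyEtale K A, fun _ => weaklyEtale_of_isSeparable K A⟩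


theorem etale_of_adjoin_eq_top {K A : Type*} [Field K] [CommRing A] [Algebra K A]
    {s : Set A} (hfin : s.Finite) (hs : Algebra.adjoin K s = ⊤)
    (hsep : ∀ b ∈ s, IsSeparable K b) : Algebra.Etale K A := by
  have h1 : Algebra.FormallyUnramified K A := formallyUnramified_of_adjoin_eq_top hs hsep
  have h0 : Algebra.FiniteType K A := ⟨hfin.toFinset, by rw [Set.Finite.coe_toFinset, hs]⟩
  have h2 : Algebra.FormallyEtale K A := Algebra.FormallyEtale.of_formallyUnramified_of_field K A
  have h3 : Algebra.FinitePresentation K A := Algebra.FinitePresentation.of_finiteType.mp h0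
  exact ⟨h2, h3⟩

theorem isSeparable_val_iff {K A : Type*} [Field K] [CommRing A] [Algebra K A]
    (S : Subalgebra K A) (x : S) : IsSeparable K (x : A) ↔ IsSeparable K x := by
  unfold IsSeparable
  have : minpoly K (x : A) = minpoly K x := minpoly.algHom_eq S.val Subtype.val_injective x
  rw [this]

theorem etale_adjoin_of_isSeparable {K A : Type*} [Field K] [CommRing A] [Algebra K A]
    {s : Set A} (hfin : s.Finite) (hsep : ∀ b ∈ s, IsSeparable K b) :
    Algebra.Etale K (Algebra.adjoin K s) := by
  apply etale_of_adjoin_eq_top (s := ((↑) : Algebra.adjoin K s → A) ⁻¹' s)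
  · exact hfin.preimage Subtype.val_injective.injOn
  · exact Algebra.adjoin_adjoin_coe_preimage
  · intro b hb
    exact (isSeparable_val_iff _ b).mp (hsep _ hb)

theorem isSeparable_of_mem_adjoin_finite {K A : Type*} [Field K] [CommRing A] [Algebra K A]
    {s : Set A} (hfin : s.Finite) (hsep : ∀ b ∈ s, IsSeparable K b) {x : A}
    (hx : x ∈ Algebra.adjoin K s) : IsSeparable K x := by
  have := etale_adjoin_of_isSeparable hfin hsep
  have h := isSeparable_of_weaklyEtale (K := K) (A := Algebra.adjoin K s) ⟨x, hx⟩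
  exact (isSeparable_val_iff _ ⟨x, hx⟩).mpr h

theorem isSeparable_of_mem_adjoin {K A : Type*} [Field K] [CommRing A] [Algebra K A]
    {s : Set A} (hsep : ∀ b ∈ s, IsSeparable K b) {x : A}
    (hx : x ∈ Algebra.adjoin K s) : IsSeparable K x := by
  induction hx using Algebra.adjoin_induction with
  | mem x hx => exact hsep x hx
  | algebraMap r => exact isSeparable_algebraMap r
  | add x y _ _ hx hy =>
    apply isSeparable_of_mem_adjoin_finite (s := {x, y}) (Set.toFinite _)
    · intro b hb
      rcases hb with rfl | rfl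
      · exact hx
      · exact hy
    · exact add_mem (Algebra.subset_adjoin (by simp)) (Algebra.subset_adjoin (by simp))
  | mul x y _ _ hx hy =>
    apply isSeparable_of_mem_adjoin_finite (s := {x, y}) (Set.toFinite _)
    · intro b hb
      rcases hb with rfl | rfl
      · exact hx
      · exact hy
    · exact mul_mem (Algebra.subset_adjoin (by simp)) (Algebra.subset_adjoin (by simp))

theorem isSeparable_subalgebra_of_forall {K A : Type*} [Field K] [CommRing A] [Algebra K A]
    (S : Subalgebra K A) (h : ∀ x ∈ S, IsSeparable K x) : Algebra.IsSeparable K S :=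
  ⟨fun x => (isSeparable_val_iff S x).mp (h x x.2)⟩

theorem isSeparable_sSup {K A : Type*} [Field K] [CommRing A] [Algebra K A]
    (𝒮 : Set (Subalgebra K A)) (h : ∀ S ∈ 𝒮, Algebra.WeaklyEtale K S) :
    Algebra.IsSeparable K (sSup 𝒮 : Subalgebra K A) := by
  apply isSeparable_subalgebra_of_forall
  intro x hx
  rw [Algebra.sSup_def] at hx
  refine isSeparable_of_mem_adjoin ?_ hx
  rintro b ⟨_, ⟨S, hS, rfl⟩, hb⟩
  have := h S hS
  exact (isSeparable_val_iff S ⟨b, hb⟩).mpr (isSeparable_of_weaklyEtale (K := K) (A := S) ⟨b, hb⟩)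

theorem weaklyEtale_sSup {K A : Type*} [Field K] [CommRing A] [Algebra K A]
    (𝒮 : Set (Subalgebra K A)) (h : ∀ S ∈ 𝒮, Algebra.WeaklyEtale K S) :
    Algebra.WeaklyEtale K (sSup 𝒮 : Subalgebra K A) := by
  have := isSeparable_sSup 𝒮 h
  exact weaklyEtale_of_isSeparable K _

theorem weaklyEtale_subalgebra {K A : Type*} [Field K] [CommRing A] [Algebra K A]
    [Algebra.WeaklyEtale K A] (S : Subalgebra K A) : Algebra.WeaklyEtale K S := by
  have := algebra_isSeparable_of_weaklyEtale K A
  have := isSeparable_of_injective S.val Subtype.val_injective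
  exact weaklyEtale_of_isSeparable K S

theorem weaklyEtale_of_surjective {K A B : Type*} [Field K] [CommRing A] [CommRing B]
    [Algebra K A] [Algebra K B] [Algebra.WeaklyEtale K A] (f : A →ₐ[K] B)
    (hf : Function.Surjective f) : Algebra.WeaklyEtale K B := by
  have := algebra_isSeparable_of_weaklyEtale K A
  have := isSeparable_of_surjective f hf
  exact weaklyEtale_of_isSeparable K B

theorem etale_subalgebra_of_fg {K A : Type*} [Field K] [CommRing A] [Algebra K A]
    [Algebra.WeaklyEtale K A] (S : Subalgebra K A) (hS : S.FG) : Algebra.Etale K S := by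
  have := algebra_isSeparable_of_weaklyEtale K A
  have := isSeparable_of_injective S.val Subtype.val_injective
  have : Algebra.FiniteType K S := (Subalgebra.fg_iff_finiteType S).mp hS
  exact etale_of_isSeparable_of_finiteType K S

theorem isSeparable_map_of_isSeparable {K A B : Type*} [Field K] [CommRing A] [CommRing B]
    [Algebra K A] [Algebra K B] (f : A →ₐ[K] B) {a : A} (ha : IsSeparable K a) :
    IsSeparable K (f a) := by
  have hdvd : minpoly K (f a) ∣ minpoly K a := by
    apply minpoly.dvd
    rw [Polynomial.aeval_algHom_apply, minpoly.aeval, map_zero]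
  exact Polynomial.Separable.of_dvd ha hdvd

theorem isSeparable_algebraMap_of_weaklyEtale (A B : Type*) [CommRing A] [CommRing B] [Algebra A B]
    [Algebra.WeaklyEtale A B] (K L : Type*) [Field K] [Field L] [Algebra A K] [Algebra K L]
    [Algebra A L] [Algebra B L] [IsScalarTower A K L] [IsScalarTower A B L] (b : B) :
    IsSeparable K (algebraMap B L b) := by
  let φ : K ⊗[A] B →ₐ[K] L :=
    Algebra.TensorProduct.lift (Algebra.ofId K L) (IsScalarTower.toAlgHom A B L)
      (fun _ _ => Commute.all _ _)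
  have h1 : IsSeparable K ((1 : K) ⊗ₜ[A] b) := isSeparable_of_weaklyEtale (K := K) (A := K ⊗[A] B) _
  have h2 := isSeparable_map_of_isSeparable φ h1
  have h3 : φ ((1 : K) ⊗ₜ[A] b) = algebraMap B L b := by
    simp [φ]
  rwa [h3] at h2

theorem residueField_isSeparable_of_weaklyEtale (A B : Type*) [CommRing A] [CommRing B] [Algebra A B]
    [Algebra.WeaklyEtale A B] (p : Ideal A) [p.IsPrime] (q : Ideal B) [q.IsPrime] [q.LiesOver p]
    [Algebra (Localization.AtPrime p) (Localization.AtPrime q)]
    [Localization.AtPrime.IsLiesOverAlgebra p q] :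
    Algebra.IsSeparable p.ResidueField q.ResidueField := by
  refine ⟨fun x => ?_⟩
  obtain ⟨y, rfl⟩ := IsLocalRing.residue_surjective x
  obtain ⟨b, s, rfl⟩ := IsLocalization.exists_mk'_eq q.primeCompl y
  have hb := isSeparable_algebraMap_of_weaklyEtale A B p.ResidueField q.ResidueField b
  have hs := isSeparable_algebraMap_of_weaklyEtale A B p.ResidueField q.ResidueField (s : B)
  have heq : IsLocalRing.residue (Localization.AtPrime q) (IsLocalization.mk' _ b s) =
      algebraMap B q.ResidueField b * (algebraMap B q.ResidueField (s : B))⁻¹ := by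
    have hne : algebraMap B q.ResidueField (s : B) ≠ 0 := by
      intro h0
      exact s.2 (Ideal.algebraMap_residueField_eq_zero.mp h0)
    rw [eq_mul_inv_iff_mul_eq₀ hne]
    have h1 : algebraMap B q.ResidueField (s : B) =
        IsLocalRing.residue (Localization.AtPrime q) (algebraMap B (Localization.AtPrime q) s) := rfl
    have h2 : algebraMap B q.ResidueField b =
        IsLocalRing.residue (Localization.AtPrime q) (algebraMap B (Localization.AtPrime q) b) := rfl
    rw [h1, h2, ← map_mul, IsLocalization.mk'_spec]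
  rw [heq]
  exact Field.isSeparable_mul hb (Field.isSeparable_inv hs)

theorem mem_sSup_weaklyEtale_iff {K A : Type*} [Field K] [CommRing A] [Algebra K A] (a : A) :
    a ∈ sSup {S : Subalgebra K A | Algebra.WeaklyEtale K S} ↔ IsSeparable K a := by
  constructor
  · intro ha
    have := isSeparable_sSup {S : Subalgebra K A | Algebra.WeaklyEtale K S} (fun S hS => hS)
    exact (isSeparable_val_iff _ ⟨a, ha⟩).mpr (Algebra.IsSeparable.isSeparable K _)
  · intro ha
    have h1 : Algebra.Etale K (Algebra.adjoin K ({a} : Set A)) :=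
      etale_adjoin_of_isSeparable (Set.finite_singleton a) (by rintro b rfl; exact ha)
    have h2 : Algebra.adjoin K ({a} : Set A) ≤ sSup {S : Subalgebra K A | Algebra.WeaklyEtale K S} :=
      le_sSup (show Algebra.WeaklyEtale K (Algebra.adjoin K ({a} : Set A)) from inferInstance)
    exact h2 (Algebra.subset_adjoin rfl)

theorem isSeparable_of_aeval_eq_zero {K A : Type*} [Field K] [CommRing A] [Algebra K A] {a : A}
    {g : Polynomial K} (hg : g.Separable) (ha : Polynomial.aeval a g = 0) : IsSeparable K a :=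
  Polynomial.Separable.of_dvd hg (minpoly.dvd K a ha)

end Groth.Agent.Lib.Helper27.WeaklyEtaleField
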