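import Groth.Agent.S1728
import Mathlib.Algebra.Category.ModuleCat.EnoughInjectives
import Mathlib.Algebra.Category.ModuleCat.Injective
import Mathlib.LinearAlgebra.Projection

set_option autoImplicit false
universe u

namespace Groth.Agent.Lib.Helper27.InjHullLib

variable {R : Type u} [CommRing R] {I : Type u} [AddCommGroup I] [Module R I]

def Ess (A B : Submodule R I) : Prop :=
  A ≤ B ∧ ∀ N : Submodule R I, N ≤ B → N ≠ ⊥ → N ⊓ A ≠ ⊥

lemma Ess.refl (A : Submodule R I) : Ess A A :=
  ⟨le_rfl, fun N hN hne h => hne (by rwa [inf_eq_left.mpr hN] at h)⟩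

lemma Ess.trans {A B C : Submodule R I} (h1 : Ess A B) (h2 : Ess B C) : Ess A C := by
  refine ⟨h1.1.trans h2.1, fun N hN hne => ?_⟩
  have h3 := h2.2 N hN hne
  have h4 := h1.2 (N ⊓ B) inf_le_right h3
  intro h5
  apply h4
  rw [eq_bot_iff] at h5 ⊢
  exact le_trans (inf_le_inf_right _ inf_le_left) h5

lemma Ess.exists_smul {A B : Submodule R I} (h : Ess A B) {x : I} (hx : x ∈ B) (hx0 : x ≠ 0) :
    ∃ r : R, r • x ≠ 0 ∧ r • x ∈ A := by
  have h1 : (R ∙ x) ≤ B := (Submodule.span_singleton_le_iff_mem x B).mpr hx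
  have h2 : (R ∙ x) ≠ ⊥ := by
    rw [Ne, Submodule.span_singleton_eq_bot]; exact hx0
  have h3 := h.2 _ h1 h2
  rw [Ne, Submodule.eq_bot_iff] at h3
  push Not at h3
  obtain ⟨y, ⟨hy1, hy2⟩, hy0⟩ := h3
  obtain ⟨r, rfl⟩ := Submodule.mem_span_singleton.mp hy1
  exact ⟨r, hy0, hy2⟩

lemma ess_of_forall {A B : Submodule R I} (hAB : A ≤ B)
    (h : ∀ x ∈ B, x ≠ 0 → ∃ r : R, r • x ≠ 0 ∧ r • x ∈ A) : Ess A B := by
  refine ⟨hAB, fun N hN hne hbot => ?_⟩
  obtain ⟨x, hxN, hx0⟩ := (Submodule.ne_bot_iff N).mp hne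
  obtain ⟨r, hr0, hrA⟩ := h x (hN hxN) hx0
  apply hr0
  have : r • x ∈ N ⊓ A := ⟨N.smul_mem r hxN, hrA⟩
  rw [hbot] at this
  exact this

lemma exists_max_ess (A : Submodule R I) :
    ∃ E : Submodule R I, Ess A E ∧ ∀ E' : Submodule R I, Ess A E' → E ≤ E' → E' = E := by
  obtain ⟨E, hAE, hE⟩ := zorn_le_nonempty₀ {E : Submodule R I | Ess A E} (by
    intro c hc hchain y hy
    refine ⟨sSup c, ?_, fun z hz => le_sSup hz⟩
    refine ess_of_forall ((hc hy).1.trans (le_sSup hy)) ?_
    intro x hx hx0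
    rw [Submodule.mem_sSup_of_directed ⟨y, hy⟩ hchain.directedOn] at hx
    obtain ⟨B, hB, hxB⟩ := hx
    exact (hc hB).exists_smul hxB hx0) A (Ess.refl A)
  exact ⟨E, hE.1, fun E' hE' hle => le_antisymm (hE.2 hE' hle) hle⟩

theorem exists_injective_ess [Module.Injective R I] (A : Submodule R I) :
    ∃ E : Submodule R I, Ess A E ∧ Module.Injective R E := by
  obtain ⟨E, hAE, hmax⟩ := exists_max_ess A
  refine ⟨E, hAE, ?_⟩
  rw [Groth.Agent.S1728.result R I E]
  intro E' hEE' hess
  exact hmax E' (hAE.trans ⟨hEE', hess⟩) hEE'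

theorem exists_isCompl_of_injective {E : Type u} [AddCommGroup E] [Module R E]
    (hE : Module.Injective R E) (α : E →ₗ[R] I) (hα : Function.Injective α) :
    ∃ I' : Submodule R I, IsCompl (LinearMap.range α) I' := by
  obtain ⟨r, hr⟩ := Module.Injective.extension_property R E E I α hα LinearMap.id
  let f : I →ₗ[R] LinearMap.range α := α.rangeRestrict ∘ₗ r
  refine ⟨LinearMap.ker f, LinearMap.isCompl_of_proj (f := f) ?_⟩
  rintro ⟨_, e, rfl⟩
  apply Subtype.ext
  change α (r (α e)) = α e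
  have := LinearMap.congr_fun hr e
  simp only [LinearMap.comp_apply, LinearMap.id_apply] at this
  rw [this]

theorem exists_isCompl_of_injective_submodule (E : Submodule R I)
    (hE : Module.Injective R E) : ∃ I' : Submodule R I, IsCompl E I' := by
  obtain ⟨I', h⟩ := exists_isCompl_of_injective hE E.subtype E.injective_subtype
  rw [Submodule.range_subtype] at h
  exact ⟨I', h⟩

section Prelude

variable {M E : Type u} [AddCommGroup M] [Module R M] [AddCommGroup E] [Module R E]

lemma isEssentialInj_iff_ess (f : M →ₗ[R] E) :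
    InjHull.IsEssentialInj f ↔ Function.Injective f ∧ Ess (LinearMap.range f) ⊤ := by
  constructor
  · intro h
    exact ⟨h.injective, le_top, fun N _ hne => h.essential N hne⟩
  · rintro ⟨h1, h2⟩
    exact ⟨h1, fun N hne => h2.2 N le_top hne⟩

lemma IsEssentialInj.exists_smul {f : M →ₗ[R] E} (h : InjHull.IsEssentialInj f) {x : E}
    (hx : x ≠ 0) : ∃ (r : R) (m : M), r • x ≠ 0 ∧ f m = r • x := by
  obtain ⟨r, hr, m, hm⟩ := ((isEssentialInj_iff_ess f).mp h).2.exists_smul
    (Submodule.mem_top) hx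
  exact ⟨r, m, hr, hm⟩

lemma isEssentialInj_of_forall {f : M →ₗ[R] E} (hf : Function.Injective f)
    (h : ∀ x : E, x ≠ 0 → ∃ (r : R) (m : M), r • x ≠ 0 ∧ f m = r • x) :
    InjHull.IsEssentialInj f := by
  rw [isEssentialInj_iff_ess]
  refine ⟨hf, ess_of_forall le_top fun x _ hx => ?_⟩
  obtain ⟨r, m, hr, hm⟩ := h x hx
  exact ⟨r, hr, m, hm⟩

lemma injective_of_comp_injective {f : M →ₗ[R] E} (h : InjHull.IsEssentialInj f)
    (α : E →ₗ[R] I) (hα : Function.Injective (α ∘ₗ f)) : Function.Injective α := by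
  rw [← LinearMap.ker_eq_bot, Submodule.eq_bot_iff]
  intro x hx
  by_contra hx0
  obtain ⟨r, m, hr, hm⟩ := IsEssentialInj.exists_smul h hx0
  apply hr
  have h1 : α (f m) = 0 := by
    rw [hm, map_smul, LinearMap.mem_ker.mp hx, smul_zero]
  have h2 : m = 0 := hα (by simpa using h1)
  rw [← hm, h2, map_zero]

theorem exists_injective_embedding (M : Type u) [AddCommGroup M] [Module R M] :
    ∃ (J : Type u) (_ : AddCommGroup J) (_ : Module R J) (i : M →ₗ[R] J),
      Module.Injective R J ∧ Function.Injective i := by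
  let X := CategoryTheory.Injective.under (ModuleCat.of R M)
  refine ⟨X, inferInstance, inferInstance, (CategoryTheory.Injective.ι (ModuleCat.of R M)).hom,
    ?_, ?_⟩
  · haveI : CategoryTheory.Injective (ModuleCat.of R X) :=
      inferInstanceAs (CategoryTheory.Injective X)
    exact Module.injective_module_of_injective_object R X
  · exact (ModuleCat.mono_iff_injective _).mp inferInstance

theorem exists_hull_in (M : Type u) [AddCommGroup M] [Module R M]
    [Module.Injective R I] (i : M →ₗ[R] I) (hi : Function.Injective i) :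
    ∃ (E : Submodule R I) (f : M →ₗ[R] E), E.subtype ∘ₗ f = i ∧ InjHull.IsInjectiveHull f := by
  obtain ⟨E, hE, hinj⟩ := exists_injective_ess (LinearMap.range i)
  have hmem : ∀ m, i m ∈ E := fun m => hE.1 ⟨m, rfl⟩
  refine ⟨E, LinearMap.codRestrict E i hmem, by ext m; rfl, ?_⟩
  refine { toIsEssentialInj := ?_, isInjective := hinj }
  refine isEssentialInj_of_forall ?_ ?_
  · intro a b hab
    apply hi
    exact congrArg Subtype.val hab
  · intro x hx
    have hx' : (x : I) ≠ 0 := fun h => hx (Subtype.ext h)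
    obtain ⟨r, hr, m, hm⟩ := hE.exists_smul x.2 hx'
    refine ⟨r, m, fun h => hr ?_, Subtype.ext hm⟩
    have := congrArg Subtype.val h
    simpa using this

end Prelude

end Groth.Agent.Lib.Helper27.InjHullLib
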