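import Mathlib
import Groth.Agent.Lib.Helper27.PopescuC
import Groth.Agent.Lib.Helper27.SmoothSection
import Groth.Agent.Lib.Helper49.GRingLocal
import Groth.Agent.Lib.Helper76.ComplFacts
import Groth.Agent.S0543

set_option autoImplicit false
universe u

namespace Helper27.ArtinApprox

open IsLocalRing AdicCompletion MvPolynomial

section

variable {R : Type*} [CommRing R] (I : Ideal R)

theorem evalOneₐ_eq_zero_iff (hI : I.FG) (x : AdicCompletion I R) :
    evalOneₐ I x = 0 ↔ x ∈ I.map (algebraMap R (AdicCompletion I R)) := by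
  have hker : ∀ y ∈ I.map (algebraMap R (AdicCompletion I R)), evalOneₐ I y = 0 := by
    intro y hy
    have hle : I.map (algebraMap R (AdicCompletion I R)) ≤
        RingHom.ker (evalOneₐ I : AdicCompletion I R →+* R ⧸ I) := by
      rw [Ideal.map_le_iff_le_comap]
      intro r hr
      rw [Ideal.mem_comap, RingHom.mem_ker]
      show evalOneₐ I (algebraMap R (AdicCompletion I R) r) = 0
      rw [AlgHom.commutes, Ideal.Quotient.algebraMap_eq, Ideal.Quotient.eq_zero_iff_mem]
      exact hr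
    exact hle hy
  obtain ⟨r, hr⟩ := Groth.Agent.Lib.Helper76.ComplFacts.exists_sub_mem I hI 1 x
  rw [pow_one] at hr
  have hx : x = (x - algebraMap R (AdicCompletion I R) r) +
      algebraMap R (AdicCompletion I R) r := by ring
  have h1 : evalOneₐ I x = Ideal.Quotient.mk I r := by
    rw [hx, map_add, hker _ hr, zero_add, AlgHom.commutes, Ideal.Quotient.algebraMap_eq]
  constructor
  · intro h0
    rw [h1, Ideal.Quotient.eq_zero_iff_mem] at h0
    rw [hx]
    exact Ideal.add_mem _ hr (Ideal.mem_map_of_mem _ h0)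
  · exact hker x

theorem factor_evalₐ (hI : I.FG) (n : ℕ) (hn : n ≠ 0) (x : AdicCompletion I R) :
    Ideal.Quotient.factor (Ideal.pow_le_self hn) (evalₐ I n x) = evalOneₐ I x := by
  obtain ⟨r, hr⟩ := Groth.Agent.Lib.Helper76.ComplFacts.exists_sub_mem I hI n x
  have hd1 : evalₐ I n (x - algebraMap R (AdicCompletion I R) r) = 0 := by
    have : x - algebraMap R (AdicCompletion I R) r ∈
        RingHom.ker (evalₐ I n : AdicCompletion I R →+* R ⧸ I ^ n) := by
      rw [Groth.Agent.Lib.Helper76.ComplFacts.ker_evalₐ I hI]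
      exact hr
    exact this
  have hd2 : evalOneₐ I (x - algebraMap R (AdicCompletion I R) r) = 0 :=
    (evalOneₐ_eq_zero_iff I hI _).mpr (Ideal.pow_le_self hn hr)
  have e1 : evalₐ I n x = Ideal.Quotient.mk _ r := by
    rw [map_sub, sub_eq_zero] at hd1
    rw [hd1, AlgHom.commutes, Ideal.Quotient.algebraMap_eq]
  have e2 : evalOneₐ I x = Ideal.Quotient.mk _ r := by
    rw [map_sub, sub_eq_zero] at hd2
    rw [hd2, AlgHom.commutes, Ideal.Quotient.algebraMap_eq]
  rw [e1, e2, Ideal.Quotient.factor_mk]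

end

set_option maxHeartbeats 1000000 in
theorem main {R : Type u} [CommRing R] [IsLocalRing R] (hG : CAlg.IsGRing R)
    {n m : ℕ} (F : Fin m → MvPolynomial (Fin n) R)
    (a : Fin n → AdicCompletion (IsLocalRing.maximalIdeal R) R)
    (ha : ∀ j, MvPolynomial.aeval a (F j) = 0) (N : ℕ) :
    ∃ (R' : Type u) (_ : CommRing R') (_ : Algebra R R'), Algebra.Etale R R' ∧
      ∃ (ψ : R' →ₐ[R] AdicCompletion (IsLocalRing.maximalIdeal R) R) (m' : Ideal R'),
        m'.IsMaximal ∧
        m'.comap (algebraMap R R') = IsLocalRing.maximalIdeal R ∧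
        (∀ x : R', ∃ r : R, x - algebraMap R R' r ∈ m') ∧
        (∀ x ∈ m', ψ x ∈ (IsLocalRing.maximalIdeal R).map
          (algebraMap R (AdicCompletion (IsLocalRing.maximalIdeal R) R))) ∧
        ∃ b : Fin n → R', (∀ j, MvPolynomial.aeval b (F j) = 0) ∧
          ∀ i, a i - ψ (b i) ∈ (IsLocalRing.maximalIdeal R ^ N).map
            (algebraMap R (AdicCompletion (IsLocalRing.maximalIdeal R) R)) := by
  classical
  haveI : IsNoetherianRing R := hG.1
  haveI hNh : IsNoetherianRing (AdicCompletion (maximalIdeal R) R) :=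
    Groth.Agent.S0543.result R (maximalIdeal R)
  have hreg : CAlg.IsRegularHom R (AdicCompletion (maximalIdeal R) R) :=
    Groth.Agent.Lib.Helper49.GRingLocal.isRegularHom_cpl_of_isGRing R hG
  have hfg : (maximalIdeal R).FG := IsNoetherian.noetherian _
  haveI hfpA : Algebra.FinitePresentation R
      (MvPolynomial (Fin n) R ⧸ Ideal.span (Set.range F)) :=
    Algebra.FinitePresentation.quotient (Submodule.fg_span (Set.finite_range F))
  let f : (MvPolynomial (Fin n) R ⧸ Ideal.span (Set.range F)) →ₐ[R]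
      AdicCompletion (maximalIdeal R) R :=
    Ideal.Quotient.liftₐ _ (aeval a) (fun x hx => by
      have hle : Ideal.span (Set.range F) ≤
          RingHom.ker (aeval a : MvPolynomial (Fin n) R →ₐ[R]
            AdicCompletion (maximalIdeal R) R).toRingHom := by
        rw [Ideal.span_le]
        rintro _ ⟨j, rfl⟩
        exact ha j
      exact hle hx)
  have hf : ∀ p, f (Ideal.Quotient.mk _ p) = aeval a p := fun p => rfl
  obtain ⟨B, _, _, hsm, g, h, hgh⟩ := Helper27.Popescu.popescu hreg _ hfpA f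
  let σ : B →ₐ[R] R ⧸ maximalIdeal R ^ (N + 1) := (evalₐ (maximalIdeal R) (N + 1)).comp h
  obtain ⟨R', _, _, hEt, ψ₀, τ, hker, hψτ⟩ :=
    Groth.Agent.Lib.Helper27.SmoothSection.exists_etale_section (maximalIdeal R ^ (N + 1)) σ
  let fac : (R ⧸ maximalIdeal R ^ (N + 1)) →ₐ[R] R ⧸ maximalIdeal R :=
    Ideal.Quotient.factorₐ R (Ideal.pow_le_self (Nat.succ_ne_zero N))
  have hfacmk : ∀ r : R, fac (Ideal.Quotient.mk _ r) = Ideal.Quotient.mk _ r := fun r => rfl
  let ψ₁ : R' →ₐ[R] R ⧸ maximalIdeal R := fac.comp ψ₀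
  obtain ⟨ψ, hψ⟩ := Algebra.FormallySmooth.exists_adicCompletionEvalOneₐ_comp_eq
    (I := maximalIdeal R) ψ₁
  have hψ' : ∀ x, evalOneₐ (maximalIdeal R) (ψ x) = ψ₁ x := fun x => DFunLike.congr_fun hψ x
  have hnil : IsNilpotent (RingHom.ker (fac : (R ⧸ maximalIdeal R ^ (N + 1)) →+*
      R ⧸ maximalIdeal R)) := by
    refine ⟨N + 1, ?_⟩
    rw [Ideal.zero_eq_bot, eq_bot_iff]
    have hle : RingHom.ker (fac : (R ⧸ maximalIdeal R ^ (N + 1)) →+* R ⧸ maximalIdeal R) ≤
        (maximalIdeal R).map (Ideal.Quotient.mk (maximalIdeal R ^ (N + 1))) := by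
      intro y hy
      obtain ⟨r, rfl⟩ := Ideal.Quotient.mk_surjective y
      rw [RingHom.mem_ker] at hy
      have h1 : fac (Ideal.Quotient.mk _ r) = 0 := hy
      rw [hfacmk, Ideal.Quotient.eq_zero_iff_mem] at h1
      exact Ideal.mem_map_of_mem _ h1
    refine (Ideal.pow_right_mono hle (N + 1)).trans ?_
    rw [← Ideal.map_pow, Ideal.map_quotient_self]
  have hcompat : (evalₐ (maximalIdeal R) (N + 1)).comp ψ = ψ₀ := by
    apply Algebra.FormallyUnramified.lift_unique' fac hnil
    ext x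
    show fac (evalₐ (maximalIdeal R) (N + 1) (ψ x)) = fac (ψ₀ x)
    have h1 := factor_evalₐ (maximalIdeal R) hfg (N + 1) (Nat.succ_ne_zero N) (ψ x)
    rw [hψ'] at h1
    exact h1
  have hψ₁alg : ∀ r : R, ψ₁ (algebraMap R R' r) = Ideal.Quotient.mk _ r := fun r => by
    rw [AlgHom.commutes, Ideal.Quotient.algebraMap_eq]
  have hsurj : Function.Surjective ψ₁.toRingHom := by
    intro y
    obtain ⟨r, rfl⟩ := Ideal.Quotient.mk_surjective y
    exact ⟨algebraMap R R' r, hψ₁alg r⟩
  let θ : MvPolynomial (Fin n) R →ₐ[R] R' :=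
    τ.comp (g.comp (Ideal.Quotient.mkₐ R (Ideal.span (Set.range F))))
  have hθ : θ = aeval (fun i => θ (X i)) := MvPolynomial.aeval_unique θ
  letI : Field (R ⧸ maximalIdeal R) := Ideal.Quotient.field (maximalIdeal R)
  refine ⟨R', inferInstance, inferInstance, hEt, ψ, RingHom.ker ψ₁.toRingHom,
    RingHom.ker_isMaximal_of_surjective ψ₁.toRingHom hsurj, ?_, ?_, ?_,
    fun i => θ (X i), ?_, ?_⟩
  · ext r
    rw [Ideal.mem_comap, RingHom.mem_ker]
    show ψ₁ (algebraMap R R' r) = 0 ↔ _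
    rw [hψ₁alg, Ideal.Quotient.eq_zero_iff_mem]
  · intro x
    obtain ⟨r, hr⟩ := Ideal.Quotient.mk_surjective (ψ₁ x)
    refine ⟨r, ?_⟩
    rw [RingHom.mem_ker]
    show ψ₁ (x - algebraMap R R' r) = 0
    rw [map_sub, hψ₁alg, hr, sub_self]
  · intro x hx
    rw [RingHom.mem_ker] at hx
    have hx' : ψ₁ x = 0 := hx
    rw [← evalOneₐ_eq_zero_iff (maximalIdeal R) hfg, hψ', hx']
  · intro j
    rw [← hθ]
    show τ (g (Ideal.Quotient.mk _ (F j))) = 0
    rw [Ideal.Quotient.eq_zero_iff_mem.mpr (Ideal.subset_span (Set.mem_range_self j)), _root_.map_zero,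
      _root_.map_zero]
  · intro i
    have h1 : h (g (Ideal.Quotient.mk _ (X i))) = a i := by
      have := DFunLike.congr_fun hgh (Ideal.Quotient.mk _ (X i))
      rw [AlgHom.comp_apply, hf, aeval_X] at this
      exact this
    have h2 : evalₐ (maximalIdeal R) (N + 1) (ψ (θ (X i))) =
        evalₐ (maximalIdeal R) (N + 1) (a i) := by
      have h3 := DFunLike.congr_fun hcompat (θ (X i))
      rw [AlgHom.comp_apply] at h3
      rw [h3]
      have h4 := DFunLike.congr_fun hψτ (g (Ideal.Quotient.mk _ (X i)))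
      rw [AlgHom.comp_apply] at h4
      show ψ₀ (τ (g (Ideal.Quotient.mk _ (X i)))) = _
      rw [h4]
      show evalₐ (maximalIdeal R) (N + 1) (h (g (Ideal.Quotient.mk _ (X i)))) = _
      rw [h1]
    have h5 : a i - ψ (θ (X i)) ∈ RingHom.ker (evalₐ (maximalIdeal R) (N + 1) :
        AdicCompletion (maximalIdeal R) R →+* R ⧸ maximalIdeal R ^ (N + 1)) := by
      rw [RingHom.mem_ker]
      show evalₐ (maximalIdeal R) (N + 1) (a i - ψ (θ (X i))) = 0
      rw [map_sub, h2, sub_self]
    rw [Groth.Agent.Lib.Helper76.ComplFacts.ker_evalₐ _ hfg] at h5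
    rw [Ideal.map_pow]
    exact Ideal.pow_le_pow_right (Nat.le_succ N) h5

end Helper27.ArtinApprox
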