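import Mathlib
import Groth.Agent.Lib.Helper27.ArtinApproxA
import Groth.Agent.Lib.Helper56.CplLocalRegular

set_option autoImplicit false
universe u

namespace Helper27.ArtinApprox

open IsLocalRing AdicCompletion MvPolynomial TensorProduct

section

variable {R : Type u} [CommRing R] [IsNoetherianRing R] (p : Ideal R) [p.IsPrime]

local notation "Rp" => Localization.AtPrime p
local notation "𝔪" => maximalIdeal (Localization.AtPrime p)
local notation "Λ" => AdicCompletion (maximalIdeal (Localization.AtPrime p)) (Localization.AtPrime p)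

set_option maxHeartbeats 4000000 in
set_option synthInstance.maxHeartbeats 400000 in
theorem main_prime (hG : CAlg.IsGRing (Localization.AtPrime p)) {n m : ℕ}
    (F : Fin m → MvPolynomial (Fin n) R)
    (a : Fin n → AdicCompletion (IsLocalRing.maximalIdeal (Localization.AtPrime p))
      (Localization.AtPrime p))
    (ha : ∀ j, MvPolynomial.aeval a
      (MvPolynomial.map (algebraMap R (Localization.AtPrime p)) (F j)) = 0) (N : ℕ) :
    ∃ (R' : Type u) (_ : CommRing R') (_ : Algebra R R'), Algebra.Etale R R' ∧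
      ∃ (ψ : R' →+* AdicCompletion (IsLocalRing.maximalIdeal (Localization.AtPrime p))
          (Localization.AtPrime p))
        (p' : Ideal R'), p'.IsPrime ∧
        (∀ r : R, ψ (algebraMap R R' r) =
          algebraMap (Localization.AtPrime p) _ (algebraMap R (Localization.AtPrime p) r)) ∧
        p'.comap (algebraMap R R') = p ∧
        (∀ x : R', ∃ r s : R, s ∉ p ∧ algebraMap R R' s * x - algebraMap R R' r ∈ p') ∧
        (∀ x ∈ p', ψ x ∈ (IsLocalRing.maximalIdeal (Localization.AtPrime p)).map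
          (algebraMap (Localization.AtPrime p)
            (AdicCompletion (IsLocalRing.maximalIdeal (Localization.AtPrime p))
              (Localization.AtPrime p)))) ∧
        ∃ b : Fin n → R', (∀ j, MvPolynomial.aeval b (F j) = 0) ∧
          ∀ i, a i - ψ (b i) ∈ (IsLocalRing.maximalIdeal (Localization.AtPrime p) ^ N).map
            (algebraMap (Localization.AtPrime p)
              (AdicCompletion (IsLocalRing.maximalIdeal (Localization.AtPrime p))
                (Localization.AtPrime p))) := by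
  classical
  haveI hNp : IsNoetherianRing Rp := IsLocalization.isNoetherianRing p.primeCompl _ inferInstance
  haveI hNh : IsNoetherianRing Λ := Groth.Agent.S0543.result Rp 𝔪
  have hregp : CAlg.IsRegularHom Rp Λ :=
    Groth.Agent.Lib.Helper49.GRingLocal.isRegularHom_cpl_of_isGRing Rp hG
  have hregl : CAlg.IsRegularHom R Rp :=
    Groth.Agent.Lib.Helper56.isRegularHom_localization R p.primeCompl Rp
  have hreg : CAlg.IsRegularHom R Λ :=
    Groth.Agent.Lib.Helper56.isRegularHom_comp R Rp Λ hregl hregp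
      (fun q _ => Groth.Agent.Lib.Helper56.isNoetherianRing_fiber R Λ q)
  have hfg : (𝔪).FG := IsNoetherian.noetherian _
  haveI hfpA : Algebra.FinitePresentation R
      (MvPolynomial (Fin n) R ⧸ Ideal.span (Set.range F)) :=
    Algebra.FinitePresentation.quotient (Submodule.fg_span (Set.finite_range F))
  have ha' : ∀ j, aeval a (F j) = 0 := fun j => by
    rw [← MvPolynomial.aeval_map_algebraMap Rp]
    exact ha j
  let f : (MvPolynomial (Fin n) R ⧸ Ideal.span (Set.range F)) →ₐ[R] Λ :=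
    Ideal.Quotient.liftₐ _ (aeval a) (fun x hx => by
      have hle : Ideal.span (Set.range F) ≤
          RingHom.ker (aeval a : MvPolynomial (Fin n) R →ₐ[R] Λ).toRingHom := by
        rw [Ideal.span_le]
        rintro _ ⟨j, rfl⟩
        exact ha' j
      exact hle hx)
  have hf : ∀ q, f (Ideal.Quotient.mk _ q) = aeval a q := fun q => rfl
  obtain ⟨B, _, _, hsm, g, h, hgh⟩ := Helper27.Popescu.popescu hreg _ hfpA f
  let ev : Λ →ₐ[R] Rp ⧸ 𝔪 ^ (N + 1) := (evalₐ 𝔪 (N + 1)).restrictScalars R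
  let σ : B →ₐ[R] Rp ⧸ 𝔪 ^ (N + 1) := ev.comp h
  obtain ⟨k, π, hπ, -⟩ := (hsm.finitePresentation).out
  choose c hc using fun i : Fin k => Ideal.Quotient.mk_surjective (σ (π (X i)))
  obtain ⟨s₀, hs₀⟩ := IsLocalization.exist_integer_multiples_of_finite p.primeCompl c
  choose r hr using hs₀
  have hunit : IsUnit (algebraMap R Rp (s₀ : R)) := IsLocalization.map_units Rp s₀
  letI algR₁p : Algebra (Localization.Away (s₀ : R)) Rp :=
    (IsLocalization.Away.lift (s₀ : R) hunit).toAlgebra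
  haveI tow : IsScalarTower R (Localization.Away (s₀ : R)) Rp :=
    IsScalarTower.of_algebraMap_eq
      (fun x => (IsLocalization.Away.lift_eq (s₀ : R) hunit x).symm)
  let a₁ : Fin k → Localization.Away (s₀ : R) := fun i =>
    IsLocalization.mk' _ (r i) (⟨s₀, Submonoid.mem_powers _⟩ : Submonoid.powers (s₀ : R))
  have ha₁ : ∀ i, algebraMap (Localization.Away (s₀ : R)) Rp (a₁ i) = c i := by
    intro i
    have h1 : a₁ i * algebraMap R (Localization.Away (s₀ : R)) (s₀ : R) =
        algebraMap R (Localization.Away (s₀ : R)) (r i) := IsLocalization.mk'_spec _ _ _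
    have h2 := congrArg (algebraMap (Localization.Away (s₀ : R)) Rp) h1
    rw [map_mul, ← IsScalarTower.algebraMap_apply, ← IsScalarTower.algebraMap_apply, hr i,
      Algebra.smul_def, mul_comm] at h2
    exact (hunit.mul_right_inj).mp h2
  let I₁ : Ideal (Localization.Away (s₀ : R)) :=
    (𝔪 ^ (N + 1)).comap (algebraMap (Localization.Away (s₀ : R)) Rp)
  let ι : (Localization.Away (s₀ : R) ⧸ I₁) →ₐ[Localization.Away (s₀ : R)] Rp ⧸ 𝔪 ^ (N + 1) :=
    Ideal.quotientMapₐ (𝔪 ^ (N + 1)) (Algebra.ofId (Localization.Away (s₀ : R)) Rp) le_rfl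
  have hιinj : Function.Injective ι := Ideal.quotientMap_injective
  have hιmk : ∀ x : Localization.Away (s₀ : R), ι (Ideal.Quotient.mk I₁ x) =
      Ideal.Quotient.mk _ (algebraMap (Localization.Away (s₀ : R)) Rp x) := fun x => rfl
  let ev₁ : MvPolynomial (Fin k) R →ₐ[R] (Localization.Away (s₀ : R) ⧸ I₁) :=
    aeval (fun i => Ideal.Quotient.mk I₁ (a₁ i))
  have hcomp : (ι.restrictScalars R).comp ev₁ = σ.comp π := by
    apply MvPolynomial.algHom_ext
    intro i
    show ι (ev₁ (X i)) = σ (π (X i))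
    rw [show ev₁ (X i) = Ideal.Quotient.mk I₁ (a₁ i) from aeval_X _ i, hιmk, ha₁, hc i]
  have hker : ∀ q ∈ RingHom.ker π.toRingHom, ev₁ q = 0 := by
    intro q hq
    apply hιinj
    rw [_root_.map_zero]
    have h1 := DFunLike.congr_fun hcomp q
    have h2 : π q = 0 := hq
    rw [AlgHom.comp_apply, AlgHom.comp_apply, h2, _root_.map_zero] at h1
    exact h1
  let σB : B →ₐ[R] (Localization.Away (s₀ : R) ⧸ I₁) :=
    (Ideal.Quotient.liftₐ (RingHom.ker π.toRingHom) ev₁ hker).comp
      (Ideal.quotientKerAlgEquivOfSurjective hπ).symm.toAlgHom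
  have hσB : ∀ b : B, ι (σB b) = σ b := by
    intro b
    obtain ⟨q, rfl⟩ := hπ b
    have h1 : (Ideal.quotientKerAlgEquivOfSurjective hπ).symm (π q) =
        Ideal.Quotient.mk _ q := by
      rw [AlgEquiv.symm_apply_eq]
      rfl
    show ι (Ideal.Quotient.liftₐ _ ev₁ hker
      ((Ideal.quotientKerAlgEquivOfSurjective hπ).symm (π q))) = _
    rw [h1]
    exact DFunLike.congr_fun hcomp q
  let σ₁ : (Localization.Away (s₀ : R)) ⊗[R] B →ₐ[Localization.Away (s₀ : R)]
      (Localization.Away (s₀ : R) ⧸ I₁) :=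
    Algebra.TensorProduct.lift (Algebra.ofId _ _) σB (fun _ _ => Commute.all _ _)
  have hσ₁ : ∀ b : B, σ₁ (1 ⊗ₜ b) = σB b := by
    intro b
    show Algebra.TensorProduct.lift _ _ _ (1 ⊗ₜ b) = _
    rw [Algebra.TensorProduct.lift_tmul, map_one, one_mul]
  obtain ⟨R', instR', algR₁R', hEt₁, ψ₀, τ, hkerψ₀, hψτ⟩ :=
    Groth.Agent.Lib.Helper27.SmoothSection.exists_etale_section
      (A := Localization.Away (s₀ : R)) (B := (Localization.Away (s₀ : R)) ⊗[R] B) I₁ σ₁
  letI algRR' : Algebra R R' := Algebra.compHom R' (algebraMap R (Localization.Away (s₀ : R)))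
  haveI towR' : IsScalarTower R (Localization.Away (s₀ : R)) R' :=
    IsScalarTower.of_algebraMap_eq (fun _ => rfl)
  haveI hEtR₁ : Algebra.Etale R (Localization.Away (s₀ : R)) :=
    Algebra.Etale.of_isLocalizationAway (s₀ : R)
  haveI hEt : Algebra.Etale R R' := Algebra.Etale.comp R (Localization.Away (s₀ : R)) R'
  let fac : (Rp ⧸ 𝔪 ^ (N + 1)) →ₐ[R] Rp ⧸ 𝔪 :=
    (Ideal.Quotient.factorₐ Rp (Ideal.pow_le_self (Nat.succ_ne_zero N))).restrictScalars R
  have hfacmk : ∀ x : Rp, fac (Ideal.Quotient.mk _ x) = Ideal.Quotient.mk _ x := fun x => rfl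
  let ψ₁ : R' →ₐ[R] Rp ⧸ 𝔪 := fac.comp ((ι.restrictScalars R).comp (ψ₀.restrictScalars R))
  obtain ⟨ψ, hψ⟩ := Algebra.FormallySmooth.exists_adicCompletionEvalOneₐ_comp_eq
    (R := R) (A := R') (S := Rp) (I := 𝔪) ψ₁
  have hψ' : ∀ x, evalOneₐ 𝔪 (ψ x) = ψ₁ x := fun x => DFunLike.congr_fun hψ x
  have hnil : IsNilpotent (RingHom.ker (fac : (Rp ⧸ 𝔪 ^ (N + 1)) →+* Rp ⧸ 𝔪)) := by
    refine ⟨N + 1, ?_⟩
    rw [Ideal.zero_eq_bot, eq_bot_iff]
    have hle : RingHom.ker (fac : (Rp ⧸ 𝔪 ^ (N + 1)) →+* Rp ⧸ 𝔪) ≤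
        (𝔪).map (Ideal.Quotient.mk (𝔪 ^ (N + 1))) := by
      intro y hy
      obtain ⟨x, rfl⟩ := Ideal.Quotient.mk_surjective y
      rw [RingHom.mem_ker] at hy
      have h1 : fac (Ideal.Quotient.mk _ x) = 0 := hy
      rw [hfacmk, Ideal.Quotient.eq_zero_iff_mem] at h1
      exact Ideal.mem_map_of_mem _ h1
    refine (Ideal.pow_right_mono hle (N + 1)).trans ?_
    rw [← Ideal.map_pow, Ideal.map_quotient_self]
  have hcompat : ev.comp ψ = (ι.restrictScalars R).comp (ψ₀.restrictScalars R) := by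
    apply Algebra.FormallyUnramified.lift_unique' fac hnil
    ext x
    show fac (evalₐ 𝔪 (N + 1) (ψ x)) = fac (ι (ψ₀ x))
    have h1 := factor_evalₐ 𝔪 hfg (N + 1) (Nat.succ_ne_zero N) (ψ x)
    rw [hψ'] at h1
    exact h1
  have hψ₁alg : ∀ x : R, ψ₁ (algebraMap R R' x) = Ideal.Quotient.mk _ (algebraMap R Rp x) :=
    fun x => by
      rw [AlgHom.commutes, IsScalarTower.algebraMap_apply R Rp (Rp ⧸ 𝔪),
        Ideal.Quotient.algebraMap_eq]
  let θ : MvPolynomial (Fin n) R →ₐ[R] R' :=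
    (τ.restrictScalars R).comp (Algebra.TensorProduct.includeRight.comp
      (g.comp (Ideal.Quotient.mkₐ R (Ideal.span (Set.range F)))))
  have hθ : θ = aeval (fun i => θ (X i)) := MvPolynomial.aeval_unique θ
  have hθval : ∀ q, θ q = τ (1 ⊗ₜ g (Ideal.Quotient.mk _ q)) := fun q => rfl
  refine ⟨R', inferInstance, inferInstance, hEt, ψ.toRingHom, RingHom.ker ψ₁.toRingHom,
    RingHom.ker_isPrime ψ₁.toRingHom, ?_, ?_, ?_, ?_, fun i => θ (X i), ?_, ?_⟩
  · intro x
    show ψ (algebraMap R R' x) = _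
    rw [AlgHom.commutes, IsScalarTower.algebraMap_apply R Rp Λ]
  · ext x
    rw [Ideal.mem_comap, RingHom.mem_ker]
    show ψ₁ (algebraMap R R' x) = 0 ↔ _
    rw [hψ₁alg, Ideal.Quotient.eq_zero_iff_mem,
      IsLocalization.AtPrime.to_map_mem_maximal_iff Rp p x]
  · intro x
    obtain ⟨y, hy⟩ := Ideal.Quotient.mk_surjective (ψ₁ x)
    obtain ⟨r', s', hrs⟩ := IsLocalization.exists_mk'_eq p.primeCompl y
    refine ⟨r', s', s'.2, ?_⟩
    rw [RingHom.mem_ker]
    show ψ₁ (algebraMap R R' s' * x - algebraMap R R' r') = 0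
    rw [map_sub, map_mul, hψ₁alg, hψ₁alg, ← hy, ← map_mul, ← map_sub,
      Ideal.Quotient.eq_zero_iff_mem]
    have h1 : y * algebraMap R Rp s' = algebraMap R Rp r' := by
      rw [← hrs]
      exact IsLocalization.mk'_spec _ _ _
    rw [mul_comm, h1, sub_self]
    exact zero_mem _
  · intro x hx
    rw [RingHom.mem_ker] at hx
    have hx' : ψ₁ x = 0 := hx
    show ψ x ∈ _
    rw [← evalOneₐ_eq_zero_iff 𝔪 hfg, hψ', hx']
  · intro j
    rw [← hθ, hθval]
    rw [Ideal.Quotient.eq_zero_iff_mem.mpr (Ideal.subset_span (Set.mem_range_self j)), _root_.map_zero,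
      TensorProduct.tmul_zero, _root_.map_zero]
  · intro i
    have h1 : h (g (Ideal.Quotient.mk _ (X i))) = a i := by
      have := DFunLike.congr_fun hgh (Ideal.Quotient.mk _ (X i))
      rw [AlgHom.comp_apply, hf, aeval_X] at this
      exact this
    have h2 : evalₐ 𝔪 (N + 1) (ψ (θ (X i))) = evalₐ 𝔪 (N + 1) (a i) := by
      have h3 := DFunLike.congr_fun hcompat (θ (X i))
      have h3' : evalₐ 𝔪 (N + 1) (ψ (θ (X i))) = ι (ψ₀ (θ (X i))) := h3
      rw [h3', hθval]
      have h4 := DFunLike.congr_fun hψτ (1 ⊗ₜ g (Ideal.Quotient.mk _ (X i)))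
      rw [AlgHom.comp_apply] at h4
      rw [h4, hσ₁, hσB]
      show evalₐ 𝔪 (N + 1) (h (g (Ideal.Quotient.mk _ (X i)))) = _
      rw [h1]
    have h5 : a i - ψ (θ (X i)) ∈ RingHom.ker (evalₐ 𝔪 (N + 1) : Λ →+* Rp ⧸ 𝔪 ^ (N + 1)) := by
      rw [RingHom.mem_ker]
      show evalₐ 𝔪 (N + 1) (a i - ψ (θ (X i))) = 0
      rw [map_sub, h2, sub_self]
    rw [Groth.Agent.Lib.Helper76.ComplFacts.ker_evalₐ _ hfg] at h5
    rw [Ideal.map_pow]
    exact Ideal.pow_le_pow_right (Nat.le_succ N) h5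

end

end Helper27.ArtinApprox
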