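import Groth.Prelude.Def_W4c5normfunctorschNorm
import Mathlib.RingTheory.IsTensorProduct
import Mathlib.RingTheory.Norm.Basic
import Mathlib.Tactic

set_option autoImplicit false

universe u

open scoped TensorProduct

namespace Groth.Agent.Lib.Helper27.BcAlong

section Lin

variable {R : Type u} [CommRing R] {Q : Type u} [CommRing Q] [Algebra R Q]
  {X : Type u} [AddCommGroup X] [Module R X]
  {Y : Type u} [AddCommGroup Y] [Module R Y] [Module Q Y] [IsScalarTower R Q Y]
  (P : Type u) [CommRing P] [Algebra R P] [Algebra Q P] [IsScalarTower R Q P]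

theorem bcAlong_tmul (g : X →ₗ[R] Y) (p : P) (x : X) :
    PolLaw.bcAlong (Q := Q) g P (p ⊗ₜ[R] x) = p ⊗ₜ[Q] g x := by
  simp [PolLaw.bcAlong, LinearMap.liftBaseChange_tmul]

theorem bcAlong_comp_lTensor {X' : Type u} [AddCommGroup X'] [Module R X']
    (g : X →ₗ[R] Y) (h : X' →ₗ[R] X) (w : P ⊗[R] X') :
    PolLaw.bcAlong (Q := Q) (g ∘ₗ h) P w = PolLaw.bcAlong (Q := Q) g P (h.lTensor P w) := by
  induction w using TensorProduct.induction_on with
  | zero => simp
  | tmul p x => simp [bcAlong_tmul]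
  | add x y hx hy => simp only [map_add, hx, hy]

theorem lTensor_bcAlong {Z : Type u} [AddCommGroup Z] [Module R Z] [Module Q Z]
    [IsScalarTower R Q Z] (h : Y →ₗ[Q] Z) (g : X →ₗ[R] Y) (w : P ⊗[R] X) :
    h.lTensor P (PolLaw.bcAlong (Q := Q) g P w) = PolLaw.bcAlong (Q := Q) (h.restrictScalars R ∘ₗ g) P w := by
  induction w using TensorProduct.induction_on with
  | zero => simp
  | tmul p x => simp [bcAlong_tmul]
  | add x y hx hy => simp only [map_add, hx, hy]

end Lin

section Alg

variable {R : Type u} [CommRing R] {Q : Type u} [CommRing Q] [Algebra R Q]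
  {R' : Type u} [CommRing R'] [Algebra R R']
  {Q' : Type u} [CommRing Q'] [Algebra R Q'] [Algebra Q Q'] [Algebra R' Q']
  [IsScalarTower R Q Q'] [IsScalarTower R R' Q']
  (P : Type u) [CommRing P] [Algebra R P] [Algebra Q P] [IsScalarTower R Q P]

noncomputable def bcAlgHom : P ⊗[R] R' →ₐ[P] P ⊗[Q] Q' :=
  Algebra.TensorProduct.lift (Algebra.ofId P (P ⊗[Q] Q'))
    (((Algebra.TensorProduct.includeRight : Q' →ₐ[Q] P ⊗[Q] Q').restrictScalars R).comp
      (IsScalarTower.toAlgHom R R' Q'))
    (fun _ _ => Commute.all _ _)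

theorem bcAlgHom_apply (z : P ⊗[R] R') :
    bcAlgHom (Q := Q) (Q' := Q') P z =
      PolLaw.bcAlong (Q := Q) (IsScalarTower.toAlgHom R R' Q').toLinearMap P z := by
  induction z using TensorProduct.induction_on with
  | zero => simp
  | tmul p x =>
    rw [bcAlong_tmul, bcAlgHom, Algebra.TensorProduct.lift_tmul]
    simp [Algebra.ofId_apply, Algebra.TensorProduct.algebraMap_apply]
  | add x y hx hy => simp only [map_add, hx, hy]

theorem bcAlong_bijective [h : Algebra.IsPushout R Q R' Q'] :
    Function.Bijective (PolLaw.bcAlong (Q := Q) (IsScalarTower.toAlgHom R R' Q').toLinearMap P) := by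
  have h1 : ((IsScalarTower.toAlgHom R R' Q').toLinearMap.liftBaseChange Q) =
      (h.out.equiv : Q ⊗[R] R' ≃ₗ[Q] Q').toLinearMap := by
    refine LinearMap.ext fun x => ?_
    induction x using TensorProduct.induction_on with
    | zero => simp
    | tmul q x => simp [IsBaseChange.equiv_tmul, LinearMap.liftBaseChange_tmul]
    | add x y hx hy => simp only [map_add, hx, hy]
  unfold PolLaw.bcAlong
  rw [h1]
  have h2 : (h.out.equiv.toLinearMap.lTensor P) = (LinearEquiv.lTensor P h.out.equiv).toLinearMap := rfl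
  rw [h2]
  show Function.Bijective (⇑(LinearEquiv.lTensor P (h.out.equiv : Q ⊗[R] R' ≃ₗ[Q] Q')) ∘
    ⇑(TensorProduct.AlgebraTensorModule.cancelBaseChange R Q P P R').symm)
  exact (LinearEquiv.bijective (LinearEquiv.lTensor P (h.out.equiv : Q ⊗[R] R' ≃ₗ[Q] Q'))).comp
    (LinearEquiv.bijective (TensorProduct.AlgebraTensorModule.cancelBaseChange R Q P P R').symm)

theorem norm_bcAlong [h : Algebra.IsPushout R Q R' Q'] (z : P ⊗[R] R') :
    Algebra.norm P (PolLaw.bcAlong (Q := Q) (IsScalarTower.toAlgHom R R' Q').toLinearMap P z) =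
      Algebra.norm P z := by
  have hb : Function.Bijective (bcAlgHom (R := R) (R' := R') (Q := Q) (Q' := Q') P) := by
    have : (bcAlgHom (R := R) (R' := R') (Q := Q) (Q' := Q') P : P ⊗[R] R' → P ⊗[Q] Q') =
        PolLaw.bcAlong (Q := Q) (IsScalarTower.toAlgHom R R' Q').toLinearMap P :=
      funext (bcAlgHom_apply P)
    rw [this]
    exact bcAlong_bijective P
  have := Algebra.norm_eq_of_algEquiv (AlgEquiv.ofBijective _ hb) z
  rw [AlgEquiv.coe_ofBijective, bcAlgHom_apply] at this
  exact this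

end Alg

end Groth.Agent.Lib.Helper27.BcAlong
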