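import Mathlib

set_option autoImplicit false
universe u

namespace Helper27.ColimReg

open TensorProduct

section Module

variable {A₀ : Type u} [CommRing A₀] {ι : Type u} [Preorder ι] [IsDirectedOrder ι] [Nonempty ι]
  {N : ι → Type u} [∀ i, AddCommGroup (N i)] [∀ i, Module A₀ (N i)]
  (φ : ∀ i j, i ≤ j → N i →ₗ[A₀] N j)
  {L : Type u} [AddCommGroup L] [Module A₀ L] (γ : ∀ i, N i →ₗ[A₀] L)
  (hrefl : ∀ i x, φ i i le_rfl x = x)
  (hcomp : ∀ i j k (hij : i ≤ j) (hjk : j ≤ k) x,
    φ j k hjk (φ i j hij x) = φ i k (hij.trans hjk) x)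
  (hγ : ∀ i j (h : i ≤ j) x, γ j (φ i j h x) = γ i x)
  (hsurj : ∀ a : L, ∃ i x, γ i x = a)
  (hker : ∀ i x, γ i x = 0 → ∃ j, ∃ h : i ≤ j, φ i j h x = 0)

include hrefl hcomp hγ hsurj hker in
theorem tensor_cocone (M : Type u) [AddCommGroup M] [Module A₀ M] :
    (∀ z : M ⊗[A₀] L, ∃ i, ∃ w : M ⊗[A₀] N i, LinearMap.lTensor M (γ i) w = z) ∧
    (∀ i (w : M ⊗[A₀] N i), LinearMap.lTensor M (γ i) w = 0 →
      ∃ j, ∃ h : i ≤ j, LinearMap.lTensor M (φ i j h) w = 0) := by
  classical
  have : DirectedSystem N (fun i j h => φ i j h) :=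
    ⟨fun i x => hrefl i x, fun k j i hij hjk x => hcomp i j k hij hjk x⟩
  let Φ : Module.DirectLimit N φ →ₗ[A₀] L :=
    Module.DirectLimit.lift A₀ ι N φ γ (fun i j h x => hγ i j h x)
  have hΦinj : Function.Injective Φ := by
    rw [injective_iff_map_eq_zero]
    intro x hx
    obtain ⟨i, n, rfl⟩ := Module.DirectLimit.exists_of x
    have hx' : γ i n = 0 := by
      rw [← hx]
      exact (Module.DirectLimit.lift_of _ _ _).symm
    obtain ⟨j, h, hj⟩ := hker i n hx'
    rw [← Module.DirectLimit.of_f (hij := h), hj, map_zero]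
  have hΦsurj : Function.Surjective Φ := fun a => by
    obtain ⟨i, x, rfl⟩ := hsurj a
    exact ⟨Module.DirectLimit.of A₀ ι N φ i x, Module.DirectLimit.lift_of _ _ _⟩
  let e : Module.DirectLimit N φ ≃ₗ[A₀] L := LinearEquiv.ofBijective Φ ⟨hΦinj, hΦsurj⟩
  have he : ∀ i n, e (Module.DirectLimit.of A₀ ι N φ i n) = γ i n := fun i n => by
    change Module.DirectLimit.lift A₀ ι N φ γ (fun i j h x => hγ i j h x)
      (Module.DirectLimit.of A₀ ι N φ i n) = _
    exact Module.DirectLimit.lift_of _ _ _
  have key : ∀ i (w : M ⊗[A₀] N i), (LinearEquiv.lTensor M e)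
      ((TensorProduct.directLimitRight φ M).symm
        (Module.DirectLimit.of A₀ ι (fun i => M ⊗[A₀] N i)
          (fun i j h => LinearMap.lTensor M (φ i j h)) i w)) =
      LinearMap.lTensor M (γ i) w := by
    intro i w
    induction w using TensorProduct.induction_on with
    | zero => simp
    | tmul m n =>
      rw [TensorProduct.directLimitRight_symm_of_tmul, LinearEquiv.lTensor_tmul,
        LinearMap.lTensor_tmul, he]
    | add a b ha hb => simp only [map_add, ha, hb]
  constructor
  · intro z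
    obtain ⟨i, w, hw⟩ := Module.DirectLimit.exists_of
      (TensorProduct.directLimitRight φ M ((LinearEquiv.lTensor M e).symm z))
    refine ⟨i, w, ?_⟩
    rw [← key, hw, LinearEquiv.symm_apply_apply, LinearEquiv.apply_symm_apply]
  · intro i w hw
    have h0 : Module.DirectLimit.of A₀ ι (fun i => M ⊗[A₀] N i)
        (fun i j h => LinearMap.lTensor M (φ i j h)) i w = 0 := by
      apply (TensorProduct.directLimitRight φ M).symm.injective
      apply (LinearEquiv.lTensor M e).injective
      rw [key, hw, map_zero, map_zero]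
    exact Module.DirectLimit.of.zero_exact h0

include hrefl hcomp hγ hsurj hker in
theorem flat_of_cocone (hflat : ∀ i, Module.Flat A₀ (N i)) : Module.Flat A₀ L := by
  rw [Module.Flat.iff_rTensor_injective']
  intro I
  rw [injective_iff_map_eq_zero]
  intro z hz
  obtain ⟨hs, -⟩ := tensor_cocone φ γ hrefl hcomp hγ hsurj hker I
  obtain ⟨-, hk⟩ := tensor_cocone φ γ hrefl hcomp hγ hsurj hker A₀
  obtain ⟨i, w, rfl⟩ := hs z
  have h1 : LinearMap.lTensor A₀ (γ i) (LinearMap.rTensor (N i) I.subtype w) = 0 := by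
    rw [← LinearMap.comp_apply, LinearMap.lTensor_comp_rTensor, ← LinearMap.rTensor_comp_lTensor,
      LinearMap.comp_apply]
    exact hz
  obtain ⟨j, h, hj⟩ := hk i _ h1
  have h2 : LinearMap.rTensor (N j) I.subtype (LinearMap.lTensor I (φ i j h) w) = 0 := by
    rw [← LinearMap.comp_apply, LinearMap.rTensor_comp_lTensor, ← LinearMap.lTensor_comp_rTensor,
      LinearMap.comp_apply]
    exact hj
  have h3 : LinearMap.lTensor I (φ i j h) w = 0 := by
    have hinj := Module.Flat.rTensor_preserves_injective_linearMap (M := N j) I.subtype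
      Subtype.val_injective
    exact (injective_iff_map_eq_zero _).mp hinj _ h2
  have h4 : LinearMap.lTensor I (γ i) w =
      LinearMap.lTensor I (γ j) (LinearMap.lTensor I (φ i j h) w) := by
    rw [← LinearMap.comp_apply, ← LinearMap.lTensor_comp]
    congr 2
    ext x
    exact (hγ i j h x).symm
  rw [h4, h3, map_zero]

end Module

end Helper27.ColimReg
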