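import Mathlib
import Groth.Agent.Lib.Helper77.RegLimit3

set_option autoImplicit false
universe u

namespace Helper27.ColimReg

open IsLocalRing Groth.Agent.Lib.Helper77.RegLimit

section

variable (ι : Type u) [Preorder ι] [Nonempty ι] [IsDirectedOrder ι]
  (G : ι → Type u) [∀ i, CommRing (G i)]
  (f : ∀ i j, i ≤ j → G i →+* G j)
  {T : Type u} [CommRing T] (g : ∀ i, G i →+* T)
  (hcomp : ∀ i j k (hij : i ≤ j) (hjk : j ≤ k) x,
    f j k hjk (f i j hij x) = f i k (hij.trans hjk) x)
  (hg : ∀ i j (h : i ≤ j) x, g j (f i j h x) = g i x)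
  (hsurj : ∀ a : T, ∃ i x, g i x = a)
  (hker : ∀ i x, g i x = 0 → ∃ j, ∃ h : i ≤ j, f i j h x = 0)
  (P : Ideal T)

noncomputable abbrev stgPrime (i : ι) : Ideal (G i) := P.comap (g i)

instance stgPrime_isPrime [P.IsPrime] (i : ι) : (stgPrime ι G g P i).IsPrime :=
  Ideal.comap_isPrime _ _

include hg in
omit [Nonempty ι] [IsDirectedOrder ι] in
theorem stgPrime_eq (i j : ι) (h : i ≤ j) :
    stgPrime ι G g P i = (stgPrime ι G g P j).comap (f i j h) := by
  ext x
  simp only [stgPrime, Ideal.mem_comap]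
  rw [hg]

variable [P.IsPrime]

noncomputable abbrev stgRing (i : ι) : Type u := Localization.AtPrime (stgPrime ι G g P i)

noncomputable abbrev stgMap (i j : ι) (h : i ≤ j) :
    stgRing ι G g P i →+* stgRing ι G g P j :=
  Localization.localRingHom (stgPrime ι G g P i) (stgPrime ι G g P j) (f i j h)
    (stgPrime_eq ι G f g hg P i j h)

noncomputable abbrev stgTo (i : ι) : stgRing ι G g P i →+* Localization.AtPrime P :=
  Localization.localRingHom (stgPrime ι G g P i) P (g i) rfl

include hcomp hsurj hker in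
theorem isRegSystem_of_cocone (hreg : ∀ i, IsRegularRing (G i)) :
    IsRegSystem (stgRing ι G g P) (stgMap ι G f g hg P) (stgTo ι G g P) where
  reg i := isRegularRing_iff.mp (hreg i) (stgPrime ι G g P i)
  ρ_comp i j k hij hjk x := by
    have h1 : (stgMap ι G f g hg P j k hjk).comp (stgMap ι G f g hg P i j hij) =
        stgMap ι G f g hg P i k (hij.trans hjk) := by
      refine IsLocalization.ringHom_ext (stgPrime ι G g P i).primeCompl ?_
      ext a
      simp only [RingHom.comp_apply, Localization.localRingHom_to_map]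
      congr 1
      exact hcomp i j k hij hjk a
    exact congrArg (fun g => g x) h1
  ψ_ρ i j h x := by
    have h1 : (stgTo ι G g P j).comp (stgMap ι G f g hg P i j h) = stgTo ι G g P i := by
      refine IsLocalization.ringHom_ext (stgPrime ι G g P i).primeCompl ?_
      ext a
      simp only [RingHom.comp_apply, Localization.localRingHom_to_map]
      congr 1
      exact hg i j h a
    exact congrArg (fun g => g x) h1
  ψ_local i x hx := by
    haveI : IsLocalHom (stgTo ι G g P i) := Localization.isLocalHom_localRingHom _ _ _ _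
    exact isUnit_of_map_unit (stgTo ι G g P i) x hx
  surj b := by
    obtain ⟨a, s, rfl⟩ := IsLocalization.exists_mk'_eq P.primeCompl b
    obtain ⟨i, a', ha'⟩ := hsurj a
    obtain ⟨j, s', hs'⟩ := hsurj (s : T)
    obtain ⟨k, hik, hjk⟩ := exists_ge_ge i j
    have hs'' : f j k hjk s' ∈ (stgPrime ι G g P k).primeCompl := by
      show f j k hjk s' ∉ stgPrime ι G g P k
      rw [Ideal.mem_comap, hg, hs']
      exact s.2
    refine ⟨k, IsLocalization.mk' _ (f i k hik a') ⟨f j k hjk s', hs''⟩, ?_⟩
    rw [Localization.localRingHom_mk']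
    congr 1
    · rw [hg, ha']
    · ext
      simp only
      rw [hg, hs']
  ker i x hx := by
    obtain ⟨a, s, rfl⟩ := IsLocalization.exists_mk'_eq (stgPrime ι G g P i).primeCompl x
    rw [Localization.localRingHom_mk', IsLocalization.mk'_eq_zero_iff] at hx
    obtain ⟨t, ht⟩ := hx
    obtain ⟨j, t', ht'⟩ := hsurj (t : T)
    obtain ⟨k, hik, hjk⟩ := exists_ge_ge i j
    have h0 : g k (f j k hjk t' * f i k hik a) = 0 := by
      rw [map_mul, hg, hg, ht']
      exact ht
    obtain ⟨l, hkl, hl⟩ := hker k _ h0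
    refine ⟨l, hik.trans hkl, ?_⟩
    rw [Localization.localRingHom_mk', IsLocalization.mk'_eq_zero_iff]
    have htl : f k l hkl (f j k hjk t') ∈ (stgPrime ι G g P l).primeCompl := by
      show f k l hkl (f j k hjk t') ∉ stgPrime ι G g P l
      rw [Ideal.mem_comap, hg, hg, ht']
      exact t.2
    refine ⟨⟨_, htl⟩, ?_⟩
    simp only
    rw [map_mul] at hl
    rw [← hl]
    congr 1
    exact (hcomp i k l hik hkl a).symm

end

theorem isRegularRing_of_cocone (ι : Type u) [Preorder ι] [Nonempty ι] [IsDirectedOrder ι]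
    (G : ι → Type u) [∀ i, CommRing (G i)]
    (f : ∀ i j, i ≤ j → G i →+* G j)
    {T : Type u} [CommRing T] (g : ∀ i, G i →+* T)
    (hcomp : ∀ i j k (hij : i ≤ j) (hjk : j ≤ k) x,
      f j k hjk (f i j hij x) = f i k (hij.trans hjk) x)
    (hg : ∀ i j (h : i ≤ j) x, g j (f i j h x) = g i x)
    (hsurj : ∀ a : T, ∃ i x, g i x = a)
    (hker : ∀ i x, g i x = 0 → ∃ j, ∃ h : i ≤ j, f i j h x = 0)
    (hreg : ∀ i, IsRegularRing (G i)) [IsNoetherianRing T] : IsRegularRing T := by
  rw [isRegularRing_iff]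
  intro P hP
  exact main (Localization.AtPrime P) ι (stgRing ι G g P) (stgMap ι G f g hg P) (stgTo ι G g P)
    (isRegSystem_of_cocone ι G f g hcomp hg hsurj hker P hreg)

end Helper27.ColimReg
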