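import Mathlib
import Groth.Agent.Lib.Helper27.ColimRegA
import Groth.Agent.Lib.Helper27.ColimRegB

set_option autoImplicit false
universe u

namespace Helper27.ColimReg

open TensorProduct

structure IsCocone {A₀ : Type u} [CommRing A₀] {ι : Type u} [Preorder ι] (B : ι → Type u)
    [∀ i, CommRing (B i)] [∀ i, Algebra A₀ (B i)]
    (f : ∀ i j, i ≤ j → B i →ₐ[A₀] B j) {L : Type u} [CommRing L] [Algebra A₀ L]
    (γ : ∀ i, B i →ₐ[A₀] L) : Prop where
  refl : ∀ i x, f i i le_rfl x = x
  comp : ∀ i j k (hij : i ≤ j) (hjk : j ≤ k) x,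
    f j k hjk (f i j hij x) = f i k (hij.trans hjk) x
  compat : ∀ i j (h : i ≤ j) x, γ j (f i j h x) = γ i x
  surj : ∀ a : L, ∃ i x, γ i x = a
  ker : ∀ i x, γ i x = 0 → ∃ j, ∃ h : i ≤ j, f i j h x = 0

theorem map_eq_lTensor {A₀ K B C : Type u} [CommRing A₀] [CommRing K] [Algebra A₀ K]
    [CommRing B] [Algebra A₀ B] [CommRing C] [Algebra A₀ C] (g : B →ₐ[A₀] C) (x : K ⊗[A₀] B) :
    Algebra.TensorProduct.map (AlgHom.id K K) g x = LinearMap.lTensor K g.toLinearMap x := by
  induction x using TensorProduct.induction_on with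
  | zero => simp
  | tmul a b => simp
  | add a b ha hb => simp only [map_add, ha, hb]

section

variable {A₀ : Type u} [CommRing A₀] {ι : Type u} [Preorder ι] [IsDirectedOrder ι] [Nonempty ι]
  {B : ι → Type u} [∀ i, CommRing (B i)] [∀ i, Algebra A₀ (B i)]
  {f : ∀ i j, i ≤ j → B i →ₐ[A₀] B j} {L : Type u} [CommRing L] [Algebra A₀ L]
  {γ : ∀ i, B i →ₐ[A₀] L}

theorem IsCocone.flat (h : IsCocone B f γ) (hflat : ∀ i, Module.Flat A₀ (B i)) :
    Module.Flat A₀ L :=
  flat_of_cocone (fun i j hij => (f i j hij).toLinearMap) (fun i => (γ i).toLinearMap)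
    h.refl h.comp h.compat h.surj h.ker hflat

theorem IsCocone.isRegularRing (h : IsCocone B f γ) [IsNoetherianRing L]
    (hreg : ∀ i, IsRegularRing (B i)) : IsRegularRing L :=
  isRegularRing_of_cocone ι B (fun i j hij => (f i j hij).toRingHom) (fun i => (γ i).toRingHom)
    h.comp h.compat h.surj h.ker hreg

theorem IsCocone.baseChange (h : IsCocone B f γ) (K : Type u) [CommRing K] [Algebra A₀ K] :
    IsCocone (A₀ := K) (fun i => K ⊗[A₀] B i)
      (fun i j hij => Algebra.TensorProduct.map (AlgHom.id K K) (f i j hij))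
      (fun i => Algebra.TensorProduct.map (AlgHom.id K K) (γ i)) := by
  obtain ⟨hs, hk⟩ := tensor_cocone (fun i j hij => (f i j hij).toLinearMap)
    (fun i => (γ i).toLinearMap) h.refl h.comp h.compat h.surj h.ker K
  refine ⟨?_, ?_, ?_, ?_, ?_⟩
  · intro i x
    rw [map_eq_lTensor]
    have : (f i i le_rfl).toLinearMap = LinearMap.id := by
      ext y
      exact h.refl i y
    rw [this, LinearMap.lTensor_id, LinearMap.id_apply]
  · intro i j k hij hjk x
    rw [map_eq_lTensor, map_eq_lTensor, map_eq_lTensor, ← LinearMap.comp_apply,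
      ← LinearMap.lTensor_comp]
    congr 2
    ext y
    exact h.comp i j k hij hjk y
  · intro i j hij x
    rw [map_eq_lTensor, map_eq_lTensor, map_eq_lTensor, ← LinearMap.comp_apply,
      ← LinearMap.lTensor_comp]
    congr 2
    ext y
    exact h.compat i j hij y
  · intro a
    obtain ⟨i, w, hw⟩ := hs a
    exact ⟨i, w, by rw [map_eq_lTensor]; exact hw⟩
  · intro i x hx
    rw [map_eq_lTensor] at hx
    obtain ⟨j, hij, hj⟩ := hk i x hx
    exact ⟨j, hij, by rw [map_eq_lTensor]; exact hj⟩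

end

section DL

variable (R : Type u) [CommRing R] {ι : Type u} [Preorder ι] [IsDirectedOrder ι] [Nonempty ι]
  (G : ι → Type u) [∀ i, CommRing (G i)] [∀ i, Algebra R (G i)]
  (f : ∀ i j : ι, i ≤ j → (G i →ₐ[R] G j)) [DirectedSystem G (fun i j h => f i j h)]

noncomputable def ofA (i : ι) : G i →ₐ[R] DirectLimit G f :=
  { DirectLimit.Ring.of G f i with
    commutes' := fun r => (DirectLimit.algebraMap_def i r).symm }

theorem ofA_apply (i : ι) (x : G i) : ofA R G f i x = ⟦⟨i, x⟩⟧ := rfl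

theorem isCocone_directLimit : IsCocone G f (ofA R G f) := by
  refine ⟨?_, ?_, ?_, ?_, ?_⟩
  · intro i x
    exact DirectedSystem.map_self' f x
  · intro i j k hij hjk x
    exact DirectedSystem.map_map' f hij hjk x
  · intro i j h x
    exact DirectLimit.Ring.of_f h x
  · intro a
    obtain ⟨i, x, rfl⟩ := DirectLimit.exists_eq_mk f a
    exact ⟨i, x, rfl⟩
  · intro i x hx
    rw [ofA_apply] at hx
    exact (DirectLimit.exists_eq_zero ⟨i, x⟩).mp hx

end DL

end Helper27.ColimReg
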