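import Mathlib
import Groth.Agent.Lib.Helper27.ColimRegC
import Groth.Agent.Lib.Helper77.GeomRegSmooth

set_option autoImplicit false
universe u

namespace Helper27.ColimReg

open TensorProduct

theorem isNoetherianRing_tensor_finite (κ k' N : Type u) [Field κ] [Field k'] [Algebra κ k']
    [Module.Finite κ k'] [CommRing N] [Algebra κ N] [IsNoetherianRing N] :
    IsNoetherianRing (k' ⊗[κ] N) := by
  have h1 : IsNoetherianRing (N ⊗[κ] k') := Algebra.FiniteType.isNoetherianRing N (N ⊗[κ] k')
  exact isNoetherianRing_of_ringEquiv (N ⊗[κ] k') (Algebra.TensorProduct.comm κ N k').toRingEquiv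

set_option maxHeartbeats 1000000 in
theorem main (R : Type u) [CommRing R] {ι : Type u} [Preorder ι]
    [IsDirectedOrder ι] [Nonempty ι] (G : ι → Type u) [∀ i, CommRing (G i)] [∀ i, Algebra R (G i)]
    (f : ∀ i j : ι, i ≤ j → (G i →ₐ[R] G j)) [DirectedSystem G (fun i j h => f i j h)]
    (hs : ∀ i, Algebra.Smooth R (G i))
    (hN : ∀ (p : Ideal R) [p.IsPrime], IsNoetherianRing (p.Fiber (DirectLimit G f))) :
    CAlg.IsRegularHom R (DirectLimit G f) := by
  have hc := isCocone_directLimit R G f
  refine ⟨hc.flat (fun i => ?_), fun p _ => ⟨hN p, ?_⟩⟩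
  · have := hs i
    infer_instance
  intro k' _ _ hfin
  have hc1 := hc.baseChange p.ResidueField
  have hc2 := hc1.baseChange k'
  have hNoeth0 : IsNoetherianRing (p.ResidueField ⊗[R] DirectLimit G f) := hN p
  have hNoeth : IsNoetherianRing (k' ⊗[p.ResidueField] (p.ResidueField ⊗[R] DirectLimit G f)) :=
    isNoetherianRing_tensor_finite p.ResidueField k' _
  refine hc2.isRegularRing (fun i => ?_)
  have := hs i
  exact Groth.Agent.Lib.Helper77.GeomRegSmooth.isRegularRing_of_smooth k' _

end Helper27.ColimReg
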