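import Mathlib

namespace Groth.Agent.Lib.Helper27.Deligne


open TensorProduct

theorem pow_eq_one_of_free {C B : Type*} [CommRing C] [CommRing B] [Algebra C B]
    [Module.Free C B] [Module.Finite C B] (n : ℕ) (hn : Module.finrank C B = n)
    (ι : B) (hι : IsUnit ι) (T : B ≃ₐ[C] B) (c : C) (hT : T ι = algebraMap C B c * ι) :
    c ^ n = 1 := by
  rcases subsingleton_or_nontrivial C with hC | hC
  · exact Subsingleton.elim _ _
  have h1 : Algebra.norm C (T ι) = Algebra.norm C ι := Algebra.norm_eq_of_algEquiv T ι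
  rw [hT, map_mul, Algebra.norm_algebraMap_of_basis (Module.Free.chooseBasis C B),
    ← Module.finrank_eq_card_chooseBasisIndex, hn] at h1
  have h2 : IsUnit (Algebra.norm C ι) := hι.map _
  exact h2.mul_left_injective (by simpa using h1)

theorem pow_eq_one_of_projective {C B : Type*} [CommRing C] [CommRing B] [Algebra C B]
    [Module.Finite C B] [Module.Projective C B] (n : ℕ)
    (hn : ∀ q : PrimeSpectrum C, Module.rankAtStalk B q = n)
    (ι : B) (hι : IsUnit ι) (T : B ≃ₐ[C] B) (c : C) (hT : T ι = algebraMap C B c * ι) :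
    c ^ n = 1 := by
  rw [← sub_eq_zero]
  refine eq_zero_of_localization _ fun q hq => ?_
  rw [map_sub, map_one, sub_eq_zero, map_pow]
  let Cq := Localization.AtPrime q
  have : Module.Free Cq (Cq ⊗[C] B) := Module.free_of_flat_of_isLocalRing
  have hr : Module.finrank Cq (Cq ⊗[C] B) = n := by
    rw [← hn ⟨q, hq.isPrime⟩, Module.rankAtStalk_eq_finrank_tensorProduct]
  refine pow_eq_one_of_free (C := Cq) (B := Cq ⊗[C] B) n hr (1 ⊗ₜ ι)
    (hι.map (Algebra.TensorProduct.includeRight : B →ₐ[C] Cq ⊗[C] B))
    (Algebra.TensorProduct.congr AlgEquiv.refl T) _ ?_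
  simp [hT, Algebra.TensorProduct.algebraMap_apply]
  rw [← Algebra.smul_def, TensorProduct.tmul_smul, TensorProduct.smul_tmul', Algebra.smul_def, mul_one]



open WithConv Coalgebra

universe u v

section
variable {R : Type u} [CommRing R] {A : Type v} [CommRing A] [HopfAlgebra R A]

def postComp {S T : Type*} [CommRing S] [Algebra R S] [CommRing T] [Algebra R T] (h : S →ₐ[R] T) :
    WithConv (A →ₗ[R] S) →+* WithConv (A →ₗ[R] T) where
  toFun f := toConv (h.toLinearMap ∘ₗ f.ofConv)
  map_one' := by
    apply WithConv.ext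
    ext x
    simp [LinearMap.convOne_def]
  map_mul' f g := by
    apply WithConv.ext
    simpa using LinearMap.algHom_comp_convMul_distrib h f g
  map_zero' := by
    apply WithConv.ext
    simp
  map_add' f g := by
    apply WithConv.ext
    simp [LinearMap.comp_add]

@[simp] lemma postComp_apply {S T : Type*} [CommRing S] [Algebra R S] [CommRing T] [Algebra R T]
    (h : S →ₐ[R] T) (f : WithConv (A →ₗ[R] S)) (x : A) :
    postComp h f x = h (f x) := rfl

lemma postComp_comp {S T U : Type*} [CommRing S] [Algebra R S] [CommRing T] [Algebra R T]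
    [CommRing U] [Algebra R U]
    (h : S →ₐ[R] T) (k : T →ₐ[R] U) (f : WithConv (A →ₗ[R] S)) :
    postComp k (postComp h f) = postComp (k.comp h) f := rfl

end





section
variable (R : Type u) [CommRing R] (A : Type v) [CommRing A] [HopfAlgebra R A]

noncomputable def shear : A ⊗[R] A →ₐ[R] A ⊗[R] A :=
  Algebra.TensorProduct.lift Algebra.TensorProduct.includeLeft (Bialgebra.comulAlgHom R A)
    (fun _ _ => .all _ _)

noncomputable def shearInv : A ⊗[R] A →ₐ[R] A ⊗[R] A :=
  Algebra.TensorProduct.lift Algebra.TensorProduct.includeLeft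
    ((Algebra.TensorProduct.map (HopfAlgebra.antipodeAlgHom R A) (AlgHom.id R A)).comp
      (Bialgebra.comulAlgHom R A)) (fun _ _ => .all _ _)

lemma inv_ofConv_apply (f : WithConv (A →ₐ[R] A ⊗[R] A)) (x : A) :
    (f⁻¹).ofConv x = f.ofConv (HopfAlgebraStruct.antipode R x) := rfl

lemma inclL_mul_inclR :
    (toConv (Algebra.TensorProduct.includeLeft : A →ₐ[R] A ⊗[R] A)) *
      toConv (Algebra.TensorProduct.includeRight : A →ₐ[R] A ⊗[R] A) =
    toConv (Bialgebra.comulAlgHom R A) := by
  rw [AlgHom.convMul_def]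
  congr 1
  have : (Algebra.TensorProduct.lmul' R).comp (Algebra.TensorProduct.map
      (Algebra.TensorProduct.includeLeft : A →ₐ[R] A ⊗[R] A)
      (Algebra.TensorProduct.includeRight : A →ₐ[R] A ⊗[R] A)) = AlgHom.id R _ := by
    ext <;> simp
  rw [← AlgHom.comp_assoc]
  simp only [ofConv_toConv]
  rw [this, AlgHom.id_comp]

lemma inclL_inv_mul_inclR :
    (toConv (Algebra.TensorProduct.includeLeft : A →ₐ[R] A ⊗[R] A))⁻¹ *
      toConv (Algebra.TensorProduct.includeRight : A →ₐ[R] A ⊗[R] A) =
    toConv ((Algebra.TensorProduct.map (HopfAlgebra.antipodeAlgHom R A) (AlgHom.id R A)).comp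
      (Bialgebra.comulAlgHom R A)) := by
  rw [AlgHom.convMul_def]
  congr 1
  have : (Algebra.TensorProduct.lmul' R).comp (Algebra.TensorProduct.map
      ((toConv (Algebra.TensorProduct.includeLeft : A →ₐ[R] A ⊗[R] A))⁻¹).ofConv
      (Algebra.TensorProduct.includeRight : A →ₐ[R] A ⊗[R] A)) =
      Algebra.TensorProduct.map (HopfAlgebra.antipodeAlgHom R A) (AlgHom.id R A) := by
    ext <;> simp [inv_ofConv_apply]
  rw [← AlgHom.comp_assoc]
  simp only [ofConv_toConv]
  rw [this]

lemma shear_comp_shearInv : (shear R A).comp (shearInv R A) = AlgHom.id R _ := by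
  apply Algebra.TensorProduct.ext
  · ext a
    simp [shear, shearInv]
  · have h1 : (shearInv R A).comp Algebra.TensorProduct.includeRight =
        ((toConv (Algebra.TensorProduct.includeLeft : A →ₐ[R] A ⊗[R] A))⁻¹ *
          toConv (Algebra.TensorProduct.includeRight : A →ₐ[R] A ⊗[R] A)).ofConv := by
      rw [inclL_inv_mul_inclR]
      ext a
      simp [shearInv]
    change ((shear R A).comp (shearInv R A)).comp Algebra.TensorProduct.includeRight =
      (AlgHom.id R _).comp Algebra.TensorProduct.includeRight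
    rw [AlgHom.comp_assoc, h1, AlgHom.comp_convMul_distrib]
    have h2 : (shear R A).comp
        ((toConv (Algebra.TensorProduct.includeLeft : A →ₐ[R] A ⊗[R] A))⁻¹).ofConv =
        ((toConv (Algebra.TensorProduct.includeLeft : A →ₐ[R] A ⊗[R] A))⁻¹).ofConv := by
      ext a
      simp [shear, inv_ofConv_apply]
    have h3 : (shear R A).comp
        (toConv (Algebra.TensorProduct.includeRight : A →ₐ[R] A ⊗[R] A)).ofConv =
        (toConv (Algebra.TensorProduct.includeLeft : A →ₐ[R] A ⊗[R] A) *
          toConv (Algebra.TensorProduct.includeRight : A →ₐ[R] A ⊗[R] A)).ofConv := by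
      rw [inclL_mul_inclR]
      ext a
      simp [shear]
    rw [h2, h3]
    simp only [toConv_ofConv]
    exact congrArg ofConv (inv_mul_cancel_left (toConv (Algebra.TensorProduct.includeLeft : A →ₐ[R] A ⊗[R] A)) (toConv (Algebra.TensorProduct.includeRight : A →ₐ[R] A ⊗[R] A)))

lemma shearInv_comp_shear : (shearInv R A).comp (shear R A) = AlgHom.id R _ := by
  apply Algebra.TensorProduct.ext
  · ext a
    simp [shear, shearInv]
  · have h1 : (shear R A).comp Algebra.TensorProduct.includeRight =
        ((toConv (Algebra.TensorProduct.includeLeft : A →ₐ[R] A ⊗[R] A)) *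
          toConv (Algebra.TensorProduct.includeRight : A →ₐ[R] A ⊗[R] A)).ofConv := by
      rw [inclL_mul_inclR]
      ext a
      simp [shear]
    change ((shearInv R A).comp (shear R A)).comp Algebra.TensorProduct.includeRight =
      (AlgHom.id R _).comp Algebra.TensorProduct.includeRight
    rw [AlgHom.comp_assoc, h1, AlgHom.comp_convMul_distrib]
    have h2 : (shearInv R A).comp
        (toConv (Algebra.TensorProduct.includeLeft : A →ₐ[R] A ⊗[R] A)).ofConv =
        (toConv (Algebra.TensorProduct.includeLeft : A →ₐ[R] A ⊗[R] A)).ofConv := by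
      ext a
      simp [shearInv]
    have h3 : (shearInv R A).comp
        (toConv (Algebra.TensorProduct.includeRight : A →ₐ[R] A ⊗[R] A)).ofConv =
        ((toConv (Algebra.TensorProduct.includeLeft : A →ₐ[R] A ⊗[R] A))⁻¹ *
          toConv (Algebra.TensorProduct.includeRight : A →ₐ[R] A ⊗[R] A)).ofConv := by
      rw [inclL_inv_mul_inclR]
      ext a
      simp [shearInv]
    rw [h2, h3]
    simp only [toConv_ofConv]
    exact congrArg ofConv (mul_inv_cancel_left (toConv (Algebra.TensorProduct.includeLeft : A →ₐ[R] A ⊗[R] A)) (toConv (Algebra.TensorProduct.includeRight : A →ₐ[R] A ⊗[R] A)))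

noncomputable def shearEquiv : A ⊗[R] A ≃ₐ[R] A ⊗[R] A :=
  AlgEquiv.ofAlgHom (shear R A) (shearInv R A) (shear_comp_shearInv R A) (shearInv_comp_shear R A)

end


open TensorProduct

section
variable (R : Type u) [CommRing R] (A : Type v) [CommRing A] [HopfAlgebra R A]
  [Coalgebra.IsCocomm R A]

abbrev CC := WithConv (A →ₗ[R] A)
abbrev CC2 := WithConv (A →ₗ[R] A ⊗[R] A)

noncomputable def jHom : CC R A →+* CC2 R A :=
  postComp (Algebra.TensorProduct.includeLeft : A →ₐ[R] A ⊗[R] A)

noncomputable instance algCC2 : Algebra (CC R A) (CC2 R A) := (jHom R A).toAlgebra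

lemma algebraMap_CC2_apply (f : CC R A) (x : A) :
    algebraMap (CC R A) (CC2 R A) f x = f x ⊗ₜ 1 := rfl

instance : IsScalarTower R (CC R A) (CC2 R A) := by
  refine IsScalarTower.of_algebraMap_eq' ?_
  ext r : 1
  apply WithConv.ext
  ext x
  simp [algebraMap_CC2_apply, Algebra.smul_def, Algebra.TensorProduct.algebraMap_apply]

noncomputable def gMap : A →ₗ[R] CC2 R A where
  toFun a := toConv ((Coalgebra.counit : A →ₗ[R] R).smulRight ((1 : A) ⊗ₜ[R] a))
  map_add' a b := by
    apply WithConv.ext
    ext x
    simp [tmul_add]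
  map_smul' r a := by
    apply WithConv.ext
    ext x
    simp only [LinearMap.smulRight_apply, ofConv_toConv, RingHom.id_apply, ofConv_smul,
      LinearMap.smul_apply]
    rw [TensorProduct.tmul_smul, smul_comm]

lemma gMap_apply (a x : A) : gMap R A a x = (Coalgebra.counit (R := R) x) • ((1 : A) ⊗ₜ[R] a) := rfl

omit [IsCocomm R A] in
lemma sum_smul_counit {ι : Type*} {x : A} (𝓡 : Coalgebra.Repr R x ι) :
    ∑ i ∈ 𝓡.index, Coalgebra.counit (R := R) (𝓡.right i) • 𝓡.left i = x := by
  have := congrArg (TensorProduct.rid R A) (Coalgebra.sum_tmul_counit_eq 𝓡)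
  rw [map_sum] at this
  simpa only [TensorProduct.rid_tmul, one_smul] using this

noncomputable def eMap : CC R A ⊗[R] A →ₗ[CC R A] CC2 R A :=
  LinearMap.liftBaseChange (CC R A) (gMap R A)

lemma eMap_tmul_apply (φ : CC R A) (a x : A) : eMap R A (φ ⊗ₜ a) x = φ x ⊗ₜ a := by
  rw [eMap, LinearMap.liftBaseChange_tmul, Algebra.smul_def, (ℛ R x).convMul_apply]
  simp only [algebraMap_CC2_apply, gMap_apply]
  simp only [Algebra.mul_smul_comm, Algebra.TensorProduct.tmul_mul_tmul, mul_one, one_mul]
  simp only [TensorProduct.smul_tmul']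
  rw [← TensorProduct.sum_tmul]
  congr 1
  simp only [← map_smul]
  rw [← map_sum]
  congr 1
  exact sum_smul_counit R A _

variable [Module.Finite R A] [Module.Projective R A]

lemma eMap_eq (x : CC R A ⊗[R] A) :
    eMap R A x = toConv (rTensorHomEquivHomRTensor R A A A
      (TensorProduct.congr (WithConv.linearEquiv R (A →ₗ[R] A)) (LinearEquiv.refl R A) x)) := by
  induction x using TensorProduct.induction_on with
  | zero => simp
  | tmul φ a =>
    apply WithConv.ext
    ext y
    simp [eMap_tmul_apply]
  | add x y hx hy => simp only [map_add, hx, hy, toConv_add]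

lemma eMap_bijective : Function.Bijective (eMap R A) := by
  have : ⇑(eMap R A) = toConv ∘ (rTensorHomEquivHomRTensor R A A A) ∘
      (TensorProduct.congr (WithConv.linearEquiv R (A →ₗ[R] A)) (LinearEquiv.refl R A)) := by
    funext x
    exact eMap_eq R A x
  rw [this]
  exact toConv_bijective.comp ((LinearEquiv.bijective _).comp (LinearEquiv.bijective _))

noncomputable def eEquiv : CC R A ⊗[R] A ≃ₗ[CC R A] CC2 R A :=
  LinearEquiv.ofBijective (eMap R A) (eMap_bijective R A)

instance : Module.Finite (CC R A) (CC2 R A) := Module.Finite.equiv (eEquiv R A)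

instance : Module.Projective (CC R A) (CC2 R A) := Module.Projective.of_equiv (eEquiv R A)

lemma rankAtStalk_CC2 (q : PrimeSpectrum (CC R A)) :
    Module.rankAtStalk (CC2 R A) q =
      Module.rankAtStalk A (q.comap (algebraMap R (CC R A))) := by
  rw [← Module.rankAtStalk_eq_of_equiv (eEquiv R A), Module.rankAtStalk_baseChange]

noncomputable def iotaEl : CC2 R A :=
  toConv (Algebra.TensorProduct.includeRight : A →ₐ[R] A ⊗[R] A).toLinearMap

omit [Module.Finite R A] [Module.Projective R A] in
lemma isUnit_iotaEl : IsUnit (iotaEl R A) := by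
  have h : postComp (Algebra.TensorProduct.includeRight : A →ₐ[R] A ⊗[R] A)
      (toConv (LinearMap.id : A →ₗ[R] A) * toConv (HopfAlgebraStruct.antipode R (A := A))) = 1 := by
    rw [LinearMap.id_mul_antipode, map_one]
  rw [map_mul] at h
  have h2 : postComp (Algebra.TensorProduct.includeRight : A →ₐ[R] A ⊗[R] A)
      (toConv (LinearMap.id : A →ₗ[R] A)) = iotaEl R A := rfl
  rw [h2] at h
  exact IsUnit.of_mul_eq_one _ h

noncomputable def TEquiv : CC2 R A ≃ₐ[CC R A] CC2 R A :=
  AlgEquiv.ofRingEquiv (f := RingEquiv.ofRingHom (postComp (A := A) (shear R A))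
    (postComp (A := A) (shearInv R A))
    (by
      ext f : 1
      change postComp (shear R A) (postComp (shearInv R A) f) = f
      rw [postComp_comp, shear_comp_shearInv]
      rfl)
    (by
      ext f : 1
      change postComp (shearInv R A) (postComp (shear R A) f) = f
      rw [postComp_comp, shearInv_comp_shear]
      rfl))
    (by
      intro f
      change postComp (shear R A) (postComp Algebra.TensorProduct.includeLeft f) =
        postComp Algebra.TensorProduct.includeLeft f
      rw [postComp_comp]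
      congr 1
      ext a
      simp [shear])

lemma TEquiv_iotaEl :
    TEquiv R A (iotaEl R A) =
      algebraMap (CC R A) (CC2 R A) (toConv (LinearMap.id : A →ₗ[R] A)) * iotaEl R A := by
  apply WithConv.ext
  ext x
  change shear R A ((1 : A) ⊗ₜ[R] x) = _
  rw [(ℛ R x).convMul_apply]
  simp only [algebraMap_CC2_apply, iotaEl]
  simp only [shear, ← (ℛ R x).eq, Algebra.TensorProduct.lift_tmul, map_one,
    Bialgebra.comulAlgHom_apply, AlgHom.toLinearMap_apply,
    Algebra.TensorProduct.includeRight_apply, Algebra.TensorProduct.tmul_mul_tmul, mul_one, one_mul,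
    ofConv_toConv]
  rfl

theorem toConv_id_pow_eq_one (n : ℕ) (hn : ∀ p : PrimeSpectrum R, Module.rankAtStalk A p = n) :
    (toConv (LinearMap.id : A →ₗ[R] A)) ^ n = 1 :=
  pow_eq_one_of_projective (C := CC R A) (B := CC2 R A) n
    (fun q => by rw [rankAtStalk_CC2, hn]) (iotaEl R A) (isUnit_iotaEl R A) (TEquiv R A) _
    (TEquiv_iotaEl R A)

theorem deligne (n : ℕ) (hn : ∀ p : PrimeSpectrum R, Module.rankAtStalk A p = n) :
    (WithConv.toConv (AlgHom.id R A)) ^ n = 1 := by
  apply WithConv.ofConv_injective
  apply AlgHom.toLinearMap_injective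
  apply WithConv.toConv_injective
  rw [AlgHom.toLinearMap_convPow, AlgHom.toLinearMap_convOne]
  exact toConv_id_pow_eq_one R A n hn

end


end Groth.Agent.Lib.Helper27.Deligne
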