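import Mathlib
import Groth.Agent.Lib.Helper27.DiscEtale

set_option autoImplicit false
open TensorProduct

namespace Groth.Agent.Lib.Helper27.DiscLocal

open Groth.Agent.Lib.Helper27.DiscEtale

variable {A B : Type*} [CommRing A] [CommRing B] [Algebra A B]

lemma trace_baseChange_one_tmul (A' : Type*) [CommRing A'] [Algebra A A']
    [Module.Finite A B] [Module.Free A B] (x : B) :
    Algebra.trace A' (A' ⊗[A] B) ((1 : A') ⊗ₜ[A] x) = algebraMap A A' (Algebra.trace A B x) := by
  rw [Algebra.trace_apply, Algebra.trace_apply, ← LinearMap.trace_baseChange]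
  congr 1
  ext y
  simp

lemma discr_baseChange (A' : Type*) [CommRing A'] [Algebra A A']
    {ι : Type*} [Fintype ι] [DecidableEq ι] (b : Module.Basis ι A B) :
    Algebra.discr A' (Algebra.TensorProduct.basis A' b) = algebraMap A A' (Algebra.discr A b) := by
  have hfin : Module.Finite A B := Module.Finite.of_basis b
  have hfree : Module.Free A B := Module.Free.of_basis b
  rw [Algebra.discr_def, Algebra.discr_def, RingHom.map_det]
  congr 1
  ext i j
  rw [Algebra.traceMatrix_apply, Algebra.traceForm_apply, Algebra.TensorProduct.basis_apply,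
    Algebra.TensorProduct.basis_apply, Algebra.TensorProduct.tmul_mul_tmul, one_mul,
    trace_baseChange_one_tmul, RingHom.mapMatrix_apply, Matrix.map_apply,
    Algebra.traceMatrix_apply, Algebra.traceForm_apply]

attribute [local instance] Algebra.TensorProduct.rightAlgebra

theorem discr_notMem_of_isUnramifiedAt {ι : Type*} [Fintype ι] [DecidableEq ι]
    (b : Module.Basis ι A B) (p : Ideal A) [p.IsPrime]
    (h : ∀ (q : Ideal B) [q.IsPrime], q.comap (algebraMap A B) = p → Algebra.IsUnramifiedAt A q) :
    Algebra.discr A b ∉ p := by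
  have hfin : Module.Finite A B := Module.Finite.of_basis b
  have hint : Algebra.IsIntegral A B := inferInstance
  have hsupp : (⟨p, inferInstance⟩ : PrimeSpectrum A) ∉ Module.support A (Ω[B⁄A]) := by
    intro hmem
    obtain ⟨ω, hω⟩ := Module.mem_support_iff_exists_annihilator.mp hmem
    obtain ⟨q, hq, hqp, hqc⟩ := Ideal.exists_ideal_over_prime_of_isIntegral p
      ((B ∙ ω).annihilator) (by
        intro a ha
        apply hω
        rw [Submodule.mem_annihilator_span_singleton]
        rw [Ideal.mem_comap, Submodule.mem_annihilator_span_singleton, algebraMap_smul] at ha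
        exact ha)
    have hur := h q hqc
    have hq' : (⟨q, hqp⟩ : PrimeSpectrum B) ∈ Module.support B (Ω[B⁄A]) :=
      Module.mem_support_iff_exists_annihilator.mpr ⟨ω, hq⟩
    have hq2 : (⟨q, hqp⟩ : PrimeSpectrum B) ∈ Algebra.unramifiedLocus A B := hur
    rw [Algebra.unramifiedLocus_eq_compl_support] at hq2
    exact hq2 hq'
  rw [Module.notMem_support_iff] at hsupp
  have e1 := LocalizedModule.equivTensorProduct p.primeCompl (Ω[B⁄A])
  have hsub : Subsingleton (Localization.AtPrime p ⊗[A] Ω[B⁄A]) := e1.symm.toEquiv.subsingleton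
  have e2 := KaehlerDifferential.tensorKaehlerEquivBase A (Localization.AtPrime p) B
    (Localization.AtPrime p ⊗[A] B)
  have hsub2 : Subsingleton (Ω[(Localization.AtPrime p ⊗[A] B)⁄(Localization.AtPrime p)]) :=
    e2.symm.toEquiv.subsingleton
  have hunr : Algebra.FormallyUnramified (Localization.AtPrime p)
      (Localization.AtPrime p ⊗[A] B) := (Algebra.formallyUnramified_iff _ _).mpr hsub2
  have hu := (formallyUnramified_iff_isUnit_discr
    (Algebra.TensorProduct.basis (Localization.AtPrime p) b)).mp hunr
  rw [discr_baseChange] at hu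
  exact (IsLocalization.AtPrime.isUnit_to_map_iff (Localization.AtPrime p) p _).mp hu

end Groth.Agent.Lib.Helper27.DiscLocal
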