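import Mathlib
import Groth.Agent.Lib.Helper27.EtaleNbhd
set_option autoImplicit false
universe u
open Polynomial
namespace Groth.Agent.Lib.Helper27.EtaleFactor

lemma homEquiv_fst_coe {R : Type*} (S : Type*) [CommRing R] [CommRing S] [Algebra R S] {n : ℕ}
    (m k : ℕ) (hn : n = m + k) (p : MonicDegreeEq R n)
    (f : UniversalCoprimeFactorizationRing m k hn p →ₐ[R] S) :
    ((UniversalCoprimeFactorizationRing.homEquiv S m k hn p f).1.1).1 =
      (UniversalCoprimeFactorizationRing.factor₁ m k hn p).1.map f.toRingHom := by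
  simp [UniversalCoprimeFactorizationRing.homEquiv, UniversalFactorizationRing.homEquiv,
    UniversalCoprimeFactorizationRing.factor₁, MonicDegreeEq.map, Polynomial.map_map]
  rfl

lemma homEquiv_snd_coe {R : Type*} (S : Type*) [CommRing R] [CommRing S] [Algebra R S] {n : ℕ}
    (m k : ℕ) (hn : n = m + k) (p : MonicDegreeEq R n)
    (f : UniversalCoprimeFactorizationRing m k hn p →ₐ[R] S) :
    ((UniversalCoprimeFactorizationRing.homEquiv S m k hn p f).1.2).1 =
      (UniversalCoprimeFactorizationRing.factor₂ m k hn p).1.map f.toRingHom := by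
  simp [UniversalCoprimeFactorizationRing.homEquiv, UniversalFactorizationRing.homEquiv,
    UniversalCoprimeFactorizationRing.factor₂, MonicDegreeEq.map, Polynomial.map_map]
  rfl

/-- Stacks-type lemma: a coprime monic factorization of a monic polynomial modulo `I` lifts to an
étale neighbourhood `A'` of `V(I)` (i.e. étale with a retraction `ψ : A' → A/I` whose kernel is
`I A'`). -/
theorem exists_etale_lift_monic_factorization' (A : Type u) [CommRing A] (I : Ideal A)
    [Nontrivial (A ⧸ I)] (f : A[X]) (hf : f.Monic) (g h : (A ⧸ I)[X]) (hg : g.Monic)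
    (hh : h.Monic) (hgh : f.map (Ideal.Quotient.mk I) = g * h) (hcop : IsCoprime g h) :
    ∃ (A' : Type u) (_ : CommRing A') (_ : Algebra A A') (_ : Algebra.Etale A A')
      (ψ : A' →ₐ[A] A ⧸ I), RingHom.ker ψ.toRingHom = I.map (algebraMap A A') ∧
      ∃ g' h' : A'[X], g'.Monic ∧ h'.Monic ∧ f.map (algebraMap A A') = g' * h' ∧
        g'.map ψ.toRingHom = g ∧ h'.map ψ.toRingHom = h ∧ IsCoprime g' h' := by
  classical
  have hn : f.natDegree = g.natDegree + h.natDegree := by
    rw [← hg.natDegree_mul hh, ← hgh, hf.natDegree_map]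
  let p : MonicDegreeEq A f.natDegree := MonicDegreeEq.mk f hf rfl
  let q : { q : MonicDegreeEq (A ⧸ I) g.natDegree × MonicDegreeEq (A ⧸ I) h.natDegree //
      q.1.1 * q.2.1 = p.1.map (algebraMap A (A ⧸ I)) ∧ IsCoprime q.1.1 q.2.1 } :=
    ⟨(MonicDegreeEq.mk g hg rfl, MonicDegreeEq.mk h hh rfl), hgh.symm, hcop⟩
  let φ := (UniversalCoprimeFactorizationRing.homEquiv (A ⧸ I) g.natDegree h.natDegree hn
    p).symm q
  have hφq : UniversalCoprimeFactorizationRing.homEquiv (A ⧸ I) g.natDegree h.natDegree hn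
    p φ = q := Equiv.apply_symm_apply _ _
  have hφ1 : (UniversalCoprimeFactorizationRing.factor₁ g.natDegree h.natDegree hn
      p).1.map φ.toRingHom = g := by
    rw [← homEquiv_fst_coe, hφq]
    rfl
  have hφ2 : (UniversalCoprimeFactorizationRing.factor₂ g.natDegree h.natDegree hn
      p).1.map φ.toRingHom = h := by
    rw [← homEquiv_snd_coe, hφq]
    rfl
  have hc : IsUnit (φ 1) := by rw [map_one]; exact isUnit_one
  obtain ⟨A', _, _, _, χ, ψ, hψχ, -, hker⟩ :=
    Groth.Agent.Lib.Helper27.EtaleNbhd.exists_etale_nbhd_of_section I φ 1 hc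
  refine ⟨A', inferInstance, inferInstance, inferInstance, ψ, hker,
    (UniversalCoprimeFactorizationRing.factor₁ g.natDegree h.natDegree hn p).1.map χ.toRingHom,
    (UniversalCoprimeFactorizationRing.factor₂ g.natDegree h.natDegree hn p).1.map χ.toRingHom,
    (MonicDegreeEq.monic _).map _, (MonicDegreeEq.monic _).map _, ?_, ?_, ?_, ?_⟩
  · have := UniversalCoprimeFactorizationRing.factor₁_mul_factor₂ g.natDegree h.natDegree hn p
    have h2 := congrArg (Polynomial.map χ.toRingHom) this
    rw [Polynomial.map_mul, MonicDegreeEq.map_coe, Polynomial.map_map] at h2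
    rw [h2]
    congr 1
    exact χ.comp_algebraMap.symm
  · rw [Polynomial.map_map]
    refine Eq.trans ?_ hφ1
    rw [← hψχ]
    rfl
  · rw [Polynomial.map_map]
    refine Eq.trans ?_ hφ2
    rw [← hψχ]
    rfl
  · exact (UniversalCoprimeFactorizationRing.isCoprime_factor₁_factor₂ g.natDegree h.natDegree hn
      p).map (Polynomial.mapRingHom χ.toRingHom)

theorem exists_etale_lift_monic_factorization (A : Type u) [CommRing A] (I : Ideal A)
    [Nontrivial (A ⧸ I)] (f : A[X]) (hf : f.Monic) (g h : (A ⧸ I)[X]) (hg : g.Monic)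
    (hh : h.Monic) (hgh : f.map (Ideal.Quotient.mk I) = g * h) (hcop : IsCoprime g h) :
    ∃ (A' : Type u) (_ : CommRing A') (_ : Algebra A A') (_ : Algebra.Etale A A')
      (ψ : A' →ₐ[A] A ⧸ I), RingHom.ker ψ.toRingHom = I.map (algebraMap A A') ∧
      ∃ g' h' : A'[X], g'.Monic ∧ h'.Monic ∧ f.map (algebraMap A A') = g' * h' ∧
        g'.map ψ.toRingHom = g ∧ h'.map ψ.toRingHom = h := by
  obtain ⟨A', i1, i2, i3, ψ, hker, g', h', h1, h2, h3, h4, h5, -⟩ :=
    exists_etale_lift_monic_factorization' A I f hf g h hg hh hgh hcop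
  exact ⟨A', i1, i2, i3, ψ, hker, g', h', h1, h2, h3, h4, h5⟩

end Groth.Agent.Lib.Helper27.EtaleFactor
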