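import Mathlib

set_option autoImplicit false
universe u
open scoped TensorProduct

namespace Groth.Agent.Lib.Helper27.FlatLift

variable {C' : Type u} [CommRing C'] (J : Ideal C')

noncomputable def mulJ (M : Type u) [AddCommGroup M] [Module C' M] : M ⊗[C'] ↥J →ₗ[C'] M :=
  (TensorProduct.rid C' M).toLinearMap ∘ₗ LinearMap.lTensor M J.subtype

lemma mulJ_apply (M : Type u) [AddCommGroup M] [Module C' M] (z : M ⊗[C'] ↥J) :
    mulJ J M z = TensorProduct.rid C' M (LinearMap.lTensor M J.subtype z) := rfl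

@[simp]
lemma mulJ_tmul (M : Type u) [AddCommGroup M] [Module C' M] (m : M) (j : J) :
    mulJ J M (m ⊗ₜ j) = (j : C') • m := by
  simp [mulJ]

lemma mulJ_injective (M : Type u) [AddCommGroup M] [Module C' M] [Module.Flat C' M] :
    Function.Injective (mulJ J M) := by
  unfold mulJ
  rw [LinearMap.coe_comp]
  exact (TensorProduct.rid C' M).injective.comp
    (Module.Flat.lTensor_preserves_injective_linearMap _ J.injective_subtype)

lemma mulJ_natural {M N : Type u} [AddCommGroup M] [Module C' M] [AddCommGroup N] [Module C' N]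
    (f : M →ₗ[C'] N) (w : M ⊗[C'] ↥J) :
    mulJ J N (LinearMap.rTensor J f w) = f (mulJ J M w) := by
  induction w using TensorProduct.induction_on with
  | zero => simp
  | tmul m j => simp
  | add x y hx hy => simp [hx, hy]

variable (A' : Type u) [CommRing A'] [Algebra C' A']

lemma mulJ_smul (a : A') (w : A' ⊗[C'] ↥J) : mulJ J A' (a • w) = a * mulJ J A' w := by
  induction w using TensorProduct.induction_on with
  | zero => simp
  | tmul m j => simp [TensorProduct.smul_tmul']
  | add x y hx hy => simp [hx, hy, mul_add]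

lemma exists_mulJ_eq {k : A'} (hk : k ∈ J.map (algebraMap C' A')) :
    ∃ w : A' ⊗[C'] ↥J, mulJ J A' w = k := by
  unfold Ideal.map at hk
  induction hk using Submodule.span_induction with
  | mem x hx =>
    obtain ⟨j, hj, rfl⟩ := hx
    exact ⟨1 ⊗ₜ ⟨j, hj⟩, by simp [Algebra.smul_def]⟩
  | zero => exact ⟨0, by simp⟩
  | add x y _ _ hx hy =>
    obtain ⟨w, rfl⟩ := hx
    obtain ⟨v, rfl⟩ := hy
    exact ⟨w + v, by simp⟩
  | smul a x _ hx =>
    obtain ⟨w, rfl⟩ := hx
    exact ⟨a • w, by rw [mulJ_smul, smul_eq_mul]⟩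

lemma mulJ_mem (w : A' ⊗[C'] ↥J) : mulJ J A' w ∈ J.map (algebraMap C' A') := by
  induction w using TensorProduct.induction_on with
  | zero => simp
  | tmul m j =>
    rw [mulJ_tmul, Algebra.smul_def]
    exact Ideal.mul_mem_right _ _ (Ideal.mem_map_of_mem _ j.2)
  | add x y hx hy => rw [map_add]; exact Ideal.add_mem _ hx hy

variable {A'}

lemma rTensor_smul {B : Type u} [CommRing B] [Algebra C' B] [Algebra A' B] [IsScalarTower C' A' B]
    (a : A') (w : A' ⊗[C'] ↥J) :
    LinearMap.rTensor ↥J (IsScalarTower.toAlgHom C' A' B).toLinearMap (a • w) =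
      a • LinearMap.rTensor ↥J (IsScalarTower.toAlgHom C' A' B).toLinearMap w := by
  induction w using TensorProduct.induction_on with
  | zero => simp
  | tmul m j => simp [TensorProduct.smul_tmul', Algebra.smul_def]
  | add x y hx hy => simp [hx, hy]

lemma rTensor_eq_zero_of_mem {B : Type u} [CommRing B] [Algebra C' B] (π : A' →ₐ[C'] B)
    (I' : Ideal A') [Module.Flat C' (A' ⧸ I')]
    (hI' : ∀ a ∈ I', π a = 0) (w : A' ⊗[C'] ↥J) (hw : mulJ J A' w ∈ I') :
    LinearMap.rTensor ↥J π.toLinearMap w = 0 := by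
  let q : A' →ₐ[C'] A' ⧸ I' := Ideal.Quotient.mkₐ C' I'
  let πbar : A' ⧸ I' →ₐ[C'] B := Ideal.Quotient.liftₐ I' π hI'
  have hfac : π.toLinearMap = πbar.toLinearMap ∘ₗ q.toLinearMap := by
    ext a
    simp only [q, πbar, AlgHom.toLinearMap_apply, LinearMap.comp_apply, Ideal.Quotient.mkₐ_eq_mk]
    exact (Ideal.Quotient.lift_mk I' (π : A' →+* B) hI').symm
  have h0 : LinearMap.rTensor ↥J q.toLinearMap w = 0 := by
    apply mulJ_injective J (A' ⧸ I')
    rw [mulJ_natural, map_zero]
    exact Ideal.Quotient.eq_zero_iff_mem.mpr hw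
  rw [hfac, LinearMap.rTensor_comp, LinearMap.comp_apply, h0, map_zero]

end Groth.Agent.Lib.Helper27.FlatLift
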