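import Mathlib
import Groth.Agent.Lib.Helper27.FlatLift

set_option autoImplicit false
universe u
open scoped TensorProduct

namespace Groth.Agent.Lib.Helper27.FlatLift

section aut

variable {C' : Type u} [CommRing C'] (J : Ideal C') {A' : Type u} [CommRing A'] [Algebra C' A']
  (M' : Type u) [AddCommGroup M'] [Module A' M'] [Module C' M'] [IsScalarTower C' A' M']

lemma mulJ_smul' (a : A') (z : M' ⊗[C'] ↥J) : mulJ J M' (a • z) = a • mulJ J M' z := by
  induction z using TensorProduct.induction_on with
  | zero => simp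
  | tmul m j => rw [TensorProduct.smul_tmul', mulJ_tmul, mulJ_tmul, smul_comm]
  | add x y hx hy => simp [hx, hy]

variable (A') in
noncomputable def mulJA : M' ⊗[C'] ↥J →ₗ[A'] M' :=
  { toFun := mulJ J M'
    map_add' := map_add _
    map_smul' := fun a z => mulJ_smul' J M' a z }

@[simp] lemma mulJA_apply (z : M' ⊗[C'] ↥J) : mulJA J A' M' z = mulJ J M' z := rfl

lemma mulJ_mem_map_smul_top (z : M' ⊗[C'] ↥J) :
    mulJ J M' z ∈ (J.map (algebraMap C' A')) • (⊤ : Submodule A' M') := by
  induction z using TensorProduct.induction_on with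
  | zero => simp
  | tmul m j =>
    rw [mulJ_tmul, ← algebraMap_smul A' (j : C') m]
    exact Submodule.smul_mem_smul (Ideal.mem_map_of_mem _ j.2) Submodule.mem_top
  | add x y hx hy => rw [map_add]; exact add_mem hx hy

lemma exists_mulJ_eq_smul {a : A'} (ha : a ∈ J.map (algebraMap C' A')) :
    ∀ m : M', ∃ z : M' ⊗[C'] ↥J, mulJ J M' z = a • m := by
  unfold Ideal.map at ha
  induction ha using Submodule.span_induction with
  | mem x hx =>
    obtain ⟨j, hj, rfl⟩ := hx
    intro m
    exact ⟨m ⊗ₜ ⟨j, hj⟩, by simp⟩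
  | zero => intro m; exact ⟨0, by simp⟩
  | add x y _ _ hx hy =>
    intro m
    obtain ⟨w, hw⟩ := hx m
    obtain ⟨v, hv⟩ := hy m
    exact ⟨w + v, by rw [map_add, hw, hv, add_smul]⟩
  | smul b x _ hx =>
    intro m
    obtain ⟨w, hw⟩ := hx (b • m)
    exact ⟨w, by rw [hw, smul_eq_mul, mul_comm, mul_smul]⟩

lemma exists_mulJ_eq_of_mem {x : M'}
    (hx : x ∈ (J.map (algebraMap C' A')) • (⊤ : Submodule A' M')) :
    ∃ z : M' ⊗[C'] ↥J, mulJ J M' z = x := by
  refine Submodule.smul_induction_on hx ?_ ?_
  · intro a ha m _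
    exact exists_mulJ_eq_smul J M' ha m
  · rintro x y ⟨w, rfl⟩ ⟨v, rfl⟩
    exact ⟨w + v, map_add _ _ _⟩

variable (𝔪 : Ideal C') (h𝔪J : 𝔪 * J = ⊥)

include h𝔪J in
lemma smul_tmul_eq_zero_of_mem {a : A'} (ha : a ∈ 𝔪.map (algebraMap C' A')) :
    ∀ (m : M') (j : J), (a • m) ⊗ₜ[C'] j = 0 := by
  unfold Ideal.map at ha
  induction ha using Submodule.span_induction with
  | mem x hx =>
    obtain ⟨c, hc, rfl⟩ := hx
    intro m j
    rw [algebraMap_smul, TensorProduct.smul_tmul]
    have : c • j = 0 := by
      apply Subtype.ext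
      have h : c * (j : C') ∈ 𝔪 * J := Ideal.mul_mem_mul hc j.2
      rw [h𝔪J, Ideal.mem_bot] at h
      exact h
    rw [this, TensorProduct.tmul_zero]
  | zero => intro m j; rw [zero_smul, TensorProduct.zero_tmul]
  | add x y _ _ hx hy =>
    intro m j
    rw [add_smul, TensorProduct.add_tmul, hx, hy, add_zero]
  | smul b x _ hx =>
    intro m j
    rw [smul_eq_mul, mul_comm, mul_smul]
    exact hx (b • m) j

include h𝔪J in
lemma smul_eq_zero_of_mem {a : A'} (ha : a ∈ 𝔪.map (algebraMap C' A')) (z : M' ⊗[C'] ↥J) :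
    a • z = 0 := by
  induction z using TensorProduct.induction_on with
  | zero => simp
  | tmul m j =>
    rw [TensorProduct.smul_tmul']
    exact smul_tmul_eq_zero_of_mem J M' 𝔪 h𝔪J ha m j
  | add x y hx hy => rw [smul_add, hx, hy, add_zero]

variable (A') in
noncomputable def redJ : M' ⊗[C'] ↥J →ₗ[A']
    (M' ⧸ (𝔪.map (algebraMap C' A')) • (⊤ : Submodule A' M')) ⊗[C'] ↥J :=
  { toFun := LinearMap.rTensor ↥J
      ((Submodule.mkQ ((𝔪.map (algebraMap C' A')) • (⊤ : Submodule A' M'))).restrictScalars C')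
    map_add' := map_add _
    map_smul' := by
      intro a z
      induction z using TensorProduct.induction_on with
      | zero => simp
      | tmul m j => simp [TensorProduct.smul_tmul']
      | add x y hx hy =>
        simp only [smul_add, map_add, hx, hy] }

@[simp] lemma redJ_apply (z : M' ⊗[C'] ↥J) : redJ J A' M' 𝔪 z = LinearMap.rTensor ↥J
    ((Submodule.mkQ ((𝔪.map (algebraMap C' A')) • (⊤ : Submodule A' M'))).restrictScalars C') z :=
  rfl

include h𝔪J in
lemma redJ_bijective : Function.Bijective (redJ J A' M' 𝔪) := by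
  set N := (𝔪.map (algebraMap C' A')) • (⊤ : Submodule A' M') with hN
  constructor
  · rw [injective_iff_map_eq_zero]
    intro z hz
    rw [redJ_apply] at hz
    have hex : Function.Exact ((N.restrictScalars C').subtype) ((N.mkQ).restrictScalars C') := by
      intro x
      constructor
      · intro hx
        exact ⟨⟨x, (Submodule.Quotient.mk_eq_zero N).mp hx⟩, rfl⟩
      · rintro ⟨y, rfl⟩
        exact (Submodule.Quotient.mk_eq_zero N).mpr y.2
    obtain ⟨y, rfl⟩ := (rTensor_exact ↥J hex (Submodule.mkQ_surjective N) z).mp hz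
    clear hz
    induction y using TensorProduct.induction_on with
    | zero => simp
    | tmul n j =>
      rw [LinearMap.rTensor_tmul]
      have hn : (n : M') ∈ N := n.2
      have : ∀ x ∈ N, x ⊗ₜ[C'] j = 0 := by
        intro x hx
        refine Submodule.smul_induction_on hx ?_ ?_
        · intro a ha m _
          exact smul_tmul_eq_zero_of_mem J M' 𝔪 h𝔪J ha m j
        · intro x y hx hy
          rw [TensorProduct.add_tmul, hx, hy, add_zero]
      exact this _ hn
    | add x y hx hy => rw [map_add, hx, hy, add_zero]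
  · exact LinearMap.rTensor_surjective ↥J (Submodule.mkQ_surjective N)

end aut

end Groth.Agent.Lib.Helper27.FlatLift
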