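import Mathlib

set_option autoImplicit false
set_option linter.style.haveILetI false
universe u
open scoped TensorProduct

namespace Groth.Agent.Lib.Helper27.SqZeroFlat

section

variable {A : Type u} [CommRing A] (J : Ideal A) (M : Type u) [AddCommGroup M] [Module A M]

theorem rTensor_injective_of_flat_quotient [Module.Flat (A ⧸ J) ((A ⧸ J) ⊗[A] M)]
    {G G' : Type u} [AddCommGroup G] [Module A G] [AddCommGroup G'] [Module A G']
    (f : G →ₗ[A] G') (hf : Function.Injective f)
    (hG : ∀ a ∈ J, ∀ g : G, a • g = 0) (hG' : ∀ a ∈ J, ∀ g : G', a • g = 0) :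
    Function.Injective (f.rTensor M) := by
  have hT : Module.IsTorsionBySet A G J := fun g a => hG a.1 a.2 g
  have hT' : Module.IsTorsionBySet A G' J := fun g a => hG' a.1 a.2 g
  letI : Module (A ⧸ J) G := hT.module
  letI : Module (A ⧸ J) G' := hT'.module
  haveI : IsScalarTower A (A ⧸ J) G := hT.isScalarTower
  haveI : IsScalarTower A (A ⧸ J) G' := hT'.isScalarTower
  let f' : G →ₗ[A ⧸ J] G' := LinearMap.extendScalarsOfSurjective Ideal.Quotient.mk_surjective f
  have h1 : Function.Injective (f'.rTensor ((A ⧸ J) ⊗[A] M)) :=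
    Module.Flat.rTensor_preserves_injective_linearMap f' hf
  let e := TensorProduct.AlgebraTensorModule.cancelBaseChange A (A ⧸ J) (A ⧸ J) G M
  let e' := TensorProduct.AlgebraTensorModule.cancelBaseChange A (A ⧸ J) (A ⧸ J) G' M
  have nat : ∀ z, f.rTensor M (e z) = e' (f'.rTensor ((A ⧸ J) ⊗[A] M) z) := by
    intro z
    induction z using TensorProduct.induction_on with
    | zero => simp
    | add x y hx hy => simp only [map_add, hx, hy]
    | tmul g w =>
      induction w using TensorProduct.induction_on with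
      | zero => simp
      | add x y hx hy => simp only [TensorProduct.tmul_add, map_add, hx, hy]
      | tmul r m =>
        simp only [e, e', TensorProduct.AlgebraTensorModule.cancelBaseChange_tmul,
          LinearMap.rTensor_tmul]
        congr 1
        exact (map_smul f' r g)
  intro x y hxy
  have hx := nat (e.symm x)
  have hy := nat (e.symm y)
  rw [LinearEquiv.apply_symm_apply] at hx hy
  rw [hx, hy] at hxy
  exact e.symm.injective (h1 (e'.injective hxy))

theorem flat_of_sq_zero (hJ : J * J = ⊥) [Module.Flat (A ⧸ J) ((A ⧸ J) ⊗[A] M)]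
    (hinj : Function.Injective (LinearMap.rTensor M J.subtype)) : Module.Flat A M := by
  rw [Module.Flat.iff_rTensor_injective']
  intro 𝔞
  rw [injective_iff_map_eq_zero]
  intro t ht
  have hJJ : ∀ a ∈ J, ∀ b ∈ J, a * b = 0 := by
    intro a ha b hb
    have : a * b ∈ J * J := Ideal.mul_mem_mul ha hb
    rwa [hJ, Ideal.mem_bot] at this
  let 𝔟 : Submodule A 𝔞 := Submodule.comap 𝔞.subtype J
  let g : 𝔞 →ₗ[A] A ⧸ J := (Ideal.Quotient.mkₐ A J).toLinearMap ∘ₗ 𝔞.subtype
  have hg : ∀ x : 𝔞, g x = 0 ↔ x ∈ 𝔟 := by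
    intro x
    change Ideal.Quotient.mk J (x : A) = 0 ↔ _
    rw [Ideal.Quotient.eq_zero_iff_mem]
    rfl
  have hle : 𝔟 ≤ LinearMap.ker g := fun x hx => (hg x).2 hx
  let ι : (𝔞 ⧸ 𝔟) →ₗ[A] A ⧸ J := 𝔟.liftQ g hle
  have hι : Function.Injective ι := by
    rw [← LinearMap.ker_eq_bot]
    exact Submodule.ker_liftQ_eq_bot _ _ hle (fun x hx => (hg x).1 hx)
  have tors1 : ∀ a ∈ J, ∀ q : 𝔞 ⧸ 𝔟, a • q = 0 := by
    intro a ha q
    obtain ⟨x, rfl⟩ := Submodule.Quotient.mk_surjective _ q
    rw [← Submodule.Quotient.mk_smul, Submodule.Quotient.mk_eq_zero]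
    change a * (x : A) ∈ J
    exact J.mul_mem_right _ ha
  have tors2 : ∀ a ∈ J, ∀ q : A ⧸ J, a • q = 0 := by
    intro a ha q
    obtain ⟨x, rfl⟩ := Ideal.Quotient.mk_surjective q
    rw [Algebra.smul_def, Ideal.Quotient.algebraMap_eq, ← map_mul,
      Ideal.Quotient.eq_zero_iff_mem]
    exact J.mul_mem_right _ ha
  have tors3 : ∀ a ∈ J, ∀ q : 𝔟, a • q = 0 := by
    intro a ha q
    apply Subtype.ext
    apply Subtype.ext
    change a * ((q : 𝔞) : A) = 0
    exact hJJ a ha _ q.2
  have tors4 : ∀ a ∈ J, ∀ q : J, a • q = 0 := by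
    intro a ha q
    apply Subtype.ext
    change a * (q : A) = 0
    exact hJJ a ha _ q.2
  have h1 : Function.Injective (ι.rTensor M) :=
    rTensor_injective_of_flat_quotient J M ι hι tors1 tors2
  have h2 : (𝔟.mkQ).rTensor M t = 0 := by
    apply h1
    rw [map_zero, ← LinearMap.comp_apply, ← LinearMap.rTensor_comp]
    have : ι ∘ₗ 𝔟.mkQ = g := Submodule.liftQ_mkQ 𝔟 g hle
    rw [this]
    change ((Ideal.Quotient.mkₐ A J).toLinearMap ∘ₗ 𝔞.subtype).rTensor M t = 0
    rw [LinearMap.rTensor_comp, LinearMap.comp_apply, ht, map_zero]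
  obtain ⟨t', rfl⟩ := (rTensor_exact (M := ↥𝔟) (f := 𝔟.subtype) M
    (LinearMap.exact_subtype_mkQ 𝔟) (Submodule.mkQ_surjective 𝔟) t).mp h2
  let κ : 𝔟 →ₗ[A] J := LinearMap.codRestrict J (𝔞.subtype ∘ₗ 𝔟.subtype) (fun x => x.2)
  have hκ : Function.Injective κ := by
    intro x y hxy
    apply Subtype.ext
    apply Subtype.ext
    exact congrArg (fun z : J => (z : A)) hxy
  have h3 : Function.Injective (κ.rTensor M) :=
    rTensor_injective_of_flat_quotient J M κ hκ tors3 tors4
  have h4 : J.subtype ∘ₗ κ = 𝔞.subtype ∘ₗ 𝔟.subtype := rfl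
  have h5 : κ.rTensor M t' = 0 := by
    apply hinj
    rw [map_zero, ← LinearMap.comp_apply, ← LinearMap.rTensor_comp, h4, LinearMap.rTensor_comp,
      LinearMap.comp_apply, ht]
  rw [h3 (h5.trans (map_zero _).symm), map_zero]

theorem flat_baseChange_of_surjective {N : Type u} [AddCommGroup N] [Module A N]
    [Module (A ⧸ J) N] [IsScalarTower A (A ⧸ J) N] [Module.Flat (A ⧸ J) N]
    (p : M →ₗ[A] N) (hp : Function.Surjective p)
    (hker : LinearMap.ker p ≤ (J • ⊤ : Submodule A M)) :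
    Module.Flat (A ⧸ J) ((A ⧸ J) ⊗[A] M) := by
  let g : (A ⧸ J) ⊗[A] M →ₗ[A ⧸ J] N := LinearMap.liftBaseChange (A ⧸ J) p
  have hform : ∀ t : (A ⧸ J) ⊗[A] M, ∃ m : M, t = 1 ⊗ₜ m := by
    intro t
    induction t using TensorProduct.induction_on with
    | zero => exact ⟨0, by simp⟩
    | tmul r m =>
      obtain ⟨a, rfl⟩ := Ideal.Quotient.mk_surjective r
      refine ⟨a • m, ?_⟩
      rw [TensorProduct.tmul_smul, TensorProduct.smul_tmul', Algebra.smul_def, mul_one]
      rfl
    | add x y hx hy =>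
      obtain ⟨m, rfl⟩ := hx
      obtain ⟨m', rfl⟩ := hy
      exact ⟨m + m', by rw [TensorProduct.tmul_add]⟩
  have hzero : ∀ m ∈ (J • ⊤ : Submodule A M), (1 : A ⧸ J) ⊗ₜ[A] m = 0 := by
    intro m hm
    refine Submodule.smul_induction_on hm ?_ ?_
    · intro j hj n _
      rw [TensorProduct.tmul_smul, TensorProduct.smul_tmul', Algebra.smul_def, mul_one,
        Ideal.Quotient.algebraMap_eq, Ideal.Quotient.eq_zero_iff_mem.mpr hj,
        TensorProduct.zero_tmul]
    · intro x y hx hy
      rw [TensorProduct.tmul_add, hx, hy, add_zero]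
  have hg : Function.Bijective g := by
    constructor
    · rw [injective_iff_map_eq_zero]
      intro t ht
      obtain ⟨m, rfl⟩ := hform t
      rw [LinearMap.liftBaseChange_tmul, one_smul] at ht
      exact hzero m (hker ht)
    · intro n
      obtain ⟨m, rfl⟩ := hp n
      exact ⟨1 ⊗ₜ m, by rw [LinearMap.liftBaseChange_tmul, one_smul]⟩
  exact Module.Flat.of_linearEquiv (LinearEquiv.ofBijective g hg)

end

end Groth.Agent.Lib.Helper27.SqZeroFlat
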