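import Mathlib
import Groth.Agent.Lib.Helper27.FlatLift
import Groth.Agent.Lib.Helper27.SqZeroFlat

set_option autoImplicit false
universe u
open scoped TensorProduct

namespace Groth.Agent.Lib.Helper27.FlatLift

open Groth.Agent.Lib.Helper27.SqZeroFlat

section general

variable {C' : Type u} [CommRing C'] (J : Ideal C')

lemma mulJ_mem_smul_top (M : Type u) [AddCommGroup M] [Module C' M] (t : M ⊗[C'] ↥J) :
    mulJ J M t ∈ (J • ⊤ : Submodule C' M) := by
  induction t using TensorProduct.induction_on with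
  | zero => simp
  | tmul m j =>
    rw [mulJ_tmul]
    exact Submodule.smul_mem_smul j.2 Submodule.mem_top
  | add x y hx hy => rw [map_add]; exact add_mem hx hy

lemma mulJ_tmul_eq_zero (hJJ : J * J = ⊥) (M : Type u) [AddCommGroup M] [Module C' M]
    (t : M ⊗[C'] ↥J) (j : J) : (mulJ J M t) ⊗ₜ[C'] j = 0 := by
  induction t using TensorProduct.induction_on with
  | zero => simp
  | tmul m j' =>
    rw [mulJ_tmul, TensorProduct.smul_tmul]
    have : (j' : C') • j = 0 := by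
      apply Subtype.ext
      have h : (j' : C') * (j : C') ∈ J * J := Ideal.mul_mem_mul j'.2 j.2
      rw [hJJ, Ideal.mem_bot] at h
      exact h
    rw [this, TensorProduct.tmul_zero]
  | add x y hx hy => rw [map_add, TensorProduct.add_tmul, hx, hy, add_zero]

lemma injective_rTensor_subtype_of_mulJ (M : Type u) [AddCommGroup M] [Module C' M]
    (h : Function.Injective (mulJ J M)) : Function.Injective (LinearMap.rTensor M J.subtype) := by
  rw [← LinearMap.lTensor_inj_iff_rTensor_inj]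
  unfold mulJ at h
  rw [LinearMap.coe_comp] at h
  exact Function.Injective.of_comp h

end general

section concrete

variable {C' : Type u} [CommRing C'] (J : Ideal C') {A' : Type u} [CommRing A'] [Algebra C' A']
  (I : Ideal (A' ⧸ J.map (algebraMap C' A')))

lemma pi_eq_zero_of_mem {I₂ : Ideal A'}
    (h : I₂.map (Ideal.Quotient.mk (J.map (algebraMap C' A'))) = I) {a : A'} (ha : a ∈ I₂) :
    IsScalarTower.toAlgHom C' A' ((A' ⧸ J.map (algebraMap C' A')) ⧸ I) a = 0 := by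
  have : Ideal.Quotient.mk (J.map (algebraMap C' A')) a ∈ I := h ▸ Ideal.mem_map_of_mem _ ha
  exact Ideal.Quotient.eq_zero_iff_mem.mpr this

lemma exists_of_pi_eq_zero {I₂ : Ideal A'}
    (h : I₂.map (Ideal.Quotient.mk (J.map (algebraMap C' A'))) = I) {a : A'}
    (ha : IsScalarTower.toAlgHom C' A' ((A' ⧸ J.map (algebraMap C' A')) ⧸ I) a = 0) :
    ∃ x ∈ I₂, ∃ w : A' ⊗[C'] ↥J, a = x + mulJ J A' w := by
  have h1 : Ideal.Quotient.mk (J.map (algebraMap C' A')) a ∈ I :=
    Ideal.Quotient.eq_zero_iff_mem.mp ha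
  rw [← h] at h1
  obtain ⟨x, hx, e⟩ := (Ideal.mem_map_iff_of_surjective _ Ideal.Quotient.mk_surjective).mp h1
  have hk : a - x ∈ J.map (algebraMap C' A') := by
    rw [← Ideal.Quotient.eq, e]
  obtain ⟨w, hw⟩ := exists_mulJ_eq J A' hk
  exact ⟨x, hx, w, by rw [hw]; ring⟩

lemma rTensor_mk_eq_zero_of_rTensor_pi (hJJ : J * J = ⊥) {I₂ : Ideal A'}
    (h : I₂.map (Ideal.Quotient.mk (J.map (algebraMap C' A'))) = I) (z : A' ⊗[C'] ↥J)
    (hz : LinearMap.rTensor ↥J
      (IsScalarTower.toAlgHom C' A' ((A' ⧸ J.map (algebraMap C' A')) ⧸ I)).toLinearMap z = 0) :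
    LinearMap.rTensor ↥J (Ideal.Quotient.mkₐ C' I₂).toLinearMap z = 0 := by
  set π := (IsScalarTower.toAlgHom C' A' ((A' ⧸ J.map (algebraMap C' A')) ⧸ I)).toLinearMap
  have hsurj : Function.Surjective π := by
    intro b
    obtain ⟨b', rfl⟩ := Ideal.Quotient.mk_surjective b
    obtain ⟨a, rfl⟩ := Ideal.Quotient.mk_surjective b'
    exact ⟨a, rfl⟩
  obtain ⟨y, rfl⟩ := (rTensor_exact (f := (LinearMap.ker π).subtype) ↥J
    (LinearMap.exact_subtype_ker_map π) hsurj z).mp hz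
  clear hz
  induction y using TensorProduct.induction_on with
  | zero => simp
  | tmul p j =>
    obtain ⟨x, hx, w, e⟩ := exists_of_pi_eq_zero J I h (a := (p : A')) p.2
    rw [LinearMap.rTensor_tmul, LinearMap.rTensor_tmul, Submodule.subtype_apply, e]
    rw [map_add, TensorProduct.add_tmul]
    have h1 : (Ideal.Quotient.mkₐ C' I₂).toLinearMap x = 0 :=
      Ideal.Quotient.eq_zero_iff_mem.mpr hx
    rw [h1, TensorProduct.zero_tmul, zero_add, ← mulJ_natural]
    exact mulJ_tmul_eq_zero J hJJ _ _ j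
  | add x y hx hy => rw [map_add, map_add, hx, hy, add_zero]

lemma mulJ_quotient_injective (hJJ : J * J = ⊥) {I₂ : Ideal A'}
    (h : I₂.map (Ideal.Quotient.mk (J.map (algebraMap C' A'))) = I)
    (hcrit : ∀ z : A' ⊗[C'] ↥J, mulJ J A' z ∈ I₂ → LinearMap.rTensor ↥J
      (IsScalarTower.toAlgHom C' A' ((A' ⧸ J.map (algebraMap C' A')) ⧸ I)).toLinearMap z = 0) :
    Function.Injective (mulJ J (A' ⧸ I₂)) := by
  rw [injective_iff_map_eq_zero]
  intro t ht
  obtain ⟨z, rfl⟩ := LinearMap.rTensor_surjective ↥J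
    (g := (Ideal.Quotient.mkₐ C' I₂).toLinearMap) (Ideal.Quotient.mkₐ_surjective C' I₂) t
  rw [mulJ_natural] at ht
  have hz : mulJ J A' z ∈ I₂ := Ideal.Quotient.eq_zero_iff_mem.mp ht
  exact rTensor_mk_eq_zero_of_rTensor_pi J I hJJ h z (hcrit z hz)

lemma mulJ_mem_of_rTensor_pi (hJJ : J * J = ⊥) {I₂ : Ideal A'}
    (h : I₂.map (Ideal.Quotient.mk (J.map (algebraMap C' A'))) = I) (z : A' ⊗[C'] ↥J)
    (hz : LinearMap.rTensor ↥J
      (IsScalarTower.toAlgHom C' A' ((A' ⧸ J.map (algebraMap C' A')) ⧸ I)).toLinearMap z = 0) :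
    mulJ J A' z ∈ I₂ := by
  have h0 := rTensor_mk_eq_zero_of_rTensor_pi J I hJJ h z hz
  have := mulJ_natural J (Ideal.Quotient.mkₐ C' I₂).toLinearMap z
  rw [h0, map_zero] at this
  exact Ideal.Quotient.eq_zero_iff_mem.mp this.symm

theorem flat_quotient_of_crit (hJJ : J * J = ⊥)
    [Module.Flat (C' ⧸ J) ((A' ⧸ J.map (algebraMap C' A')) ⧸ I)] {I₂ : Ideal A'}
    (h : I₂.map (Ideal.Quotient.mk (J.map (algebraMap C' A'))) = I)
    (hcrit : ∀ z : A' ⊗[C'] ↥J, mulJ J A' z ∈ I₂ → LinearMap.rTensor ↥J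
      (IsScalarTower.toAlgHom C' A' ((A' ⧸ J.map (algebraMap C' A')) ⧸ I)).toLinearMap z = 0) :
    Module.Flat C' (A' ⧸ I₂) := by
  set π := IsScalarTower.toAlgHom C' A' ((A' ⧸ J.map (algebraMap C' A')) ⧸ I)
  have hπ : ∀ a ∈ I₂, π a = 0 := fun a ha => pi_eq_zero_of_mem J I h ha
  let p : (A' ⧸ I₂) →ₗ[C'] ((A' ⧸ J.map (algebraMap C' A')) ⧸ I) :=
    (Ideal.Quotient.liftₐ I₂ π hπ).toLinearMap
  have hp : Function.Surjective p := by
    intro b
    obtain ⟨b', rfl⟩ := Ideal.Quotient.mk_surjective b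
    obtain ⟨a, rfl⟩ := Ideal.Quotient.mk_surjective b'
    exact ⟨Ideal.Quotient.mk I₂ a, rfl⟩
  have hker : LinearMap.ker p ≤ (J • ⊤ : Submodule C' (A' ⧸ I₂)) := by
    intro q hq
    obtain ⟨a, rfl⟩ := Ideal.Quotient.mk_surjective q
    have ha : π a = 0 := hq
    obtain ⟨x, hx, w, e⟩ := exists_of_pi_eq_zero J I h ha
    have : Ideal.Quotient.mk I₂ a = mulJ J (A' ⧸ I₂)
        (LinearMap.rTensor ↥J (Ideal.Quotient.mkₐ C' I₂).toLinearMap w) := by
      rw [mulJ_natural, e, map_add, Ideal.Quotient.eq_zero_iff_mem.mpr hx, zero_add]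
      rfl
    rw [this]
    exact mulJ_mem_smul_top J _ _
  have := flat_baseChange_of_surjective J (A' ⧸ I₂) p hp hker
  exact flat_of_sq_zero J (A' ⧸ I₂) hJJ
    (injective_rTensor_subtype_of_mulJ J _ (mulJ_quotient_injective J I hJJ h hcrit))

end concrete

end Groth.Agent.Lib.Helper27.FlatLift
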