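import Mathlib

set_option autoImplicit false

namespace Groth.Agent.Lib.Helper27.FrobJac

universe u v

open Finset Nat

section basics
variable {k : Type u} {A : Type v} [CommRing k] [CommRing A] [Algebra k A] {n : ℕ}
  (t : Fin n → A) (b : Module.Basis (Fin n) A (KaehlerDifferential k A))

noncomputable def pd (j : Fin n) : Derivation k A A :=
  (b.coord j).compDer (KaehlerDifferential.D k A)

lemma pd_apply (j : Fin n) (a : A) : pd b j a = b.coord j (KaehlerDifferential.D k A a) := rfl

variable (hb : ∀ i, b i = KaehlerDifferential.D k A (t i))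

include hb in
lemma pd_t (i j : Fin n) : pd b j (t i) = if i = j then 1 else 0 := by
  rw [pd_apply, ← hb i, Module.Basis.coord_apply, Module.Basis.repr_self, Finsupp.single_apply]

include hb in
lemma der_eq_zero (δ : Derivation k A A) (h : ∀ i, δ (t i) = 0) : δ = 0 := by
  have hl : δ.liftKaehlerDifferential = 0 := by
    apply b.ext
    intro i
    rw [hb i, Derivation.liftKaehlerDifferential_comp_D, h i, LinearMap.zero_apply]
  ext a
  rw [← Derivation.liftKaehlerDifferential_comp_D δ a, hl, LinearMap.zero_apply,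
    Derivation.coe_zero, Pi.zero_apply]

include hb in
lemma pd_comm (i j : Fin n) (a : A) : pd b i (pd b j a) = pd b j (pd b i a) := by
  have h0 : ⁅pd b i, pd b j⁆ = 0 := by
    apply der_eq_zero t b hb
    intro l
    rw [Derivation.commutator_apply, pd_t t b hb, pd_t t b hb]
    split_ifs <;> simp
  have := congrArg (fun δ : Derivation k A A => δ a) h0
  simp only [Derivation.commutator_apply, Derivation.coe_zero, Pi.zero_apply] at this
  exact sub_eq_zero.mp this

end basics

section leibniz
variable {k : Type u} {A : Type v} [CommRing k] [CommRing A] [Algebra k A]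

theorem iterate_leibniz (δ : Derivation k A A) (m : ℕ) (a b : A) :
    δ^[m] (a * b) = ∑ ij ∈ antidiagonal m, choose m ij.1 • (δ^[ij.1] a * δ^[ij.2] b) := by
  induction m with
  | zero => simp
  | succ m ih =>
    rw [sum_antidiagonal_choose_succ_nsmul (M := A) (fun i j => δ^[i] a * δ^[j] b) m]
    simp only [Function.iterate_succ_apply', ih, map_sum, map_nsmul, Derivation.leibniz,
      smul_eq_mul, smul_add, sum_add_distrib]
    congr 1
    refine sum_congr rfl fun ⟨i, j⟩ hij ↦ ?_
    rw [m.choose_symm_of_eq_add (mem_antidiagonal.1 hij).symm, mul_comm (δ^[j] b)]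

lemma iterate_const_zero (δ : Derivation k A A) (m : ℕ) (hm : 0 < m) : δ^[m] 1 = 0 := by
  obtain ⟨m', rfl⟩ := Nat.exists_eq_succ_of_ne_zero hm.ne'
  rw [Function.iterate_succ_apply, Derivation.map_one_eq_zero]
  exact iterate_map_zero δ m'

variable (p : ℕ) [Fact p.Prime] (hp : ((p : ℕ) : A) = 0)

include hp in
lemma iterate_p_leibniz (δ : Derivation k A A) (a b : A) :
    δ^[p] (a * b) = a * δ^[p] b + b * δ^[p] a := by
  have hpp : p.Prime := Fact.out
  rw [iterate_leibniz, Nat.sum_antidiagonal_eq_sum_range_succ_mk, Finset.sum_range_succ,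
    Finset.sum_eq_single_of_mem 0 (mem_range.mpr hpp.pos)]
  · simp only [Nat.choose_zero_right, Function.iterate_zero, id_eq, Nat.sub_zero, one_smul,
      Nat.choose_self, Nat.sub_self]
    rw [mul_comm (δ^[p] a) b]
  · intro i hi hi0
    have hi' : i < p := Finset.mem_range.mp hi
    obtain ⟨c, hc⟩ := hpp.dvd_choose_self hi0 hi'
    dsimp only
    rw [hc, nsmul_eq_mul, Nat.cast_mul, hp, zero_mul, zero_mul]

noncomputable def powDer (δ : Derivation k A A) : Derivation k A A where
  toLinearMap := (δ : A →ₗ[k] A) ^ p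
  map_one_eq_zero' := by
    rw [Module.End.pow_apply]
    exact iterate_const_zero δ p (Fact.out : p.Prime).pos
  leibniz' a b := by
    rw [Module.End.pow_apply, Module.End.pow_apply, Module.End.pow_apply]
    exact iterate_p_leibniz p hp δ a b

lemma powDer_apply (δ : Derivation k A A) (a : A) : powDer p hp δ a = δ^[p] a := by
  change ((δ : A →ₗ[k] A) ^ p) a = _
  rw [Module.End.pow_apply]
  rfl

lemma der_prod {ι : Type*} [DecidableEq ι] (δ : Derivation k A A) (s : Finset ι) (g : ι → A) :
    δ (∏ i ∈ s, g i) = ∑ l ∈ s, δ (g l) * ∏ i ∈ s.erase l, g i := by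
  induction s using Finset.induction_on with
  | empty => simp
  | insert a s ha ih =>
    rw [Finset.prod_insert ha, Derivation.leibniz, ih, Finset.sum_insert ha,
      Finset.erase_insert ha, smul_eq_mul, smul_eq_mul, Finset.mul_sum, add_comm, mul_comm]
    congr 1
    refine Finset.sum_congr rfl fun l hl => ?_
    have hla : l ≠ a := fun h => ha (h ▸ hl)
    rw [Finset.erase_insert_of_ne (Ne.symm hla), Finset.prod_insert (fun h => ha (Finset.mem_of_mem_erase h))]
    ring

lemma iterate_pow_mul (δ : Derivation k A A) (x c : A) (hx : δ x = 1) (hc : δ c = 0) (m j : ℕ)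
    (hj : j ≤ m) : δ^[j] (x ^ m * c) = (m.descFactorial j) • (x ^ (m - j) * c) := by
  induction j with
  | zero => simp
  | succ j ih =>
    rw [Function.iterate_succ_apply', ih (Nat.le_of_succ_le hj), map_nsmul, Derivation.leibniz,
      Derivation.leibniz_pow, hx, hc, smul_zero, zero_add, smul_eq_mul, smul_eq_mul, mul_one,
      Nat.descFactorial_succ, mul_smul]
    have h1 : m - j - 1 = m - (j + 1) := by omega
    rw [h1, nsmul_eq_mul, nsmul_eq_mul, nsmul_eq_mul, nsmul_eq_mul]
    ring

end leibniz

section Lam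
variable {k : Type u} {A : Type v} [CommRing k] [CommRing A] [Algebra k A] {n : ℕ}
  (t : Fin n → A) (b : Module.Basis (Fin n) A (KaehlerDifferential k A))
  (hb : ∀ i, b i = KaehlerDifferential.D k A (t i))
  (p : ℕ) [Fact p.Prime] (hp : ((p : ℕ) : A) = 0)

include hb hp in
lemma pd_iterate_p (j : Fin n) (a : A) : (pd b j)^[p] a = 0 := by
  have hpp : p.Prime := Fact.out
  have h0 : powDer p hp (pd b j) = 0 := by
    apply der_eq_zero t b hb
    intro i
    rw [powDer_apply]
    obtain ⟨q, hq⟩ : ∃ q, p = q + 1 := Nat.exists_eq_succ_of_ne_zero hpp.ne_zero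
    have hq0 : 0 < q := by
      have := hpp.two_le
      omega
    rw [hq, Function.iterate_succ_apply, pd_t t b hb]
    split_ifs
    · exact iterate_const_zero _ q hq0
    · exact iterate_map_zero (pd b j) q
  have := congrArg (fun δ : Derivation k A A => δ a) h0
  simp only [Derivation.coe_zero, Pi.zero_apply] at this
  rw [powDer_apply] at this
  exact this

noncomputable def pdEnd (j : Fin n) : Module.End k A := (pd b j : A →ₗ[k] A)

lemma pdEnd_apply (j : Fin n) (a : A) : pdEnd b j a = pd b j a := rfl

lemma pdEnd_pow_apply (j : Fin n) (m : ℕ) (a : A) : (pdEnd b j ^ m) a = (pd b j)^[m] a := by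
  rw [Module.End.pow_apply]
  rfl

include hb in
lemma pdEnd_commute (i j : Fin n) : Commute (pdEnd b i) (pdEnd b j) := by
  change pdEnd b i * pdEnd b j = pdEnd b j * pdEnd b i
  ext a
  exact pd_comm t b hb i j a

include hb in
lemma LamOn_comm (s : Finset (Fin n)) :
    (↑s : Set (Fin n)).Pairwise (Function.onFun Commute fun j => pdEnd b j ^ (p - 1)) :=
  fun i _ j _ _ => (pdEnd_commute t b hb i j).pow_pow _ _

noncomputable def LamOn (s : Finset (Fin n)) : Module.End k A :=
  s.noncommProd (fun j => pdEnd b j ^ (p - 1)) (LamOn_comm t b hb p s)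

include hp in
lemma LamOn_pd (s : Finset (Fin n)) (j : Fin n) (hj : j ∈ s) (g : A) :
    LamOn t b hb p s (pd b j g) = 0 := by
  have hpp : p.Prime := Fact.out
  unfold LamOn
  rw [← Finset.noncommProd_erase_mul s hj, Module.End.mul_apply, ← pdEnd_apply,
    ← Module.End.mul_apply (pdEnd b j ^ (p - 1)), ← pow_succ,
    Nat.sub_add_cancel hpp.one_le, pdEnd_pow_apply, pd_iterate_p t b hb p hp, map_zero]

include hp in
lemma LamOn_prod (s : Finset (Fin n)) (c : A) (hc : ∀ j ∈ s, pd b j c = 0) :
    LamOn t b hb p s ((∏ i ∈ s, t i ^ (p - 1)) * c) = ((p - 1).factorial ^ s.card) • c := by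
  induction s using Finset.induction_on generalizing c with
  | empty =>
    unfold LamOn
    simp
  | insert a s ha ih =>
    have hstep : LamOn t b hb p (insert a s) =
        pdEnd b a ^ (p - 1) * LamOn t b hb p s := by
      unfold LamOn
      rw [Finset.noncommProd_insert_of_notMem _ _ _ _ ha]
    have hc' : ∀ j ∈ s, pd b j (t a ^ (p - 1) * c) = 0 := by
      intro j hj
      have hja : a ≠ j := fun h => ha (h ▸ hj)
      rw [Derivation.leibniz, hc j (Finset.mem_insert_of_mem hj), Derivation.leibniz_pow,
        pd_t t b hb, if_neg hja]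
      simp
    rw [hstep, Module.End.mul_apply, Finset.prod_insert ha,
      show (t a ^ (p - 1) * ∏ i ∈ s, t i ^ (p - 1)) * c =
        (∏ i ∈ s, t i ^ (p - 1)) * (t a ^ (p - 1) * c) by ring,
      ih _ hc', map_nsmul, pdEnd_pow_apply,
      iterate_pow_mul (pd b a) (t a) c (by rw [pd_t t b hb, if_pos rfl])
        (hc a (Finset.mem_insert_self a s)) (p - 1) (p - 1) le_rfl,
      Nat.descFactorial_self, Nat.sub_self, pow_zero, one_mul, Finset.card_insert_of_notMem ha,
      pow_succ, mul_smul]

end Lam

end Groth.Agent.Lib.Helper27.FrobJac
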