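import Mathlib
import Groth.Agent.Lib.Helper27.FrobJacA

set_option autoImplicit false

namespace Groth.Agent.Lib.Helper27.FrobJac

universe u v

open Finset Equiv

section divergence
variable {k : Type u} {A : Type v} [CommRing k] [CommRing A] [Algebra k A]
  {ι : Type*} [Fintype ι] [DecidableEq ι]
  (dd : ι → Derivation k A A) (hcomm : ∀ i j a, dd i (dd j a) = dd j (dd i a))

include hcomm in
lemma star_zero (N : Matrix ι ι A) (i₀ l : ι) (hl : l ≠ i₀)
    (hrow : (∃ g, ∀ j, N l j = dd j g) ∨ (∀ j j', j' ≠ j → dd j' (N l j) = 0)) :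
    ∑ σ : Perm ι, Perm.sign σ •
      (dd (σ i₀) (N l (σ l)) * ∏ i ∈ (univ.erase i₀).erase l, N i (σ i)) = 0 := by
  rcases hrow with ⟨g, hg⟩ | hrow
  · refine Finset.sum_ninvolution (fun σ => σ * Equiv.swap i₀ l) ?_ ?_ (fun _ => mem_univ _) ?_
    · intro σ
      have h1 : (σ * Equiv.swap i₀ l) i₀ = σ l := by
        rw [Perm.mul_apply, Equiv.swap_apply_left]
      have h2 : (σ * Equiv.swap i₀ l) l = σ i₀ := by
        rw [Perm.mul_apply, Equiv.swap_apply_right]
      have h3 : ∏ i ∈ (univ.erase i₀).erase l, N i ((σ * Equiv.swap i₀ l) i) =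
          ∏ i ∈ (univ.erase i₀).erase l, N i (σ i) := by
        refine Finset.prod_congr rfl fun i hi => ?_
        have hil : i ≠ l := Finset.ne_of_mem_erase hi
        have hi0 : i ≠ i₀ := Finset.ne_of_mem_erase (Finset.mem_of_mem_erase hi)
        rw [Perm.mul_apply, Equiv.swap_apply_of_ne_of_ne hi0 hil]
      rw [h1, h2, h3, hg, hg, hcomm (σ l) (σ i₀), Perm.sign_mul, Perm.sign_swap hl.symm, mul_neg_one,
        Units.neg_smul, add_neg_cancel]
    · intro σ _ h
      have : Equiv.swap i₀ l = 1 := by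
        have := congrArg (fun τ => σ⁻¹ * τ) h
        simpa using this
      have h4 := congrArg (fun τ : Perm ι => τ i₀) this
      simp only [Equiv.swap_apply_left, Perm.one_apply] at h4
      exact hl h4
    · intro σ
      rw [mul_assoc, Equiv.swap_mul_self, mul_one]
  · refine Finset.sum_eq_zero fun σ _ => ?_
    have hne : σ i₀ ≠ σ l := fun h => hl (σ.injective h).symm
    rw [hrow (σ l) (σ i₀) hne, zero_mul, smul_zero]

variable {B : Type*} [AddCommGroup B] (L : A →+ B) (hL : ∀ j g, L (dd j g) = 0)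

include hcomm hL in
theorem L_det_eq_zero (N : Matrix ι ι A) (i₀ : ι) (f₀ : A) (h0 : ∀ j, N i₀ j = dd j f₀)
    (hrows : ∀ l, l ≠ i₀ →
      (∃ g, ∀ j, N l j = dd j g) ∨ (∀ j j', j' ≠ j → dd j' (N l j) = 0)) :
    L N.det = 0 := by
  have hdet : N.det = ∑ σ : Perm ι, Perm.sign σ • ∏ i, N i (σ i) := by
    rw [← Matrix.det_transpose, Matrix.det_apply]
    rfl
  have hterm : ∀ σ : Perm ι, ∏ i, N i (σ i) =
      dd (σ i₀) (f₀ * ∏ i ∈ univ.erase i₀, N i (σ i)) -
        f₀ * dd (σ i₀) (∏ i ∈ univ.erase i₀, N i (σ i)) := by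
    intro σ
    rw [← Finset.mul_prod_erase univ _ (mem_univ i₀), h0, Derivation.leibniz, smul_eq_mul,
      smul_eq_mul]
    ring
  have hstar : ∑ σ : Perm ι, Perm.sign σ • dd (σ i₀) (∏ i ∈ univ.erase i₀, N i (σ i)) = 0 := by
    have h1 : ∀ σ : Perm ι, Perm.sign σ • dd (σ i₀) (∏ i ∈ univ.erase i₀, N i (σ i)) =
        ∑ l ∈ univ.erase i₀, Perm.sign σ •
          (dd (σ i₀) (N l (σ l)) * ∏ i ∈ (univ.erase i₀).erase l, N i (σ i)) := by
      intro σ
      rw [der_prod, Finset.smul_sum]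
    rw [Finset.sum_congr rfl (fun σ _ => h1 σ), Finset.sum_comm]
    refine Finset.sum_eq_zero fun l hl => ?_
    have hl' : l ≠ i₀ := Finset.ne_of_mem_erase hl
    exact star_zero dd hcomm N i₀ l hl' (hrows l hl')
  rw [hdet, Finset.sum_congr rfl (fun σ _ => by rw [hterm σ]), map_sum]
  have h2 : ∀ σ : Perm ι, L (Perm.sign σ • (dd (σ i₀) (f₀ * ∏ i ∈ univ.erase i₀, N i (σ i)) -
      f₀ * dd (σ i₀) (∏ i ∈ univ.erase i₀, N i (σ i)))) =
      - L (f₀ * (Perm.sign σ • dd (σ i₀) (∏ i ∈ univ.erase i₀, N i (σ i)))) := by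
    intro σ
    rw [smul_sub, map_sub, Units.smul_def, map_zsmul, hL, smul_zero, zero_sub, mul_smul_comm]
  rw [Finset.sum_congr rfl (fun σ _ => h2 σ), Finset.sum_neg_distrib, ← map_sum, ← Finset.mul_sum,
    hstar, mul_zero, map_zero, neg_zero]

end divergence

end Groth.Agent.Lib.Helper27.FrobJac
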