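import Mathlib
import Groth.Agent.Lib.Helper27.FrobJacA
import Groth.Agent.Lib.Helper27.FrobJacB

set_option autoImplicit false

namespace Groth.Agent.Lib.Helper27.FrobJac

universe u v

open Finset

section main
variable {k : Type u} {A : Type v} [CommRing k] [CommRing A] [Algebra k A] {n : ℕ}
  (t : Fin n → A) (b : Module.Basis (Fin n) A (KaehlerDifferential k A))
  (hb : ∀ i, b i = KaehlerDifferential.D k A (t i))
  (p : ℕ) [Fact p.Prime] (hp : ((p : ℕ) : A) = 0)

include hp in
theorem Lam_det (f : Fin n → A) :
    LamOn t b hb p univ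
      (Matrix.of fun i j : Fin n =>
        (if i = j then t i ^ (p - 1) else 0) +
          b.coord j (KaehlerDifferential.D k A (f i))).det =
      (((p - 1).factorial ^ n : ℕ) : A) := by
  let Dg : Fin n → (Fin n → A) := fun i j => if i = j then t i ^ (p - 1) else 0
  let Jm : Fin n → (Fin n → A) := fun i j => pd b j (f i)
  have hM : (Matrix.of fun i j : Fin n =>
        (if i = j then t i ^ (p - 1) else 0) +
          b.coord j (KaehlerDifferential.D k A (f i))) = Matrix.of (Dg + Jm) := by
    ext i j
    rfl
  have hexp : (Matrix.of (Dg + Jm)).det =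
      ∑ s : Finset (Fin n), (Matrix.of (s.piecewise Dg Jm)).det := by
    change Matrix.detRowAlternating (Dg + Jm) = _
    exact (Matrix.detRowAlternating (R := A) (n := Fin n)).toMultilinearMap.map_add_univ Dg Jm
  rw [hM, hexp, map_sum, Finset.sum_eq_single (univ : Finset (Fin n))]
  · have hD : Matrix.of ((univ : Finset (Fin n)).piecewise Dg Jm) =
        Matrix.diagonal (fun i => t i ^ (p - 1)) := by
      ext i j
      rw [Matrix.of_apply, Finset.piecewise_eq_of_mem _ _ _ (mem_univ i), Matrix.diagonal_apply]
    rw [hD, Matrix.det_diagonal, ← mul_one (∏ i, t i ^ (p - 1)),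
      LamOn_prod t b hb p hp univ 1 (fun j _ => Derivation.map_one_eq_zero _), Finset.card_univ,
      Fintype.card_fin, nsmul_eq_mul, mul_one]
  · intro s _ hs
    obtain ⟨i₀, hi₀⟩ : ∃ i₀, i₀ ∉ s := by
      by_contra hcon
      push Not at hcon
      exact hs (Finset.eq_univ_iff_forall.mpr hcon)
    refine L_det_eq_zero (pd b) (pd_comm t b hb)
      ((LamOn t b hb p univ : A →ₗ[k] A).toAddMonoidHom)
      (fun j g => LamOn_pd t b hb p hp univ j (mem_univ j) g)
      (Matrix.of (s.piecewise Dg Jm)) i₀ (f i₀) ?_ ?_
    · intro j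
      rw [Matrix.of_apply, Finset.piecewise_eq_of_notMem _ _ _ hi₀]
    · intro l _
      by_cases hl : l ∈ s
      · right
        intro j j' hjj'
        rw [Matrix.of_apply, Finset.piecewise_eq_of_mem _ _ _ hl]
        change pd b j' (if l = j then t l ^ (p - 1) else 0) = 0
        split_ifs with hlj
        · rw [Derivation.leibniz_pow, pd_t t b hb, if_neg (by rw [hlj]; exact hjj'.symm)]
          simp
        · exact map_zero _
      · left
        refine ⟨f l, fun j => ?_⟩
        rw [Matrix.of_apply, Finset.piecewise_eq_of_notMem _ _ _ hl]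
  · intro h
    exact absurd (mem_univ _) h

include hb hp in
theorem det_ne_zero [IsDomain A] [CharP A p] (f : Fin n → A) :
    (Matrix.of fun i j : Fin n =>
        (if i = j then t i ^ (p - 1) else 0) +
          b.coord j (KaehlerDifferential.D k A (f i))).det ≠ 0 := by
  intro h0
  have h1 := Lam_det t b hb p hp f
  rw [h0, map_zero] at h1
  have hpp : p.Prime := Fact.out
  have h2 : ((((p - 1).factorial ^ n : ℕ)) : A) ≠ 0 := by
    rw [Nat.cast_pow]
    apply pow_ne_zero
    intro h3
    rw [CharP.cast_eq_zero_iff A p, hpp.dvd_factorial] at h3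
    have := hpp.one_le
    omega
  exact h2 h1.symm

end main

end Groth.Agent.Lib.Helper27.FrobJac
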