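import Mathlib.RingTheory.GradedAlgebra.Basic
import Mathlib.RingTheory.Derivation.Basic
import Mathlib.RingTheory.Ideal.Maximal

set_option autoImplicit false

namespace Groth.Agent.Lib.Helper27

open DirectSum

theorem exists_homogeneous_slice
    {k : Type*} [CommRing k] {A : Type*} [CommRing A] [Algebra k A]
    {Λ : Type*} [AddCommGroup Λ] [DecidableEq Λ]
    (𝒜 : Λ → Submodule k A) [GradedAlgebra 𝒜]
    (hpos : ∀ w : Λ, w ≠ 0 → 𝒜 w = ⊥ ∨ 𝒜 (-w) = ⊥)
    (D : Derivation k A A) (d : Λ)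
    (hhom : ∀ (w : Λ) (a : A), a ∈ 𝒜 w → D a ∈ 𝒜 (w + d)) (hd : 𝒜 d = ⊥)
    (hfix : ∀ m : Ideal A, m.IsMaximal → (∀ w : Λ, w ≠ 0 → (𝒜 w : Set A) ⊆ m) →
      ¬ (Set.range D ⊆ m)) :
    ∃ s ∈ 𝒜 (-d), D s = 1 := by
  classical
  -- the ideal J
  let gens : Set A := (⋃ (w : Λ) (_ : w ≠ 0), (𝒜 w : Set A)) ∪ Set.range D
  have hJ : Ideal.span gens = ⊤ := by
    by_contra hne
    obtain ⟨m, hm, hle⟩ := Ideal.exists_le_maximal _ hne
    apply hfix m hm
    · intro w hw x hx
      apply hle
      apply Ideal.subset_span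
      left
      simp only [Set.mem_iUnion]
      exact ⟨w, hw, hx⟩
    · rintro _ ⟨a, rfl⟩
      apply hle
      apply Ideal.subset_span
      right
      exact ⟨a, rfl⟩
  -- the target set
  let E : Set A := {e | ∃ f ∈ 𝒜 (-d), D f = e}
  have hE0 : (0 : A) ∈ E := ⟨0, Submodule.zero_mem _, map_zero _⟩
  have hEadd : ∀ x y, x ∈ E → y ∈ E → x + y ∈ E := by
    rintro x y ⟨f, hf, rfl⟩ ⟨g, hg, rfl⟩
    exact ⟨f + g, Submodule.add_mem _ hf hg, map_add _ _ _⟩
  have hD0 : ∀ c ∈ 𝒜 0, D c = 0 := by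
    intro c hc
    have := hhom 0 c hc
    rw [zero_add, hd] at this
    exact (Submodule.mem_bot _).1 this
  have hEmul : ∀ c ∈ 𝒜 0, ∀ f ∈ 𝒜 (-d), c * D f ∈ E := by
    intro c hc f hf
    refine ⟨c * f, ?_, ?_⟩
    · have := SetLike.GradedMul.mul_mem hc hf
      rwa [zero_add] at this
    · rw [Derivation.leibniz, hD0 c hc, smul_zero, add_zero, smul_eq_mul]
  -- homogeneous elements of nonzero degree
  have hhomog : ∀ (w : Λ), w ≠ 0 → ∀ g ∈ 𝒜 w, ∀ b : A, ((decompose 𝒜 (b * g) 0 : 𝒜 0) : A) = 0 := by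
    intro w hw g hg b
    have h1 := coe_decompose_mul_add_of_right_mem 𝒜 (i := -w) (j := w) (a := b) hg
    rw [neg_add_cancel] at h1
    rw [h1]
    rcases hpos w hw with h | h
    · rw [h] at hg
      rw [(Submodule.mem_bot _).1 hg, mul_zero]
    · have h2 : ∀ z : A, z ∈ 𝒜 (-w) → z = 0 := by
        intro z hz
        rw [h] at hz
        exact (Submodule.mem_bot _).1 hz
      rw [h2 _ (Submodule.coe_mem _), zero_mul]
  have key : ∀ x ∈ Ideal.span gens, ∀ b : A, ((decompose 𝒜 (b * x) 0 : 𝒜 0) : A) ∈ E := by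
    intro x hx
    induction hx using Submodule.span_induction with
    | mem x hx =>
      intro b
      rcases hx with hx | hx
      · simp only [Set.mem_iUnion] at hx
        obtain ⟨w, hw, hxw⟩ := hx
        rw [hhomog w hw x hxw b]
        exact hE0
      · obtain ⟨f, rfl⟩ := hx
        have hsum : D f = ∑ i ∈ (decompose 𝒜 f).support, D ((decompose 𝒜 f i : 𝒜 i) : A) := by
          conv_lhs => rw [← sum_support_decompose 𝒜 f]
          rw [map_sum]
        rw [hsum, Finset.mul_sum, decompose_sum, DFinsupp.finset_sum_apply,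
          AddSubmonoidClass.coe_finset_sum]
        apply Finset.sum_induction _ (· ∈ E) hEadd hE0
        intro i _
        have hfi : ((decompose 𝒜 f i : 𝒜 i) : A) ∈ 𝒜 i := Submodule.coe_mem _
        by_cases hid : i + d = 0
        · have h1 := coe_decompose_mul_add_of_right_mem 𝒜 (i := (0 : Λ)) (j := i + d) (a := b)
            (hhom i _ hfi)
          rw [hid, add_zero] at h1
          rw [h1]
          have hi : i = -d := eq_neg_of_add_eq_zero_left hid
          apply hEmul _ (Submodule.coe_mem _)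
          rw [← hi]
          exact hfi
        · rw [hhomog (i + d) hid _ (hhom i _ hfi) b]
          exact hE0
    | zero => intro b; simpa using hE0
    | add x y _ _ hx hy =>
      intro b
      rw [mul_add, decompose_add, DirectSum.add_apply, Submodule.coe_add]
      exact hEadd _ _ (hx b) (hy b)
    | smul c x _ hx =>
      intro b
      rw [smul_eq_mul, ← mul_assoc]
      exact hx (b * c)
  have h1 := key 1 (by rw [hJ]; trivial) 1
  rw [mul_one, decompose_of_mem_same 𝒜 (SetLike.GradedOne.one_mem)] at h1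
  obtain ⟨f, hf, hDf⟩ := h1
  exact ⟨f, hf, hDf⟩

end Groth.Agent.Lib.Helper27
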