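import Mathlib
import Groth.Agent.Lib.Helper58.HenselPairUniq

set_option autoImplicit false
universe u

namespace Groth.Agent.Lib.Helper27.IndEtHull

open TensorProduct


section Loc

variable {A : Type u} [CommRing A] {Ω : Type u} [CommRing Ω] [Algebra A Ω]
variable {E : Type u} [CommRing E] [Algebra A E] (σ : E →ₐ[A] Ω)

/-- the submonoid of elements of a pointed algebra which are invertible at the point. -/
def unitSub : Submonoid E := (IsUnit.submonoid (Ω)).comap (σ : E →* Ω)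

lemma mem_unitSub {x : E} : x ∈ unitSub σ ↔ IsUnit (σ x) := Iff.rfl

/-- localization of a pointed algebra `(E, σ : E → A/I)` at the elements invertible at the point. -/
abbrev Loc : Type u := Localization (unitSub σ)

/-- the induced point of the localization. -/
noncomputable def Loc.ε : Loc σ →ₐ[A] Ω :=
  IsLocalization.liftAlgHom (M := unitSub σ) (f := σ) (fun y => (mem_unitSub σ).1 y.2)

@[simp]
lemma Loc.ε_algebraMap (a : E) : Loc.ε σ (algebraMap E (Loc σ) a) = σ a := by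
  simp [Loc.ε]

lemma Loc.isUnit_iff (x : Loc σ) : IsUnit x ↔ IsUnit (Loc.ε σ x) := by
  constructor
  · intro h
    exact h.map (Loc.ε σ)
  · intro h
    obtain ⟨a, s, rfl⟩ := IsLocalization.exists_mk'_eq (unitSub σ) x
    have h1 : Loc.ε σ (IsLocalization.mk' (Loc σ) a s) * σ s = σ a := by
      rw [← Loc.ε_algebraMap σ (s : E), ← map_mul, IsLocalization.mk'_spec, Loc.ε_algebraMap]
    have hs : IsUnit (σ s) := s.2
    have ha : IsUnit (σ a) := by rw [← h1]; exact h.mul hs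
    have : IsUnit (algebraMap E (Loc σ) a) :=
      IsLocalization.map_units (Loc σ) (⟨a, ha⟩ : unitSub σ)
    have h2 : IsLocalization.mk' (Loc σ) a s * algebraMap E (Loc σ) s = algebraMap E (Loc σ) a :=
      IsLocalization.mk'_spec _ _ _
    have hsu : IsUnit (algebraMap E (Loc σ) s) := IsLocalization.map_units (Loc σ) s
    exact (IsUnit.mul_iff.mp (h2 ▸ this)).1

lemma Loc.ker_le_jacobson : RingHom.ker (Loc.ε σ) ≤ Ideal.jacobson ⊥ := by
  intro x hx
  rw [Ideal.mem_jacobson_bot]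
  intro y
  rw [Loc.isUnit_iff, map_add, map_mul, (RingHom.mem_ker).1 hx, zero_mul, zero_add, map_one]
  exact isUnit_one

/-- a general lifting of a map `E → T` inverting the elements invertible at the point. -/
noncomputable def Loc.lift {T : Type*} [CommRing T] [Algebra A T] (g : E →ₐ[A] T)
    (hg : ∀ a : E, IsUnit (σ a) → IsUnit (g a)) : Loc σ →ₐ[A] T :=
  IsLocalization.liftAlgHom (M := unitSub σ) (f := g) (fun y => hg y y.2)

@[simp]
lemma Loc.lift_algebraMap {T : Type*} [CommRing T] [Algebra A T] (g : E →ₐ[A] T)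
    (hg : ∀ a : E, IsUnit (σ a) → IsUnit (g a)) (a : E) :
    Loc.lift σ g hg (algebraMap E (Loc σ) a) = g a := by
  simp [Loc.lift]

lemma Loc.algHom_ext' {T : Type*} [CommRing T] [Algebra A T] (g₁ g₂ : Loc σ →ₐ[A] T)
    (h : ∀ a : E, g₁ (algebraMap E (Loc σ) a) = g₂ (algebraMap E (Loc σ) a)) : g₁ = g₂ := by
  apply AlgHom.coe_ringHom_injective
  apply IsLocalization.ringHom_ext (unitSub σ)
  ext a
  exact h a

lemma Loc.ringHom_ext' {T : Type*} [CommRing T] (g₁ g₂ : Loc σ →+* T)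
    (h : ∀ a : E, g₁ (algebraMap E (Loc σ) a) = g₂ (algebraMap E (Loc σ) a)) : g₁ = g₂ := by
  apply IsLocalization.ringHom_ext (unitSub σ)
  ext a
  exact h a

end Loc

section LocMap

variable {A : Type u} [CommRing A] {Ω : Type u} [CommRing Ω] [Algebra A Ω]
variable {E : Type u} [CommRing E] [Algebra A E] (σ : E →ₐ[A] Ω)
variable {F : Type u} [CommRing F] [Algebra A F] (ψ : F →ₐ[A] Ω)

/-- the map of localizations induced by a map of pointed algebras. -/
noncomputable def Loc.map (g : E →ₐ[A] F) (hg : ψ.comp g = σ) : Loc σ →ₐ[A] Loc ψ :=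
  Loc.lift σ ((IsScalarTower.toAlgHom A F (Loc ψ)).comp g) (by
    intro a ha
    have : ψ (g a) = σ a := by rw [← hg]; rfl
    rw [AlgHom.comp_apply, IsScalarTower.coe_toAlgHom', Loc.isUnit_iff, Loc.ε_algebraMap, this]
    exact ha)

@[simp]
lemma Loc.map_algebraMap (g : E →ₐ[A] F) (hg : ψ.comp g = σ) (a : E) :
    Loc.map σ ψ g hg (algebraMap E (Loc σ) a) = algebraMap F (Loc ψ) (g a) := by
  simp [Loc.map]

lemma Loc.ε_comp_map (g : E →ₐ[A] F) (hg : ψ.comp g = σ) :
    (Loc.ε ψ).comp (Loc.map σ ψ g hg) = Loc.ε σ := by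
  apply Loc.algHom_ext'
  intro a
  have : ψ (g a) = σ a := by rw [← hg]; rfl
  simp [this]

/-- rigidity: two maps from the localization of a pointed unramified algebra to a pointed
algebra whose point has kernel in the radical, compatible with the points, are equal. -/
lemma Loc.hom_ext [Algebra.FiniteType A E] [Algebra.FormallyUnramified A E]
    {T : Type*} [CommRing T] [Algebra A T] (ε' : T →ₐ[A] Ω)
    (hε' : RingHom.ker ε' ≤ Ideal.jacobson ⊥)
    (g₁ g₂ : Loc σ →ₐ[A] T) (h₁ : ε'.comp g₁ = Loc.ε σ) (h₂ : ε'.comp g₂ = Loc.ε σ) :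
    g₁ = g₂ := by
  apply Loc.algHom_ext'
  have key : g₁.comp (IsScalarTower.toAlgHom A E (Loc σ)) =
      g₂.comp (IsScalarTower.toAlgHom A E (Loc σ)) := by
    apply Groth.Agent.Lib.Helper58.HenselPair.algHom_ext_of_sub_mem_jacobson
      (RingHom.ker ε') hε'
    intro s
    rw [RingHom.mem_ker, map_sub, sub_eq_zero]
    have e1 : ε' (g₁ (algebraMap E (Loc σ) s)) = Loc.ε σ (algebraMap E (Loc σ) s) := by
      rw [← h₁]; rfl
    have e2 : ε' (g₂ (algebraMap E (Loc σ) s)) = Loc.ε σ (algebraMap E (Loc σ) s) := by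
      rw [← h₂]; rfl
    exact e1.trans e2.symm
  intro a
  exact DFunLike.congr_fun key a

end LocMap



section Index

variable (A : Type u) [CommRing A] (Ω : Type u) [CommRing Ω] [Algebra A Ω]

/-- a small type of pointed étale algebras: presented quotients of polynomial rings,
with an `A`-algebra map to `A/I`. -/
structure Idx : Type u where
  n : ℕ
  K : Ideal (MvPolynomial (Fin n) A)
  etale : Algebra.Etale A (MvPolynomial (Fin n) A ⧸ K)
  pt : (MvPolynomial (Fin n) A ⧸ K) →ₐ[A] Ω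

variable {A Ω}

/-- the underlying étale algebra. -/
abbrev Idx.E (i : Idx A Ω) : Type u := MvPolynomial (Fin i.n) A ⧸ i.K

instance Idx.instEtale (i : Idx A Ω) : Algebra.Etale A i.E := i.etale

/-- the localization at the point. -/
abbrev Idx.L (i : Idx A Ω) : Type u := Loc i.pt

/-- the point of the localization. -/
noncomputable abbrev Idx.ε (i : Idx A Ω) : i.L →ₐ[A] Ω := Loc.ε i.pt

instance Idx.instPreorder : Preorder (Idx A Ω) where
  le i j := ∃ g : i.L →ₐ[A] j.L, j.ε.comp g = i.ε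
  le_refl i := ⟨AlgHom.id A _, AlgHom.comp_id _⟩
  le_trans i j k := fun ⟨g, hg⟩ ⟨g', hg'⟩ => ⟨g'.comp g, by rw [← AlgHom.comp_assoc, hg', hg]⟩

lemma Idx.le_def (i j : Idx A Ω) : i ≤ j ↔ ∃ g : i.L →ₐ[A] j.L, j.ε.comp g = i.ε := Iff.rfl

/-- the transition maps. -/
noncomputable def tr (i j : Idx A Ω) (h : i ≤ j) : i.L →ₐ[A] j.L := h.choose

lemma ε_comp_tr (i j : Idx A Ω) (h : i ≤ j) : j.ε.comp (tr i j h) = i.ε := h.choose_spec

lemma ε_tr (i j : Idx A Ω) (h : i ≤ j) (x : i.L) : j.ε (tr i j h x) = i.ε x :=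
  DFunLike.congr_fun (ε_comp_tr i j h) x

lemma tr_unique (i j : Idx A Ω) (h : i ≤ j) (g : i.L →ₐ[A] j.L) (hg : j.ε.comp g = i.ε) :
    g = tr i j h :=
  Loc.hom_ext i.pt j.ε (Loc.ker_le_jacobson j.pt) g (tr i j h) hg (ε_comp_tr i j h)

instance instDirectedSystem :
    DirectedSystem (fun i : Idx A Ω => i.L) (fun i j h => ⇑(tr i j h)) where
  map_self i x := by
    have := tr_unique i i le_rfl (AlgHom.id A _) (AlgHom.comp_id _)
    exact (DFunLike.congr_fun this x).symm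
  map_map k j i hij hjk x := by
    have := tr_unique i k (hij.trans hjk) ((tr j k hjk).comp (tr i j hij))
      (by rw [← AlgHom.comp_assoc, ε_comp_tr, ε_comp_tr])
    exact DFunLike.congr_fun this x

/-- every pointed étale algebra is isomorphic to a member of the index family. -/
theorem exists_idx {E : Type u} [CommRing E] [Algebra A E] [Algebra.Etale A E]
    (φ : E →ₐ[A] Ω) :
    ∃ (i : Idx A Ω) (e : E ≃ₐ[A] i.E), i.pt.comp e.toAlgHom = φ := by
  obtain ⟨n, f, hf⟩ := Algebra.FiniteType.iff_quotient_mvPolynomial''.mp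
    (inferInstance : Algebra.FiniteType A E)
  let e : (MvPolynomial (Fin n) A ⧸ RingHom.ker f.toRingHom) ≃ₐ[A] E :=
    Ideal.quotientKerAlgEquivOfSurjective hf
  refine ⟨⟨n, RingHom.ker f.toRingHom, Algebra.Etale.of_equiv e.symm, φ.comp e.toAlgHom⟩,
    e.symm, ?_⟩
  ext a
  show φ (e (e.symm a)) = φ a
  rw [AlgEquiv.apply_symm_apply]

/-- every pointed étale algebra maps to a member of the index family. -/
theorem exists_idx_map {E : Type u} [CommRing E] [Algebra A E] [Algebra.Etale A E]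
    (φ : E →ₐ[A] Ω) :
    ∃ (k : Idx A Ω) (g : Loc φ →ₐ[A] k.L), k.ε.comp g = Loc.ε φ := by
  obtain ⟨k, e, he⟩ := exists_idx φ
  exact ⟨k, Loc.map φ k.pt e.toAlgHom he, Loc.ε_comp_map _ _ e.toAlgHom he⟩

/-- a map of pointed étale algebras from a stage gives an inequality of indices. -/
theorem exists_idx_ge (i : Idx A Ω) {E : Type u} [CommRing E] [Algebra A E] [Algebra.Etale A E]
    (φ : E →ₐ[A] Ω) (g : i.E →ₐ[A] E) (hg : φ.comp g = i.pt) :
    ∃ (k : Idx A Ω) (e : E ≃ₐ[A] k.E) (hik : i ≤ k), k.pt.comp e.toAlgHom = φ ∧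
      ∀ a : i.E, tr i k hik (algebraMap i.E i.L a) = algebraMap k.E k.L (e (g a)) := by
  obtain ⟨k, e, he⟩ := exists_idx φ
  have h1 : k.pt.comp (e.toAlgHom.comp g) = i.pt := by
    rw [← AlgHom.comp_assoc, he, hg]
  have hik : i ≤ k := ⟨Loc.map i.pt k.pt _ h1, Loc.ε_comp_map _ _ _ h1⟩
  refine ⟨k, e, hik, he, fun a => ?_⟩
  rw [← tr_unique i k hik (Loc.map i.pt k.pt _ h1) (Loc.ε_comp_map _ _ _ h1), Loc.map_algebraMap]
  rfl

instance instIsDirectedOrder : IsDirectedOrder (Idx A Ω) := ⟨fun i j => by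
  have : Algebra.Etale A (i.E ⊗[A] j.E) := Algebra.Etale.comp A i.E _
  obtain ⟨k, e, he⟩ := exists_idx (E := i.E ⊗[A] j.E)
    (Algebra.TensorProduct.productMap i.pt j.pt)
  have h1 : k.pt.comp (e.toAlgHom.comp Algebra.TensorProduct.includeLeft) = i.pt := by
    rw [← AlgHom.comp_assoc, he]
    ext a
    simp
  have h2 : k.pt.comp (e.toAlgHom.comp Algebra.TensorProduct.includeRight) = j.pt := by
    rw [← AlgHom.comp_assoc, he]
    ext a
    simp
  exact ⟨k, ⟨Loc.map i.pt k.pt _ h1, Loc.ε_comp_map _ _ _ h1⟩,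
    ⟨Loc.map j.pt k.pt _ h2, Loc.ε_comp_map _ _ _ h2⟩⟩⟩

instance instNonemptyIdx : Nonempty (Idx A Ω) := by
  obtain ⟨i, -, -⟩ := exists_idx (Algebra.ofId A (Ω))
  exact ⟨i⟩

end Index




section Limit

variable (A : Type u) [CommRing A] (Ω : Type u) [CommRing Ω] [Algebra A Ω]

/-- the direct limit of the localizations of pointed étale neighbourhoods of `(A, I)`:
the henselization of the pair `(A, I)`. -/
def Hp : Type u := DirectLimit (fun i : Idx A Ω => i.L) (fun i j h => tr i j h)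

noncomputable instance Hp.instCommRing : CommRing (Hp A Ω) :=
  inferInstanceAs (CommRing (DirectLimit (fun i : Idx A Ω => i.L) (fun i j h => tr i j h)))

noncomputable instance Hp.instAlgebra : Algebra A (Hp A Ω) :=
  inferInstanceAs (Algebra A (DirectLimit (fun i : Idx A Ω => i.L) (fun i j h => tr i j h)))

variable {A Ω}

/-- the canonical map from a stage. -/
noncomputable def Hp.of (i : Idx A Ω) : i.L →ₐ[A] Hp A Ω :=
  DirectLimit.Algebra.of (R := A) (fun i : Idx A Ω => i.L) (fun i j h => tr i j h) i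

lemma Hp.of_tr (i j : Idx A Ω) (h : i ≤ j) (x : i.L) : Hp.of j (tr i j h x) = Hp.of i x :=
  DirectLimit.Algebra.of_f (R := A) (G := fun i : Idx A Ω => i.L) (f := fun i j h => tr i j h) h x

lemma Hp.exists_of (x : Hp A Ω) : ∃ (i : Idx A Ω) (y : i.L), Hp.of i y = x := by
  obtain ⟨i, y, h⟩ := DirectLimit.exists_eq_mk (fun i j h => tr i j h) (x :
    DirectLimit (fun i : Idx A Ω => i.L) (fun i j h => tr i j h))
  exact ⟨i, y, h.symm⟩

lemma Hp.of_eq_of_iff {i j : Idx A Ω} (x : i.L) (y : j.L) :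
    Hp.of i x = Hp.of j y ↔ ∃ (k : Idx A Ω) (hik : i ≤ k) (hjk : j ≤ k),
      tr i k hik x = tr j k hjk y := by
  constructor
  · intro h
    exact Quotient.eq.mp h
  · rintro ⟨k, hik, hjk, e⟩
    rw [← Hp.of_tr i k hik, ← Hp.of_tr j k hjk, e]

lemma Hp.of_eq_zero_iff {i : Idx A Ω} (x : i.L) :
    Hp.of i x = 0 ↔ ∃ (k : Idx A Ω) (hik : i ≤ k), tr i k hik x = 0 := by
  rw [← map_zero (Hp.of i), Hp.of_eq_of_iff]
  constructor
  · rintro ⟨k, hik, hik', e⟩
    exact ⟨k, hik, by rw [e, map_zero]⟩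
  · rintro ⟨k, hik, e⟩
    exact ⟨k, hik, hik, by rw [e, map_zero]⟩

/-- the point of the limit. -/
noncomputable def Hp.ε : Hp A Ω →ₐ[A] Ω :=
  DirectLimit.Algebra.lift (R := A) (fun i : Idx A Ω => i.L) (fun i j h => tr i j h) (Ω)
    (fun i => i.ε) (fun i j h x => ε_tr i j h x)

@[simp]
lemma Hp.ε_of (i : Idx A Ω) (x : i.L) : Hp.ε (Hp.of i x) = i.ε x := rfl

lemma Hp.isUnit_iff (x : Hp A Ω) : IsUnit x ↔ IsUnit (Hp.ε x) := by
  constructor
  · intro h
    exact h.map Hp.ε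
  · intro h
    obtain ⟨i, y, rfl⟩ := Hp.exists_of x
    rw [Hp.ε_of] at h
    exact ((Loc.isUnit_iff _ y).mpr h).map (Hp.of i)

lemma Hp.ker_le_jacobson : RingHom.ker (Hp.ε : Hp A Ω →ₐ[A] Ω) ≤ Ideal.jacobson ⊥ := by
  intro x hx
  rw [Ideal.mem_jacobson_bot]
  intro y
  rw [Hp.isUnit_iff, map_add, map_mul, (RingHom.mem_ker).1 hx, zero_mul, zero_add, map_one]
  exact isUnit_one

lemma Hp.exists_of_finset (s : Finset (Hp A Ω)) :
    ∃ i : Idx A Ω, ∀ x ∈ s, x ∈ Set.range (Hp.of i) := by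
  classical
  induction s using Finset.induction_on with
  | empty => exact ⟨Classical.arbitrary _, by simp⟩
  | insert a s _ ih =>
    obtain ⟨i, hi⟩ := ih
    obtain ⟨j, y, rfl⟩ := Hp.exists_of a
    obtain ⟨k, hik, hjk⟩ := exists_ge_ge i j
    refine ⟨k, ?_⟩
    intro x hx
    rw [Finset.mem_insert] at hx
    rcases hx with rfl | hx
    · exact ⟨tr j k hjk y, Hp.of_tr j k hjk y⟩
    · obtain ⟨z, rfl⟩ := hi x hx
      exact ⟨tr i k hik z, Hp.of_tr i k hik z⟩

/-- maps out of the limit. -/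
noncomputable def Hp.lift {T : Type*} [CommRing T] [Algebra A T] (g : ∀ i : Idx A Ω, i.L →ₐ[A] T)
    (hg : ∀ i j (h : i ≤ j) (x : i.L), g j (tr i j h x) = g i x) : Hp A Ω →ₐ[A] T :=
  DirectLimit.Algebra.lift (R := A) (fun i : Idx A Ω => i.L) (fun i j h => tr i j h) T g hg

@[simp]
lemma Hp.lift_of {T : Type*} [CommRing T] [Algebra A T] (g : ∀ i : Idx A Ω, i.L →ₐ[A] T)
    (hg : ∀ i j (h : i ≤ j) (x : i.L), g j (tr i j h x) = g i x) (i : Idx A Ω) (x : i.L) :
    Hp.lift g hg (Hp.of i x) = g i x := rfl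

lemma Hp.ringHom_ext {T : Type*} [CommRing T] (g₁ g₂ : Hp A Ω →+* T)
    (h : ∀ (i : Idx A Ω) (x : i.L), g₁ (Hp.of i x) = g₂ (Hp.of i x)) : g₁ = g₂ := by
  ext x
  obtain ⟨i, y, rfl⟩ := Hp.exists_of x
  exact h i y

lemma Hp.algHom_ext {T : Type*} [CommRing T] [Algebra A T] (g₁ g₂ : Hp A Ω →ₐ[A] T)
    (h : ∀ (i : Idx A Ω) (x : i.L), g₁ (Hp.of i x) = g₂ (Hp.of i x)) : g₁ = g₂ := by
  ext x
  obtain ⟨i, y, rfl⟩ := Hp.exists_of x
  exact h i y


end Limit

end Groth.Agent.Lib.Helper27.IndEtHull
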