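import Mathlib
import Groth.Agent.Lib.Helper27.IndEtHull
import Groth.Agent.Lib.Helper82.TConstr

set_option autoImplicit false
universe u

namespace Groth.Agent.Lib.Helper27.IndEtHull

open CategoryTheory Groth.Agent.Lib.Helper82

section LocIndSys

variable {A : Type u} [CommRing A] {E : Type u} [CommRing E] [Algebra A E] (S : Submonoid E)

structure DivIdx : Type u where
  val : S

instance : Preorder (DivIdx S) where
  le s t := (s.val : E) ∣ (t.val : E)
  le_refl s := dvd_refl _
  le_trans _ _ _ := dvd_trans

instance : IsDirectedOrder (DivIdx S) :=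
  ⟨fun s t => ⟨⟨s.val * t.val⟩, Dvd.intro _ rfl, Dvd.intro_left _ rfl⟩⟩

instance : Nonempty (DivIdx S) := ⟨⟨1⟩⟩

variable {S}

lemma isUnit_algebraMap_away_of_dvd {x y : E} (h : x ∣ y) :
    IsUnit (algebraMap E (Localization.Away y) x) := by
  have hy : IsUnit (algebraMap E (Localization.Away y) y) := IsLocalization.Away.algebraMap_isUnit y
  exact isUnit_of_dvd_unit (map_dvd _ h) hy

noncomputable def awayMap {x y : E} (h : x ∣ y) : Localization.Away x →ₐ[A] Localization.Away y :=
  IsLocalization.liftAlgHom (M := Submonoid.powers x)
    (f := IsScalarTower.toAlgHom A E (Localization.Away y)) (by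
      rintro ⟨_, n, rfl⟩
      simp only [IsScalarTower.coe_toAlgHom', map_pow]
      exact (isUnit_algebraMap_away_of_dvd h).pow n)

@[simp] lemma awayMap_algebraMap {x y : E} (h : x ∣ y) (a : E) :
    awayMap (A := A) h (algebraMap E (Localization.Away x) a) =
      algebraMap E (Localization.Away y) a := by
  simp [awayMap]

lemma away_algHom_ext {x : E} {T : Type*} [CommRing T] [Algebra A T]
    (g₁ g₂ : Localization.Away x →ₐ[A] T)
    (h : ∀ a : E, g₁ (algebraMap E _ a) = g₂ (algebraMap E _ a)) : g₁ = g₂ := by
  apply AlgHom.coe_ringHom_injective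
  apply IsLocalization.ringHom_ext (Submonoid.powers x)
  ext a
  exact h a

noncomputable def awayToLoc (s : S) : Localization.Away (s : E) →ₐ[A] Localization S :=
  IsLocalization.liftAlgHom (M := Submonoid.powers (s : E))
    (f := IsScalarTower.toAlgHom A E (Localization S)) (by
      rintro ⟨_, n, rfl⟩
      simp only [IsScalarTower.coe_toAlgHom', map_pow]
      exact (IsLocalization.map_units (Localization S) s).pow n)

@[simp] lemma awayToLoc_algebraMap (s : S) (a : E) :
    awayToLoc (A := A) s (algebraMap E (Localization.Away (s : E)) a) =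
      algebraMap E (Localization S) a := by
  simp [awayToLoc]

lemma eq_of_mul_unit_eq {T : Type*} [CommRing T] {z w u : T} (hu : IsUnit u)
    (h : z * u = w * u) : z = w := hu.mul_left_injective h

variable (A S) in
noncomputable def locIndSys : IndSys A (Localization S) where
  J := DivIdx S
  R s := Localization.Away (s.val : E)
  t {s t} h := awayMap (leOfHom h)
  t_comp {i j k} f g x := by
    have : awayMap (A := A) (leOfHom (f ≫ g)) =
        (awayMap (A := A) (leOfHom g)).comp (awayMap (leOfHom f)) := by
      apply away_algHom_ext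
      intro a
      simp
    rw [this]
    rfl
  φ s := awayToLoc s.val
  φ_t {i j} f x := by
    have : (awayToLoc (A := A) j.val).comp (awayMap (leOfHom f)) = awayToLoc i.val := by
      apply away_algHom_ext
      intro a
      simp
    exact DFunLike.congr_fun this x
  surj b := by
    obtain ⟨a, s, rfl⟩ := IsLocalization.exists_mk'_eq S b
    refine ⟨⟨s⟩, IsLocalization.mk' (Localization.Away (s : E)) a
      (⟨(s : E), Submonoid.mem_powers _⟩ : Submonoid.powers (s : E)), ?_⟩
    rw [IsLocalization.eq_mk'_iff_mul_eq, ← awayToLoc_algebraMap (A := A) s (s : E), ← map_mul,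
      ← awayToLoc_algebraMap (A := A) s a]
    congr 1
    exact IsLocalization.mk'_spec _ _ _
  eq s x y hxy := by
    obtain ⟨a, ⟨_, n, rfl⟩, rfl⟩ := IsLocalization.exists_mk'_eq (Submonoid.powers (s.val : E)) x
    obtain ⟨b, ⟨_, m, rfl⟩, rfl⟩ := IsLocalization.exists_mk'_eq (Submonoid.powers (s.val : E)) y
    set sn : Submonoid.powers (s.val : E) := ⟨(s.val : E) ^ n, n, rfl⟩ with hsn
    set sm : Submonoid.powers (s.val : E) := ⟨(s.val : E) ^ m, m, rfl⟩ with hsm
    have hx : awayToLoc (A := A) s.val (IsLocalization.mk' _ a sn) *
        algebraMap E (Localization S) ((s.val : E) ^ n) = algebraMap E (Localization S) a := by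
      rw [← awayToLoc_algebraMap (A := A) s.val ((s.val : E) ^ n), ← map_mul,
        ← awayToLoc_algebraMap (A := A) s.val a]
      congr 1
      exact IsLocalization.mk'_spec _ _ _
    have hy : awayToLoc (A := A) s.val (IsLocalization.mk' _ b sm) *
        algebraMap E (Localization S) ((s.val : E) ^ m) = algebraMap E (Localization S) b := by
      rw [← awayToLoc_algebraMap (A := A) s.val ((s.val : E) ^ m), ← map_mul,
        ← awayToLoc_algebraMap (A := A) s.val b]
      congr 1
      exact IsLocalization.mk'_spec _ _ _
    have h1 : algebraMap E (Localization S) (a * (s.val : E) ^ m) =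
        algebraMap E (Localization S) (b * (s.val : E) ^ n) := by
      rw [map_mul, map_mul, ← hx, ← hy, hxy]
      ring
    obtain ⟨c, hc⟩ := (IsLocalization.eq_iff_exists S (Localization S)).mp h1
    let k : DivIdx S := ⟨s.val * c⟩
    have hsk : s ≤ k := Dvd.intro _ rfl
    refine ⟨k, homOfLE hsk, ?_⟩
    have hx' : awayMap (A := A) hsk (IsLocalization.mk' _ a sn) *
        algebraMap E (Localization.Away (k.val : E)) ((s.val : E) ^ n) =
        algebraMap E (Localization.Away (k.val : E)) a := by
      rw [← awayMap_algebraMap (A := A) hsk ((s.val : E) ^ n), ← map_mul,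
        ← awayMap_algebraMap (A := A) hsk a]
      congr 1
      exact IsLocalization.mk'_spec _ _ _
    have hy' : awayMap (A := A) hsk (IsLocalization.mk' _ b sm) *
        algebraMap E (Localization.Away (k.val : E)) ((s.val : E) ^ m) =
        algebraMap E (Localization.Away (k.val : E)) b := by
      rw [← awayMap_algebraMap (A := A) hsk ((s.val : E) ^ m), ← map_mul,
        ← awayMap_algebraMap (A := A) hsk b]
      congr 1
      exact IsLocalization.mk'_spec _ _ _
    have hcu : IsUnit (algebraMap E (Localization.Away (k.val : E)) (c : E)) :=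
      isUnit_algebraMap_away_of_dvd (Dvd.intro_left _ rfl)
    have hsu : IsUnit (algebraMap E (Localization.Away (k.val : E)) (s.val : E)) :=
      isUnit_algebraMap_away_of_dvd (Dvd.intro _ rfl)
    have hU : IsUnit (algebraMap E (Localization.Away (k.val : E))
        ((c : E) * ((s.val : E) ^ n * (s.val : E) ^ m))) := by
      rw [map_mul, map_mul, map_pow, map_pow]
      exact hcu.mul ((hsu.pow n).mul (hsu.pow m))
    apply eq_of_mul_unit_eq hU
    have e1 : awayMap (A := A) hsk (IsLocalization.mk' _ a sn) *
        algebraMap E (Localization.Away (k.val : E)) ((c : E) * ((s.val : E) ^ n * (s.val : E) ^ m)) =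
        algebraMap E (Localization.Away (k.val : E)) ((c : E) * (a * (s.val : E) ^ m)) := by
      rw [map_mul (algebraMap E _) (c : E) (a * _), map_mul (algebraMap E _) a, ← hx']
      simp only [map_mul]
      ring
    have e2 : awayMap (A := A) hsk (IsLocalization.mk' _ b sm) *
        algebraMap E (Localization.Away (k.val : E)) ((c : E) * ((s.val : E) ^ n * (s.val : E) ^ m)) =
        algebraMap E (Localization.Away (k.val : E)) ((c : E) * (b * (s.val : E) ^ n)) := by
      rw [map_mul (algebraMap E _) (c : E) (b * _), map_mul (algebraMap E _) b, ← hy']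
      simp only [map_mul]
      ring
    change awayMap (A := A) hsk (IsLocalization.mk' _ a sn) * _ =
      awayMap (A := A) hsk (IsLocalization.mk' _ b sm) * _
    rw [e1, e2, hc]

theorem isIndEtale_localization [Algebra.Etale A E] : EtPBC.IsIndEtale A (Localization S) := by
  refine (locIndSys A S).isIndEtale ?_
  intro s
  have : Algebra.Etale A (Localization.Away (s.val : E)) :=
    Algebra.Etale.comp A E (Localization.Away (s.val : E))
  exact isIndEtale_of_etale A (Localization.Away (s.val : E))

end LocIndSys

section HpIndEtale

variable (A : Type u) [CommRing A] (Ω : Type u) [CommRing Ω] [Algebra A Ω]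

theorem isIndEtale_Hp : EtPBC.IsIndEtale A (Hp A Ω) :=
  (IndSys.ofDirectLimit (fun i : Idx A Ω => i.L) (fun i j h => tr i j h)).isIndEtale
    (fun i => by
      have : Algebra.Etale A i.E := i.etale
      exact isIndEtale_localization (A := A) (E := i.E) (S := unitSub i.pt))

end HpIndEtale

end Groth.Agent.Lib.Helper27.IndEtHull
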