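import Mathlib
import Groth.Agent.Lib.Helper27.IndEtHullIndEt
import Groth.Agent.Lib.Helper58.EtaleLiftQuot
import Groth.Agent.Lib.Helper82.TConstr
import Groth.Agent.Lib.Helper82.IndEtaleBaseChange
import Groth.Agent.Lib.Helper69.WEtFlat

set_option autoImplicit false
universe u

namespace Groth.Agent.Lib.Helper27.IndEtHull

open CategoryTheory Groth.Agent.Lib.Helper82 TensorProduct

section Lift

variable {A : Type u} [CommRing A] (I : Ideal A) (Cb : Type u) [CommRing Cb]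
  [Algebra (A ⧸ I) Cb] [Algebra A Cb] [IsScalarTower A (A ⧸ I) Cb]

open Groth.Agent.Lib.Helper87.IndEt Groth.Agent.Lib.Helper58.EtaleLift in
theorem Hp_ε_surjective (h : EtPBC.IsIndEtale (A ⧸ I) Cb) :
    Function.Surjective (Hp.ε : Hp A Cb →ₐ[A] Cb) := by
  have hP : HasPres (A ⧸ I) Cb := h
  intro c
  obtain ⟨Eb, _, _, _, fb, x, hx⟩ := hP.coveredByEtale c
  let _ : Algebra A Eb := ((algebraMap (A ⧸ I) Eb).comp (Ideal.Quotient.mk I)).toAlgebra
  have : IsScalarTower A (A ⧸ I) Eb := IsScalarTower.of_algebraMap_eq (fun a => rfl)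
  obtain ⟨E, _, _, hE, π, hπ, -⟩ := exists_etale_lift_quotient I Eb
  obtain ⟨i, e, he⟩ := exists_idx ((fb.restrictScalars A).comp π)
  obtain ⟨z, rfl⟩ := hπ x
  refine ⟨Hp.of i (algebraMap i.E i.L (e z)), ?_⟩
  rw [Hp.ε_of, Loc.ε_algebraMap]
  have := DFunLike.congr_fun he z
  simp only [AlgHom.comp_apply] at this
  rw [← hx]
  exact this

noncomputable def εbar : (A ⧸ I) ⊗[A] Hp A Cb →ₐ[A ⧸ I] Cb :=
  Algebra.TensorProduct.lift (Algebra.ofId (A ⧸ I) Cb) Hp.ε (fun _ _ => .all _ _)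

lemma εbar_one_tmul (x : Hp A Cb) : εbar I Cb (1 ⊗ₜ x) = Hp.ε x := by
  simp [εbar]

lemma exists_one_tmul (y : (A ⧸ I) ⊗[A] Hp A Cb) : ∃ x : Hp A Cb, y = 1 ⊗ₜ x := by
  induction y using TensorProduct.induction_on with
  | zero => exact ⟨0, by simp⟩
  | tmul a x =>
    obtain ⟨a, rfl⟩ := Ideal.Quotient.mk_surjective a
    refine ⟨a • x, ?_⟩
    rw [TensorProduct.tmul_smul, TensorProduct.smul_tmul', ← Ideal.Quotient.algebraMap_eq,
      Algebra.algebraMap_eq_smul_one]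
  | add y z hy hz =>
    obtain ⟨x, rfl⟩ := hy
    obtain ⟨x', rfl⟩ := hz
    exact ⟨x + x', by rw [TensorProduct.tmul_add]⟩

theorem εbar_surjective (h : EtPBC.IsIndEtale (A ⧸ I) Cb) : Function.Surjective (εbar I Cb) := by
  intro c
  obtain ⟨x, rfl⟩ := Hp_ε_surjective I Cb h c
  exact ⟨1 ⊗ₜ x, εbar_one_tmul I Cb x⟩

theorem ker_εbar_le_jacobson : RingHom.ker (εbar I Cb) ≤ Ideal.jacobson ⊥ := by
  intro y hy
  obtain ⟨x, rfl⟩ := exists_one_tmul I Cb y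
  rw [RingHom.mem_ker, εbar_one_tmul] at hy
  rw [Ideal.mem_jacobson_bot]
  intro z
  obtain ⟨w, rfl⟩ := exists_one_tmul I Cb z
  have h1 : IsUnit (x * w + 1) := by
    have := Hp.ker_le_jacobson (A := A) (Ω := Cb) ((RingHom.mem_ker).2 hy)
    rw [Ideal.mem_jacobson_bot] at this
    exact this w
  have h2 : ((1 : A ⧸ I) ⊗ₜ[A] x) * (1 ⊗ₜ w) + 1 =
      (Algebra.TensorProduct.includeRight : Hp A Cb →ₐ[A] (A ⧸ I) ⊗[A] Hp A Cb) (x * w + 1) := by
    simp [Algebra.TensorProduct.one_def, TensorProduct.tmul_add]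
  rw [h2]
  exact h1.map _

open Groth.Agent.Lib.Helper69.WEtFlat in
theorem εbar_injective (h : EtPBC.IsIndEtale (A ⧸ I) Cb) : Function.Injective (εbar I Cb) := by
  have hC : EtPBC.IsIndEtale A (Hp A Cb) := isIndEtale_Hp A Cb
  have hC' : EtPBC.IsIndEtale (A ⧸ I) ((A ⧸ I) ⊗[A] Hp A Cb) :=
    isIndEtale_baseChange A (Hp A Cb) (A ⧸ I) hC
  have w1 := weaklyEtale_of_isIndEtale hC'
  have w2 := weaklyEtale_of_isIndEtale h
  have f1 : Module.Flat (A ⧸ I) Cb := w2.flat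
  have f2 : Module.Flat (A ⧸ I) ((A ⧸ I) ⊗[A] Hp A Cb) := w1.flat
  let _ : Algebra ((A ⧸ I) ⊗[A] Hp A Cb) Cb := (εbar I Cb).toRingHom.toAlgebra
  have : IsScalarTower (A ⧸ I) ((A ⧸ I) ⊗[A] Hp A Cb) Cb :=
    IsScalarTower.of_algebraMap_eq (fun a => ((εbar I Cb).commutes a).symm)
  have hflat : Module.Flat ((A ⧸ I) ⊗[A] Hp A Cb) Cb := flat_of_flat_lmul' w1.flat_lmul' Cb
  have hsurj : Function.Surjective (Algebra.ofId ((A ⧸ I) ⊗[A] Hp A Cb) Cb) :=
    εbar_surjective I Cb h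
  have hker : RingHom.ker (Algebra.ofId ((A ⧸ I) ⊗[A] Hp A Cb) Cb) = RingHom.ker (εbar I Cb) := rfl
  have hpure : (RingHom.ker (εbar I Cb)).Pure := by
    rw [← hker]
    exact Module.Flat.of_linearEquiv
      (Ideal.quotientKerAlgEquivOfSurjective hsurj).toLinearEquiv
  rw [injective_iff_map_eq_zero]
  intro x hx
  obtain ⟨y, hy, hxy⟩ := Ideal.exists_eq_mul_of_pure (I := RingHom.ker (εbar I Cb))
    ((RingHom.mem_ker).2 hx)
  have hu : IsUnit (1 - y) := by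
    have := ker_εbar_le_jacobson I Cb hy
    rw [Ideal.mem_jacobson_bot] at this
    have h3 := this (-1)
    have h4 : y * -1 + 1 = 1 - y := by ring
    rwa [h4] at h3
  have h0 : x * (1 - y) = 0 := by rw [mul_sub, mul_one, ← hxy, sub_self]
  exact (hu.mul_left_eq_zero).mp h0

theorem εbar_bijective (h : EtPBC.IsIndEtale (A ⧸ I) Cb) : Function.Bijective (εbar I Cb) :=
  ⟨εbar_injective I Cb h, εbar_surjective I Cb h⟩

theorem exists_lift (h : EtPBC.IsIndEtale (A ⧸ I) Cb) :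
    EtPBC.IsIndEtale A (Hp A Cb) ∧
      Nonempty ((Hp A Cb ⧸ I.map (algebraMap A (Hp A Cb))) ≃ₐ[A ⧸ I] Cb) :=
  ⟨isIndEtale_Hp A Cb,
    ⟨(Algebra.TensorProduct.quotIdealMapEquivQuotTensor (Hp A Cb) I).trans
      (AlgEquiv.ofBijective (εbar I Cb) (εbar_bijective I Cb h))⟩⟩

end Lift

end Groth.Agent.Lib.Helper27.IndEtHull
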