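import Mathlib
import Groth.Agent.Lib.Helper27.NeronA

set_option autoImplicit false
universe u

namespace Helper27.Neron

open IsLocalRing KaehlerDifferential TensorProduct MvPolynomial

section Model

variable {R B B' : Type u} [CommRing R] [CommRing B] [CommRing B'] [Algebra R B]
  [IsLocalRing B] [IsLocalRing B']
  (π : R) (β : B →+* B') {ι : Type u} (a : ι → B) (z : ι → B')

noncomputable def ev : MvPolynomial ι B →+* B' := MvPolynomial.eval₂Hom β z

noncomputable def qq : Ideal (MvPolynomial ι B) := (maximalIdeal B').comap (ev β z)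

instance : (qq β z).IsPrime := by
  unfold qq
  exact Ideal.comap_isPrime _ _

noncomputable def hpoly (i : ι) : MvPolynomial ι B :=
  C (algebraMap R B π) * X i - C (a i)

lemma ev_hpoly (hz : ∀ i, β (algebraMap R B π) * z i = β (a i)) (i : ι) :
    ev β z (hpoly π a i) = 0 := by
  unfold ev hpoly
  rw [map_sub, map_mul]
  simp only [MvPolynomial.coe_eval₂Hom, MvPolynomial.eval₂_C, MvPolynomial.eval₂_X]
  rw [hz, sub_self]

abbrev LL : Type u := Localization.AtPrime (qq β z)

noncomputable def hL (i : ι) : LL β z := algebraMap (MvPolynomial ι B) (LL β z) (hpoly π a i)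

lemma hL_mem (hz : ∀ i, β (algebraMap R B π) * z i = β (a i)) (i : ι) :
    hL π β a z i ∈ maximalIdeal (LL β z) := by
  unfold hL
  rw [IsLocalization.AtPrime.to_map_mem_maximal_iff (LL β z) (qq β z)]
  change ev β z (hpoly π a i) ∈ maximalIdeal B'
  rw [ev_hpoly π β a z hz]
  exact Ideal.zero_mem _

lemma isUnit_ev (y : (qq β z).primeCompl) : IsUnit (ev β z y) := by
  have h : (y : MvPolynomial ι B) ∉ qq β z := y.2
  by_contra hu
  exact h ((mem_maximalIdeal _).mpr hu)

noncomputable def evL : LL β z →+* B' :=
  IsLocalization.lift (M := (qq β z).primeCompl) (g := ev β z) (isUnit_ev β z)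

lemma evL_algebraMap (q : MvPolynomial ι B) : evL β z (algebraMap _ (LL β z) q) = ev β z q :=
  IsLocalization.lift_eq _ _

lemma evL_hL (hz : ∀ i, β (algebraMap R B π) * z i = β (a i)) (i : ι) :
    evL β z (hL π β a z i) = 0 := by
  unfold hL
  rw [evL_algebraMap, ev_hpoly π β a z hz]

lemma isUnit_of_isUnit_evL (l : LL β z) (hl : IsUnit (evL β z l)) : IsUnit l := by
  by_contra hnu
  have hm : l ∈ maximalIdeal (LL β z) := (mem_maximalIdeal _).mpr hnu
  obtain ⟨q, t, rfl⟩ := IsLocalization.exists_mk'_eq (qq β z).primeCompl l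
  rw [IsLocalization.AtPrime.mk'_mem_maximal_iff (LL β z) (qq β z)] at hm
  have h1 : evL β z (IsLocalization.mk' (LL β z) q t) * ev β z t = ev β z q := by
    rw [← evL_algebraMap, ← evL_algebraMap, ← map_mul, IsLocalization.mk'_spec]
  have h2 : ev β z q ∈ maximalIdeal B' := hm
  rw [← h1] at h2
  have h3 : ev β z t ∈ maximalIdeal B' := by
    obtain ⟨u, hu⟩ := hl
    have := Ideal.mul_mem_left (maximalIdeal B') (↑u⁻¹ : B') h2
    rwa [← hu, ← mul_assoc, Units.inv_mul, one_mul] at this
  exact t.2 h3

lemma comap_evL_B [IsLocalHom β] (b : B) (hb : b ∈ maximalIdeal B) :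
    algebraMap B (LL β z) b ∈ maximalIdeal (LL β z) := by
  rw [IsScalarTower.algebraMap_apply B (MvPolynomial ι B) (LL β z),
    IsLocalization.AtPrime.to_map_mem_maximal_iff (LL β z) (qq β z)]
  change ev β z (algebraMap B (MvPolynomial ι B) b) ∈ maximalIdeal B'
  rw [MvPolynomial.algebraMap_eq]
  unfold ev
  simp only [MvPolynomial.coe_eval₂Hom, MvPolynomial.eval₂_C]
  rw [mem_maximalIdeal, mem_nonunits_iff]
  intro hu
  exact (mem_maximalIdeal b).mp hb (isUnit_of_map_unit β b hu)

instance instLocalHomBL [IsLocalHom β] : IsLocalHom (algebraMap B (LL β z)) := by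
  refine ⟨fun b hb => ?_⟩
  by_contra hnu
  exact (mem_maximalIdeal _).mp (comap_evL_B β z b ((mem_maximalIdeal b).mpr hnu)) hb

end Model

section Main

variable {R B B' : Type u} [CommRing R] [CommRing B] [CommRing B'] [Algebra R B]
  [IsLocalRing B] [IsLocalRing B']

set_option maxHeartbeats 1000000 in
theorem exists_model [IsNoetherianRing B] [Module.Flat R B] [Algebra.FormallySmooth R B]
    [Algebra.EssFiniteType R B]
    (π : R) (hπB : algebraMap R B π ∈ maximalIdeal B)
    (β : B →+* B') [IsLocalHom β] {ι : Type u} [Fintype ι] [DecidableEq ι]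
    (a : ι → B)
    (d0 : ι → Derivation R B (ResidueField B))
    (hd0 : ∀ i j, d0 j (a i) = if i = j then 1 else 0)
    (z : ι → B') (hz : ∀ i, β (algebraMap R B π) * z i = β (a i)) :
    ∃ (S : Type u) (_ : CommRing S) (_ : Algebra R S) (_ : Algebra B S)
      (_ : IsScalarTower R B S) (_ : IsLocalRing S) (_ : Algebra.FormallySmooth R S)
      (_ : Module.Flat R S) (evS : S →+* B') (y : ι → S),
      IsLocalHom evS ∧ (∀ b, evS (algebraMap B S b) = β b) ∧ (∀ i, evS (y i) = z i) ∧
      (∀ i, algebraMap R S π * y i = algebraMap B S (a i)) ∧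
      (∀ f : S →+* S, (∀ b, f (algebraMap B S b) = algebraMap B S b) →
        (∀ i, f (y i) = y i) → f = RingHom.id S) := by
  classical
  have hfsQ : Algebra.FormallySmooth R (MvPolynomial ι B) :=
    Algebra.FormallySmooth.comp R B (MvPolynomial ι B)
  have hfsQL : Algebra.FormallySmooth (MvPolynomial ι B) (LL β z) :=
    Algebra.FormallySmooth.of_isLocalization (qq β z).primeCompl
  have hfsL : Algebra.FormallySmooth R (LL β z) :=
    Algebra.FormallySmooth.comp R (MvPolynomial ι B) (LL β z)
  have hfsBL : Algebra.FormallySmooth B (LL β z) :=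
    Algebra.FormallySmooth.comp B (MvPolynomial ι B) (LL β z)
  have hessQ : Algebra.EssFiniteType R (MvPolynomial ι B) :=
    Algebra.EssFiniteType.comp R B (MvPolynomial ι B)
  have hessL : Algebra.EssFiniteType R (LL β z) := inferInstance
  have hfin : Module.Finite (LL β z) Ω[LL β z⁄R] := inferInstance
  have hfree : Module.Free (LL β z) Ω[LL β z⁄R] := Module.free_of_flat_of_isLocalRing
  have hflatQ : Module.Flat R (MvPolynomial ι B) := Module.Flat.trans R B (MvPolynomial ι B)
  have hflatQL : Module.Flat (MvPolynomial ι B) (LL β z) :=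
    IsLocalization.flat (LL β z) (qq β z).primeCompl
  have hflatL : Module.Flat R (LL β z) := Module.Flat.trans R (MvPolynomial ι B) (LL β z)
  have hnoeL : IsNoetherianRing (LL β z) :=
    IsLocalization.isNoetherianRing (qq β z).primeCompl (LL β z) inferInstance
  have hπL : algebraMap R (LL β z) π ∈ maximalIdeal (LL β z) := by
    rw [IsScalarTower.algebraMap_apply R B (LL β z)]
    exact comap_evL_B β z _ hπB
  have hder : ∀ j : ι, ∃ d : Derivation R (LL β z) (ResidueField (LL β z)),
      ∀ i, d (hL π β a z i) = if i = j then 1 else 0 := by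
    intro j
    let d0' : Derivation R B (ResidueField (LL β z)) :=
      ((IsScalarTower.toAlgHom B (ResidueField B) (ResidueField (LL β z))).toLinearMap).compDer
        (d0 j)
    have hd0' : ∀ b, d0' b = algebraMap (ResidueField B) (ResidueField (LL β z)) (d0 j b) :=
      fun _ => rfl
    obtain ⟨d', hd'⟩ := exists_derivation_extension R B (LL β z) d0'
    refine ⟨-d', fun i => ?_⟩
    have h1 : hL π β a z i = algebraMap R (LL β z) π * algebraMap (MvPolynomial ι B) (LL β z) (X i) -
        algebraMap B (LL β z) (a i) := by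
      unfold hL hpoly
      rw [map_sub, map_mul, IsScalarTower.algebraMap_apply R B (LL β z),
        IsScalarTower.algebraMap_apply B (MvPolynomial ι B) (LL β z),
        IsScalarTower.algebraMap_apply B (MvPolynomial ι B) (LL β z), MvPolynomial.algebraMap_eq]
    have h2 : ∀ v : ResidueField (LL β z), algebraMap R (LL β z) π • v = 0 := by
      intro v
      rw [Algebra.smul_def]
      have : algebraMap (LL β z) (ResidueField (LL β z)) (algebraMap R (LL β z) π) = 0 :=
        (residue_eq_zero_iff _).mpr hπL
      rw [this, zero_mul]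
    rw [Derivation.neg_apply, h1, map_sub, Derivation.leibniz, Derivation.map_algebraMap, smul_zero,
      add_zero, h2, zero_sub, neg_neg, hd', hd0', hd0 i j]
    split_ifs
    · rw [map_one]
    · rw [map_zero]
  choose d hd using hder
  have hfsS : Algebra.FormallySmooth R (LL β z ⧸ Ideal.span (Set.range (hL π β a z))) :=
    formallySmooth_quotient_of_derivations (hL π β a z) (hL_mem π β a z hz) d
      (fun i j => hd j i)
  have hlocS : IsLocalRing (LL β z ⧸ Ideal.span (Set.range (hL π β a z))) :=
    Groth.Agent.Lib.Helper51.JacobianSlice.isLocalRing_quotient (hL π β a z) (hL_mem π β a z hz)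
  have hflatS : Module.Flat R (LL β z ⧸ Ideal.span (Set.range (hL π β a z))) :=
    Algebra.FormallySmooth.flat_of_algHom_of_isNoetherianRing (R := R) (S := LL β z)
      (A := LL β z ⧸ Ideal.span (Set.range (hL π β a z)))
      (Ideal.Quotient.mkₐ R (Ideal.span (Set.range (hL π β a z)))) Ideal.Quotient.mk_surjective
  let evS : (LL β z ⧸ Ideal.span (Set.range (hL π β a z))) →+* B' :=
    Ideal.Quotient.lift _ (evL β z) (by
      intro x hx
      have hle : Ideal.span (Set.range (hL π β a z)) ≤ RingHom.ker (evL β z) := by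
        rw [Ideal.span_le]
        rintro _ ⟨i, rfl⟩
        exact evL_hL π β a z hz i
      exact hle hx)
  have hevS : ∀ l, evS (Ideal.Quotient.mk _ l) = evL β z l := fun _ => rfl
  refine ⟨LL β z ⧸ Ideal.span (Set.range (hL π β a z)), inferInstance, inferInstance,
    inferInstance, inferInstance, hlocS, hfsS, hflatS, evS,
    fun i => Ideal.Quotient.mk _ (algebraMap (MvPolynomial ι B) (LL β z) (X i)), ?_, ?_, ?_, ?_, ?_⟩
  · refine ⟨fun s hs => ?_⟩
    obtain ⟨l, rfl⟩ := Ideal.Quotient.mk_surjective s
    rw [hevS] at hs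
    exact (isUnit_of_isUnit_evL β z l hs).map _
  · intro b
    change evS (Ideal.Quotient.mk _ (algebraMap B (LL β z) b)) = β b
    rw [hevS, IsScalarTower.algebraMap_apply B (MvPolynomial ι B) (LL β z), evL_algebraMap,
      MvPolynomial.algebraMap_eq]
    unfold ev
    simp only [MvPolynomial.coe_eval₂Hom, MvPolynomial.eval₂_C]
  · intro i
    rw [hevS, evL_algebraMap]
    unfold ev
    simp only [MvPolynomial.coe_eval₂Hom, MvPolynomial.eval₂_X]
  · intro i
    change Ideal.Quotient.mk _ (algebraMap R (LL β z) π) * _ =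
      Ideal.Quotient.mk _ (algebraMap B (LL β z) (a i))
    rw [← map_mul, ← sub_eq_zero, ← map_sub, Ideal.Quotient.eq_zero_iff_mem]
    have h1 : algebraMap R (LL β z) π * algebraMap (MvPolynomial ι B) (LL β z) (X i) -
        algebraMap B (LL β z) (a i) = hL π β a z i := by
      unfold hL hpoly
      rw [map_sub, map_mul, IsScalarTower.algebraMap_apply R B (LL β z),
        IsScalarTower.algebraMap_apply B (MvPolynomial ι B) (LL β z),
        IsScalarTower.algebraMap_apply B (MvPolynomial ι B) (LL β z), MvPolynomial.algebraMap_eq]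
    rw [h1]
    exact Ideal.subset_span ⟨i, rfl⟩
  · intro f hfB hfy
    refine Ideal.Quotient.ringHom_ext ?_
    refine IsLocalization.ringHom_ext (qq β z).primeCompl ?_
    refine MvPolynomial.ringHom_ext ?_ ?_
    · intro b
      have := hfB b
      simp only [RingHom.comp_apply, RingHom.id_apply]
      rw [← MvPolynomial.algebraMap_eq, ← IsScalarTower.algebraMap_apply B (MvPolynomial ι B)]
      exact this
    · intro i
      simp only [RingHom.comp_apply, RingHom.id_apply]
      exact hfy i

end Main

end Helper27.Neron
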