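import Mathlib
import Groth.Agent.Lib.Helper27.NeronB

set_option autoImplicit false
universe u

namespace Helper27.Neron

open IsLocalRing KaehlerDifferential TensorProduct

set_option maxHeartbeats 1600000 in
theorem formallySmooth_atPrime_of_universal
    {R A E : Type u} [CommRing R] [IsDomain R] [IsDiscreteValuationRing R] [CommRing A] [CommRing E]
    [Algebra R A] [Algebra A E] [Algebra R E] [IsScalarTower R A E]
    [Module.Flat R A] [Algebra.FiniteType R A]
    (π : R) (hπ : maximalIdeal R = Ideal.span {π})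
    (𝔭 : Ideal A) [𝔭.IsPrime] (𝔭' : Ideal E) [𝔭'.IsPrime] (h𝔭 : 𝔭'.comap (algebraMap A E) = 𝔭)
    (hπ𝔭 : algebraMap R A π ∈ 𝔭)
    [IsLocalHom (algebraMap R (Localization.AtPrime 𝔭))]
    [Algebra.FormallySmooth R (Localization.AtPrime 𝔭)]
    [Algebra.FormallySmooth (ResidueField R) (ResidueField (Localization.AtPrime 𝔭))]
    (hE1 : ∀ e : E, algebraMap R E π * e = 0 → e = 0)
    (hE3 : ∀ x ∈ 𝔭, ∃ e : E, algebraMap R E π * e = algebraMap A E x)
    (hE4 : ∀ e : E, ∃ (n : ℕ) (x : A), algebraMap R E π ^ n * e = algebraMap A E x)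
    (hE2 : ∀ (S : Type u) [CommRing S] [Algebra A S],
        (∀ s : S, algebraMap A S (algebraMap R A π) * s = 0 → s = 0) →
        (∀ x ∈ 𝔭, ∃ s : S, algebraMap A S (algebraMap R A π) * s = algebraMap A S x) →
        Nonempty (E →ₐ[A] S)) :
    Algebra.FormallySmooth R (Localization.AtPrime 𝔭') := by
  classical
  have hπ0 : π ≠ 0 := by
    rintro rfl
    have : maximalIdeal R = ⊥ := by rw [hπ, Ideal.span_singleton_eq_bot]
    exact IsDiscreteValuationRing.not_a_field R this
  have hnoeA : IsNoetherianRing A := Algebra.FiniteType.isNoetherianRing R A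
  have hnoeB : IsNoetherianRing (Localization.AtPrime 𝔭) :=
    IsLocalization.isNoetherianRing 𝔭.primeCompl _ inferInstance
  have hflatAB : Module.Flat A (Localization.AtPrime 𝔭) := IsLocalization.flat _ 𝔭.primeCompl
  have hflatB : Module.Flat R (Localization.AtPrime 𝔭) := Module.Flat.trans R A _
  let β : Localization.AtPrime 𝔭 →+* Localization.AtPrime 𝔭' :=
    Localization.localRingHom 𝔭 𝔭' (algebraMap A E) h𝔭.symm
  have hβ : ∀ x : A, β (algebraMap A _ x) = algebraMap E _ (algebraMap A E x) := fun x =>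
    Localization.localRingHom_to_map 𝔭 𝔭' (algebraMap A E) h𝔭.symm x
  have hβloc : IsLocalHom β := Localization.isLocalHom_localRingHom 𝔭 𝔭' _ _
  have hG : Ideal.span (algebraMap A (Localization.AtPrime 𝔭) '' (𝔭 : Set A)) =
      maximalIdeal (Localization.AtPrime 𝔭) :=
    Localization.AtPrime.map_eq_maximalIdeal
  obtain ⟨ι, _, a, haG, hli, hmax⟩ := exists_params R (Localization.AtPrime 𝔭) _ hG
  choose x hx𝔭 hxa using haG
  have hch : ∀ i, ∃ e : E, algebraMap R E π * e = algebraMap A E (x i) := fun i => hE3 _ (hx𝔭 i)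
  choose e he using hch
  have hd := fun j => exists_dual_derivation R (Localization.AtPrime 𝔭) a hli j
  choose d0 hd0 using hd
  have hπB : algebraMap R (Localization.AtPrime 𝔭) π ∈ maximalIdeal (Localization.AtPrime 𝔭) := by
    rw [IsScalarTower.algebraMap_apply R A (Localization.AtPrime 𝔭),
      IsLocalization.AtPrime.to_map_mem_maximal_iff (Localization.AtPrime 𝔭) 𝔭]
    exact hπ𝔭
  have hβπ : β (algebraMap R (Localization.AtPrime 𝔭) π) =
      algebraMap E (Localization.AtPrime 𝔭') (algebraMap R E π) := by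
    rw [IsScalarTower.algebraMap_apply R A (Localization.AtPrime 𝔭), hβ,
      ← IsScalarTower.algebraMap_apply R A E]
  have hz : ∀ i, β (algebraMap R (Localization.AtPrime 𝔭) π) *
      algebraMap E (Localization.AtPrime 𝔭') (e i) = β (a i) := by
    intro i
    rw [hβπ, ← map_mul, he, ← hxa i, hβ]
  obtain ⟨S, _, _, _, _, _, hfsS, hflatS, evS, y, hevloc, hevB, hevy, hπy, hgen⟩ :=
    exists_model π hπB β a d0 (fun i j => hd0 j i)
      (fun i => algebraMap E (Localization.AtPrime 𝔭') (e i)) hz
  let _ : Algebra A S := ((algebraMap (Localization.AtPrime 𝔭) S).comp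
    (algebraMap A (Localization.AtPrime 𝔭))).toAlgebra
  have hAS : ∀ t : A, algebraMap A S t =
      algebraMap (Localization.AtPrime 𝔭) S (algebraMap A _ t) := fun _ => rfl
  have hRS : ∀ r : R, algebraMap R S r = algebraMap A S (algebraMap R A r) := by
    intro r
    rw [hAS, ← IsScalarTower.algebraMap_apply R A (Localization.AtPrime 𝔭),
      ← IsScalarTower.algebraMap_apply R (Localization.AtPrime 𝔭) S]
  have hregS : ∀ s : S, algebraMap R S π * s = 0 → s = 0 := by
    intro s hs
    have hreg : IsSMulRegular S π :=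
      Module.Flat.isSMulRegular_of_nonZeroDivisors (mem_nonZeroDivisors_of_ne_zero hπ0)
    apply hreg
    change π • s = π • (0 : S)
    rw [smul_zero, Algebra.smul_def]
    exact hs
  have hdiv : ∀ t ∈ 𝔭, ∃ s : S, algebraMap R S π * s = algebraMap A S t := by
    intro t ht
    have h1 : algebraMap A (Localization.AtPrime 𝔭) t ∈ maximalIdeal (Localization.AtPrime 𝔭) := by
      rw [IsLocalization.AtPrime.to_map_mem_maximal_iff (Localization.AtPrime 𝔭) 𝔭]
      exact ht
    rw [hmax] at h1
    obtain ⟨u, hu, v, hv, huv⟩ := Submodule.mem_sup.mp h1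
    rw [hπ, Ideal.map_span, Set.image_singleton, Ideal.mem_span_singleton'] at hu
    obtain ⟨c, rfl⟩ := hu
    obtain ⟨cc, rfl⟩ := (Ideal.mem_span_range_iff_exists_fun).mp hv
    refine ⟨algebraMap _ S c + ∑ i, algebraMap _ S (cc i) * y i, ?_⟩
    rw [hAS, ← huv, map_add, map_mul, map_sum, mul_add, Finset.mul_sum,
      ← IsScalarTower.algebraMap_apply R (Localization.AtPrime 𝔭) S]
    congr 1
    · ring
    · refine Finset.sum_congr rfl (fun i _ => ?_)
      rw [map_mul, ← hπy]
      ring
  obtain ⟨ν⟩ := hE2 S (fun s hs => hregS s (by rw [hRS]; exact hs))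
    (fun t ht => by
      obtain ⟨s, hs⟩ := hdiv t ht
      exact ⟨s, by rw [← hRS]; exact hs⟩)
  have hνπ : ∀ w : E, ν (algebraMap R E π * w) = algebraMap R S π * ν w := by
    intro w
    rw [map_mul, IsScalarTower.algebraMap_apply R A E, AlgHom.commutes, ← hRS]
  have hregB' : ∀ w : Localization.AtPrime 𝔭',
      algebraMap E (Localization.AtPrime 𝔭') (algebraMap R E π) * w = 0 → w = 0 := by
    intro w hw
    obtain ⟨q, t, rfl⟩ := IsLocalization.exists_mk'_eq 𝔭'.primeCompl w
    rw [← IsLocalization.mk'_one (M := 𝔭'.primeCompl) (Localization.AtPrime 𝔭'),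
      ← IsLocalization.mk'_mul, one_mul, IsLocalization.mk'_eq_zero_iff] at hw
    obtain ⟨m, hm⟩ := hw
    rw [IsLocalization.mk'_eq_zero_iff]
    refine ⟨m, hE1 _ ?_⟩
    rw [← hm]
    ring
  have hregB'pow : ∀ (n : ℕ) (w : Localization.AtPrime 𝔭'),
      algebraMap E (Localization.AtPrime 𝔭') (algebraMap R E π) ^ n * w = 0 → w = 0 := by
    intro n
    induction n with
    | zero => intro w hw; simpa using hw
    | succ n ih =>
      intro w hw
      rw [pow_succ, mul_assoc] at hw
      exact hregB' w (ih _ hw)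
  have hevν : ∀ w : E, evS (ν w) = algebraMap E (Localization.AtPrime 𝔭') w := by
    intro w
    obtain ⟨n, t, hnt⟩ := hE4 w
    have h1 : algebraMap E (Localization.AtPrime 𝔭') (algebraMap R E π) ^ n *
        (evS (ν w) - algebraMap E (Localization.AtPrime 𝔭') w) = 0 := by
      have h2 : evS (ν (algebraMap R E π ^ n * w)) =
          algebraMap E (Localization.AtPrime 𝔭') (algebraMap R E π ^ n * w) := by
        rw [hnt, AlgHom.commutes, hAS, hevB, hβ]
      have h3 : evS (ν (algebraMap R E π ^ n)) =
          algebraMap E (Localization.AtPrime 𝔭') (algebraMap R E π) ^ n := by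
        rw [map_pow, map_pow, IsScalarTower.algebraMap_apply R A E, AlgHom.commutes, hAS, hevB, hβ]
      rw [map_mul, map_mul, h3, map_mul, map_pow] at h2
      rw [mul_sub, h2, sub_self]
    exact sub_eq_zero.mp (hregB'pow n _ h1)
  have hunits : ∀ t : 𝔭'.primeCompl, IsUnit (ν.toRingHom t) := by
    intro t
    have h1 : IsUnit (evS (ν t)) := by
      rw [hevν]
      exact IsLocalization.map_units _ t
    exact hevloc.map_nonunit _ h1
  let ν' : Localization.AtPrime 𝔭' →+* S :=
    IsLocalization.lift (M := 𝔭'.primeCompl) (g := ν.toRingHom) hunits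
  have hν' : ∀ w : E, ν' (algebraMap E _ w) = ν w := fun w => IsLocalization.lift_eq _ _
  have h12 : evS.comp ν' = RingHom.id _ := by
    refine IsLocalization.ringHom_ext 𝔭'.primeCompl ?_
    ext w
    simp only [RingHom.comp_apply, RingHom.id_apply]
    rw [hν', hevν]
  have hν'β : ∀ b, ν' (β b) = algebraMap (Localization.AtPrime 𝔭) S b := by
    have : ν'.comp β = algebraMap (Localization.AtPrime 𝔭) S := by
      refine IsLocalization.ringHom_ext 𝔭.primeCompl ?_
      ext t
      simp only [RingHom.comp_apply]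
      rw [hβ, hν', AlgHom.commutes, hAS]
    intro b
    exact RingHom.congr_fun this b
  have h21 : ν'.comp evS = RingHom.id S := by
    refine hgen _ ?_ ?_
    · intro b
      rw [RingHom.comp_apply, hevB, hν'β]
    · intro i
      rw [RingHom.comp_apply, hevy, hν']
      refine sub_eq_zero.mp (hregS _ ?_)
      rw [mul_sub, ← hνπ, he, AlgHom.commutes, hπy, hAS, hxa, sub_self]
  let eq0 : S ≃+* Localization.AtPrime 𝔭' := RingEquiv.ofRingHom evS ν' h12 h21
  let eq1 : S ≃ₐ[R] Localization.AtPrime 𝔭' :=
    { eq0 with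
      commutes' := by
        intro r
        change evS (algebraMap R S r) = _
        rw [IsScalarTower.algebraMap_apply R (Localization.AtPrime 𝔭) S, hevB,
          IsScalarTower.algebraMap_apply R A (Localization.AtPrime 𝔭), hβ,
          ← IsScalarTower.algebraMap_apply R A E,
          ← IsScalarTower.algebraMap_apply R E (Localization.AtPrime 𝔭')] }
  exact Algebra.FormallySmooth.of_equiv eq1

end Helper27.Neron
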