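import Mathlib
import Groth.Prelude.Def_BlowUp2

set_option autoImplicit false
universe u

namespace Helper27.Neron

section Blow

variable {A : Type u} [CommRing A] (I : Ideal A) (a : A)

lemma isUnit_a : IsUnit (algebraMap A (Localization.Away a) a) :=
  IsLocalization.Away.algebraMap_isUnit a

lemma blow_regular (e : BlowUp.affineAlgebra A I a)
    (h : algebraMap A (BlowUp.affineAlgebra A I a) a * e = 0) : e = 0 := by
  have h1 : algebraMap A (Localization.Away a) a * (e : Localization.Away a) = 0 := by
    have := congrArg Subtype.val h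
    simpa using this
  apply Subtype.ext
  exact (isUnit_a a).mul_right_eq_zero.mp h1

lemma blow_div (x : A) (hx : x ∈ I) :
    ∃ e : BlowUp.affineAlgebra A I a,
      algebraMap A (BlowUp.affineAlgebra A I a) a * e =
        algebraMap A (BlowUp.affineAlgebra A I a) x := by
  refine ⟨⟨IsLocalization.mk' (Localization.Away a) x ⟨a, Submonoid.mem_powers a⟩,
    Algebra.subset_adjoin ⟨x, hx, rfl⟩⟩, ?_⟩
  apply Subtype.ext
  change algebraMap A (Localization.Away a) a *
    IsLocalization.mk' (Localization.Away a) x ⟨a, Submonoid.mem_powers a⟩ =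
      algebraMap A (Localization.Away a) x
  exact IsLocalization.mk'_spec' (Localization.Away a) x ⟨a, Submonoid.mem_powers a⟩

lemma blow_pow (e : BlowUp.affineAlgebra A I a) :
    ∃ (n : ℕ) (x : A), algebraMap A (BlowUp.affineAlgebra A I a) a ^ n * e =
      algebraMap A (BlowUp.affineAlgebra A I a) x := by
  obtain ⟨n, x, hx⟩ := IsLocalization.Away.surj a (e : Localization.Away a)
  refine ⟨n, x, ?_⟩
  apply Subtype.ext
  change algebraMap A (Localization.Away a) a ^ n * (e : Localization.Away a) =
    algebraMap A (Localization.Away a) x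
  rw [mul_comm]
  exact hx

variable {S : Type u} [CommRing S] [Algebra A S]

theorem blow_universal
    (hreg : ∀ s : S, algebraMap A S a * s = 0 → s = 0)
    (hdiv : ∀ x ∈ I, ∃ s : S, algebraMap A S a * s = algebraMap A S x) :
    Nonempty (BlowUp.affineAlgebra A I a →ₐ[A] S) := by
  classical
  let Sa := Localization.Away (algebraMap A S a)
  have hinj : Function.Injective (algebraMap S Sa) := by
    refine IsLocalization.injective Sa (M := Submonoid.powers (algebraMap A S a)) ?_
    rw [Submonoid.powers_le]
    rw [mem_nonZeroDivisors_iff]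
    refine ⟨fun s hs => hreg s hs, fun s hs => hreg s (by rw [mul_comm]; exact hs)⟩
  let Φ : Localization.Away a →+* Sa := Localization.awayMap (algebraMap A S) a
  have hΦ : ∀ x : A, Φ (algebraMap A _ x) = algebraMap S Sa (algebraMap A S x) := fun x =>
    IsLocalization.map_eq _ _
  have hclaim : ∀ w : Localization.Away a, w ∈ BlowUp.affineAlgebra A I a →
      ∃ s : S, algebraMap S Sa s = Φ w := by
    intro w hw
    unfold BlowUp.affineAlgebra at hw
    induction hw using Algebra.adjoin_induction with
    | mem w hw =>
      obtain ⟨x, hx, rfl⟩ := hw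
      obtain ⟨s, hs⟩ := hdiv x hx
      refine ⟨s, ?_⟩
      have hu : IsUnit (Φ (algebraMap A _ a)) := (isUnit_a a).map Φ
      apply hu.mul_left_cancel
      have hspec : algebraMap A (Localization.Away a) a *
          IsLocalization.mk' (Localization.Away a) x ⟨a, Submonoid.mem_powers a⟩ =
          algebraMap A (Localization.Away a) x :=
        IsLocalization.mk'_spec' (Localization.Away a) x ⟨a, Submonoid.mem_powers a⟩
      rw [← map_mul, hspec, hΦ, hΦ, ← map_mul, hs]
    | algebraMap x => exact ⟨algebraMap A S x, (hΦ x).symm⟩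
    | add w w' _ _ h h' =>
      obtain ⟨s, hs⟩ := h
      obtain ⟨s', hs'⟩ := h'
      exact ⟨s + s', by rw [map_add, map_add, hs, hs']⟩
    | mul w w' _ _ h h' =>
      obtain ⟨s, hs⟩ := h
      obtain ⟨s', hs'⟩ := h'
      exact ⟨s * s', by rw [map_mul, map_mul, hs, hs']⟩
  let ν0 : BlowUp.affineAlgebra A I a → S := fun w => (hclaim w.1 w.2).choose
  have hν0 : ∀ w : BlowUp.affineAlgebra A I a, algebraMap S Sa (ν0 w) = Φ w.1 :=
    fun w => (hclaim w.1 w.2).choose_spec
  refine ⟨{ toFun := ν0
            map_one' := hinj (by rw [hν0, map_one]; exact (map_one Φ))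
            map_mul' := fun w w' => hinj (by
              rw [hν0, map_mul, hν0, hν0]; exact map_mul Φ _ _)
            map_zero' := hinj (by rw [hν0, map_zero]; exact (map_zero Φ))
            map_add' := fun w w' => hinj (by
              rw [hν0, map_add, hν0, hν0]; exact map_add Φ _ _)
            commutes' := fun x => hinj (by rw [hν0]; exact hΦ x) }⟩

end Blow

end Helper27.Neron
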