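import Mathlib
import Groth.Prelude.Def_BlowUp2
import Groth.Agent.Lib.Helper27.NeronC
import Groth.Agent.Lib.Helper27.NeronD
import Groth.Agent.S2451

set_option autoImplicit false
universe u

namespace Helper27.Neron

open IsLocalRing

set_option maxHeartbeats 1000000 in
theorem neron_main {R Λ A : Type u} [CommRing R] [IsDomain R]
    [IsDiscreteValuationRing R] [CommRing Λ] [IsDomain Λ] [IsDiscreteValuationRing Λ] [Algebra R Λ]
    [IsLocalHom (algebraMap R Λ)]
    (he : (IsLocalRing.maximalIdeal R).map (algebraMap R Λ) = IsLocalRing.maximalIdeal Λ)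
    (hsep : Algebra.IsGeometricallyReduced (IsLocalRing.ResidueField R) (IsLocalRing.ResidueField Λ))
    [CommRing A] [Algebra R A] [Module.Flat R A] [Algebra.FiniteType R A] [Algebra A Λ]
    [IsScalarTower R A Λ]
    (π : R) (hπ : IsLocalRing.maximalIdeal R = Ideal.span {π})
    (𝔭 : Ideal A) [𝔭.IsPrime] (h𝔭 : 𝔭 = (IsLocalRing.maximalIdeal Λ).comap (algebraMap A Λ))
    (hsm : Algebra.FormallySmooth R (Localization.AtPrime 𝔭))
    (φ' : BlowUp.affineAlgebra A 𝔭 (algebraMap R A π) →ₐ[A] Λ)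
    (𝔭' : Ideal (BlowUp.affineAlgebra A 𝔭 (algebraMap R A π))) [𝔭'.IsPrime]
    (h𝔭' : 𝔭' = (IsLocalRing.maximalIdeal Λ).comap φ'.toRingHom) :
    Algebra.FormallySmooth R (Localization.AtPrime 𝔭') := by
  classical
  have hmem : ∀ x : A, x ∈ 𝔭 ↔ algebraMap A Λ x ∈ maximalIdeal Λ := fun x => by
    rw [h𝔭, Ideal.mem_comap]
  have hmem' : ∀ w : BlowUp.affineAlgebra A 𝔭 (algebraMap R A π),
      w ∈ 𝔭' ↔ φ' w ∈ maximalIdeal Λ := fun w => by
    rw [h𝔭', Ideal.mem_comap]
    rfl
  have hπΛ : algebraMap R Λ π ∈ maximalIdeal Λ := by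
    rw [← he]
    exact Ideal.mem_map_of_mem _ (by rw [hπ]; exact Ideal.mem_span_singleton_self π)
  have hπ𝔭 : algebraMap R A π ∈ 𝔭 := by
    rw [hmem, ← IsScalarTower.algebraMap_apply]
    exact hπΛ
  have hloc : IsLocalHom (algebraMap R (Localization.AtPrime 𝔭)) := by
    refine ⟨fun r hr => ?_⟩
    by_contra hnu
    have h1 : r ∈ maximalIdeal R := (mem_maximalIdeal r).mpr hnu
    rw [hπ, Ideal.mem_span_singleton'] at h1
    obtain ⟨c, rfl⟩ := h1
    have h2 : algebraMap R A (c * π) ∈ 𝔭 := by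
      rw [map_mul]
      exact Ideal.mul_mem_left _ _ hπ𝔭
    have h3 : algebraMap R (Localization.AtPrime 𝔭) (c * π) ∈
        maximalIdeal (Localization.AtPrime 𝔭) := by
      rw [IsScalarTower.algebraMap_apply R A (Localization.AtPrime 𝔭),
        IsLocalization.AtPrime.to_map_mem_maximal_iff (Localization.AtPrime 𝔭) 𝔭]
      exact h2
    exact (mem_maximalIdeal _).mp h3 hr
  have hunitΛ : ∀ y : 𝔭.primeCompl, IsUnit (algebraMap A Λ y) := by
    intro y
    have h1 : (y : A) ∉ 𝔭 := y.2
    rw [hmem] at h1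
    by_contra hu
    exact h1 ((mem_maximalIdeal _).mpr hu)
  let γ : Localization.AtPrime 𝔭 →+* Λ :=
    IsLocalization.lift (M := 𝔭.primeCompl) (g := algebraMap A Λ) hunitΛ
  have hγ : ∀ x : A, γ (algebraMap A _ x) = algebraMap A Λ x := fun x =>
    IsLocalization.lift_eq _ _
  have hγloc : IsLocalHom γ := by
    refine ⟨fun b hb => ?_⟩
    obtain ⟨q, t, rfl⟩ := IsLocalization.exists_mk'_eq 𝔭.primeCompl b
    rw [IsLocalization.AtPrime.isUnit_mk'_iff (Localization.AtPrime 𝔭) 𝔭]
    have h1 : γ (IsLocalization.mk' (Localization.AtPrime 𝔭) q t) * algebraMap A Λ t =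
        algebraMap A Λ q := by
      rw [← hγ, ← hγ, ← map_mul, IsLocalization.mk'_spec]
    have h2 : IsUnit (algebraMap A Λ q) := by
      rw [← h1]
      exact hb.mul (hunitΛ t)
    intro hq
    have hq' : q ∈ 𝔭 := hq
    rw [hmem] at hq'
    exact (mem_maximalIdeal _).mp hq' h2
  let ψ : ResidueField (Localization.AtPrime 𝔭) →ₐ[ResidueField R] ResidueField Λ :=
    { ResidueField.map γ with
      commutes' := by
        intro c
        obtain ⟨r, rfl⟩ := residue_surjective c
        change ResidueField.map γ (algebraMap (ResidueField R)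
          (ResidueField (Localization.AtPrime 𝔭)) (residue R r)) = _
        rw [ResidueField.algebraMap_residue, ResidueField.map_residue,
          ResidueField.algebraMap_residue,
          IsScalarTower.algebraMap_apply R A (Localization.AtPrime 𝔭), hγ,
          ← IsScalarTower.algebraMap_apply] }
  have hgr : Algebra.IsGeometricallyReduced (ResidueField R)
      (ResidueField (Localization.AtPrime 𝔭)) :=
    Algebra.IsGeometricallyReduced.of_injective ψ (RingHom.injective ψ.toRingHom)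
  have hfsk : Algebra.FormallySmooth (ResidueField R) (ResidueField (Localization.AtPrime 𝔭)) :=
    Groth.Agent.S2451.result.mpr hgr
  have hcomap : 𝔭'.comap (algebraMap A (BlowUp.affineAlgebra A 𝔭 (algebraMap R A π))) = 𝔭 := by
    ext x
    rw [Ideal.mem_comap, hmem', hmem, AlgHom.commutes]
  have hRE : algebraMap R (BlowUp.affineAlgebra A 𝔭 (algebraMap R A π)) π =
      algebraMap A (BlowUp.affineAlgebra A 𝔭 (algebraMap R A π)) (algebraMap R A π) :=
    IsScalarTower.algebraMap_apply R A _ π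
  refine formallySmooth_atPrime_of_universal π hπ 𝔭 𝔭' hcomap hπ𝔭 ?_ ?_ ?_ ?_
  · intro e h
    rw [hRE] at h
    exact blow_regular 𝔭 _ e h
  · intro x hx
    rw [hRE]
    exact blow_div 𝔭 _ x hx
  · intro e
    rw [hRE]
    exact blow_pow 𝔭 _ e
  · intro S _ _ hreg hdiv
    exact blow_universal 𝔭 _ hreg hdiv

end Helper27.Neron
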