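import Mathlib
import Groth.Agent.Lib.Helper27.WeaklyEtaleField

set_option autoImplicit false

namespace Groth.Agent.Lib.Helper27.SepBaseChange

open TensorProduct
open Groth.Agent.Lib.Helper27.WeaklyEtaleField

section Coord

variable {K : Type*} [Field K] {A : Type*} [CommRing A] [Algebra K A] {ι : Type*}
  (𝔟 : Module.Basis ι K A)

theorem repr_map {R R' : Type*} [CommRing R] [CommRing R'] [Algebra K R] [Algebra K R']
    (f : R →ₐ[K] R') (w : R ⊗[K] A) (i : ι) :
    (Algebra.TensorProduct.basis R' 𝔟).repr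
      (Algebra.TensorProduct.map f (AlgHom.id K A) w) i =
    f ((Algebra.TensorProduct.basis R 𝔟).repr w i) := by
  induction w using TensorProduct.induction_on with
  | zero => simp
  | tmul r a =>
    simp [Algebra.TensorProduct.basis_repr_tmul]
  | add x y hx hy =>
    simp only [map_add, Finsupp.add_apply, hx, hy]

theorem eq_zero_of_isIdempotentElem_of_sq_zero {R : Type*} [CommRing R] {a b : R}
    (ha : IsIdempotentElem a) (hb : IsIdempotentElem b) (hd : (a - b) * (a - b) = 0) : a = b := by
  have ha' : a * a = a := ha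
  have hb' : b * b = b := hb
  have h1 : a - b = 2 * b * (a - b) := by
    linear_combination (-1 : R) * ha' + hb' + hd
  have h2 : b * (a - b) = 0 := by
    linear_combination (-b) * h1 + (-2 * (a - b)) * hb'
  have h3 : a - b = 0 := by
    rw [h1, mul_assoc, h2, mul_zero]
  exact sub_eq_zero.mp h3

end Coord

section Moduli

variable {K : Type*} [Field K] {A : Type*} [CommRing A] [Algebra K A] {ι : Type*}
  (𝔟 : Module.Basis ι K A) (s : Finset ι)

noncomputable def univElem : MvPolynomial s K ⊗[K] A :=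
  ∑ i : s, (MvPolynomial.X i : MvPolynomial s K) ⊗ₜ[K] 𝔟 i

noncomputable def idemIdeal : Ideal (MvPolynomial s K) :=
  Ideal.span (Set.range fun j : ι =>
    (Algebra.TensorProduct.basis (MvPolynomial s K) 𝔟).repr
      (univElem 𝔟 s * univElem 𝔟 s - univElem 𝔟 s) j)

theorem map_univElem {R : Type*} [CommRing R] [Algebra K R] (g : MvPolynomial s K →ₐ[K] R) :
    Algebra.TensorProduct.map g (AlgHom.id K A) (univElem 𝔟 s) =
      ∑ i : s, g (MvPolynomial.X i) ⊗ₜ[K] 𝔟 i := by
  simp [univElem]

theorem isIdempotentElem_map_iff {R : Type*} [CommRing R] [Algebra K R]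
    (g : MvPolynomial s K →ₐ[K] R) :
    IsIdempotentElem (Algebra.TensorProduct.map g (AlgHom.id K A) (univElem 𝔟 s)) ↔
      idemIdeal 𝔟 s ≤ RingHom.ker g := by
  set u := univElem 𝔟 s with hu
  have key : ∀ j, (Algebra.TensorProduct.basis R 𝔟).repr
      (Algebra.TensorProduct.map g (AlgHom.id K A) (u * u - u)) j =
      g ((Algebra.TensorProduct.basis (MvPolynomial s K) 𝔟).repr (u * u - u) j) :=
    fun j => repr_map 𝔟 g _ j
  constructor
  · intro h
    rw [idemIdeal, Ideal.span_le]
    rintro _ ⟨j, rfl⟩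
    show g _ = 0
    rw [← hu, ← key j, map_sub, map_mul, h.eq, sub_self]
    simp
  · intro h
    have h0 : Algebra.TensorProduct.map g (AlgHom.id K A) (u * u - u) = 0 := by
      apply (Algebra.TensorProduct.basis R 𝔟).repr.injective
      ext j
      rw [key j, map_zero, Finsupp.zero_apply]
      exact h (Ideal.subset_span ⟨j, rfl⟩)
    rw [map_sub, map_mul, sub_eq_zero] at h0
    exact h0

theorem formallyUnramified_of_ker_eq {Q : Type*} [CommRing Q] [Algebra K Q]
    (π : MvPolynomial s K →ₐ[K] Q) (hπ : Function.Surjective π)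
    (hker : idemIdeal 𝔟 s ≤ RingHom.ker π) : Algebra.FormallyUnramified K Q := by
  classical
  rw [Algebra.FormallyUnramified.iff_comp_injective]
  intro B _ _ I hI f₁ f₂ e
  have hπid : IsIdempotentElem (Algebra.TensorProduct.map π (AlgHom.id K A) (univElem 𝔟 s)) :=
    (isIdempotentElem_map_iff 𝔟 s π).mpr hker
  apply (AlgHom.cancel_right hπ).mp
  set g₁ := f₁.comp π with hg₁
  set g₂ := f₂.comp π with hg₂
  have hid : ∀ f : Q →ₐ[K] B, IsIdempotentElem
      (Algebra.TensorProduct.map (f.comp π) (AlgHom.id K A) (univElem 𝔟 s)) := by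
    intro f
    have : Algebra.TensorProduct.map (f.comp π) (AlgHom.id K A) =
        (Algebra.TensorProduct.map f (AlgHom.id K A)).comp
          (Algebra.TensorProduct.map π (AlgHom.id K A)) := by
      rw [← Algebra.TensorProduct.map_comp, AlgHom.comp_id]
    rw [this, AlgHom.comp_apply]
    exact hπid.map _
  have hd : ∀ i : s, g₁ (MvPolynomial.X i) - g₂ (MvPolynomial.X i) ∈ I := by
    intro i
    have := AlgHom.congr_fun e (π (MvPolynomial.X i))
    show f₁ (π (MvPolynomial.X i)) - f₂ (π (MvPolynomial.X i)) ∈ I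
    simpa [Ideal.Quotient.mk_eq_mk_iff_sub_mem] using this
  have hsq : (Algebra.TensorProduct.map g₁ (AlgHom.id K A) (univElem 𝔟 s) -
      Algebra.TensorProduct.map g₂ (AlgHom.id K A) (univElem 𝔟 s)) *
      (Algebra.TensorProduct.map g₁ (AlgHom.id K A) (univElem 𝔟 s) -
      Algebra.TensorProduct.map g₂ (AlgHom.id K A) (univElem 𝔟 s)) = 0 := by
    rw [map_univElem, map_univElem, ← Finset.sum_sub_distrib]
    simp_rw [← TensorProduct.sub_tmul]
    rw [Finset.sum_mul_sum]
    apply Finset.sum_eq_zero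
    intro i _
    apply Finset.sum_eq_zero
    intro j _
    rw [Algebra.TensorProduct.tmul_mul_tmul]
    have : (g₁ (MvPolynomial.X i) - g₂ (MvPolynomial.X i)) *
        (g₁ (MvPolynomial.X j) - g₂ (MvPolynomial.X j)) = 0 := by
      have h2 : (g₁ (MvPolynomial.X i) - g₂ (MvPolynomial.X i)) *
          (g₁ (MvPolynomial.X j) - g₂ (MvPolynomial.X j)) ∈ I ^ 2 := by
        rw [pow_two]
        exact Ideal.mul_mem_mul (hd i) (hd j)
      rw [hI] at h2
      exact h2
    rw [this, TensorProduct.zero_tmul]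
  have heq := eq_zero_of_isIdempotentElem_of_sq_zero (hid f₁) (hid f₂) hsq
  rw [← hg₁, ← hg₂, map_univElem, map_univElem] at heq
  apply MvPolynomial.algHom_ext
  intro i
  have hsum : ∑ k : s, (g₁ (MvPolynomial.X k) - g₂ (MvPolynomial.X k)) •
      (Algebra.TensorProduct.basis B 𝔟) (k : ι) = 0 := by
    simp_rw [Algebra.TensorProduct.basis_repr_symm_apply', TensorProduct.sub_tmul]
    rw [Finset.sum_sub_distrib, heq, sub_self]
  have hli : LinearIndependent B (fun k : s => (Algebra.TensorProduct.basis B 𝔟) (k : ι)) :=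
    (Algebra.TensorProduct.basis B 𝔟).linearIndependent.comp _ Subtype.val_injective
  have := Fintype.linearIndependent_iff.mp hli _ hsum i
  exact sub_eq_zero.mp this

theorem etale_of_formallyUnramified_of_finiteType (K Q : Type*) [Field K] [CommRing Q]
    [Algebra K Q] [Algebra.FiniteType K Q] [Algebra.FormallyUnramified K Q] :
    Algebra.Etale K Q := by
  have h2 : Algebra.FormallyEtale K Q := Algebra.FormallyEtale.of_formallyUnramified_of_field K Q
  have h3 : Algebra.FinitePresentation K Q :=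
    Algebra.FinitePresentation.of_finiteType.mp inferInstance
  exact ⟨h2, h3⟩

theorem isSeparable_repr_of_isIdempotentElem {Ω : Type*} [CommRing Ω] [Algebra K Ω]
    (e : Ω ⊗[K] A) (he : IsIdempotentElem e) (i : ι) :
    IsSeparable K ((Algebra.TensorProduct.basis Ω 𝔟).repr e i) := by
  classical
  obtain ⟨c, hc⟩ : ∃ c, c = (Algebra.TensorProduct.basis Ω 𝔟).repr e := ⟨_, rfl⟩
  rw [← hc]
  obtain ⟨s, hs⟩ : ∃ s, s = c.support := ⟨_, rfl⟩
  by_cases hi : i ∈ s
  · let ω : MvPolynomial s K →ₐ[K] Ω := MvPolynomial.aeval (fun k : s => c k)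
    have hω : Algebra.TensorProduct.map ω (AlgHom.id K A) (univElem 𝔟 s) = e := by
      rw [map_univElem]
      have h1 := (Algebra.TensorProduct.basis Ω 𝔟).linearCombination_repr e
      rw [← hc, Finsupp.linearCombination_apply, Finsupp.sum, ← hs] at h1
      rw [← h1, ← Finset.sum_coe_sort s]
      apply Finset.sum_congr rfl
      intro k _
      simp only [ω, MvPolynomial.aeval_X, Algebra.TensorProduct.basis_repr_symm_apply']
    have hker : idemIdeal 𝔟 s ≤ RingHom.ker ω := by
      rw [← isIdempotentElem_map_iff, hω]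
      exact he
    let π : MvPolynomial s K →ₐ[K] (MvPolynomial s K ⧸ idemIdeal 𝔟 s) :=
      Ideal.Quotient.mkₐ K (idemIdeal 𝔟 s)
    have hπ : Function.Surjective π := Ideal.Quotient.mkₐ_surjective K _
    have hkerπ : idemIdeal 𝔟 s ≤ RingHom.ker π := by
      intro x hx
      exact (Ideal.Quotient.eq_zero_iff_mem).mpr hx
    have hunr : Algebra.FormallyUnramified K (MvPolynomial s K ⧸ idemIdeal 𝔟 s) :=
      formallyUnramified_of_ker_eq 𝔟 s π hπ hkerπ
    have het : Algebra.Etale K (MvPolynomial s K ⧸ idemIdeal 𝔟 s) :=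
      etale_of_formallyUnramified_of_finiteType K _
    let ωbar : (MvPolynomial s K ⧸ idemIdeal 𝔟 s) →ₐ[K] Ω :=
      Ideal.Quotient.liftₐ (idemIdeal 𝔟 s) ω (fun a ha => hker ha)
    have h1 : IsSeparable K (π (MvPolynomial.X ⟨i, hi⟩)) :=
      isSeparable_of_weaklyEtale (K := K) (A := MvPolynomial s K ⧸ idemIdeal 𝔟 s) _
    have h2 := isSeparable_map_of_isSeparable ωbar h1
    have h3 : ωbar (π (MvPolynomial.X ⟨i, hi⟩)) = c i := by
      have h4 := AlgHom.congr_fun (Ideal.Quotient.liftₐ_comp (idemIdeal 𝔟 s) ω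
        (fun a ha => hker ha)) (MvPolynomial.X ⟨i, hi⟩)
      rw [AlgHom.comp_apply] at h4
      rw [h4]
      simp [ω]
    rwa [h3] at h2
  · rw [hs, Finsupp.notMem_support_iff] at hi
    rw [hi]
    have := isSeparable_algebraMap (F := K) (K := Ω) (0 : K)
    rwa [map_zero] at this

end Moduli

section Galois

variable (K : Type*) [Field K] (A : Type*) [CommRing A] [Algebra K A]

noncomputable def sepSubalgebra : Subalgebra K A :=
  sSup {S : Subalgebra K A | Algebra.WeaklyEtale K S}

variable {K A}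

theorem mem_sepSubalgebra_iff {a : A} : a ∈ sepSubalgebra K A ↔ IsSeparable K a :=
  mem_sSup_weaklyEtale_iff a

variable (K A)

def sepSpan (L : Type*) [Field L] [Algebra K L] : Submodule L (L ⊗[K] A) :=
  Submodule.span L ((fun a : A => (1 : L) ⊗ₜ[K] a) '' (sepSubalgebra K A : Set A))

variable {K A}

theorem exists_repr_basis {L : Type*} [Field L] [Algebra K L] {κ : Type*} [Fintype κ]
    (b : Module.Basis κ K L) (x : L ⊗[K] A) : ∃ α : κ → A, x = ∑ k, b k ⊗ₜ[K] α k := by
  induction x using TensorProduct.induction_on with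
  | zero => exact ⟨fun _ => 0, by simp⟩
  | tmul l a =>
    refine ⟨fun k => b.repr l k • a, ?_⟩
    conv_lhs => rw [← b.sum_repr l]
    rw [TensorProduct.sum_tmul]
    apply Finset.sum_congr rfl
    intro k _
    rw [TensorProduct.smul_tmul]
  | add x y hx hy =>
    obtain ⟨α, hα⟩ := hx
    obtain ⟨β, hβ⟩ := hy
    refine ⟨fun k => α k + β k, ?_⟩
    rw [hα, hβ, ← Finset.sum_add_distrib]
    apply Finset.sum_congr rfl
    intro k _
    rw [TensorProduct.tmul_add]

theorem mem_sepSpan_of_isSeparable_of_isGalois {L : Type*} [Field L] [Algebra K L]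
    [FiniteDimensional K L] [IsGalois K L] (x : L ⊗[K] A) (hx : IsSeparable K x) :
    x ∈ sepSpan K A L := by
  classical
  let b := Module.finBasis K L
  obtain ⟨α, hα⟩ := exists_repr_basis b x
  let b' := (Algebra.traceForm K L).dualBasis (traceForm_nondegenerate K L) b
  let σA : (L ≃ₐ[K] L) → (L ⊗[K] A →ₐ[K] L ⊗[K] A) := fun σ =>
    Algebra.TensorProduct.map (σ : L →ₐ[K] L) (AlgHom.id K A)
  have hT : ∀ i, ∑ σ : L ≃ₐ[K] L, σA σ ((b' i ⊗ₜ[K] (1 : A)) * x) = (1 : L) ⊗ₜ[K] α i := by
    intro i
    have h1 : ∀ σ : L ≃ₐ[K] L, σA σ ((b' i ⊗ₜ[K] (1 : A)) * x) =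
        ∑ k, σ (b' i * b k) ⊗ₜ[K] α k := by
      intro σ
      rw [hα, Finset.mul_sum, map_sum]
      apply Finset.sum_congr rfl
      intro k _
      rw [Algebra.TensorProduct.tmul_mul_tmul, one_mul]
      simp [σA]
    simp_rw [h1]
    rw [Finset.sum_comm]
    simp_rw [← TensorProduct.sum_tmul]
    have h2 : ∀ k, ∑ σ : L ≃ₐ[K] L, σ (b' i * b k) = if k = i then 1 else 0 := by
      intro k
      rw [← trace_eq_sum_automorphisms]
      have := LinearMap.BilinForm.apply_dualBasis_left (B := Algebra.traceForm K L)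
        (traceForm_nondegenerate K L) b i k
      rw [Algebra.traceForm_apply] at this
      rw [show b' i * b k = b' i * b k from rfl, this]
      split_ifs <;> simp
    simp_rw [h2]
    rw [Finset.sum_eq_single i]
    · simp
    · intro k _ hk
      simp [hk]
    · intro h
      exact absurd (Finset.mem_univ i) h
  have hsep : ∀ i, IsSeparable K ((1 : L) ⊗ₜ[K] α i) := by
    intro i
    rw [← hT i, ← mem_sepSubalgebra_iff]
    apply Subalgebra.sum_mem
    intro σ _
    rw [mem_sepSubalgebra_iff]
    apply isSeparable_map_of_isSeparable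
    rw [← mem_sepSubalgebra_iff]
    apply Subalgebra.mul_mem
    · rw [mem_sepSubalgebra_iff]
      have h0 : IsSeparable K (b' i) := Algebra.IsSeparable.isSeparable K _
      exact isSeparable_map_of_isSeparable
        (Algebra.TensorProduct.includeLeft : L →ₐ[K] L ⊗[K] A) h0
    · rw [mem_sepSubalgebra_iff]
      exact hx
  have hα' : ∀ i, α i ∈ sepSubalgebra K A := by
    intro i
    rw [mem_sepSubalgebra_iff]
    have hinj : Function.Injective (Algebra.TensorProduct.includeRight : A →ₐ[K] L ⊗[K] A) :=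
      Algebra.TensorProduct.includeRight_injective (algebraMap K L).injective
    have h := hsep i
    unfold IsSeparable at h ⊢
    have : minpoly K ((Algebra.TensorProduct.includeRight : A →ₐ[K] L ⊗[K] A) (α i)) =
        minpoly K (α i) := minpoly.algHom_eq _ hinj _
    rw [← this]
    exact h
  rw [hα]
  apply Submodule.sum_mem
  intro k _
  have : b k ⊗ₜ[K] α k = b k • ((1 : L) ⊗ₜ[K] α k) := by
    rw [TensorProduct.smul_tmul', smul_eq_mul, mul_one]
  rw [this]
  exact Submodule.smul_mem _ _ (Submodule.subset_span ⟨α k, hα' k, rfl⟩)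

end Galois

section Intersection

variable {K : Type*} [Field K] {A : Type*} [CommRing A] [Algebra K A]

theorem map_mem_sepSpan {L Ω : Type*} [Field L] [Field Ω] [Algebra K L] [Algebra K Ω]
    (φ : L →ₐ[K] Ω) {x : L ⊗[K] A} (hx : x ∈ sepSpan K A L) :
    Algebra.TensorProduct.map φ (AlgHom.id K A) x ∈ sepSpan K A Ω := by
  unfold sepSpan at hx
  induction hx using Submodule.span_induction with
  | mem y hy =>
    obtain ⟨a, ha, rfl⟩ := hy
    apply Submodule.subset_span
    exact ⟨a, ha, by simp⟩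
  | zero => rw [map_zero]; exact Submodule.zero_mem _
  | add y z _ _ hy hz => rw [map_add]; exact Submodule.add_mem _ hy hz
  | smul l y _ hy =>
    have : Algebra.TensorProduct.map φ (AlgHom.id K A) (l • y) =
        φ l • Algebra.TensorProduct.map φ (AlgHom.id K A) y := by
      rw [Algebra.smul_def, Algebra.smul_def, map_mul]
      simp [Algebra.TensorProduct.algebraMap_apply]
    rw [this]
    exact Submodule.smul_mem _ _ hy

theorem mem_span_of_map_mem_span {L Ω : Type*} [Field L] [Field Ω] [Algebra K L] [Algebra K Ω]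
    (φ : L →ₐ[K] Ω) (V : Submodule K A) (z : L ⊗[K] A)
    (hz : Algebra.TensorProduct.map φ (AlgHom.id K A) z ∈
      Submodule.span Ω ((fun a : A => (1 : Ω) ⊗ₜ[K] a) '' (V : Set A))) :
    z ∈ Submodule.span L ((fun a : A => (1 : L) ⊗ₜ[K] a) '' (V : Set A)) := by
  let ρ : A →ₗ[K] A ⧸ V := V.mkQ
  let ρΩ : Ω ⊗[K] A →ₗ[Ω] Ω ⊗[K] (A ⧸ V) := ρ.baseChange Ω
  have h0 : ∀ y ∈ Submodule.span Ω ((fun a : A => (1 : Ω) ⊗ₜ[K] a) '' (V : Set A)),
      ρΩ y = 0 := by
    intro y hy
    induction hy using Submodule.span_induction with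
    | mem y hy =>
      obtain ⟨a, ha, rfl⟩ := hy
      have : ρ a = 0 := (Submodule.Quotient.mk_eq_zero V).mpr ha
      simp [ρΩ, this]
    | zero => rw [map_zero]
    | add y z _ _ hy hz => rw [map_add, hy, hz, add_zero]
    | smul l y _ hy => rw [map_smul, hy, smul_zero]
  have h1 : ρΩ (Algebra.TensorProduct.map φ (AlgHom.id K A) z) = 0 := h0 _ hz
  let jQ : L ⊗[K] (A ⧸ V) →ₗ[K] Ω ⊗[K] (A ⧸ V) := LinearMap.rTensor (A ⧸ V) φ.toLinearMap
  have hjQ : Function.Injective jQ :=
    Module.Flat.rTensor_preserves_injective_linearMap φ.toLinearMap φ.injective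
  have hcomm : ∀ w : L ⊗[K] A, ρΩ (Algebra.TensorProduct.map φ (AlgHom.id K A) w) =
      jQ (LinearMap.lTensor L ρ w) := by
    intro w
    induction w using TensorProduct.induction_on with
    | zero => simp
    | tmul l a => simp [ρΩ, jQ]
    | add x y hx hy => simp only [map_add, hx, hy]
  have h2 : LinearMap.lTensor L ρ z = 0 := by
    apply hjQ
    rw [← hcomm, h1, map_zero]
  have hex : Function.Exact (LinearMap.lTensor L V.subtype) (LinearMap.lTensor L ρ) :=
    lTensor_exact L (LinearMap.exact_subtype_mkQ V) V.mkQ_surjective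
  obtain ⟨w, hw⟩ := (hex z).mp h2
  rw [← hw]
  clear hw
  induction w using TensorProduct.induction_on with
  | zero => rw [map_zero]; exact Submodule.zero_mem _
  | tmul l v =>
    have : LinearMap.lTensor L V.subtype (l ⊗ₜ[K] v) = l • ((1 : L) ⊗ₜ[K] (v : A)) := by
      rw [LinearMap.lTensor_tmul, TensorProduct.smul_tmul', smul_eq_mul, mul_one]
      rfl
    rw [this]
    exact Submodule.smul_mem _ _ (Submodule.subset_span ⟨v, v.2, rfl⟩)
  | add x y hx hy => rw [map_add]; exact Submodule.add_mem _ hx hy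

theorem mem_sepSpan_of_map_mem {L Ω : Type*} [Field L] [Field Ω] [Algebra K L] [Algebra K Ω]
    (φ : L →ₐ[K] Ω) (z : L ⊗[K] A)
    (hz : Algebra.TensorProduct.map φ (AlgHom.id K A) z ∈ sepSpan K A Ω) :
    z ∈ sepSpan K A L :=
  mem_span_of_map_mem_span φ (Subalgebra.toSubmodule (sepSubalgebra K A)) z hz

end Intersection

section Main

variable {K : Type*} [Field K] {A : Type*} [CommRing A] [Algebra K A]

theorem map_injective {L Ω : Type*} [Field L] [Field Ω] [Algebra K L] [Algebra K Ω]
    (φ : L →ₐ[K] Ω) : Function.Injective (Algebra.TensorProduct.map φ (AlgHom.id K A)) := by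
  have h1 : ∀ w : L ⊗[K] A, Algebra.TensorProduct.map φ (AlgHom.id K A) w =
      LinearMap.rTensor A φ.toLinearMap w := by
    intro w
    induction w using TensorProduct.induction_on with
    | zero => simp
    | tmul l a => simp
    | add x y hx hy => simp only [map_add, hx, hy]
  have h2 : Function.Injective (LinearMap.rTensor A φ.toLinearMap) :=
    Module.Flat.rTensor_preserves_injective_linearMap φ.toLinearMap φ.injective
  intro x y hxy
  apply h2
  rw [← h1, ← h1, hxy]

theorem separable_X_sq_sub_X (K : Type*) [Field K] :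
    (Polynomial.X ^ 2 - Polynomial.X : Polynomial K).Separable := by
  refine ⟨-4, 2 * Polynomial.X - 1, ?_⟩
  simp only [Polynomial.derivative_sub, Polynomial.derivative_X_pow, Polynomial.derivative_X]
  simp only [Nat.cast_ofNat, Nat.add_one_sub_one, pow_one, Polynomial.C_ofNat]
  ring

theorem isSeparable_of_isIdempotentElem {K B : Type*} [Field K] [CommRing B] [Algebra K B]
    {e : B} (he : IsIdempotentElem e) : IsSeparable K e := by
  apply isSeparable_of_aeval_eq_zero (separable_X_sq_sub_X K)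
  rw [map_sub, map_pow, Polynomial.aeval_X, pow_two, he.eq, sub_self]

theorem mem_sepSpan_of_isIdempotentElem {Ω : Type*} [Field Ω] [Algebra K Ω] [IsAlgClosed Ω]
    (e : Ω ⊗[K] A) (he : IsIdempotentElem e) : e ∈ sepSpan K A Ω := by
  classical
  let 𝔟 := Module.Basis.ofVectorSpace K A
  obtain ⟨c, hc⟩ : ∃ c, c = (Algebra.TensorProduct.basis Ω 𝔟).repr e := ⟨_, rfl⟩
  have hsep : ∀ i, IsSeparable K (c i) := by
    intro i
    rw [hc]
    exact isSeparable_repr_of_isIdempotentElem 𝔟 e he i
  obtain ⟨s, hs⟩ : ∃ s, s = c.support := ⟨_, rfl⟩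
  have he_sum : e = ∑ i : s, c i ⊗ₜ[K] 𝔟 i := by
    have h1 := (Algebra.TensorProduct.basis Ω 𝔟).linearCombination_repr e
    rw [← hc, Finsupp.linearCombination_apply, Finsupp.sum, ← hs] at h1
    rw [← h1, ← Finset.sum_coe_sort s]
    apply Finset.sum_congr rfl
    intro k _
    rw [Algebra.TensorProduct.basis_repr_symm_apply']
  let f : Polynomial K := ∏ i ∈ s, minpoly K (c i)
  have hf0 : f ≠ 0 := by
    rw [Finset.prod_ne_zero_iff]
    intro i _
    exact minpoly.ne_zero (hsep i).isIntegral
  let L₀ : IntermediateField K Ω := IntermediateField.adjoin K (f.rootSet Ω)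
  have hsplit : (f.map (algebraMap K Ω)).Splits := IsAlgClosed.splits _
  have hsf : Polynomial.IsSplittingField K L₀ f :=
    IntermediateField.adjoin_rootSet_isSplittingField hsplit
  have hnormal : Normal K L₀ := Normal.of_isSplittingField f
  have hfin : FiniteDimensional K L₀ := Polynomial.IsSplittingField.finiteDimensional L₀ f
  have hsepL : Algebra.IsSeparable K L₀ := by
    rw [IntermediateField.isSeparable_adjoin_iff_isSeparable]
    intro x hx
    rw [Polynomial.mem_rootSet] at hx
    have hx2 := hx.2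
    simp only [f, map_prod] at hx2
    rw [Finset.prod_eq_zero_iff] at hx2
    obtain ⟨i, _, hi⟩ := hx2
    exact isSeparable_of_aeval_eq_zero (hsep i) hi
  have hgal : IsGalois K L₀ := ⟨⟩
  have hcmem : ∀ i ∈ s, c i ∈ L₀ := by
    intro i hi
    apply IntermediateField.subset_adjoin
    rw [Polynomial.mem_rootSet]
    refine ⟨hf0, ?_⟩
    simp only [f, map_prod]
    exact Finset.prod_eq_zero hi (minpoly.aeval K (c i))
  let e₀ : L₀ ⊗[K] A := ∑ i : s, (⟨c i, hcmem i i.2⟩ : L₀) ⊗ₜ[K] 𝔟 i
  have hmap : Algebra.TensorProduct.map L₀.val (AlgHom.id K A) e₀ = e := by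
    rw [he_sum]
    simp only [e₀, map_sum, Algebra.TensorProduct.map_tmul, AlgHom.coe_id, id_eq,
      IntermediateField.val_mk]
  have he₀ : IsIdempotentElem e₀ := by
    apply map_injective (A := A) L₀.val
    rw [map_mul, hmap]
    exact he
  have h1 : e₀ ∈ sepSpan K A L₀ :=
    mem_sepSpan_of_isSeparable_of_isGalois e₀ (isSeparable_of_isIdempotentElem he₀)
  rw [← hmap]
  exact map_mem_sepSpan L₀.val h1

theorem mem_sepSpan_of_isSeparable_of_isAlgClosed {Ω : Type*} [Field Ω] [Algebra K Ω]
    [IsAlgClosed Ω] (z : Ω ⊗[K] A) (hz : IsSeparable Ω z) : z ∈ sepSpan K A Ω := by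
  classical
  let B : Subalgebra Ω (Ω ⊗[K] A) := Algebra.adjoin Ω {z}
  have hBet : Algebra.Etale Ω B :=
    etale_adjoin_of_isSeparable (Set.finite_singleton z) (by rintro b rfl; exact hz)
  have hBfin : Module.Finite Ω B := Algebra.FormallyUnramified.finite_of_free Ω B
  have hart : IsArtinianRing B := IsArtinianRing.of_finite Ω B
  let eq : B ≃ₐ[Ω] (PrimeSpectrum B → Ω) := Algebra.FormallyEtale.equivPiOfIsSepClosed Ω B
  have : Fintype (PrimeSpectrum B) := Fintype.ofFinite _
  let zB : B := ⟨z, Algebra.subset_adjoin rfl⟩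
  have h1 : zB = ∑ x : PrimeSpectrum B, (eq zB x) • eq.symm (Pi.single x 1) := by
    apply eq.injective
    rw [map_sum]
    simp_rw [map_smul, AlgEquiv.apply_symm_apply]
    ext y
    rw [Finset.sum_apply]
    simp [Pi.single_apply]
  have h2 : z = ∑ x : PrimeSpectrum B, (eq zB x) • ((eq.symm (Pi.single x 1) : B) : Ω ⊗[K] A) := by
    have := congrArg (Subtype.val) h1
    simpa using this
  rw [h2]
  apply Submodule.sum_mem
  intro x _
  apply Submodule.smul_mem
  apply mem_sepSpan_of_isIdempotentElem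
  have hid : IsIdempotentElem (eq.symm (Pi.single x 1) : B) := by
    have : IsIdempotentElem (Pi.single x 1 : PrimeSpectrum B → Ω) := by
      show Pi.single x 1 * Pi.single x 1 = Pi.single x 1
      rw [← Pi.single_mul, one_mul]
    exact this.map eq.symm
  exact congrArg Subtype.val hid.eq

theorem isSeparable_one_tmul {L : Type*} [Field L] [Algebra K L] {a : A} (ha : IsSeparable K a) :
    IsSeparable L ((1 : L) ⊗ₜ[K] a) := by
  have ha' : (minpoly K a).Separable := ha
  apply isSeparable_of_aeval_eq_zero (g := (minpoly K a).map (algebraMap K L)) ha'.map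
  rw [Polynomial.aeval_map_algebraMap]
  have : ((1 : L) ⊗ₜ[K] a) = (Algebra.TensorProduct.includeRight : A →ₐ[K] L ⊗[K] A) a := rfl
  rw [this, Polynomial.aeval_algHom_apply, minpoly.aeval, map_zero]

theorem isSeparable_of_mem_sepSpan {L : Type*} [Field L] [Algebra K L] {z : L ⊗[K] A}
    (hz : z ∈ sepSpan K A L) : IsSeparable L z := by
  have hle : sepSpan K A L ≤ Subalgebra.toSubmodule (sepSubalgebra L (L ⊗[K] A)) := by
    unfold sepSpan
    rw [Submodule.span_le]
    rintro _ ⟨a, ha, rfl⟩
    show _ ∈ sepSubalgebra L (L ⊗[K] A)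
    rw [mem_sepSubalgebra_iff]
    exact isSeparable_one_tmul (mem_sepSubalgebra_iff.mp ha)
  exact mem_sepSubalgebra_iff.mp (hle hz)

theorem mem_sepSpan_iff_isSeparable {L : Type*} [Field L] [Algebra K L] (z : L ⊗[K] A) :
    z ∈ sepSpan K A L ↔ IsSeparable L z := by
  refine ⟨isSeparable_of_mem_sepSpan, fun hz => ?_⟩
  let Ω := AlgebraicClosure L
  let φ : L →ₐ[K] Ω := IsScalarTower.toAlgHom K L Ω
  apply mem_sepSpan_of_map_mem φ
  apply mem_sepSpan_of_isSeparable_of_isAlgClosed
  let ψ : L ⊗[K] A →ₐ[L] Ω ⊗[K] A :=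
    Algebra.TensorProduct.map (Algebra.ofId L Ω) (AlgHom.id K A)
  have h1 : IsSeparable L (ψ z) := isSeparable_map_of_isSeparable ψ hz
  have h2 : ∀ w : L ⊗[K] A, ψ w = Algebra.TensorProduct.map φ (AlgHom.id K A) w := by
    intro w
    induction w using TensorProduct.induction_on with
    | zero => simp
    | tmul l a => simp [ψ, φ]
    | add x y hx hy => simp only [map_add, hx, hy]
  rw [← h2]
  exact IsSeparable.tower_top Ω h1

end Main

end Groth.Agent.Lib.Helper27.SepBaseChange
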