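import Mathlib
import Groth.Agent.Lib.Helper27.SepBaseChange

set_option autoImplicit false

namespace Groth.Agent.Lib.Helper27.PiZero

open Groth.Agent.Lib.Helper27.WeaklyEtaleField
open Groth.Agent.Lib.Helper27.SepBaseChange

theorem finite_of_isSeparable_subalgebra (k B : Type*) [Field k] [CommRing B] [Algebra k B]
    [Algebra.FiniteType k B] (E : Subalgebra k B) [Algebra.IsSeparable k E] :
    Module.Finite k E := by
  classical
  have hN : IsNoetherianRing B := Algebra.FiniteType.isNoetherianRing k B
  have hw : Algebra.WeaklyEtale k E := weaklyEtale_of_isSeparable k E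
  have hred : IsReduced E := isReduced_of_weaklyEtale k E
  have hint : Algebra.IsIntegral k E := ⟨fun x => (Algebra.IsSeparable.isSeparable k x).isIntegral⟩
  have hfin : (minimalPrimes B).Finite := minimalPrimes.finite_of_isNoetherianRing B
  have : Finite (minimalPrimes B) := hfin
  have hprime : ∀ P : minimalPrimes B, (P : Ideal B).IsPrime := fun P => P.2.1.1
  have hex : ∀ P : minimalPrimes B, ∃ M : Ideal B, M.IsMaximal ∧ (P : Ideal B) ≤ M :=
    fun P => Ideal.exists_le_maximal _ (hprime P).ne_top
  choose M hMmax hPM using hex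
  have hfld : ∀ P, Module.Finite k (B ⧸ M P) := by
    intro P
    have := hMmax P
    let : Field (B ⧸ M P) := Ideal.Quotient.field (M P)
    exact finite_of_finite_type_of_isJacobsonRing k (B ⧸ M P)
  let ψ : E →ₐ[k] (∀ P : minimalPrimes B, B ⧸ M P) :=
    AlgHom.pi (fun P => (Ideal.Quotient.mkₐ k (M P)).comp E.val)
  have hinj : Function.Injective ψ := by
    rw [injective_iff_map_eq_zero]
    intro x hx
    have hxM : ∀ P : minimalPrimes B, (x : B) ∈ M P := by
      intro P
      have := congrFun hx P
      simpa [ψ, Ideal.Quotient.eq_zero_iff_mem] using this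
    have hxP : ∀ P : minimalPrimes B, (x : B) ∈ (P : Ideal B) := by
      intro P
      have h1 : ((P : Ideal B).comap (algebraMap E B)).IsMaximal := by
        have := hprime P
        apply Ideal.isMaximal_of_isIntegral_of_isMaximal_comap (R := k)
        have : (((P : Ideal B).comap (algebraMap E B)).comap (algebraMap k E)) = ⊥ :=
          Ideal.eq_bot_of_prime _
        rw [this]
        exact Ideal.bot_isMaximal
      have h2 : (P : Ideal B).comap (algebraMap E B) ≤ (M P).comap (algebraMap E B) :=
        Ideal.comap_mono (hPM P)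
      have h3 : (M P).comap (algebraMap E B) ≠ ⊤ := by
        have := (hMmax P).isPrime
        exact (Ideal.IsPrime.comap (algebraMap E B)).ne_top
      have h4 := h1.eq_of_le h3 h2
      have h5 : x ∈ (M P).comap (algebraMap E B) := hxM P
      rw [← h4] at h5
      exact h5
    have hnil : IsNilpotent (x : B) := by
      rw [← mem_nilradical, nilradical, ← Ideal.sInf_minimalPrimes, Submodule.mem_sInf]
      intro P hP
      exact hxP ⟨P, hP⟩
    have hnil' : IsNilpotent x := by
      obtain ⟨n, hn⟩ := hnil
      exact ⟨n, Subtype.ext (by simpa using hn)⟩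
    exact hnil'.eq_zero
  exact Module.Finite.of_injective ψ.toLinearMap hinj

theorem eq_zero_of_isIdempotentElem_of_isNilpotent {R : Type*} [CommRing R] {e : R}
    (he : IsIdempotentElem e) (hn : IsNilpotent e) : e = 0 := by
  obtain ⟨n, hn⟩ := hn
  rcases n with _ | n
  · rw [pow_zero] at hn
    rw [← mul_one e, hn, mul_zero]
  · rwa [he.pow_succ_eq] at hn

section Fibres

variable {E A : Type*} [CommRing E] [CommRing A] (ι : E →+* A)

theorem comap_eq_iff_notMem {P : PrimeSpectrum E} {ε : E} (hεP : ε ∉ P.asIdeal)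
    (hεQ : ∀ Q : Ideal E, Q.IsPrime → Q ≠ P.asIdeal → ε ∈ Q) (r : PrimeSpectrum A) :
    PrimeSpectrum.comap ι r = P ↔ ι ε ∉ r.asIdeal := by
  constructor
  · intro h hmem
    apply hεP
    rw [← h]
    exact hmem
  · intro h
    by_contra hne
    have h1 : (PrimeSpectrum.comap ι r).asIdeal ≠ P.asIdeal := by
      intro h2
      exact hne (PrimeSpectrum.ext h2)
    have := hεQ _ (PrimeSpectrum.comap ι r).isPrime h1
    exact h this

theorem eq_zero_or_eq_of_mul_eq [IsReduced E] {P : PrimeSpectrum E} {ε : E} (hε : IsIdempotentElem ε)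
    (hεQ : ∀ Q : Ideal E, Q.IsPrime → Q ≠ P.asIdeal → ε ∈ Q) {η : E} (hη : IsIdempotentElem η)
    (hηε : η * ε = η) : η = 0 ∨ η = ε := by
  by_cases hP : η ∈ P.asIdeal
  · left
    apply IsNilpotent.eq_zero
    rw [nilpotent_iff_mem_prime]
    intro Q hQ
    by_cases hQP : Q = P.asIdeal
    · rw [hQP]; exact hP
    · rw [← hηε]
      exact Q.mul_mem_left _ (hεQ Q hQ hQP)
  · right
    have h1 : 1 - η ∈ P.asIdeal := by
      have : η * (1 - η) ∈ P.asIdeal := by
        rw [mul_sub, mul_one, hη.eq, sub_self]
        exact P.asIdeal.zero_mem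
      exact (P.isPrime.mem_or_mem this).resolve_left hP
    have hid : IsIdempotentElem (ε * (1 - η)) := hε.mul hη.one_sub
    have hnil : IsNilpotent (ε * (1 - η)) := by
      rw [nilpotent_iff_mem_prime]
      intro Q hQ
      by_cases hQP : Q = P.asIdeal
      · rw [hQP]; exact P.asIdeal.mul_mem_left _ h1
      · exact Q.mul_mem_right _ (hεQ Q hQ hQP)
    have h0 := eq_zero_of_isIdempotentElem_of_isNilpotent hid hnil
    rw [mul_sub, mul_one, mul_comm, hηε, sub_eq_zero] at h0
    exact h0.symm

variable [IsArtinianRing E]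

theorem comap_surjective (hι : Function.Injective ι) :
    Function.Surjective (PrimeSpectrum.comap ι) := by
  intro P
  have := P.isPrime
  obtain ⟨ε, hεP, hε, hεQ⟩ := IsArtinianRing.exists_not_mem_forall_mem_of_ne P.asIdeal
  have hne : ι ε ≠ 0 := by
    intro h0
    rw [← map_zero ι] at h0
    rw [hι h0] at hεP
    exact hεP P.asIdeal.zero_mem
  have hnn : ¬ IsNilpotent (ι ε) := fun hn =>
    hne (eq_zero_of_isIdempotentElem_of_isNilpotent (hε.map ι) hn)
  rw [nilpotent_iff_mem_prime] at hnn
  push Not at hnn
  obtain ⟨J, hJ, hεJ⟩ := hnn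
  refine ⟨⟨J, hJ⟩, ?_⟩
  rw [comap_eq_iff_notMem ι hεP hεQ]
  exact hεJ

theorem comap_eq_iff_connectedComponent [IsReduced E] (hι : Function.Injective ι)
    (hid : ∀ a : A, IsIdempotentElem a → a ∈ ι.range) (p q : PrimeSpectrum A) :
    PrimeSpectrum.comap ι p = PrimeSpectrum.comap ι q ↔
      connectedComponent p = connectedComponent q := by
  constructor
  · intro hpq
    obtain ⟨P, hP⟩ : ∃ P, P = PrimeSpectrum.comap ι p := ⟨_, rfl⟩
    have := P.isPrime
    obtain ⟨ε, hεP, hε, hεQ⟩ := IsArtinianRing.exists_not_mem_forall_mem_of_ne P.asIdeal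
    let F : Set (PrimeSpectrum A) := (PrimeSpectrum.basicOpen (ι ε) : Set (PrimeSpectrum A))
    have hpF : p ∈ F := (comap_eq_iff_notMem ι hεP hεQ p).mp hP.symm
    have hqF : q ∈ F := (comap_eq_iff_notMem ι hεP hεQ q).mp (hpq ▸ hP.symm)
    have hFclopen : IsClopen F := PrimeSpectrum.isClopen_iff.mpr ⟨ι ε, hε.map ι, rfl⟩
    have hFpre : IsPreconnected F := by
      rw [isPreconnected_iff_subset_of_disjoint]
      intro u v hu hv hFuv hdisj
      have hWeq : F ∩ u = F ∩ vᶜ := by
        ext x
        constructor
        · rintro ⟨hxF, hxu⟩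
          refine ⟨hxF, fun hxv => ?_⟩
          have : x ∈ F ∩ (u ∩ v) := ⟨hxF, hxu, hxv⟩
          rw [hdisj] at this
          exact this
        · rintro ⟨hxF, hxv⟩
          refine ⟨hxF, ?_⟩
          rcases hFuv hxF with h | h
          · exact h
          · exact absurd h hxv
      have hWclopen : IsClopen (F ∩ u) :=
        ⟨hWeq ▸ hFclopen.1.inter hv.isClosed_compl, hFclopen.2.inter hu⟩
      obtain ⟨η, hη, hWη⟩ := PrimeSpectrum.isClopen_iff.mp hWclopen
      obtain ⟨η₀, rfl⟩ := hid η hη
      have hη₀ : IsIdempotentElem η₀ := by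
        apply hι
        rw [map_mul]
        exact hη
      have hη₁ : IsIdempotentElem (η₀ * ε) := hη₀.mul hε
      have hη₁ε : η₀ * ε * ε = η₀ * ε := by rw [mul_assoc, hε.eq]
      have hW₁ : F ∩ u = (PrimeSpectrum.basicOpen (ι (η₀ * ε)) : Set (PrimeSpectrum A)) := by
        rw [map_mul, PrimeSpectrum.basicOpen_mul, TopologicalSpace.Opens.coe_inf, ← hWη]
        ext x
        constructor
        · intro hx
          exact ⟨hx, hx.1⟩
        · intro hx
          exact hx.1
      rcases eq_zero_or_eq_of_mul_eq hε hεQ hη₁ hη₁ε with h0 | h1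
      · right
        rw [h0, map_zero, PrimeSpectrum.basicOpen_zero] at hW₁
        intro x hxF
        rcases hFuv hxF with h | h
        · have : x ∈ F ∩ u := ⟨hxF, h⟩
          rw [hW₁] at this
          exact absurd this (Set.notMem_empty x)
        · exact h
      · left
        rw [h1] at hW₁
        intro x hxF
        have : x ∈ F ∩ u := by rw [hW₁]; exact hxF
        exact this.2
    have hsub := hFpre.subset_connectedComponent hpF
    exact connectedComponent_eq (hsub hqF)
  · intro hpq
    have hcont : Continuous (PrimeSpectrum.comap ι) := PrimeSpectrum.continuous_comap ι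
    have h1 := hcont.image_connectedComponent_subset p
    have hq : q ∈ connectedComponent p := by
      rw [hpq]
      exact mem_connectedComponent
    have h2 : PrimeSpectrum.comap ι q ∈ connectedComponent (PrimeSpectrum.comap ι p) :=
      h1 ⟨q, hq, rfl⟩
    rw [connectedComponent_eq_singleton] at h2
    exact h2.symm

end Fibres

theorem exists_largest_etale_subalgebra (k : Type*) [Field k] (B : Type*) [CommRing B]
    [Algebra k B] [Algebra.FiniteType k B] (A : Subalgebra k B) :
    ∃ (E : Subalgebra k B) (hE : E ≤ A), Module.Finite k E ∧ Algebra.Etale k E ∧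
      (∀ E' : Subalgebra k B, E' ≤ A → Module.Finite k E' → Algebra.Etale k E' → E' ≤ E) ∧
      Function.Surjective (PrimeSpectrum.comap (Subalgebra.inclusion hE).toRingHom) ∧
      ∀ p q : PrimeSpectrum A, PrimeSpectrum.comap (Subalgebra.inclusion hE).toRingHom p =
          PrimeSpectrum.comap (Subalgebra.inclusion hE).toRingHom q ↔
        connectedComponent p = connectedComponent q := by
  let E : Subalgebra k B := sepSubalgebra k B ⊓ A
  have hE : E ≤ A := inf_le_right
  have hsepE : Algebra.IsSeparable k E :=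
    isSeparable_subalgebra_of_forall E (fun x hx => mem_sepSubalgebra_iff.mp hx.1)
  have hfin : Module.Finite k E := finite_of_isSeparable_subalgebra k B E
  have het : Algebra.Etale k E := etale_of_isSeparable_of_finiteType k E
  have hart : IsArtinianRing E := IsArtinianRing.of_finite k E
  have hred : IsReduced E := isReduced_of_weaklyEtale k E
  have hinj : Function.Injective (Subalgebra.inclusion hE).toRingHom :=
    Subalgebra.inclusion_injective hE
  have hid : ∀ a : A, IsIdempotentElem a → a ∈ (Subalgebra.inclusion hE).toRingHom.range := by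
    intro a ha
    have haB : IsIdempotentElem (a : B) := congrArg Subtype.val ha.eq
    have hmem : (a : B) ∈ E :=
      ⟨mem_sepSubalgebra_iff.mpr (isSeparable_of_isIdempotentElem haB), a.2⟩
    exact ⟨⟨a, hmem⟩, Subtype.ext rfl⟩
  refine ⟨E, hE, hfin, het, ?_, comap_surjective _ hinj, comap_eq_iff_connectedComponent _ hinj hid⟩
  intro E' hE'A _ het' x hx
  refine ⟨mem_sepSubalgebra_iff.mpr ?_, hE'A hx⟩
  exact (isSeparable_val_iff E' ⟨x, hx⟩).mpr (isSeparable_of_weaklyEtale (K := k) (A := E') ⟨x, hx⟩)

end Groth.Agent.Lib.Helper27.PiZero
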