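import Mathlib.LinearAlgebra.Multilinear.Basic
import Mathlib.Data.Nat.Choose.Sum
import Mathlib.Tactic

set_option autoImplicit false

namespace Groth.Agent.Lib.Helper27.Polarization

open Finset

variable {ι : Type*} [Fintype ι] [DecidableEq ι]

theorem coeff_sum (g : ι → ι) :
    ∑ S ∈ (Finset.univ : Finset (Finset ι)).filter (fun S => ∀ i, g i ∈ S), (-1 : ℤ) ^ (Sᶜ).card =
      if Function.Surjective g then 1 else 0 := by
  have h : ∑ S ∈ (Finset.univ : Finset (Finset ι)).filter (fun S => ∀ i, g i ∈ S),
      (-1 : ℤ) ^ (Sᶜ).card = ∑ U ∈ ((Finset.univ.image g)ᶜ).powerset, (-1 : ℤ) ^ U.card := by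
    refine Finset.sum_nbij' (fun S => Sᶜ) (fun U => Uᶜ) ?_ ?_ ?_ ?_ ?_
    · intro S hS
      simp only [Finset.mem_filter, Finset.mem_univ, true_and] at hS
      rw [Finset.mem_powerset, Finset.compl_subset_compl]
      intro j hj
      obtain ⟨i, _, rfl⟩ := Finset.mem_image.mp hj
      exact hS i
    · intro U hU
      rw [Finset.mem_powerset] at hU
      simp only [Finset.mem_filter, Finset.mem_univ, true_and]
      intro i
      have : g i ∈ Finset.univ.image g := Finset.mem_image_of_mem g (Finset.mem_univ i)
      rw [Finset.mem_compl]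
      intro hi
      exact (Finset.mem_compl.mp (hU hi)) this
    · intro S _; exact compl_compl S
    · intro U _; exact compl_compl U
    · intro S _; rfl
  rw [h, Finset.sum_powerset_neg_one_pow_card]
  have : ((Finset.univ.image g)ᶜ = ∅) ↔ Function.Surjective g := by
    rw [Finset.compl_eq_empty_iff]
    constructor
    · intro h j
      have : j ∈ Finset.univ.image g := by rw [h]; exact Finset.mem_univ j
      obtain ⟨i, _, hi⟩ := Finset.mem_image.mp this
      exact ⟨i, hi⟩
    · intro h
      exact Finset.image_univ_of_surjective h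
  simp only [this]

variable {A : Type*} [CommRing A] {M N : Type*} [AddCommGroup M] [Module A M]
  [AddCommGroup N] [Module A N]

theorem polarization (f : MultilinearMap A (fun _ : ι => M) N) (x : ι → M) :
    ∑ S : Finset ι, ((-1 : ℤ) ^ (Sᶜ).card) • f (fun _ => ∑ i ∈ S, x i) =
      ∑ σ : Equiv.Perm ι, f (fun i => x (σ i)) := by
  have h1 : ∀ S : Finset ι, f (fun _ => ∑ i ∈ S, x i) =
      ∑ g : ι → ι, if (∀ i, g i ∈ S) then f (fun i => x (g i)) else 0 := by
    intro S
    rw [f.map_sum_finset (fun _ j => x j) (fun _ => S), ← Finset.sum_filter]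
    refine Finset.sum_congr ?_ fun _ _ => rfl
    ext g
    simp [Fintype.mem_piFinset]
  simp_rw [h1, Finset.smul_sum]
  rw [Finset.sum_comm]
  have h2 : ∀ g : ι → ι, ∑ S : Finset ι, ((-1 : ℤ) ^ (Sᶜ).card) •
      (if (∀ i, g i ∈ S) then f (fun i => x (g i)) else 0) =
      if Function.Surjective g then f (fun i => x (g i)) else 0 := by
    intro g
    simp_rw [smul_ite, smul_zero]
    rw [← Finset.sum_filter, ← Finset.sum_smul, coeff_sum]
    split_ifs <;> simp
  simp_rw [h2]
  rw [← Finset.sum_filter]
  symm
  refine Finset.sum_bij (fun σ _ => (σ : ι → ι)) ?_ ?_ ?_ ?_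
  · intro σ _
    simp only [Finset.mem_filter, Finset.mem_univ, true_and]
    exact σ.surjective
  · intro σ _ τ _ h
    exact DFunLike.coe_injective h
  · intro g hg
    simp only [Finset.mem_filter, Finset.mem_univ, true_and] at hg
    have hbij : Function.Bijective g := Finite.surjective_iff_bijective.mp hg
    exact ⟨Equiv.ofBijective g hbij, Finset.mem_univ _, rfl⟩
  · intro σ _; rfl

end Groth.Agent.Lib.Helper27.Polarization
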