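import Mathlib

set_option autoImplicit false
universe u v w
open Polynomial

namespace Groth.Agent.Lib.Helper27.ProjLift

/-- In an `S`-algebra, an idempotent `e` satisfies `(U X^(m+1))(e) = e` whenever
`U X^(m+1) + V (X-1)^(m+1) = 1`. -/
theorem aeval_idem_eq {S : Type u} [CommRing S] {E' : Type v} [Ring E'] [Algebra S E'] (e : E')
    (hidem : IsIdempotentElem e) (Ub Vb : S[X]) (m : ℕ)
    (hid : Ub * X ^ (m + 1) + Vb * (X - 1) ^ (m + 1) = 1) :
    aeval e (Ub * X ^ (m + 1)) = e := by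
  have hpow : ∀ k : ℕ, e ^ (k + 1) = e := fun k => hidem.pow_succ_eq k
  have hid' : aeval e (Ub * X ^ (m + 1)) + aeval e (Vb * (X - 1) ^ (m + 1)) = 1 := by
    rw [← map_add, hid, map_one]
  have hX1 : e * aeval e ((X - 1) ^ (m + 1) : S[X]) = 0 := by
    rw [map_pow, map_sub, aeval_X, map_one, pow_succ', ← mul_assoc, mul_sub, mul_one, hidem.eq,
      sub_self, zero_mul]
  have heA : e * aeval e (Ub * X ^ (m + 1)) = aeval e (Ub * X ^ (m + 1)) := by
    have h1 : e * aeval e (Ub * X ^ (m + 1)) = aeval e (X * (Ub * X ^ (m + 1))) := by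
      rw [map_mul _ X, aeval_X]
    have h2 : (X * (Ub * X ^ (m + 1)) : S[X]) = Ub * X ^ (m + 1 + 1) := by ring
    rw [h1, h2, map_mul, map_mul, map_pow, map_pow, aeval_X, hpow, hpow]
  have heB : e * aeval e (Vb * (X - 1) ^ (m + 1)) = 0 := by
    have h1 : e * aeval e (Vb * (X - 1) ^ (m + 1)) = aeval e (X * (Vb * (X - 1) ^ (m + 1))) := by
      rw [map_mul _ X, aeval_X]
    have h2 : (X * (Vb * (X - 1) ^ (m + 1)) : S[X]) = Vb * (X * (X - 1) ^ (m + 1)) := by
      ring
    rw [h1, h2, map_mul, map_mul _ X, aeval_X, hX1, mul_zero]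
  have := congrArg (fun z => e * z) hid'
  simp only [mul_add, heA, heB, add_zero, mul_one] at this
  exact this

theorem isIdempotentElem_aeval {R : Type u} [CommRing R] {E : Type v} [Ring E] [Algebra R E]
    (a : E) (G₁ G₂ U V : R[X]) (hUV : U * G₁ + V * G₂ = 1) (hG : aeval a (G₁ * G₂) = 0) :
    IsIdempotentElem (aeval a (U * G₁)) := by
  have h1 : aeval a (U * G₁) + aeval a (V * G₂) = 1 := by
    rw [← map_add, hUV, map_one]
  have h2 : aeval a (U * G₁) * aeval a (V * G₂) = 0 := by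
    rw [← map_mul]
    have : U * G₁ * (V * G₂) = U * V * (G₁ * G₂) := by ring
    rw [this, map_mul, hG, mul_zero]
  have h3 : aeval a (V * G₂) = 1 - aeval a (U * G₁) := by rw [← h1]; abel
  rw [h3, mul_sub, mul_one, sub_eq_zero] at h2
  exact h2.symm

/-- A finite projective module over `R/J`, presented as the image of an idempotent matrix which
lifts to an idempotent matrix over `R`, lifts to a finite projective `R`-module. -/
theorem exists_projective_lift {R : Type u} [CommRing R] (J : Ideal R) (Q : Type v)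
    [AddCommGroup Q] [Module (R ⧸ J) Q] (n : ℕ)
    (f : (Fin n → R ⧸ J) →ₗ[R ⧸ J] Q) (g : Q →ₗ[R ⧸ J] (Fin n → R ⧸ J))
    (hfg : f ∘ₗ g = LinearMap.id)
    (ε : Matrix (Fin n) (Fin n) R) (hε : IsIdempotentElem ε)
    (hεmap : ∀ i j, Ideal.Quotient.mk J (ε i j) = g (f (Pi.single j 1)) i) :
    ∃ (P : Type u) (_ : AddCommGroup P) (_ : Module R P), Module.Finite R P ∧
      Module.Projective R P ∧ Nonempty (TensorProduct R (R ⧸ J) P ≃ₗ[R ⧸ J] Q) := by
  classical
  let b := Pi.basisFun R (Fin n)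
  let bS := Algebra.TensorProduct.basis (R ⧸ J) b
  let θ : TensorProduct R (R ⧸ J) (Fin n → R) ≃ₗ[R ⧸ J] (Fin n → R ⧸ J) := bS.equivFun
  let e' : Module.End (R ⧸ J) (TensorProduct R (R ⧸ J) (Fin n → R)) :=
    θ.symm.toLinearMap ∘ₗ g ∘ₗ f ∘ₗ θ.toLinearMap
  have hfg' : ∀ q, f (g q) = q := fun q => DFunLike.congr_fun hfg q
  let εl : Module.End R (Fin n → R) := Matrix.toLin b b ε
  have hεε : ∀ x, εl (εl x) = εl x := fun x => by
    have h1 : εl * εl = εl := by
      change Matrix.toLin b b ε * Matrix.toLin b b ε = Matrix.toLin b b ε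
      rw [Module.End.mul_eq_comp, ← Matrix.toLin_mul b b b, hε.eq]
    exact DFunLike.congr_fun h1 x
  have hεΦ : εl.baseChange (R ⧸ J) = e' := by
    apply (LinearMap.toMatrix bS bS).injective
    rw [LinearMap.toMatrix_baseChange, LinearMap.toMatrix_toLin]
    ext i j
    rw [Matrix.map_apply, LinearMap.toMatrix_apply]
    simp only [e', LinearMap.comp_apply, LinearEquiv.coe_coe]
    change _ = θ (θ.symm (g (f (θ (bS j))))) i
    rw [LinearEquiv.apply_symm_apply]
    have : θ (bS j) = Pi.single j 1 := by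
      simp [θ, Finsupp.single_eq_pi_single]
    rw [this]
    exact hεmap i j
  let P := LinearMap.range εl
  let incl : P →ₗ[R] (Fin n → R) := P.subtype
  let proj : (Fin n → R) →ₗ[R] P := εl.rangeRestrict
  have hpi : proj ∘ₗ incl = LinearMap.id := by
    refine LinearMap.ext fun z => ?_
    obtain ⟨x, y, rfl⟩ := z
    apply Subtype.ext
    change εl (εl y) = εl y
    exact hεε y
  have hip : incl ∘ₗ proj = εl := by
    ext x
    rfl
  have hproj : Module.Projective R P := Module.Projective.of_split incl proj hpi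
  have hfin : Module.Finite R P := Module.Finite.range εl
  refine ⟨P, inferInstance, inferInstance, hfin, hproj, ?_⟩
  let inclS := incl.baseChange (R ⧸ J)
  let projS := proj.baseChange (R ⧸ J)
  have h1 : projS ∘ₗ inclS = LinearMap.id := by
    rw [← LinearMap.baseChange_comp, hpi, LinearMap.baseChange_id]
  have h2 : inclS ∘ₗ projS = e' := by
    rw [← LinearMap.baseChange_comp, hip, hεΦ]
  have h1' : ∀ x, projS (inclS x) = x := fun x => DFunLike.congr_fun h1 x
  have h2' : ∀ x, inclS (projS x) = θ.symm (g (f (θ x))) := fun x => DFunLike.congr_fun h2 x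
  let φ : TensorProduct R (R ⧸ J) P →ₗ[R ⧸ J] Q := f ∘ₗ θ.toLinearMap ∘ₗ inclS
  let ψ : Q →ₗ[R ⧸ J] TensorProduct R (R ⧸ J) P := projS ∘ₗ θ.symm.toLinearMap ∘ₗ g
  refine ⟨LinearEquiv.ofLinearMap φ ψ ?_ ?_⟩
  · refine LinearMap.ext fun q => ?_
    simp only [φ, ψ, LinearMap.comp_apply, LinearEquiv.coe_coe, LinearMap.id_apply, h2',
      LinearEquiv.apply_symm_apply, hfg']
  · apply LinearMap.ext
    intro x
    simp only [φ, ψ, LinearMap.comp_apply, LinearEquiv.coe_coe, LinearMap.id_apply]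
    rw [← h2', h1', h1']

open TensorProduct in
theorem exists_baseChange_splitting {k S : Type*} [CommRing k] [CommRing S] [Algebra k S]
    {P : Type*} [AddCommGroup P] [Module k P] (n : ℕ) (f : (Fin n → k) →ₗ[k] P)
    (g : P →ₗ[k] (Fin n → k)) (hfg' : ∀ q, f (g q) = q) :
    ∃ (fS : (Fin n → S) →ₗ[S] S ⊗[k] P) (gS : S ⊗[k] P →ₗ[S] (Fin n → S)),
      fS ∘ₗ gS = LinearMap.id ∧
      ∀ i j, gS (fS (Pi.single j 1)) i = algebraMap k S (g (f (Pi.single j 1)) i) := by
  classical
  let fS : (Fin n → S) →ₗ[S] S ⊗[k] P :=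
    (Pi.basisFun S (Fin n)).constr S (fun j => (1 : S) ⊗ₜ[k] f (Pi.single j 1))
  let gS : S ⊗[k] P →ₗ[S] (Fin n → S) :=
    LinearMap.liftBaseChange S (((Algebra.linearMap k S).compLeft (Fin n)) ∘ₗ g)
  have hgS : ∀ (s : S) (p : P) (i : Fin n), gS (s ⊗ₜ p) i = s * algebraMap k S (g p i) := by
    intro s p i
    simp [gS, LinearMap.liftBaseChange_tmul]
  have hfS : ∀ j, fS (Pi.single j 1) = (1 : S) ⊗ₜ[k] f (Pi.single j 1) := by
    intro j
    have := (Pi.basisFun S (Fin n)).constr_basis S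
      (fun j => (1 : S) ⊗ₜ[k] f (Pi.single j 1)) j
    rwa [Pi.basisFun_apply] at this
  refine ⟨fS, gS, ?_, ?_⟩
  · apply TensorProduct.AlgebraTensorModule.ext
    intro s p
    simp only [LinearMap.comp_apply, LinearMap.id_apply]
    have h1 : gS (s ⊗ₜ p) = s • ∑ i, algebraMap k S (g p i) • (Pi.single i 1 : Fin n → S) := by
      ext i
      rw [hgS]
      simp [Finset.sum_apply, Pi.single_apply]
      rw [Algebra.smul_def, mul_comm]
    rw [h1, map_smul, map_sum]
    have h2 : ∀ i, fS (algebraMap k S (g p i) • (Pi.single i 1 : Fin n → S)) =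
        (1 : S) ⊗ₜ[k] ((g p i) • f (Pi.single i 1)) := by
      intro i
      rw [map_smul, hfS, TensorProduct.smul_tmul', ← TensorProduct.smul_tmul, smul_eq_mul, mul_one,
        Algebra.algebraMap_eq_smul_one]
    simp only [h2]
    rw [← TensorProduct.tmul_sum]
    have h3 : ∑ i, (g p i) • f (Pi.single i 1) = p := by
      have h4 : g p = ∑ i, (g p i) • (Pi.single i 1 : Fin n → k) := by
        ext j
        simp [Finset.sum_apply, Pi.single_apply]
      conv_rhs => rw [← hfg' p, h4]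
      rw [map_sum]
      simp only [map_smul]
    rw [h3, TensorProduct.smul_tmul', smul_eq_mul, mul_one]
  · intro i j
    rw [hfS, hgS, one_mul]

end Groth.Agent.Lib.Helper27.ProjLift
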