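import Mathlib
import Groth.Prelude.Def_FrobAlg
import Groth.Agent.S3191
import Groth.Agent.Lib.Helper27.RelFrobEtale3

set_option autoImplicit false
universe u

open TensorProduct FrobAlg

namespace Groth.Agent.Lib.Helper27.RelFrobEtale

section perfect

variable (p : ℕ) [Fact p.Prime] (A' C : Type u) [CommRing A'] [CommRing C] [CharP A' p]
  [CharP C p] [PerfectRing A' p] [Algebra A' C]

lemma linearMap_twist_bijective :
    Function.Bijective (Algebra.linearMap A' (Twist p A')) :=
  (PerfectRing.bijective_frobenius (R := A') (p := p))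

lemma exists_eq_tmul_one (x : BaseChange p A' C) : ∃ y : C, x = y ⊗ₜ[A'] (1 : Twist p A') := by
  induction x using TensorProduct.induction_on with
  | zero => exact ⟨0, (TensorProduct.zero_tmul _ _).symm⟩
  | tmul c t =>
    obtain ⟨s, hs⟩ := (linearMap_twist_bijective p A').2 t
    refine ⟨s • c, ?_⟩
    rw [TensorProduct.smul_tmul, ← hs, Algebra.linearMap_apply, Algebra.algebraMap_eq_smul_one]
  | add x y hx hy =>
    obtain ⟨a, rfl⟩ := hx
    obtain ⟨b, rfl⟩ := hy
    exact ⟨a + b, (TensorProduct.add_tmul _ _ _).symm⟩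

noncomputable def rho : BaseChange p A' C →ₗ[A'] C :=
  (TensorProduct.rid A' C).toLinearMap ∘ₗ
    LinearMap.lTensor C
      (LinearEquiv.ofBijective (Algebra.linearMap A' (Twist p A'))
        (linearMap_twist_bijective p A')).symm.toLinearMap

lemma rho_tmul_one (c : C) : rho p A' C (c ⊗ₜ[A'] (1 : Twist p A')) = c := by
  have h1 : (LinearEquiv.ofBijective (Algebra.linearMap A' (Twist p A'))
      (linearMap_twist_bijective p A')).symm (1 : Twist p A') = 1 := by
    rw [LinearEquiv.symm_apply_eq]
    simp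
  simp [rho, h1]

variable [Algebra.Etale A' C]

include A' in
theorem perfectRing_of_etale : PerfectRing C p := by
  have hb := relFrob_bijective_of_etale p A' C
  refine ⟨⟨?_, ?_⟩⟩
  · intro x y hxy
    have hxy' : x ^ p = y ^ p := hxy
    have h0 : (x - y) ^ p = 0 := by rw [sub_pow_char, hxy', sub_self]
    have h1 : relFrob p A' C ((x - y) ⊗ₜ[A'] (1 : Twist p A')) = 0 := by
      rw [Groth.Agent.S3191.relFrob_tmul, h0, zero_mul]
    have h2 : (x - y) ⊗ₜ[A'] (1 : Twist p A') = 0 := hb.1 (by rw [h1, map_zero])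
    have h3 := congrArg (rho p A' C) h2
    rw [rho_tmul_one, map_zero] at h3
    exact sub_eq_zero.mp h3
  · intro c
    obtain ⟨x, hx⟩ := hb.2 c
    obtain ⟨y, rfl⟩ := exists_eq_tmul_one p A' C x
    refine ⟨y, ?_⟩
    rw [Groth.Agent.S3191.relFrob_tmul, map_one, map_one, mul_one] at hx
    exact hx

end perfect

end Groth.Agent.Lib.Helper27.RelFrobEtale
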