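import Mathlib
import Groth.Prelude.Def_FrobAlg

set_option autoImplicit false

open TensorProduct FrobAlg

namespace Groth.Agent.Lib.Helper27.RelFrobSmooth

universe u v w

section cancel
variable {S : Type u} {S' : Type v} {T : Type w} [CommRing S] [CommRing S'] [CommRing T]
  [Algebra S S'] [Algebra S T] [Algebra S' T] [IsScalarTower S S' T]

theorem flat_of_unramified_of_flat [Algebra.FormallyUnramified S S'] [Algebra.EssFiniteType S S']
    [Module.Flat S T] : Module.Flat S' T := by
  obtain ⟨t, ht1, ht2⟩ := (Algebra.FormallyUnramified.iff_exists_tensorProduct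
    (R := S) (S := S')).mp inferInstance
  let Φ : S' ⊗[S] S' →ₐ[S'] S' ⊗[S] T :=
    Algebra.TensorProduct.map (AlgHom.id S' S') (IsScalarTower.toAlgHom S S' T)
  let π : S' ⊗[S] T →ₐ[S'] T :=
    Algebra.TensorProduct.lift (Algebra.ofId S' T) (AlgHom.id S T) (fun _ _ => Commute.all _ _)
  have hΦ : ∀ a b : S', Φ (a ⊗ₜ[S] b) = a ⊗ₜ[S] (algebraMap S' T b) := fun a b => rfl
  have hπ : ∀ (a : S') (τ : T), π (a ⊗ₜ[S] τ) = algebraMap S' T a * τ := by
    intro a τ
    change Algebra.TensorProduct.lift (Algebra.ofId S' T) (AlgHom.id S T)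
      (fun _ _ => Commute.all _ _) (a ⊗ₜ[S] τ) = _
    rw [Algebra.TensorProduct.lift_tmul]
    rfl
  have hπΦ : ∀ z : S' ⊗[S] S', π (Φ z) = algebraMap S' T (Algebra.TensorProduct.lmul' S z) := by
    intro z
    induction z using TensorProduct.induction_on with
    | zero => simp
    | tmul a b => rw [hΦ, hπ, Algebra.TensorProduct.lmul'_apply_tmul, map_mul]
    | add x y hx hy => rw [map_add, map_add, hx, hy, map_add, map_add]
  let σ : T →ₗ[S'] S' ⊗[S] T :=
    { toFun := fun τ => Φ t * ((1 : S') ⊗ₜ[S] τ)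
      map_add' := fun x y => by rw [TensorProduct.tmul_add, mul_add]
      map_smul' := fun s' τ => by
        rw [RingHom.id_apply]
        have h1 : (1 : S') ⊗ₜ[S] (s' • τ) = Φ ((1 : S') ⊗ₜ[S] s') * ((1 : S') ⊗ₜ[S] τ) := by
          rw [hΦ, Algebra.TensorProduct.tmul_mul_tmul, one_mul, Algebra.smul_def]
        have h2 : t * ((1 : S') ⊗ₜ[S] s') = (s' ⊗ₜ[S] (1 : S')) * t := by
          have := ht1 s'
          rw [sub_mul, sub_eq_zero] at this
          rw [mul_comm, this]
        have h3 : Φ (s' ⊗ₜ[S] (1 : S')) = s' • (1 : S' ⊗[S] T) := by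
          rw [hΦ, map_one, Algebra.TensorProduct.one_def, TensorProduct.smul_tmul', smul_eq_mul,
            mul_one]
        rw [h1, ← mul_assoc, ← map_mul, h2, map_mul, h3, smul_mul_assoc, one_mul, smul_mul_assoc] }
  have hσ : ∀ τ, σ τ = Φ t * ((1 : S') ⊗ₜ[S] τ) := fun τ => rfl
  refine Module.Flat.of_retract σ π.toLinearMap ?_
  apply LinearMap.ext
  intro τ
  change π (σ τ) = τ
  rw [hσ, map_mul, hπΦ, ht2, map_one, one_mul, hπ, map_one, one_mul]

end cancel

section relfrob
variable (p : ℕ) [Fact p.Prime] (A : Type u) [CommRing A] [CharP A p]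
  (B : Type v) [CommRing B] [Algebra A B] [CharP B p]

theorem relFrob_tmul (b : B) (t : Twist p A) :
    relFrob p A B (b ⊗ₜ[A] t) = b ^ p * algebraMap A B ((toTwist p A).symm t) := rfl

variable {B} in
theorem relFrob_natural {B' : Type w} [CommRing B'] [Algebra A B'] [CharP B' p]
    (φ : B →ₐ[A] B') (x : BaseChange p A B) :
    relFrob p A B' (Algebra.TensorProduct.map φ (AlgHom.id A (Twist p A)) x) =
      φ (relFrob p A B x) := by
  induction x using TensorProduct.induction_on with
  | zero => simp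
  | tmul b t =>
    rw [Algebra.TensorProduct.map_tmul, relFrob_tmul, relFrob_tmul, map_mul, map_pow,
      AlgHom.commutes]
    rfl
  | add x y hx hy => rw [map_add, map_add, hx, hy, map_add, map_add]

end relfrob

end Groth.Agent.Lib.Helper27.RelFrobSmooth
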