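import Mathlib

set_option autoImplicit false

namespace Groth.Agent.Lib.Helper27.RelFrobSmooth

universe u

open MvPolynomial

section expand
variable (A : Type u) [CommRing A] {n : ℕ} (p : ℕ)

noncomputable def eHat (e : Fin n → Fin p) : Fin n →₀ ℕ :=
  Finsupp.equivFunOnFinite.symm (fun i => (e i : ℕ))

lemma eHat_apply (e : Fin n → Fin p) (i : Fin n) : eHat p e i = (e i : ℕ) := rfl

noncomputable def expandSum (g : (Fin n → Fin p) → MvPolynomial (Fin n) A) :
    MvPolynomial (Fin n) A :=
  ∑ e, MvPolynomial.expand p (g e) * MvPolynomial.monomial (eHat p e) 1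

lemma expandSum_add (g g' : (Fin n → Fin p) → MvPolynomial (Fin n) A) :
    expandSum A p (g + g') = expandSum A p g + expandSum A p g' := by
  unfold expandSum
  rw [← Finset.sum_add_distrib]
  refine Finset.sum_congr rfl fun e _ => ?_
  rw [Pi.add_apply, map_add, add_mul]

lemma expandSum_sub (g g' : (Fin n → Fin p) → MvPolynomial (Fin n) A) :
    expandSum A p (g - g') = expandSum A p g - expandSum A p g' := by
  unfold expandSum
  rw [← Finset.sum_sub_distrib]
  refine Finset.sum_congr rfl fun e _ => ?_
  rw [Pi.sub_apply, map_sub, sub_mul]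

lemma coeff_expandSum (hp : 0 < p) (g : (Fin n → Fin p) → MvPolynomial (Fin n) A)
    (q : Fin n →₀ ℕ) (e : Fin n → Fin p) :
    coeff (p • q + eHat p e) (expandSum A p g) = coeff q (g e) := by
  classical
  unfold expandSum
  rw [coeff_sum, Finset.sum_eq_single e]
  · rw [coeff_mul_monomial', if_pos (by exact le_add_self), add_tsub_cancel_right, mul_one,
      coeff_expand_smul _ hp.ne']
  · intro e' _ hne
    rw [coeff_mul_monomial']
    split_ifs with hle
    · obtain ⟨i, hi⟩ : ∃ i, e' i ≠ e i := by
        by_contra hcon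
        push Not at hcon
        exact hne (funext hcon)
      have hnd : ¬ p ∣ (p • q + eHat p e - eHat p e') i := by
        have hlei := hle i
        rw [Finsupp.coe_tsub, Pi.sub_apply, Finsupp.add_apply, Finsupp.smul_apply, smul_eq_mul,
          eHat_apply, eHat_apply]
        rw [Finsupp.add_apply, Finsupp.smul_apply, smul_eq_mul, eHat_apply, eHat_apply] at hlei
        intro hdvd
        apply hi
        have h1 : (p * q i + (e i : ℕ) - (e' i : ℕ) + (e' i : ℕ)) % p = (e' i : ℕ) := by
          rw [Nat.add_mod, Nat.mod_eq_zero_of_dvd hdvd, zero_add, Nat.mod_mod,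
            Nat.mod_eq_of_lt (e' i).isLt]
        have h2 : p * q i + (e i : ℕ) - (e' i : ℕ) + (e' i : ℕ) = p * q i + (e i : ℕ) :=
          Nat.sub_add_cancel hlei
        rw [h2, Nat.mul_add_mod, Nat.mod_eq_of_lt (e i).isLt] at h1
        exact Fin.ext h1.symm
      rw [coeff_expand_of_not_dvd _ hnd, zero_mul]
    · rfl
  · intro h
    exact absurd (Finset.mem_univ e) h

lemma expandSum_injective (hp : 0 < p) :
    Function.Injective (expandSum A (n := n) p) := by
  intro g g' h
  have h0 : expandSum A p (g - g') = 0 := by rw [expandSum_sub, h, sub_self]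
  funext e
  rw [← sub_eq_zero]
  ext q
  have := coeff_expandSum A p hp (g - g') q e
  rw [h0, coeff_zero] at this
  rw [coeff_zero, ← Pi.sub_apply]
  exact this.symm

lemma expandSum_surjective (hp : 0 < p) :
    Function.Surjective (expandSum A (n := n) p) := by
  classical
  intro f
  induction f using MvPolynomial.induction_on' with
  | monomial m a =>
    let qq : Fin n →₀ ℕ := Finsupp.equivFunOnFinite.symm (fun i => m i / p)
    let rr : Fin n → Fin p := fun i => ⟨m i % p, Nat.mod_lt _ hp⟩
    have hm : p • qq + eHat p rr = m := by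
      ext i
      rw [Finsupp.add_apply, Finsupp.smul_apply, smul_eq_mul, eHat_apply]
      exact Nat.div_add_mod (m i) p
    refine ⟨Pi.single rr (monomial qq a), ?_⟩
    unfold expandSum
    rw [Finset.sum_eq_single rr]
    · rw [Pi.single_eq_same, expand_monomial, monomial_mul, mul_one, hm]
    · intro e' _ hne
      rw [Pi.single_eq_of_ne hne, map_zero, zero_mul]
    · intro h
      exact absurd (Finset.mem_univ rr) h
  | add f f' hf hf' =>
    obtain ⟨g, rfl⟩ := hf
    obtain ⟨g', rfl⟩ := hf'
    exact ⟨g + g', expandSum_add A p g g'⟩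

def ExpT (A : Type u) [CommRing A] (n _p : ℕ) : Type u := MvPolynomial (Fin n) A

variable (n)

noncomputable instance : CommRing (ExpT A n p) :=
  inferInstanceAs (CommRing (MvPolynomial (Fin n) A))

noncomputable def toExpT : MvPolynomial (Fin n) A ≃+* ExpT A n p := RingEquiv.refl _

noncomputable instance : Algebra (MvPolynomial (Fin n) A) (ExpT A n p) :=
  ((toExpT A n p).toRingHom.comp
    (MvPolynomial.expand p : MvPolynomial (Fin n) A →ₐ[A] MvPolynomial (Fin n) A).toRingHom).toAlgebra

lemma algebraMap_expT (c : MvPolynomial (Fin n) A) :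
    algebraMap (MvPolynomial (Fin n) A) (ExpT A n p) c = toExpT A n p (MvPolynomial.expand p c) :=
  rfl

noncomputable def expandSumLin :
    ((Fin n → Fin p) → MvPolynomial (Fin n) A) →ₗ[MvPolynomial (Fin n) A] ExpT A n p where
  toFun g := toExpT A n p (expandSum A p g)
  map_add' g g' := by rw [expandSum_add, map_add]
  map_smul' c g := by
    rw [RingHom.id_apply, Algebra.smul_def (R := MvPolynomial (Fin n) A) (A := ExpT A n p),
      algebraMap_expT, ← map_mul]
    congr 1
    unfold expandSum
    rw [Finset.mul_sum]
    refine Finset.sum_congr rfl fun e _ => ?_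
    rw [Pi.smul_apply, smul_eq_mul, map_mul, mul_assoc]

theorem flat_expT (hp : 0 < p) : Module.Flat (MvPolynomial (Fin n) A) (ExpT A n p) := by
  let e : ((Fin n → Fin p) → MvPolynomial (Fin n) A) ≃ₗ[MvPolynomial (Fin n) A] ExpT A n p :=
    LinearEquiv.ofBijective (expandSumLin A n p)
      ⟨fun g g' h => expandSum_injective A p hp ((toExpT A n p).injective h),
        fun y => by
          obtain ⟨g, hg⟩ := expandSum_surjective A p hp ((toExpT A n p).symm y)
          exact ⟨g, by
            change toExpT A n p (expandSum A p g) = y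
            rw [hg, RingEquiv.apply_symm_apply]⟩⟩
  exact Module.Flat.of_linearEquiv e.symm

theorem expand_flat (hp : 0 < p) :
    (MvPolynomial.expand p : MvPolynomial (Fin n) A →ₐ[A] MvPolynomial (Fin n) A).toRingHom.Flat := by
  have h1 : (algebraMap (MvPolynomial (Fin n) A) (ExpT A n p)).Flat :=
    RingHom.flat_algebraMap_iff.mpr (flat_expT A n p hp)
  exact h1

end expand

end Groth.Agent.Lib.Helper27.RelFrobSmooth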