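import Mathlib
import Groth.Prelude.Def_FrobAlg
import Groth.Agent.Lib.Helper27.RelFrobSmoothA
import Groth.Agent.Lib.Helper27.RelFrobSmoothB

set_option autoImplicit false

open TensorProduct FrobAlg

namespace Groth.Agent.Lib.Helper27.RelFrobSmooth

universe u

section poly
variable (p : ℕ) [Fact p.Prime] (A : Type u) [CommRing A] [CharP A p] (n : ℕ)

instance charP_mvPolynomial : CharP (MvPolynomial (Fin n) A) p := inferInstance

noncomputable def jHom : MvPolynomial (Fin n) A →+* BaseChange p A (MvPolynomial (Fin n) A) :=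
  MvPolynomial.eval₂Hom
    ((Algebra.TensorProduct.includeRight :
      Twist p A →ₐ[A] BaseChange p A (MvPolynomial (Fin n) A)).toRingHom.comp
        (toTwist p A).toRingHom)
    (fun i => (MvPolynomial.X i : MvPolynomial (Fin n) A) ⊗ₜ[A] (1 : Twist p A))

lemma jHom_C (a : A) : jHom p A n (MvPolynomial.C a) =
    (1 : MvPolynomial (Fin n) A) ⊗ₜ[A] (toTwist p A a) := by
  unfold jHom
  rw [MvPolynomial.coe_eval₂Hom, MvPolynomial.eval₂_C]
  rfl

lemma jHom_X (i : Fin n) : jHom p A n (MvPolynomial.X i) =
    (MvPolynomial.X i : MvPolynomial (Fin n) A) ⊗ₜ[A] (1 : Twist p A) := by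
  unfold jHom
  rw [MvPolynomial.coe_eval₂Hom, MvPolynomial.eval₂_X]

lemma relFrob_comp_jHom : (relFrob p A (MvPolynomial (Fin n) A)).comp (jHom p A n) =
    (MvPolynomial.expand p : MvPolynomial (Fin n) A →ₐ[A] MvPolynomial (Fin n) A).toRingHom := by
  apply MvPolynomial.ringHom_ext
  · intro a
    change relFrob p A (MvPolynomial (Fin n) A) (jHom p A n (MvPolynomial.C a)) =
      MvPolynomial.expand p (MvPolynomial.C a)
    rw [jHom_C, relFrob_tmul, one_pow, one_mul, RingEquiv.symm_apply_apply,
      MvPolynomial.expand_C]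
    rfl
  · intro i
    change relFrob p A (MvPolynomial (Fin n) A) (jHom p A n (MvPolynomial.X i)) =
      MvPolynomial.expand p (MvPolynomial.X i)
    rw [jHom_X, relFrob_tmul, map_one, map_one, mul_one, MvPolynomial.expand_X]

lemma tmul_one_mem_range (x : MvPolynomial (Fin n) A) :
    ∃ y, jHom p A n y = x ⊗ₜ[A] (1 : Twist p A) := by
  induction x using MvPolynomial.induction_on with
  | C a =>
    refine ⟨MvPolynomial.C (a ^ p), ?_⟩
    rw [jHom_C, ← algebraMap_twist, Algebra.algebraMap_eq_smul_one, TensorProduct.tmul_smul,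
      TensorProduct.smul_tmul', ← MvPolynomial.algebraMap_eq, Algebra.algebraMap_eq_smul_one]
  | add x y hx hy =>
    obtain ⟨x', hx'⟩ := hx
    obtain ⟨y', hy'⟩ := hy
    exact ⟨x' + y', by rw [map_add, hx', hy', TensorProduct.add_tmul]⟩
  | mul_X x i hx =>
    obtain ⟨x', hx'⟩ := hx
    refine ⟨x' * MvPolynomial.X i, ?_⟩
    rw [map_mul, hx', jHom_X, Algebra.TensorProduct.tmul_mul_tmul, mul_one]

lemma jHom_bijective : Function.Bijective (jHom p A n) := by
  constructor
  · have h1 : Function.Injective ((relFrob p A (MvPolynomial (Fin n) A)).comp (jHom p A n)) := by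
      rw [relFrob_comp_jHom]
      exact MvPolynomial.expand_injective (Fact.out : p.Prime).pos
    exact Function.Injective.of_comp h1
  · intro z
    induction z using TensorProduct.induction_on with
    | zero => exact ⟨0, map_zero _⟩
    | tmul x t =>
      obtain ⟨y, hy⟩ := tmul_one_mem_range p A n x
      refine ⟨y * MvPolynomial.C ((toTwist p A).symm t), ?_⟩
      rw [map_mul, hy, jHom_C, RingEquiv.apply_symm_apply, Algebra.TensorProduct.tmul_mul_tmul,
        mul_one, one_mul]
    | add z w hz hw =>
      obtain ⟨z', rfl⟩ := hz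
      obtain ⟨w', rfl⟩ := hw
      exact ⟨z' + w', map_add _ _ _⟩

theorem relFrob_mvPolynomial_flat : (relFrob p A (MvPolynomial (Fin n) A)).Flat := by
  have h1 : ((relFrob p A (MvPolynomial (Fin n) A)).comp (jHom p A n)).Flat := by
    rw [relFrob_comp_jHom]
    exact expand_flat A n p (Fact.out : p.Prime).pos
  exact (RingHom.Flat.comp_iff_of_bijective_right (jHom_bijective p A n)).mp h1

end poly

end Groth.Agent.Lib.Helper27.RelFrobSmooth
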