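import Mathlib
import Groth.Prelude.Def_FrobAlg
import Groth.Agent.Lib.Helper27.RelFrobSmoothC

set_option autoImplicit false

open TensorProduct FrobAlg

namespace Groth.Agent.Lib.Helper27.RelFrobSmooth

universe u

section polyBasis
variable (p : ℕ) [Fact p.Prime] (A : Type u) [CommRing A] [CharP A p] (n : ℕ)

noncomputable def jEquiv : MvPolynomial (Fin n) A ≃+* BaseChange p A (MvPolynomial (Fin n) A) :=
  RingEquiv.ofBijective (jHom p A n) (jHom_bijective p A n)

lemma relFrob_eq_expand (s : BaseChange p A (MvPolynomial (Fin n) A)) :
    relFrob p A (MvPolynomial (Fin n) A) s = MvPolynomial.expand p ((jEquiv p A n).symm s) := by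
  have h := congrArg (fun f => f ((jEquiv p A n).symm s)) (relFrob_comp_jHom p A n)
  have h2 : jHom p A n ((jEquiv p A n).symm s) = s := (jEquiv p A n).apply_symm_apply s
  change relFrob p A (MvPolynomial (Fin n) A) (jHom p A n ((jEquiv p A n).symm s)) = _ at h
  rw [h2] at h
  exact h

noncomputable def monoFam (e : Fin n → Fin p) : MvPolynomial (Fin n) A :=
  MvPolynomial.monomial (eHat p e) 1

theorem linearCombination_eq
    (g : (Fin n → Fin p) → BaseChange p A (MvPolynomial (Fin n) A)) :
    letI := (relFrob p A (MvPolynomial (Fin n) A)).toAlgebra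
    Fintype.linearCombination (BaseChange p A (MvPolynomial (Fin n) A)) (monoFam p A n) g =
      expandSum A p (fun e => (jEquiv p A n).symm (g e)) := by
  letI := (relFrob p A (MvPolynomial (Fin n) A)).toAlgebra
  rw [Fintype.linearCombination_apply]
  unfold expandSum
  refine Finset.sum_congr rfl fun e _ => ?_
  rw [Algebra.smul_def]
  change relFrob p A (MvPolynomial (Fin n) A) (g e) * _ = _
  rw [relFrob_eq_expand]
  rfl

theorem linearCombination_bijective :
    letI := (relFrob p A (MvPolynomial (Fin n) A)).toAlgebra
    Function.Bijective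
      (Fintype.linearCombination (BaseChange p A (MvPolynomial (Fin n) A)) (monoFam p A n)) := by
  letI := (relFrob p A (MvPolynomial (Fin n) A)).toAlgebra
  have hp : 0 < p := (Fact.out : p.Prime).pos
  constructor
  · intro g g' h
    rw [linearCombination_eq, linearCombination_eq] at h
    have h2 := expandSum_injective A p hp h
    funext e
    exact (jEquiv p A n).symm.injective (congrFun h2 e)
  · intro f
    obtain ⟨G, hG⟩ := expandSum_surjective A p hp f
    refine ⟨fun e => jEquiv p A n (G e), ?_⟩
    rw [linearCombination_eq]
    simp only [RingEquiv.symm_apply_apply]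
    exact hG

noncomputable def polyBasis :
    letI := (relFrob p A (MvPolynomial (Fin n) A)).toAlgebra
    Module.Basis (Fin n → Fin p) (BaseChange p A (MvPolynomial (Fin n) A))
      (MvPolynomial (Fin n) A) :=
  letI := (relFrob p A (MvPolynomial (Fin n) A)).toAlgebra
  Module.Basis.ofEquivFun (LinearEquiv.ofBijective
    (Fintype.linearCombination (BaseChange p A (MvPolynomial (Fin n) A)) (monoFam p A n))
    (linearCombination_bijective p A n)).symm

theorem poly_free_finite :
    letI := (relFrob p A (MvPolynomial (Fin n) A)).toAlgebra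
    Module.Free (BaseChange p A (MvPolynomial (Fin n) A)) (MvPolynomial (Fin n) A) ∧
    Module.Finite (BaseChange p A (MvPolynomial (Fin n) A)) (MvPolynomial (Fin n) A) ∧
    (Nontrivial (BaseChange p A (MvPolynomial (Fin n) A)) →
      Module.finrank (BaseChange p A (MvPolynomial (Fin n) A)) (MvPolynomial (Fin n) A) = p ^ n) := by
  letI := (relFrob p A (MvPolynomial (Fin n) A)).toAlgebra
  refine ⟨Module.Free.of_basis (polyBasis p A n), Module.Finite.of_basis (polyBasis p A n), ?_⟩
  intro hnt
  rw [Module.finrank_eq_card_basis (polyBasis p A n)]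
  simp

end polyBasis

end Groth.Agent.Lib.Helper27.RelFrobSmooth
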