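import Mathlib
import Groth.Agent.Lib.Helper27.RelFrobEtale2

set_option autoImplicit false

open TensorProduct

namespace Groth.Agent.Lib.Helper27.RelFrobSmooth

universe u

section abstractPushout
variable (p : ℕ) [Fact p.Prime] {S S' P C : Type u} [CommRing S] [CommRing S'] [CommRing P]
  [CommRing C] [Algebra S S'] [Algebra S P] [Algebra S' C] [Algebra P C] [Algebra S C]
  [IsScalarTower S S' C] [IsScalarTower S P C]

variable (S S' P C) in
noncomputable def psi : P ⊗[S] S' →ₐ[P] C :=
  Algebra.TensorProduct.lift (Algebra.ofId P C) (IsScalarTower.toAlgHom S S' C)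
    (fun _ _ => Commute.all _ _)

lemma psi_tmul (x : P) (s' : S') :
    psi S S' P C (x ⊗ₜ[S] s') = algebraMap P C x * algebraMap S' C s' := by
  unfold psi
  rw [Algebra.TensorProduct.lift_tmul]
  rfl

variable (hp0 : ((p : ℕ) : P) = 0)
  (ιP : P →+* S) (hιP : ∀ x, algebraMap S P (ιP x) = x ^ p)
  (ι : C →+* S') (hι : ∀ s', ι (algebraMap S' C s') = s' ^ p)
  (hιc : ∀ c, algebraMap S' C (ι c) = c ^ p)
  (hcomp : ∀ x, ι (algebraMap P C x) = algebraMap S S' (ιP x))

include hp0 hιP hι hcomp in
lemma pow_eq_includeRight (t : P ⊗[S] S') : t ^ p = (1 : P) ⊗ₜ[S] ι (psi S S' P C t) := by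
  induction t using TensorProduct.induction_on with
  | zero =>
    rw [map_zero, map_zero, tmul_zero, zero_pow (Fact.out : p.Prime).ne_zero]
  | tmul x s' =>
    rw [Algebra.TensorProduct.tmul_pow, ← hιP x, Algebra.algebraMap_eq_smul_one,
      TensorProduct.smul_tmul, psi_tmul, map_mul, hcomp, hι, Algebra.smul_def]
  | add a b ha hb =>
    have hp0' : ((p : ℕ) : P ⊗[S] S') = 0 := by
      rw [← map_natCast (algebraMap P (P ⊗[S] S')) p, hp0, map_zero]
    have hadd : (a + b) ^ p = a ^ p + b ^ p := by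
      rcases subsingleton_or_nontrivial (P ⊗[S] S') with h | h
      · exact Subsingleton.elim _ _
      · haveI : CharP (P ⊗[S] S') p := (CharP.charP_iff_prime_eq_zero (Fact.out)).mpr hp0'
        exact add_pow_char a b p
    rw [hadd, ha, hb, map_add, map_add, tmul_add]

variable [Algebra.Etale S S'] [Algebra.Etale P C]

include hp0 hιP hι hιc hcomp in
theorem psi_bijective : Function.Bijective (psi S S' P C) := by
  letI algTC : Algebra (P ⊗[S] S') C := (psi S S' P C).toRingHom.toAlgebra
  have halg : ∀ t, algebraMap (P ⊗[S] S') C t = psi S S' P C t := fun t => rfl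
  haveI : IsScalarTower P (P ⊗[S] S') C := IsScalarTower.of_algebraMap_eq (fun x => by
    rw [halg, Algebra.TensorProduct.algebraMap_apply, psi_tmul, map_one, mul_one]
    rfl)
  haveI : Algebra.Etale (P ⊗[S] S') C := Algebra.Etale.of_restrictScalars P _ _
  have hp0C : ((p : ℕ) : C) = 0 := by
    rw [← map_natCast (algebraMap P C) p, hp0, map_zero]
  have hpow : ∀ c : C, ∃ t : P ⊗[S] S', algebraMap (P ⊗[S] S') C t = c ^ p := by
    intro c
    refine ⟨(1 : P) ⊗ₜ[S] ι c, ?_⟩
    rw [halg, psi_tmul, map_one, one_mul, hιc]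
  have hint : (algebraMap (P ⊗[S] S') C).IsIntegral := by
    intro c
    obtain ⟨t, ht⟩ := hpow c
    refine ⟨Polynomial.X ^ p - Polynomial.C t,
      Polynomial.monic_X_pow_sub_C _ (Fact.out : p.Prime).ne_zero, ?_⟩
    rw [Polynomial.eval₂_sub, Polynomial.eval₂_pow, Polynomial.eval₂_X, Polynomial.eval₂_C, ht,
      sub_self]
  have hker : ∀ t : P ⊗[S] S', algebraMap (P ⊗[S] S') C t = 0 → IsNilpotent t := by
    intro t ht
    refine ⟨p, ?_⟩
    rw [pow_eq_includeRight p hp0 ιP hιP ι hι hcomp t, ← halg, ht, map_zero, tmul_zero]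
  exact Groth.Agent.Lib.Helper27.RelFrobEtale.bijective_of_unramified_flat p hp0C hpow hint hker

include hp0 hιP hι hιc hcomp in
theorem isPushout_of_frobenius_data : Algebra.IsPushout S P S' C := by
  have hbij := psi_bijective p hp0 ιP hιP ι hι hιc hcomp
  refine ⟨IsBaseChange.of_equiv (AlgEquiv.ofBijective (psi S S' P C) hbij).toLinearEquiv ?_⟩
  intro s'
  change psi S S' P C ((1 : P) ⊗ₜ[S] s') = algebraMap S' C s'
  rw [psi_tmul, map_one, one_mul]

end abstractPushout

end Groth.Agent.Lib.Helper27.RelFrobSmooth
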