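import Mathlib
import Groth.Prelude.Def_FrobAlg
import Groth.Agent.Lib.Helper27.RelFrobSmoothA
import Groth.Agent.Lib.Helper27.RelFrobSmoothC

set_option autoImplicit false

open TensorProduct FrobAlg

namespace Groth.Agent.Lib.Helper27.RelFrobSmooth

universe u v

section local_target

theorem flat_of_localization_span_target {R : Type u} {S : Type v} [CommRing R] [CommRing S]
    (f : R →+* S) (s : Set S) (hs : Ideal.span s = ⊤)
    (h : ∀ r : s, ((algebraMap S (Localization.Away (r : S))).comp f).Flat) : f.Flat := by
  algebraize_only [f]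
  refine Module.flat_of_isLocalized_span _ _ s hs _
    (fun r ↦ Algebra.linearMap S <| Localization.Away r.1) ?_
  dsimp only [RingHom.Flat] at h
  convert! h; ext
  apply Algebra.smul_def

end local_target

section etale_case
variable (p : ℕ) [Fact p.Prime] (A : Type u) [CommRing A] [CharP A p] (n : ℕ)
  (C : Type v) [CommRing C] [Algebra A C] [CharP C p]
  [Algebra (MvPolynomial (Fin n) A) C] [IsScalarTower A (MvPolynomial (Fin n) A) C]

theorem relFrob_flat_of_etale_mvPolynomial [Algebra.Etale (MvPolynomial (Fin n) A) C] :
    (relFrob p A C).Flat := by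
  let P := MvPolynomial (Fin n) A
  let S := BaseChange p A P
  let S' := BaseChange p A C
  let μ : S →ₐ[A] S' :=
    Algebra.TensorProduct.map (IsScalarTower.toAlgHom A P C) (AlgHom.id A (Twist p A))
  letI algSS' : Algebra S S' := μ.toRingHom.toAlgebra
  have hSS' : ∀ z : S, algebraMap S S' z = μ z := fun z => rfl
  haveI tow1 : IsScalarTower P S S' := IsScalarTower.of_algebraMap_eq (fun x => by
    rw [hSS']
    change (algebraMap P C x) ⊗ₜ[A] (1 : Twist p A) = μ (x ⊗ₜ[A] (1 : Twist p A))
    rfl)
  haveI po : Algebra.IsPushout P C S S' :=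
    Algebra.IsPushout.tensorProduct_tensorProduct A (Twist p A) P C (by
      ext t
      change μ ((1 : P) ⊗ₜ[A] t) = (1 : C) ⊗ₜ[A] t
      rw [Algebra.TensorProduct.map_tmul, map_one]
      rfl)
  haveI po' : Algebra.IsPushout P S C S' := po.symm
  haveI etSS' : Algebra.Etale S S' := Algebra.Etale.of_equiv (Algebra.IsPushout.equiv P S C S')
  letI algSC : Algebra S C := ((algebraMap P C).comp (relFrob p A P)).toAlgebra
  have hSC : ∀ z : S, algebraMap S C z = algebraMap P C (relFrob p A P z) := fun z => rfl
  haveI flatSC : Module.Flat S C := by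
    have h1 : ((algebraMap P C).comp (relFrob p A P)).Flat :=
      RingHom.Flat.comp (relFrob_mvPolynomial_flat p A n)
        (RingHom.flat_algebraMap_iff.mpr inferInstance)
    exact h1
  letI algS'C : Algebra S' C := (relFrob p A C).toAlgebra
  have hS'C : ∀ z : S', algebraMap S' C z = relFrob p A C z := fun z => rfl
  haveI tow2 : @IsScalarTower S S' C algSS'.toSMul algS'C.toSMul algSC.toSMul :=
    @IsScalarTower.of_algebraMap_eq S S' C _ _ _ algSS' algS'C algSC (fun z => by
      rw [hSC, hS'C, hSS']
      exact (relFrob_natural p A (IsScalarTower.toAlgHom A P C) z).symm)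
  have hflat : @Module.Flat S' C _ _ algS'C.toModule :=
    @flat_of_unramified_of_flat S S' C _ _ _ algSS' algSC algS'C tow2 inferInstance inferInstance
      flatSC
  exact hflat

end etale_case

end Groth.Agent.Lib.Helper27.RelFrobSmooth
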