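import Mathlib
import Groth.Prelude.Def_FrobAlg
import Groth.Agent.S3191
import Groth.Agent.Lib.Helper27.RelFrobSmoothD
import Groth.Agent.Lib.Helper27.RelFrobRankA
import Groth.Agent.Lib.Helper27.RelFrobRankB

set_option autoImplicit false

open TensorProduct FrobAlg

namespace Groth.Agent.Lib.Helper27.RelFrobSmooth

universe u

section etale_case
variable (p : ℕ) [Fact p.Prime] (A : Type u) [CommRing A] [CharP A p] (n : ℕ)
  (C : Type u) [CommRing C] [Algebra A C] [CharP C p]
  [Algebra (MvPolynomial (Fin n) A) C] [IsScalarTower A (MvPolynomial (Fin n) A) C]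

theorem rankAtStalk_of_etale_mvPolynomial [Algebra.Etale (MvPolynomial (Fin n) A) C] :
    letI := (relFrob p A C).toAlgebra
    ∀ x : PrimeSpectrum (BaseChange p A C),
      Module.rankAtStalk (R := BaseChange p A C) C x = p ^ n := by
  let P := MvPolynomial (Fin n) A
  let S := BaseChange p A P
  let S' := BaseChange p A C
  let μ : S →ₐ[A] S' :=
    Algebra.TensorProduct.map (IsScalarTower.toAlgHom A P C) (AlgHom.id A (Twist p A))
  letI algSS' : Algebra S S' := μ.toRingHom.toAlgebra
  have hSS' : ∀ z : S, algebraMap S S' z = μ z := fun z => rfl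
  haveI tow1 : IsScalarTower P S S' := IsScalarTower.of_algebraMap_eq (fun x => by
    rw [hSS']
    change (algebraMap P C x) ⊗ₜ[A] (1 : Twist p A) = μ (x ⊗ₜ[A] (1 : Twist p A))
    rfl)
  haveI po : Algebra.IsPushout P C S S' :=
    Algebra.IsPushout.tensorProduct_tensorProduct A (Twist p A) P C (by
      ext t
      change μ ((1 : P) ⊗ₜ[A] t) = (1 : C) ⊗ₜ[A] t
      rw [Algebra.TensorProduct.map_tmul, map_one]
      rfl)
  haveI po' : Algebra.IsPushout P S C S' := po.symm
  haveI etSS' : Algebra.Etale S S' := Algebra.Etale.of_equiv (Algebra.IsPushout.equiv P S C S')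
  letI algSP : Algebra S P := (relFrob p A P).toAlgebra
  have hSP : ∀ z : S, algebraMap S P z = relFrob p A P z := fun z => rfl
  letI algSC : Algebra S C := ((algebraMap P C).comp (relFrob p A P)).toAlgebra
  have hSC : ∀ z : S, algebraMap S C z = algebraMap P C (relFrob p A P z) := fun z => rfl
  letI algS'C : Algebra S' C := (relFrob p A C).toAlgebra
  have hS'C : ∀ z : S', algebraMap S' C z = relFrob p A C z := fun z => rfl
  haveI tow2 : @IsScalarTower S S' C algSS'.toSMul algS'C.toSMul algSC.toSMul :=
    @IsScalarTower.of_algebraMap_eq S S' C _ _ _ algSS' algS'C algSC (fun z => by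
      rw [hSC, hS'C, hSS']
      exact (relFrob_natural p A (IsScalarTower.toAlgHom A P C) z).symm)
  haveI tow3 : @IsScalarTower S P C algSP.toSMul _ algSC.toSMul :=
    @IsScalarTower.of_algebraMap_eq S P C _ _ _ algSP _ algSC (fun z => rfl)
  have hp0 : ((p : ℕ) : P) = 0 := CharP.cast_eq_zero P p
  haveI pushout : Algebra.IsPushout S P S' C :=
    isPushout_of_frobenius_data p hp0
      (Algebra.TensorProduct.includeLeftRingHom : P →+* S)
      (fun x => by
        rw [hSP]
        change relFrob p A P (x ⊗ₜ[A] (1 : Twist p A)) = x ^ p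
        rw [relFrob_tmul, map_one, map_one, mul_one])
      (Algebra.TensorProduct.includeLeftRingHom : C →+* S')
      (fun s' => by
        rw [hS'C]
        exact (Groth.Agent.S3191.pow_eq p A C s').symm)
      (fun c => by
        rw [hS'C]
        change relFrob p A C (c ⊗ₜ[A] (1 : Twist p A)) = c ^ p
        rw [relFrob_tmul, map_one, map_one, mul_one])
      (fun x => by
        rw [hSS']
        rfl)
  obtain ⟨hfree, hfin, hrank⟩ := poly_free_finite p A n
  haveI : Module.Free S P := hfree
  haveI : Module.Finite S P := hfin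
  intro x
  have h1 := Algebra.rankAtStalk_eq_of_isPushout S P S' C x
  rw [h1, Module.rankAtStalk_eq_finrank_of_free]
  have hnt : Nontrivial S := (PrimeSpectrum.comap (algebraMap S S') x).nontrivial
  exact hrank hnt

end etale_case

end Groth.Agent.Lib.Helper27.RelFrobSmooth
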