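import Mathlib
import Groth.Prelude.Def_FrobAlg
import Groth.Agent.Lib.Helper27.RelFrobSmoothD

set_option autoImplicit false

open TensorProduct FrobAlg

namespace Groth.Agent.Lib.Helper27.RelFrobSmooth

universe u v

theorem relFrob_flat_of_smooth (p : ℕ) [Fact p.Prime] (A : Type u) [CommRing A]
    [CharP A p] (B : Type v) [CommRing B] [Algebra A B] [CharP B p] [Algebra.Smooth A B] :
    (relFrob p A B).Flat := by
  obtain ⟨s, hs, h⟩ := Algebra.Smooth.exists_span_eq_top_isStandardSmooth A B
  apply flat_of_localization_span_target _ s hs
  rintro ⟨r, hr⟩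
  have hstd := h r hr
  set C := Localization.Away r with hC
  rcases subsingleton_or_nontrivial C with hsub | hnt
  · algebraize_only [(algebraMap B C).comp (relFrob p A B)]
    change Module.Flat (BaseChange p A B) C
    infer_instance
  · haveI : CharP C p := by
      refine (CharP.charP_iff_prime_eq_zero (Fact.out : p.Prime)).mpr ?_
      have h0 : ((p : ℕ) : B) = 0 := CharP.cast_eq_zero B p
      have := congrArg (algebraMap B C) h0
      rw [map_natCast, map_zero] at this
      exact this
    obtain ⟨n, g, hgC, hg⟩ := RingHom.IsStandardSmooth.exists_etale_mvPolynomial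
      (f := algebraMap A C) (RingHom.isStandardSmooth_algebraMap.mpr hstd)
    letI algPC : Algebra (MvPolynomial (Fin n) A) C := g.toAlgebra
    haveI : IsScalarTower A (MvPolynomial (Fin n) A) C := IsScalarTower.of_algebraMap_eq (fun a => by
      have := congrArg (fun f => f a) hgC
      exact this.symm)
    haveI : Algebra.Etale (MvPolynomial (Fin n) A) C := RingHom.etale_algebraMap.mp hg
    have hflatC := relFrob_flat_of_etale_mvPolynomial p A n C
    have heq : (algebraMap B C).comp (relFrob p A B) = (relFrob p A C).comp
        (Algebra.TensorProduct.map (IsScalarTower.toAlgHom A B C)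
          (AlgHom.id A (Twist p A))).toRingHom := by
      refine RingHom.ext fun x => ?_
      exact (relFrob_natural p A (IsScalarTower.toAlgHom A B C) x).symm
    rw [heq]
    refine RingHom.Flat.comp ?_ hflatC
    exact RingHom.Flat.tensorProductMap (RingHom.flat_algebraMap_iff.mpr inferInstance)
      (RingHom.Flat.id _)

end Groth.Agent.Lib.Helper27.RelFrobSmooth
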