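import Mathlib
import Groth.Prelude.Def_FrobAlg
import Groth.Agent.S3191
import Groth.Agent.Lib.Helper27.RelFrobSmoothE

set_option autoImplicit false

open TensorProduct FrobAlg

namespace Groth.Agent.Lib.Helper27.RelFrobSmooth

universe u

section relDim

theorem relDim_eq {A B C : Type u} [CommRing A] [CommRing B] [CommRing C] [Algebra A B]
    [Algebra.Smooth A B] [Algebra B C] [Algebra A C] [IsScalarTower A B C]
    [Algebra.FormallyEtale B C] [Nontrivial C] (n r : ℕ)
    [Algebra.IsStandardSmoothOfRelativeDimension n A C]
    (hr : ∀ q : PrimeSpectrum B, Module.rankAtStalk (R := B) (KaehlerDifferential A B) q = r) :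
    n = r := by
  have hb : IsBaseChange C (KaehlerDifferential.map A A B C) :=
    KaehlerDifferential.isBaseChange_of_formallyEtale A B C
  obtain ⟨y⟩ : Nonempty (PrimeSpectrum C) := inferInstance
  have h1 := Module.rankAtStalk_isBaseChange hb y
  rw [hr] at h1
  haveI : Algebra.IsStandardSmooth A C :=
    Algebra.IsStandardSmoothOfRelativeDimension.isStandardSmooth n
  rw [Module.rankAtStalk_eq_finrank_of_free] at h1
  have h2 : Module.rank C (KaehlerDifferential A C) = n :=
    Algebra.IsStandardSmoothOfRelativeDimension.rank_kaehlerDifferential n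
  have h3 : Module.finrank C (KaehlerDifferential A C) = n := Module.finrank_eq_of_rank_eq h2
  rw [← h3]
  exact h1

end relDim

section finiteProjective
variable (p : ℕ) [Fact p.Prime] (A : Type u) [CommRing A] [CharP A p]
  (B : Type u) [CommRing B] [Algebra A B] [CharP B p] [Algebra.Smooth A B]

theorem finite_projective_of_smooth :
    letI := (relFrob p A B).toAlgebra
    Module.Finite (BaseChange p A B) B ∧ Module.Projective (BaseChange p A B) B ∧
      Module.Flat (BaseChange p A B) B := by
  letI algRB : Algebra (BaseChange p A B) B := (relFrob p A B).toAlgebra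
  letI algTB : Algebra (Twist p A) B := inferInstanceAs (Algebra A B)
  haveI fpTB : Algebra.FinitePresentation (Twist p A) B :=
    inferInstanceAs (Algebra.FinitePresentation A B)
  haveI ftTR : Algebra.FiniteType (Twist p A) (BaseChange p A B) :=
    Algebra.FiniteType.equiv inferInstance (Algebra.TensorProduct.commRight A (Twist p A) B)
  haveI tower : @IsScalarTower (Twist p A) (BaseChange p A B) B Algebra.toSMul Algebra.toSMul
      Algebra.toSMul :=
    IsScalarTower.of_algebraMap_eq (R := Twist p A) (S := BaseChange p A B) (A := B) (fun t => by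
      change algebraMap A B ((toTwist p A).symm t) = relFrob p A B ((1 : B) ⊗ₜ[A] t)
      rw [Groth.Agent.S3191.relFrob_tmul, one_pow, one_mul])
  haveI fpRB : Algebra.FinitePresentation (BaseChange p A B) B :=
    Algebra.FinitePresentation.of_restrict_scalars_finitePresentation (Twist p A) _ _
  haveI : Algebra.IsIntegral (BaseChange p A B) B := ⟨(Groth.Agent.S3191.result p A B).1⟩
  haveI hfin : Module.Finite (BaseChange p A B) B := Algebra.IsIntegral.finite
  haveI hflat : Module.Flat (BaseChange p A B) B := relFrob_flat_of_smooth p A B
  haveI : Module.FinitePresentation (BaseChange p A B) B :=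
    Module.FinitePresentation.of_finite_of_finitePresentation _ _
  exact ⟨hfin, Module.Flat.projective_of_finitePresentation, hflat⟩

end finiteProjective

end Groth.Agent.Lib.Helper27.RelFrobSmooth
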