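import Mathlib
import Groth.Prelude.Def_FrobAlg
import Groth.Agent.S3191
import Groth.Agent.Lib.Helper27.RelFrobSmoothA

set_option autoImplicit false

open TensorProduct FrobAlg

namespace Groth.Agent.Lib.Helper27.RelFrobSmooth

universe u

section localization
variable (p : ℕ) [Fact p.Prime] (A : Type u) [CommRing A] [CharP A p]
  (B : Type u) [CommRing B] [Algebra A B] [CharP B p]
  (g : B) (C : Type u) [CommRing C] [Algebra A C] [Algebra B C] [IsScalarTower A B C]
  [CharP C p] [IsLocalization.Away g C]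

theorem rankAtStalk_localization
    (hfin : letI := (relFrob p A B).toAlgebra; Module.Finite (BaseChange p A B) B)
    (hflat : letI := (relFrob p A B).toAlgebra; Module.Flat (BaseChange p A B) B)
    (q : PrimeSpectrum (BaseChange p A B))
    (hq : g ⊗ₜ[A] (1 : Twist p A) ∉ q.asIdeal) :
    ∃ x : PrimeSpectrum (BaseChange p A C),
      (letI := (relFrob p A B).toAlgebra
       Module.rankAtStalk (R := BaseChange p A B) B q) =
      (letI := (relFrob p A C).toAlgebra
       Module.rankAtStalk (R := BaseChange p A C) C x) := by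
  let R := BaseChange p A B
  let R' := BaseChange p A C
  let μ : R →ₐ[A] R' :=
    Algebra.TensorProduct.map (IsScalarTower.toAlgHom A B C) (AlgHom.id A (Twist p A))
  letI algRR' : Algebra R R' := μ.toRingHom.toAlgebra
  have hRR' : ∀ z : R, algebraMap R R' z = μ z := fun z => rfl
  haveI tow1 : IsScalarTower B R R' := IsScalarTower.of_algebraMap_eq (fun x => by
    rw [hRR']
    change (algebraMap B C x) ⊗ₜ[A] (1 : Twist p A) = μ (x ⊗ₜ[A] (1 : Twist p A))
    rfl)
  let M' : Submonoid R := Algebra.algebraMapSubmonoid R (Submonoid.powers g)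
  haveI locR' : IsLocalization M' R' :=
    IsLocalization.tensorProduct_tensorProduct A (Twist p A) (Submonoid.powers g) C (by
      ext t
      change μ ((1 : B) ⊗ₜ[A] t) = (1 : C) ⊗ₜ[A] t
      rw [Algebra.TensorProduct.map_tmul, map_one]
      rfl)
  letI algRB : Algebra R B := (relFrob p A B).toAlgebra
  have hRB : ∀ z : R, algebraMap R B z = relFrob p A B z := fun z => rfl
  letI algRC : Algebra R C := ((algebraMap B C).comp (relFrob p A B)).toAlgebra
  have hRC : ∀ z : R, algebraMap R C z = algebraMap B C (relFrob p A B z) := fun z => rfl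
  letI algR'C : Algebra R' C := (relFrob p A C).toAlgebra
  have hR'C : ∀ z : R', algebraMap R' C z = relFrob p A C z := fun z => rfl
  haveI tow2 : @IsScalarTower R R' C algRR'.toSMul algR'C.toSMul algRC.toSMul :=
    @IsScalarTower.of_algebraMap_eq R R' C _ _ _ algRR' algR'C algRC (fun z => by
      rw [hRC, hR'C, hRR']
      exact (relFrob_natural p A (IsScalarTower.toAlgHom A B C) z).symm)
  haveI tow3 : @IsScalarTower R B C algRB.toSMul _ algRC.toSMul :=
    @IsScalarTower.of_algebraMap_eq R B C _ _ _ algRB _ algRC (fun z => rfl)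
  have hmemM' : ∀ m ∈ M', ∃ k : ℕ, m = (g ^ k) ⊗ₜ[A] (1 : Twist p A) := by
    rintro m ⟨b, ⟨k, rfl⟩, rfl⟩
    exact ⟨k, rfl⟩
  have hsmall_le : Algebra.algebraMapSubmonoid B M' ≤ Submonoid.powers g := by
    rintro n ⟨m, hm, rfl⟩
    obtain ⟨k, rfl⟩ := hmemM' m hm
    change relFrob p A B ((g ^ k) ⊗ₜ[A] (1 : Twist p A)) ∈ Submonoid.powers g
    rw [relFrob_tmul, map_one, map_one, mul_one, ← pow_mul]
    exact ⟨k * p, rfl⟩
  haveI locC : IsLocalization (Algebra.algebraMapSubmonoid B M') C := by
    refine (IsLocalization.iff_of_le_of_exists_dvd (Algebra.algebraMapSubmonoid B M')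
      (Submonoid.powers g) hsmall_le ?_).mpr inferInstance
    rintro n ⟨k, rfl⟩
    refine ⟨(g ^ k) ^ p, ⟨(g ^ k) ⊗ₜ[A] (1 : Twist p A), ⟨g ^ k, ⟨k, rfl⟩, rfl⟩, ?_⟩, ?_⟩
    · change relFrob p A B ((g ^ k) ⊗ₜ[A] (1 : Twist p A)) = (g ^ k) ^ p
      rw [relFrob_tmul, map_one, map_one, mul_one]
    · exact dvd_pow_self _ (Fact.out : p.Prime).ne_zero
  haveI pushout : Algebra.IsPushout R B R' C := Algebra.isPushout_of_isLocalization M' R' B C
  have hqmem : q ∈ Set.range (PrimeSpectrum.comap (algebraMap R R')) := by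
    rw [PrimeSpectrum.localization_comap_range R' M']
    change Disjoint (M' : Set R) q.asIdeal
    rw [Set.disjoint_left]
    intro m hm hmq
    obtain ⟨k, rfl⟩ := hmemM' m hm
    have h1 : (g ^ k) ⊗ₜ[A] (1 : Twist p A) = (g ⊗ₜ[A] (1 : Twist p A)) ^ k := by
      rw [Algebra.TensorProduct.tmul_pow, one_pow]
    rw [h1] at hmq
    exact hq (q.isPrime.mem_of_pow_mem k hmq)
  obtain ⟨x, hx⟩ := hqmem
  refine ⟨x, ?_⟩
  haveI : Module.Finite R B := hfin
  haveI : Module.Flat R B := hflat
  have h1 := Algebra.rankAtStalk_eq_of_isPushout R B R' C x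
  rw [hx] at h1
  exact h1.symm

end localization

end Groth.Agent.Lib.Helper27.RelFrobSmooth
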