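import Mathlib
import Groth.Prelude.Def_FrobAlg
import Groth.Agent.Lib.Helper27.RelFrobRankC
import Groth.Agent.Lib.Helper27.RelFrobRankD
import Groth.Agent.Lib.Helper27.RelFrobRankE

set_option autoImplicit false

open TensorProduct FrobAlg

namespace Groth.Agent.Lib.Helper27.RelFrobSmooth

universe u

theorem relFrob_finite_projective_rank (p : ℕ) [Fact p.Prime]
    (A : Type u) [CommRing A] [CharP A p] (B : Type u) [CommRing B] [Algebra A B] [CharP B p]
    [Algebra.Smooth A B] (r : ℕ)
    (hr : ∀ q : PrimeSpectrum B, Module.rankAtStalk (R := B) (KaehlerDifferential A B) q = r) :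
    letI := (FrobAlg.relFrob p A B).toAlgebra
    Module.Finite (FrobAlg.BaseChange p A B) B ∧ Module.Projective (FrobAlg.BaseChange p A B) B ∧
      ∀ q : PrimeSpectrum (FrobAlg.BaseChange p A B),
        Module.rankAtStalk (R := FrobAlg.BaseChange p A B) B q = p ^ r := by
  letI algRB := (FrobAlg.relFrob p A B).toAlgebra
  obtain ⟨hfin, hproj, hflat⟩ := finite_projective_of_smooth p A B
  refine ⟨hfin, hproj, ?_⟩
  intro q
  obtain ⟨s, hs, h⟩ := Algebra.Smooth.exists_span_eq_top_isStandardSmooth A B
  obtain ⟨g, hg, hgq⟩ : ∃ g ∈ s, g ⊗ₜ[A] (1 : Twist p A) ∉ q.asIdeal := by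
    by_contra hcon
    push Not at hcon
    have hle : Ideal.map (Algebra.TensorProduct.includeLeftRingHom : B →+* BaseChange p A B)
        (Ideal.span s) ≤ q.asIdeal := by
      rw [Ideal.map_span, Ideal.span_le]
      rintro _ ⟨b, hb, rfl⟩
      exact hcon b hb
    rw [hs, Ideal.map_top] at hle
    exact q.isPrime.ne_top (top_le_iff.mp hle)
  have hstd := h g hg
  have hntC : Nontrivial (Localization.Away g) := by
    by_contra hcon
    rw [not_nontrivial_iff_subsingleton] at hcon
    have h01 : algebraMap B (Localization.Away g) 1 = 0 := Subsingleton.elim _ _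
    obtain ⟨⟨m, k, rfl⟩, hm⟩ :=
      (IsLocalization.map_eq_zero_iff (Submonoid.powers g) (Localization.Away g) 1).mp h01
    apply hgq
    apply q.isPrime.mem_of_pow_mem k
    rw [Algebra.TensorProduct.tmul_pow, one_pow]
    have : g ^ k = 0 := by simpa using hm
    rw [this, zero_tmul]
    exact zero_mem _
  haveI : CharP (Localization.Away g) p := by
    refine (CharP.charP_iff_prime_eq_zero (Fact.out : p.Prime)).mpr ?_
    have h0 : ((p : ℕ) : B) = 0 := CharP.cast_eq_zero B p
    have := congrArg (algebraMap B (Localization.Away g)) h0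
    rw [map_natCast, map_zero] at this
    exact this
  obtain ⟨x, hx⟩ := rankAtStalk_localization p A B g (Localization.Away g) hfin hflat q hgq
  rw [hx]
  obtain ⟨ι, σ, hσ, hι, ⟨Pres⟩⟩ := hstd
  haveI hrel : Algebra.IsStandardSmoothOfRelativeDimension Pres.dimension A (Localization.Away g) :=
    ⟨ι, σ, hσ, hι, Pres, rfl⟩
  obtain ⟨gg, hgg⟩ := Algebra.IsStandardSmoothOfRelativeDimension.exists_etale_mvPolynomial
    Pres.dimension A (Localization.Away g)
  letI algPC : Algebra (MvPolynomial (Fin Pres.dimension) A) (Localization.Away g) :=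
    gg.toRingHom.toAlgebra
  haveI : IsScalarTower A (MvPolynomial (Fin Pres.dimension) A) (Localization.Away g) :=
    IsScalarTower.of_algebraMap_eq (fun a => (gg.commutes a).symm)
  haveI : Algebra.Etale (MvPolynomial (Fin Pres.dimension) A) (Localization.Away g) := hgg
  haveI : Algebra.FormallyEtale B (Localization.Away g) :=
    Algebra.FormallyEtale.of_isLocalization (Submonoid.powers g)
  have hn : Pres.dimension = r := relDim_eq (A := A) (B := B) (C := Localization.Away g) _ r hr
  rw [← hn]
  exact rankAtStalk_of_etale_mvPolynomial p A Pres.dimension (Localization.Away g) x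

end Groth.Agent.Lib.Helper27.RelFrobSmooth
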