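import Mathlib
import Groth.Agent.Lib.Helper27.SepResE
import Groth.Agent.Lib.Helper27.SepResI

set_option autoImplicit false
universe u

namespace Helper27.SepRes

open Smoothing IsLocalRing

theorem ringKrullDim_eq_zero_of_isNilpotent_maximalIdeal {T : Type*} [CommRing T] [IsLocalRing T]
    (h : IsNilpotent (maximalIdeal T)) : ringKrullDim T = 0 := by
  have hkd : Ring.KrullDimLE 0 T := by
    rw [Ring.krullDimLE_zero_iff]
    intro P hP
    have : maximalIdeal T ≤ P := by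
      intro x hx
      obtain ⟨N, hN⟩ := h
      have h5 : x ^ N ∈ maximalIdeal T ^ N := Ideal.pow_mem_pow hx N
      rw [hN] at h5
      have h6 : x ^ N = 0 := h5
      exact hP.mem_of_pow_mem N (by rw [h6]; exact Submodule.zero_mem _)
    rw [← (IsLocalRing.maximalIdeal.isMaximal _).eq_of_le hP.ne_top this]
    exact IsLocalRing.maximalIdeal.isMaximal _
  exact le_antisymm (Ring.krullDimLE_iff.mp hkd) ringKrullDim_nonneg_of_nontrivial

set_option maxHeartbeats 1000000 in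
theorem quot_problem_local {R Λ C₀ : Type u} [CommRing R] [IsLocalRing R] [IsNoetherianRing R]
    [CommRing Λ] [IsLocalRing Λ] [Algebra R Λ] [IsLocalHom (algebraMap R Λ)]
    (he : (maximalIdeal R).map (algebraMap R Λ) = maximalIdeal Λ) [Module.Flat R Λ]
    [Algebra.IsGeometricallyReduced (ResidueField R) (ResidueField Λ)]
    (K : Ideal R) (N : ℕ) (hKN : maximalIdeal R ^ N ≤ K) (hKm : K ≤ maximalIdeal R)
    [CommRing C₀] [Algebra (R ⧸ K) C₀] [Algebra.FinitePresentation (R ⧸ K) C₀]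
    (ψ : C₀ →ₐ[R ⧸ K] (Λ ⧸ K.map (algebraMap R Λ))) :
    Resolvable (R ⧸ K) ψ ((maximalIdeal Λ).map (Ideal.Quotient.mk (K.map (algebraMap R Λ)))) := by
  have hJ : K.map (algebraMap R Λ) ≤ maximalIdeal Λ := by
    rw [← he]
    exact Ideal.map_mono hKm
  have hntR : Nontrivial (R ⧸ K) :=
    Ideal.Quotient.nontrivial_iff.mpr (fun h => (IsLocalRing.maximalIdeal.isMaximal R).ne_top
      (top_le_iff.mp (h ▸ hKm)))
  have hntΛ : Nontrivial (Λ ⧸ K.map (algebraMap R Λ)) :=
    Ideal.Quotient.nontrivial_iff.mpr (fun h => (IsLocalRing.maximalIdeal.isMaximal Λ).ne_top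
      (top_le_iff.mp (h ▸ hJ)))
  have hlocR : IsLocalRing (R ⧸ K) :=
    IsLocalRing.of_surjective' (Ideal.Quotient.mk K) Ideal.Quotient.mk_surjective
  have hlocΛ : IsLocalRing (Λ ⧸ K.map (algebraMap R Λ)) :=
    IsLocalRing.of_surjective' (Ideal.Quotient.mk _) Ideal.Quotient.mk_surjective
  have hmR : maximalIdeal (R ⧸ K) = (maximalIdeal R).map (Ideal.Quotient.mk K) := by
    have hprime : ((maximalIdeal R).map (Ideal.Quotient.mk K)).IsPrime :=
      isPrime_map_mk (maximalIdeal R) K hKm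
    have := ((maximalIdeal R).map_eq_top_or_isMaximal_of_surjective (Ideal.Quotient.mk K)
      Ideal.Quotient.mk_surjective (IsLocalRing.maximalIdeal.isMaximal R)).resolve_left hprime.ne_top
    exact (IsLocalRing.eq_maximalIdeal this).symm
  have hmΛ : maximalIdeal (Λ ⧸ K.map (algebraMap R Λ)) =
      (maximalIdeal Λ).map (Ideal.Quotient.mk (K.map (algebraMap R Λ))) := by
    have hprime : ((maximalIdeal Λ).map (Ideal.Quotient.mk (K.map (algebraMap R Λ)))).IsPrime :=
      isPrime_map_mk (maximalIdeal Λ) _ hJ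
    have := ((maximalIdeal Λ).map_eq_top_or_isMaximal_of_surjective (Ideal.Quotient.mk _)
      Ideal.Quotient.mk_surjective (IsLocalRing.maximalIdeal.isMaximal Λ)).resolve_left hprime.ne_top
    exact (IsLocalRing.eq_maximalIdeal this).symm
  have hprime𝔮 : ((maximalIdeal Λ).map (Ideal.Quotient.mk (K.map (algebraMap R Λ)))).IsPrime :=
    isPrime_map_mk (maximalIdeal Λ) _ hJ
  have hcomp : (algebraMap (R ⧸ K) (Λ ⧸ K.map (algebraMap R Λ))).comp (Ideal.Quotient.mk K) =
      (Ideal.Quotient.mk (K.map (algebraMap R Λ))).comp (algebraMap R Λ) := RingHom.ext fun _ => rfl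
  have hImap : (maximalIdeal (R ⧸ K)).map (algebraMap (R ⧸ K) (Λ ⧸ K.map (algebraMap R Λ))) =
      maximalIdeal (Λ ⧸ K.map (algebraMap R Λ)) := by
    rw [hmR, hmΛ, Ideal.map_map, hcomp, ← Ideal.map_map, he]
  have h𝔭 : ((maximalIdeal Λ).map (Ideal.Quotient.mk (K.map (algebraMap R Λ)))).comap
      (algebraMap (R ⧸ K) (Λ ⧸ K.map (algebraMap R Λ))) = maximalIdeal (R ⧸ K) := by
    refine ((IsLocalRing.maximalIdeal.isMaximal _).eq_of_le
      (Ideal.IsPrime.comap _).ne_top ?_).symm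
    rw [← Ideal.map_le_iff_le_comap, hImap, hmΛ]
  have hnilR : IsNilpotent (maximalIdeal (R ⧸ K)) := by
    refine ⟨N, ?_⟩
    rw [hmR, ← Ideal.map_pow, Ideal.zero_eq_bot, eq_bot_iff]
    refine (Ideal.map_mono hKN).trans ?_
    rw [Ideal.map_quotient_self]
  have hnilΛ : IsNilpotent (maximalIdeal (Λ ⧸ K.map (algebraMap R Λ))) := by
    obtain ⟨M, hM⟩ := hnilR
    refine ⟨M, ?_⟩
    rw [← hImap, ← Ideal.map_pow, hM, Ideal.zero_eq_bot, Ideal.map_bot]
    rfl
  have hdim := ringKrullDim_eq_zero_of_isNilpotent_maximalIdeal hnilΛ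
  have hlocR' : IsLocalization.AtPrime (R ⧸ K)
      (((maximalIdeal Λ).map (Ideal.Quotient.mk (K.map (algebraMap R Λ)))).comap
        (algebraMap (R ⧸ K) (Λ ⧸ K.map (algebraMap R Λ)))) := by
    refine IsLocalization.self ?_
    intro x hx
    rw [Ideal.mem_primeCompl_iff, h𝔭] at hx
    exact IsLocalRing.notMem_maximalIdeal.mp hx
  have hlocΛ' : IsLocalization.AtPrime (Λ ⧸ K.map (algebraMap R Λ))
      ((maximalIdeal Λ).map (Ideal.Quotient.mk (K.map (algebraMap R Λ)))) := by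
    refine IsLocalization.self ?_
    intro x hx
    rw [Ideal.mem_primeCompl_iff, ← hmΛ] at hx
    exact IsLocalRing.notMem_maximalIdeal.mp hx
  have hflat : Module.Flat (R ⧸ K) (Λ ⧸ K.map (algebraMap R Λ)) :=
    Module.Flat.of_linearEquiv
      (Algebra.TensorProduct.quotIdealMapEquivQuotTensor Λ K).toLinearEquiv
  have hq : IndSmooth ((R ⧸ K) ⧸ maximalIdeal (R ⧸ K))
      ((Λ ⧸ K.map (algebraMap R Λ)) ⧸ (maximalIdeal (R ⧸ K)).map
        (algebraMap (R ⧸ K) (Λ ⧸ K.map (algebraMap R Λ)))) := by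
    have hImax : ((maximalIdeal (R ⧸ K)).map
        (algebraMap (R ⧸ K) (Λ ⧸ K.map (algebraMap R Λ)))).IsMaximal := by
      rw [hImap]
      infer_instance
    let fF : Field ((R ⧸ K) ⧸ maximalIdeal (R ⧸ K)) := Ideal.Quotient.field _
    let fL : Field ((Λ ⧸ K.map (algebraMap R Λ)) ⧸ (maximalIdeal (R ⧸ K)).map
        (algebraMap (R ⧸ K) (Λ ⧸ K.map (algebraMap R Λ)))) := Ideal.Quotient.field _
    let sF : ResidueField R →+* ((R ⧸ K) ⧸ maximalIdeal (R ⧸ K)) :=
      Ideal.Quotient.lift (maximalIdeal R)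
        ((Ideal.Quotient.mk (maximalIdeal (R ⧸ K))).comp (Ideal.Quotient.mk K)) (fun y hy => by
          rw [RingHom.comp_apply, Ideal.Quotient.eq_zero_iff_mem, hmR]
          exact Ideal.mem_map_of_mem _ hy)
    have hsF : Function.Surjective sF :=
      Ideal.Quotient.lift_surjective_of_surjective _ _
        (Ideal.Quotient.mk_surjective.comp Ideal.Quotient.mk_surjective)
    have hres0 : ∀ a ∈ K.map (algebraMap R Λ), residue Λ a = 0 := fun a ha =>
      (residue_eq_zero_iff a).mpr (hJ ha)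
    let ι₁ : (Λ ⧸ K.map (algebraMap R Λ)) →+* ResidueField Λ :=
      Ideal.Quotient.lift (K.map (algebraMap R Λ)) (residue Λ) hres0
    have hι₁0 : ∀ a ∈ (maximalIdeal (R ⧸ K)).map
        (algebraMap (R ⧸ K) (Λ ⧸ K.map (algebraMap R Λ))), ι₁ a = 0 := by
      intro a ha
      rw [hImap, hmΛ] at ha
      obtain ⟨y, hy, rfl⟩ := (Ideal.mem_map_iff_of_surjective _ Ideal.Quotient.mk_surjective).mp ha
      show residue Λ y = 0
      exact (residue_eq_zero_iff y).mpr hy
    let ιL : ((Λ ⧸ K.map (algebraMap R Λ)) ⧸ (maximalIdeal (R ⧸ K)).map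
        (algebraMap (R ⧸ K) (Λ ⧸ K.map (algebraMap R Λ)))) →+* ResidueField Λ :=
      Ideal.Quotient.lift _ ι₁ hι₁0
    let algκF : Algebra (ResidueField R) ((R ⧸ K) ⧸ maximalIdeal (R ⧸ K)) := sF.toAlgebra
    let algκL : Algebra (ResidueField R) ((Λ ⧸ K.map (algebraMap R Λ)) ⧸
        (maximalIdeal (R ⧸ K)).map (algebraMap (R ⧸ K) (Λ ⧸ K.map (algebraMap R Λ)))) :=
      ((algebraMap ((R ⧸ K) ⧸ maximalIdeal (R ⧸ K)) _).comp sF).toAlgebra
    have towerκ : IsScalarTower (ResidueField R) ((R ⧸ K) ⧸ maximalIdeal (R ⧸ K))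
        ((Λ ⧸ K.map (algebraMap R Λ)) ⧸ (maximalIdeal (R ⧸ K)).map
          (algebraMap (R ⧸ K) (Λ ⧸ K.map (algebraMap R Λ)))) :=
      IsScalarTower.of_algebraMap_eq (fun _ => rfl)
    let ιLalg : ((Λ ⧸ K.map (algebraMap R Λ)) ⧸ (maximalIdeal (R ⧸ K)).map
        (algebraMap (R ⧸ K) (Λ ⧸ K.map (algebraMap R Λ)))) →ₐ[ResidueField R] ResidueField Λ :=
      { ιL with
        commutes' := fun x => by
          obtain ⟨y, rfl⟩ := Ideal.Quotient.mk_surjective x
          rfl }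
    have hinj : Function.Injective ιLalg := ιLalg.toRingHom.injective
    have hgrL : Algebra.IsGeometricallyReduced (ResidueField R)
        ((Λ ⧸ K.map (algebraMap R Λ)) ⧸ (maximalIdeal (R ⧸ K)).map
          (algebraMap (R ⧸ K) (Λ ⧸ K.map (algebraMap R Λ)))) :=
      Algebra.IsGeometricallyReduced.of_injective ιLalg hinj
    have hfsL : Algebra.FormallySmooth (ResidueField R)
        ((Λ ⧸ K.map (algebraMap R Λ)) ⧸ (maximalIdeal (R ⧸ K)).map
          (algebraMap (R ⧸ K) (Λ ⧸ K.map (algebraMap R Λ)))) :=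
      Groth.Agent.S2451.result.mpr hgrL
    have hunr : Algebra.FormallyUnramified (ResidueField R) ((R ⧸ K) ⧸ maximalIdeal (R ⧸ K)) :=
      Algebra.FormallyUnramified.of_surjective (Algebra.ofId (ResidueField R) _) hsF
    have hfsFL : Algebra.FormallySmooth ((R ⧸ K) ⧸ maximalIdeal (R ⧸ K))
        ((Λ ⧸ K.map (algebraMap R Λ)) ⧸ (maximalIdeal (R ⧸ K)).map
          (algebraMap (R ⧸ K) (Λ ⧸ K.map (algebraMap R Λ)))) :=
      Algebra.FormallySmooth.of_restrictScalars (ResidueField R) _ _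
    exact indSmooth_of_formallySmooth
  have hind := Groth.Agent.S2022.result (maximalIdeal (R ⧸ K)) hnilR hq
  exact resolvable_of_indSmooth (Rₚ := R ⧸ K) (Λq := Λ ⧸ K.map (algebraMap R Λ)) ψ _ hdim hind

end Helper27.SepRes
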