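import Mathlib
import Groth.Agent.Lib.Helper27.SepResH
import Groth.Agent.Lib.Helper27.SepResN
import Groth.Agent.Lib.Helper27.SepResO
import Groth.Agent.Lib.Helper27.ResModG

set_option autoImplicit false
universe u

namespace Helper27.SepRes

open Smoothing IsLocalRing MvPolynomial

attribute [local instance] algRB

theorem resolvable_of_factor {R A C₁ Λ : Type u} [CommRing R] [CommRing A] [Algebra R A]
    [CommRing C₁] [Algebra R C₁] [CommRing Λ] [Algebra R Λ]
    (φ : A →ₐ[R] Λ) (φC : C₁ →ₐ[R] Λ) (g₀ : A →ₐ[R] C₁) (hcomp : φC.comp g₀ = φ)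
    (hsing : ∀ a ∈ singularIdeal R A, g₀ a ∈ singularIdeal R C₁) (𝔮 : Ideal Λ)
    (hres : Resolvable R φC 𝔮) : Resolvable R φ 𝔮 := by
  obtain ⟨D, _, _, hfp, g, h, hgh, hle, hnle⟩ := hres
  refine ⟨D, inferInstance, inferInstance, hfp, g.comp g₀, h, ?_, ?_, hnle⟩
  · rw [← AlgHom.comp_assoc, hgh, hcomp]
  · refine le_trans ?_ hle
    unfold singRad
    rw [Ideal.radical_le_radical_iff, Ideal.map_le_iff_le_comap]
    intro a ha
    rw [Ideal.mem_comap, ← hcomp]
    exact Ideal.le_radical (Ideal.mem_map_of_mem φC (hsing a ha))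

section DVR

variable {R Λ : Type u} [CommRing R] [IsDomain R] [IsDiscreteValuationRing R] [CommRing Λ]
  [IsDomain Λ] [IsDiscreteValuationRing Λ] [Algebra R Λ] [NoZeroSMulDivisors R Λ]

theorem resolvable_bot {K L A : Type u} [Field K] [Algebra R K] [IsFractionRing R K] [Field L]
    [Algebra Λ L] [IsFractionRing Λ L] [Algebra K L] [Algebra R L] [IsScalarTower R K L]
    [IsScalarTower R Λ L] [Algebra.IsGeometricallyReduced K L]
    [CommRing A] [Algebra R A] [Algebra.FinitePresentation R A] (f : A →ₐ[R] Λ) :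
    Resolvable R f (⊥ : Ideal Λ) := by
  have hinj : Function.Injective (algebraMap R Λ) := FaithfulSMul.algebraMap_injective R Λ
  have h1 : ((⊥ : Ideal Λ).comap (algebraMap R Λ)).primeCompl = nonZeroDivisors R := by
    ext x
    rw [Ideal.mem_primeCompl_iff, Ideal.mem_comap, Ideal.mem_bot, mem_nonZeroDivisors_iff_ne_zero,
      map_eq_zero_iff _ hinj]
  have h2 : (⊥ : Ideal Λ).primeCompl = nonZeroDivisors Λ := by
    ext x
    rw [Ideal.mem_primeCompl_iff, Ideal.mem_bot, mem_nonZeroDivisors_iff_ne_zero]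
  have hlocK : IsLocalization.AtPrime K ((⊥ : Ideal Λ).comap (algebraMap R Λ)) := by
    unfold IsLocalization.AtPrime
    rw [h1]
    infer_instance
  have hlocL : IsLocalization.AtPrime L (⊥ : Ideal Λ) := by
    unfold IsLocalization.AtPrime
    rw [h2]
    infer_instance
  have hfs : Algebra.FormallySmooth K L := Groth.Agent.S2451.result.mpr inferInstance
  exact resolvable_of_indSmooth (Rₚ := K) (Λq := L) f ⊥ (ringKrullDim_eq_zero_of_field L)
    indSmooth_of_formallySmooth

set_option maxHeartbeats 2000000 in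
theorem resolvable_maximalIdeal [IsLocalHom (algebraMap R Λ)]
    (he : (maximalIdeal R).map (algebraMap R Λ) = maximalIdeal Λ)
    [Algebra.IsGeometricallyReduced (ResidueField R) (ResidueField Λ)]
    {A : Type u} [CommRing A] [Algebra R A] [Algebra.FinitePresentation R A] (f : A →ₐ[R] Λ)
    (hne : (singularIdeal R A).map f ≠ ⊥) :
    Resolvable R f (maximalIdeal Λ) := by
  classical
  have hinj : Function.Injective (algebraMap R Λ) := FaithfulSMul.algebraMap_injective R Λ
  obtain ⟨π, hπirr⟩ := IsDiscreteValuationRing.exists_irreducible R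
  have hmR : maximalIdeal R = Ideal.span {π} := hπirr.maximalIdeal_eq
  have hmΛ : maximalIdeal Λ = Ideal.span {algebraMap R Λ π} := by
    rw [← he, hmR, Ideal.map_span, Set.image_singleton]
  have hϖirr : Irreducible (algebraMap R Λ π) :=
    (IsDiscreteValuationRing.irreducible_iff_uniformizer _).mpr hmΛ
  have hπ0 : π ≠ 0 := hπirr.ne_zero
  have hϖ0 : algebraMap R Λ π ≠ 0 := hϖirr.ne_zero
  obtain ⟨n₀, hn₀⟩ := IsDiscreteValuationRing.ideal_eq_span_pow_irreducible hne hϖirr
  obtain ⟨n, hn⟩ : ∃ n : ℕ, (algebraMap R Λ π) ^ n ∈ (singularIdeal R A).map f :=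
    ⟨n₀, by rw [hn₀]; exact Ideal.subset_span rfl⟩
  have hnoeth : IsNoetherianRing A := Algebra.FiniteType.isNoetherianRing R A
  obtain ⟨r, a, ha⟩ := Submodule.fg_iff_exists_fin_generating_family.mp
    (IsNoetherian.noetherian (singularIdeal R A))
  have haH : ∀ ℓ, a ℓ ∈ singularIdeal R A := fun ℓ => by
    rw [← ha]
    exact Submodule.subset_span ⟨ℓ, rfl⟩
  have hasm : ∀ ℓ, Algebra.FormallySmooth R (Localization.Away (a ℓ)) := fun ℓ =>
    Helper27.DimZero.formallySmooth_away_of_mem_singularIdeal (a ℓ) (haH ℓ)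
  have hIspan : (singularIdeal R A).map f = Ideal.span (Set.range fun j => f (a j)) := by
    have : singularIdeal R A = Ideal.span (Set.range a) := ha.symm
    rw [this, Ideal.map_span, ← Set.range_comp]
    rfl
  obtain ⟨lam, hlam⟩ : ∃ lam : Fin r → Λ, ∑ j, lam j * f (a j) = (algebraMap R Λ π) ^ n :=
    Ideal.mem_span_range_iff_exists_fun.mp (by rw [← hIspan]; exact hn)
  have hfpB₁ := finitePresentation_BB (k := R) a n 1
  have towerB₁ := towerRB (k := R) a n 1
  have hfpB₁A := finitePresentation_BB_A a n 1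
  have hfpB₁R : Algebra.FinitePresentation R (BB a n 1) := Algebra.FinitePresentation.trans R A _
  obtain ⟨ρ, hρ⟩ : ∃ ρ : MvPolynomial (Fin 1) R →ₐ[R] R, ρ = aeval (fun _ => π) := ⟨_, rfl⟩
  have hρX : ρ (X 0) = π := by rw [hρ, aeval_X]
  have hρsurj : Function.Surjective ρ.toRingHom := fun x => ⟨C x, by
    show ρ (C x) = x
    rw [hρ, aeval_C]
    rfl⟩
  obtain ⟨JB, hJB⟩ : ∃ JB : Ideal (BB a n 1),
      JB = (RingHom.ker ρ.toRingHom).map (algebraMap (MvPolynomial (Fin 1) R) (BB a n 1)) := ⟨_, rfl⟩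
  have hJBfg : JB.FG := by
    rw [hJB]
    exact Ideal.FG.map (IsNoetherian.noetherian _) _
  obtain ⟨B₂, _, _, qA, hqAsurj, hqAker, hqAR, hfpB⟩ : ∃ (B₂ : Type u) (_ : CommRing B₂)
      (_ : Algebra R B₂) (qA : BB a n 1 →+* B₂), Function.Surjective qA ∧ RingHom.ker qA = JB ∧
      (∀ x : R, qA (algebraMap R (BB a n 1) x) = algebraMap R B₂ x) ∧
      Algebra.FinitePresentation R B₂ :=
    ⟨BB a n 1 ⧸ JB, inferInstance, inferInstance, Ideal.Quotient.mk JB,
      Ideal.Quotient.mk_surjective, Ideal.mk_ker, fun _ => rfl,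
      Algebra.FinitePresentation.quotient hJBfg⟩
  have hqAc : ∀ x : MvPolynomial (Fin 1) R,
      qA (algebraMap (MvPolynomial (Fin 1) R) (BB a n 1) x) = algebraMap R B₂ (ρ.toRingHom x) := by
    intro x
    have h1 : x - C (ρ x) ∈ RingHom.ker ρ.toRingHom := by
      rw [RingHom.mem_ker]
      show ρ (x - C (ρ x)) = 0
      rw [map_sub, sub_eq_zero]
      have : ρ (C (ρ x)) = ρ x := by
        rw [hρ, aeval_C]
        rfl
      rw [this]
    have h2 : algebraMap (MvPolynomial (Fin 1) R) (BB a n 1) (x - C (ρ x)) ∈ RingHom.ker qA := by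
      rw [hqAker, hJB]
      exact Ideal.mem_map_of_mem _ h1
    rw [RingHom.mem_ker, map_sub, map_sub, sub_eq_zero] at h2
    rw [h2]
    show qA (algebraMap (MvPolynomial (Fin 1) R) (BB a n 1)
      (algebraMap R (MvPolynomial (Fin 1) R) (ρ x))) = _
    rw [← IsScalarTower.algebraMap_apply R (MvPolynomial (Fin 1) R) (BB a n 1), hqAR]
    rfl
  have hsingB : ∀ b ∈ singularIdeal (MvPolynomial (Fin 1) R) (BB a n 1),
      qA b ∈ singularIdeal R B₂ := by
    intro b hb
    exact Helper27.ResMod.map_mem_singularIdeal (R₁ := MvPolynomial (Fin 1) R) (A₁ := BB a n 1)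
      (R₂ := R) (A₂ := B₂) ρ.toRingHom hρsurj qA hqAsurj (by rw [hqAker, hJB]) hqAc b hb
  have hπB : algebraMap R B₂ π ∈ singularIdeal R B₂ := by
    have h1 := hsingB _ (bx_mem_singularIdeal (k := R) a n 1 hasm 0)
    rw [← algebraMap_RB_X (k := R), hqAc] at h1
    have h2 : ρ.toRingHom (X 0) = π := hρX
    rw [h2] at h1
    exact h1
  have hHB : ∀ x ∈ singularIdeal R A, qA (algebraMap A (BB a n 1) x) ∈ singularIdeal R B₂ := by
    intro x hx
    apply hsingB
    apply map_le_singularIdeal (k := R) a n 1 hasm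
    apply Ideal.mem_map_of_mem
    have : Ideal.span (Set.range a) = singularIdeal R A := ha
    rw [this]
    exact hx
  obtain ⟨hB, hBA, hBx, hBz⟩ := exists_hom a n 1 f.toRingHom (fun _ => algebraMap R Λ π)
    (fun _ j => lam j) (fun _ => hlam.symm)
  have hBR₁ : ∀ p : MvPolynomial (Fin 1) R, hB (algebraMap _ (BB a n 1) p) =
      algebraMap R Λ (ρ p) := by
    have : hB.comp (algebraMap (MvPolynomial (Fin 1) R) (BB a n 1)) =
        (algebraMap R Λ).comp ρ.toRingHom := by
      refine MvPolynomial.ringHom_ext (fun c => ?_) (fun i => ?_)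
      · show hB (algebraMap (MvPolynomial (Fin 1) R) (BB a n 1) (algebraMap R _ c)) =
          algebraMap R Λ (ρ (algebraMap R _ c))
        rw [← IsScalarTower.algebraMap_apply R (MvPolynomial (Fin 1) R) (BB a n 1),
          IsScalarTower.algebraMap_apply R A (BB a n 1), hBA, ρ.commutes]
        exact f.commutes c
      · show hB (algebraMap (MvPolynomial (Fin 1) R) (BB a n 1) (X i)) = algebraMap R Λ (ρ (X i))
        have hi : i = 0 := Subsingleton.elim _ _
        rw [algebraMap_RB_X, hBx, hi, hρX]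
    exact fun p => RingHom.congr_fun this p
  have hBkill : RingHom.ker qA ≤ RingHom.ker hB := by
    rw [hqAker, hJB, Ideal.map_le_iff_le_comap]
    intro p hp
    rw [Ideal.mem_comap, RingHom.mem_ker, hBR₁]
    have : ρ p = 0 := hp
    rw [this, map_zero]
  obtain ⟨hB₀, hhB₀⟩ : ∃ v : B₂ →+* Λ, ∀ x, v (qA x) = hB x :=
    ⟨RingHom.liftOfSurjective qA hqAsurj ⟨hB, hBkill⟩, fun x =>
      RingHom.liftOfRightInverse_comp_apply _ _ _ ⟨hB, hBkill⟩ x⟩
  let hB' : B₂ →ₐ[R] Λ :=
    { hB₀ with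
      commutes' := fun x => by
        show hB₀ (algebraMap R B₂ x) = algebraMap R Λ x
        rw [← hqAR, hhB₀, IsScalarTower.algebraMap_apply R A (BB a n 1), hBA]
        exact f.commutes x }
  have hB'A : ∀ x : A, hB' (qA (algebraMap A (BB a n 1) x)) = f x := fun x => by
    show hB₀ (qA (algebraMap A (BB a n 1) x)) = f x
    rw [hhB₀]
    exact hBA x
  obtain ⟨C₁, _, _, _, towerC, hfpC, ⟨ρC⟩, hcov⟩ :=
    Helper27.SymOmega.exists_sym_cover (R := R) (A := B₂)
  obtain ⟨e₀, he₀⟩ := (hcov _ hπB).2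
  let φC : C₁ →ₐ[R] Λ := hB'.comp (ρC.restrictScalars R)
  have hstd : ∀ i : Fin 1, IsStrictlyStandard R C₁ (algebraMap R C₁ ((fun _ : Fin 1 => π ^ (e₀ + 1)) i)) := by
    intro i
    have h1 := he₀ (e₀ + 1) (Nat.le_succ _)
    rw [← map_pow, ← map_pow, ← IsScalarTower.algebraMap_apply R B₂ C₁] at h1
    exact h1
  obtain ⟨K, hKdef⟩ : ∃ K : Ideal R,
      K = Ideal.span (Set.range fun i : Fin 1 => ((fun _ : Fin 1 => π ^ (e₀ + 1)) i) ^ 8) := ⟨_, rfl⟩
  have hKeq : K = Ideal.span {π ^ ((e₀ + 1) * 8)} := by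
    rw [hKdef, Set.range_unique, pow_mul]
  obtain ⟨φK, hφK⟩ := Helper27.ResMod.exists_quotMap φC K
  have hfpq := Helper27.ResMod.finitePresentation_quotient (R := R) (A := C₁) K
  have hKN : maximalIdeal R ^ ((e₀ + 1) * 8) ≤ K := by
    rw [hmR, Ideal.span_singleton_pow, hKeq]
  have hKm : K ≤ maximalIdeal R := by
    rw [hKeq, hmR, Ideal.span_singleton_le_span_singleton]
    exact dvd_pow_self π (by omega)
  have hres := quot_problem_local he K ((e₀ + 1) * 8) hKN hKm φK
  have hemp : ∀ i : Fin 1, IsEmpty {j : Fin 1 // (j : ℕ) < (i : ℕ)} := fun i =>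
    ⟨fun ⟨j, hj⟩ => by
      have := i.2
      omega⟩
  have hcore : Resolvable R φC (maximalIdeal Λ) := by
    refine Helper27.ResMod.main φC (maximalIdeal Λ) (fun _ : Fin 1 => π ^ (e₀ + 1))
      ?_ ?_ hstd K hKdef φK hφK hres
    · intro i x hx
      have := hemp i
      obtain ⟨y, rfl⟩ := Ideal.Quotient.mk_surjective x
      rw [← map_pow, ← map_mul, Ideal.Quotient.eq_zero_iff_mem, Set.range_eq_empty,
        Ideal.span_empty, Ideal.mem_bot] at hx
      rw [← map_mul, Ideal.Quotient.eq_zero_iff_mem, Set.range_eq_empty,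
        Ideal.span_empty, Ideal.mem_bot]
      rcases mul_eq_zero.mp hx with h | h
      · exact absurd (pow_eq_zero_iff (by norm_num) |>.mp h) (pow_ne_zero _ hπ0)
      · rw [h, mul_zero]
    · intro i x hx
      have := hemp i
      obtain ⟨y, rfl⟩ := Ideal.Quotient.mk_surjective x
      rw [← map_pow (Ideal.Quotient.mk _) (algebraMap R Λ (π ^ (e₀ + 1))) 2, ← map_mul,
        Ideal.Quotient.eq_zero_iff_mem, Set.range_eq_empty, Ideal.span_empty, Ideal.mem_bot] at hx
      rw [← map_mul, Ideal.Quotient.eq_zero_iff_mem, Set.range_eq_empty,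
        Ideal.span_empty, Ideal.mem_bot]
      rcases mul_eq_zero.mp hx with h | h
      · have h3 : algebraMap R Λ (π ^ (e₀ + 1)) ≠ 0 := by
          rw [map_pow]
          exact pow_ne_zero _ hϖ0
        exact absurd (pow_eq_zero_iff (by norm_num) |>.mp h) h3
      · rw [h, mul_zero]
  let g₀ : A →ₐ[R] C₁ :=
    { ((algebraMap B₂ C₁).comp qA).comp (algebraMap A (BB a n 1)) with
      commutes' := fun x => by
        show algebraMap B₂ C₁ (qA (algebraMap A (BB a n 1) (algebraMap R A x))) = algebraMap R C₁ x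
        rw [← IsScalarTower.algebraMap_apply R A (BB a n 1), hqAR,
          ← IsScalarTower.algebraMap_apply R B₂ C₁] }
  refine resolvable_of_factor f φC g₀ ?_ ?_ _ hcore
  · ext x
    show hB' (ρC (algebraMap B₂ C₁ (qA (algebraMap A (BB a n 1) x)))) = f x
    rw [ρC.commutes]
    exact hB'A x
  · intro x hx
    exact (hcov _ (hHB x hx)).1

theorem indSmooth_dvr [IsLocalHom (algebraMap R Λ)]
    (he : (maximalIdeal R).map (algebraMap R Λ) = maximalIdeal Λ)
    [Algebra.IsGeometricallyReduced (ResidueField R) (ResidueField Λ)]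
    {K L : Type u} [Field K] [Algebra R K] [IsFractionRing R K] [Field L]
    [Algebra Λ L] [IsFractionRing Λ L] [Algebra K L] [Algebra R L] [IsScalarTower R K L]
    [IsScalarTower R Λ L] [Algebra.IsGeometricallyReduced K L] : IndSmooth R Λ := by
  intro A _ _ hA f
  obtain ⟨A₁, _, _, hfp₁, g₁, f₁, h₁, hne₁⟩ : ∃ (A₁ : Type u) (_ : CommRing A₁) (_ : Algebra R A₁),
      Algebra.FinitePresentation R A₁ ∧ ∃ (g₁ : A →ₐ[R] A₁) (f₁ : A₁ →ₐ[R] Λ), f₁.comp g₁ = f ∧
        (singularIdeal R A₁).map f₁ ≠ ⊥ := by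
    by_cases h0 : (singularIdeal R A).map f = ⊥
    · obtain ⟨B, _, _, hfp, g, h, hgh, hle, hnle⟩ := resolvable_bot (K := K) (L := L) f
      refine ⟨B, inferInstance, inferInstance, hfp, g, h, hgh, ?_⟩
      intro hbot
      apply hnle
      unfold singRad
      rw [hbot, Ideal.radical_bot_of_noZeroDivisors]
    · exact ⟨A, inferInstance, inferInstance, hA, AlgHom.id R A, f, AlgHom.comp_id f, h0⟩
  obtain ⟨A₂, _, _, hfp₂, g₂, f₂, h₂, htop⟩ : ∃ (A₂ : Type u) (_ : CommRing A₂) (_ : Algebra R A₂),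
      Algebra.FinitePresentation R A₂ ∧ ∃ (g₂ : A₁ →ₐ[R] A₂) (f₂ : A₂ →ₐ[R] Λ), f₂.comp g₂ = f₁ ∧
        (singularIdeal R A₂).map f₂ = ⊤ := by
    by_cases h1 : (singularIdeal R A₁).map f₁ = ⊤
    · exact ⟨A₁, inferInstance, inferInstance, hfp₁, AlgHom.id R A₁, f₁, AlgHom.comp_id f₁, h1⟩
    · obtain ⟨B, _, _, hfp, g, h, hgh, hle, hnle⟩ := resolvable_maximalIdeal he f₁ hne₁
      refine ⟨B, inferInstance, inferInstance, hfp, g, h, hgh, ?_⟩
      by_contra hcon
      apply hnle
      exact IsLocalRing.le_maximalIdeal (fun htop => hcon (Ideal.radical_eq_top.mp htop))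
  obtain ⟨B, _, _, hsm, g₃, h₃, h₃eq⟩ := exists_smooth_factor_of_map_eq_top f₂ htop
  refine ⟨B, inferInstance, inferInstance, hsm, g₃.comp (g₂.comp g₁), h₃, ?_⟩
  rw [← AlgHom.comp_assoc, h₃eq, ← AlgHom.comp_assoc, h₂, h₁]

end DVR

end Helper27.SepRes
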