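import Mathlib
import Groth.Agent.Lib.Helper27.SepBaseChange

set_option autoImplicit false

namespace Groth.Agent.Lib.Helper27.SepTensor

open TensorProduct
open Groth.Agent.Lib.Helper27.WeaklyEtaleField
open Groth.Agent.Lib.Helper27.SepBaseChange

variable {K : Type*} [Field K] {R A : Type*} [CommRing R] [CommRing A] [Algebra K R] [Algebra K A]

theorem algMap_injective {R' A' : Type*} [CommRing R'] [CommRing A'] [Algebra K R'] [Algebra K A']
    (f : R' →ₐ[K] R) (g : A' →ₐ[K] A) (hf : Function.Injective f) (hg : Function.Injective g) :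
    Function.Injective (Algebra.TensorProduct.map f g) := by
  have h : Function.Injective (TensorProduct.map f.toLinearMap g.toLinearMap) :=
    TensorProduct.map_injective_of_flat_flat _ _ hf hg
  exact h

theorem mem_span_idempotents_of_isSeparable [IsAlgClosed K] {T : Type*} [CommRing T] [Algebra K T]
    (z : T) (hz : IsSeparable K z) :
    z ∈ Submodule.span K {e : T | IsIdempotentElem e} := by
  classical
  let B : Subalgebra K T := Algebra.adjoin K {z}
  have hBet : Algebra.Etale K B :=
    etale_adjoin_of_isSeparable (Set.finite_singleton z) (by rintro b rfl; exact hz)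
  have hBfin : Module.Finite K B := Algebra.FormallyUnramified.finite_of_free K B
  have hart : IsArtinianRing B := IsArtinianRing.of_finite K B
  let eq : B ≃ₐ[K] (PrimeSpectrum B → K) := Algebra.FormallyEtale.equivPiOfIsSepClosed K B
  have : Fintype (PrimeSpectrum B) := Fintype.ofFinite _
  let zB : B := ⟨z, Algebra.subset_adjoin rfl⟩
  have h1 : zB = ∑ x : PrimeSpectrum B, (eq zB x) • eq.symm (Pi.single x 1) := by
    apply eq.injective
    rw [map_sum]
    simp_rw [map_smul, AlgEquiv.apply_symm_apply]
    ext y
    rw [Finset.sum_apply]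
    simp [Pi.single_apply]
  have h2 : z = ∑ x : PrimeSpectrum B, (eq zB x) • ((eq.symm (Pi.single x 1) : B) : T) := by
    have := congrArg (Subtype.val) h1
    simpa using this
  rw [h2]
  apply Submodule.sum_mem
  intro x _
  apply Submodule.smul_mem
  apply Submodule.subset_span
  have hid : IsIdempotentElem (eq.symm (Pi.single x 1) : B) := by
    have : IsIdempotentElem (Pi.single x 1 : PrimeSpectrum B → K) := by
      show Pi.single x 1 * Pi.single x 1 = Pi.single x 1
      rw [← Pi.single_mul, one_mul]
    exact this.map eq.symm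
  exact congrArg Subtype.val hid.eq

theorem exists_map_left_eq_of_isIdempotentElem (e : R ⊗[K] A) (he : IsIdempotentElem e) :
    ∃ e₁ : (sepSubalgebra K R) ⊗[K] A,
      Algebra.TensorProduct.map (sepSubalgebra K R).val (AlgHom.id K A) e₁ = e := by
  classical
  let 𝔟 := Module.Basis.ofVectorSpace K A
  obtain ⟨c, hc⟩ : ∃ c, c = (Algebra.TensorProduct.basis R 𝔟).repr e := ⟨_, rfl⟩
  have hsep : ∀ i, c i ∈ sepSubalgebra K R := by
    intro i
    rw [hc, mem_sepSubalgebra_iff]
    exact isSeparable_repr_of_isIdempotentElem 𝔟 e he i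
  obtain ⟨s, hs⟩ : ∃ s, s = c.support := ⟨_, rfl⟩
  have he_sum : e = ∑ i : s, c i ⊗ₜ[K] 𝔟 i := by
    have h1 := (Algebra.TensorProduct.basis R 𝔟).linearCombination_repr e
    rw [← hc, Finsupp.linearCombination_apply, Finsupp.sum, ← hs] at h1
    rw [← h1, ← Finset.sum_coe_sort s]
    apply Finset.sum_congr rfl
    intro k _
    rw [Algebra.TensorProduct.basis_repr_symm_apply']
  refine ⟨∑ i : s, (⟨c i, hsep i⟩ : sepSubalgebra K R) ⊗ₜ[K] 𝔟 i, ?_⟩
  rw [he_sum]
  simp only [map_sum, Algebra.TensorProduct.map_tmul, AlgHom.coe_id, id_eq, Subalgebra.coe_val]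

theorem exists_map_right_eq_of_isIdempotentElem (e : R ⊗[K] A) (he : IsIdempotentElem e) :
    ∃ e₂ : R ⊗[K] (sepSubalgebra K A),
      Algebra.TensorProduct.map (AlgHom.id K R) (sepSubalgebra K A).val e₂ = e := by
  have he' : IsIdempotentElem (Algebra.TensorProduct.comm K R A e) := he.map _
  obtain ⟨e₁, he₁⟩ := exists_map_left_eq_of_isIdempotentElem _ he'
  refine ⟨Algebra.TensorProduct.comm K _ R e₁, ?_⟩
  have hnat : ∀ x : (sepSubalgebra K A) ⊗[K] R,
      Algebra.TensorProduct.map (AlgHom.id K R) (sepSubalgebra K A).val
        (Algebra.TensorProduct.comm K _ R x) =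
      Algebra.TensorProduct.comm K A R
        (Algebra.TensorProduct.map (sepSubalgebra K A).val (AlgHom.id K R) x) := by
    intro x
    induction x using TensorProduct.induction_on with
    | zero => simp
    | tmul a r => simp
    | add x y hx hy => simp only [map_add, hx, hy]
  rw [hnat, he₁]
  have : ∀ w : R ⊗[K] A, Algebra.TensorProduct.comm K A R (Algebra.TensorProduct.comm K R A w) = w := by
    intro w
    induction w using TensorProduct.induction_on with
    | zero => simp
    | tmul a r => simp
    | add x y hx hy => simp only [map_add, hx, hy]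
  exact this e

theorem exists_map_eq_of_isIdempotentElem (e : R ⊗[K] A) (he : IsIdempotentElem e) :
    e ∈ (Algebra.TensorProduct.map (sepSubalgebra K R).val (sepSubalgebra K A).val).range := by
  obtain ⟨e₁, he₁⟩ := exists_map_left_eq_of_isIdempotentElem e he
  have he₁id : IsIdempotentElem e₁ := by
    apply algMap_injective (sepSubalgebra K R).val (AlgHom.id K A) Subtype.val_injective
      Function.injective_id
    rw [map_mul, he₁]
    exact he
  obtain ⟨e₂, he₂⟩ := exists_map_right_eq_of_isIdempotentElem e₁ he₁id
  refine ⟨e₂, ?_⟩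
  rw [← he₁, ← he₂]
  have : ∀ w : (sepSubalgebra K R) ⊗[K] (sepSubalgebra K A),
      Algebra.TensorProduct.map (sepSubalgebra K R).val (sepSubalgebra K A).val w =
      Algebra.TensorProduct.map (sepSubalgebra K R).val (AlgHom.id K A)
        (Algebra.TensorProduct.map (AlgHom.id K _) (sepSubalgebra K A).val w) := by
    intro w
    induction w using TensorProduct.induction_on with
    | zero => simp
    | tmul a r => simp
    | add x y hx hy => simp only [map_add, hx, hy]
  exact this e₂

theorem mem_range_map_of_isSeparable [IsAlgClosed K] (z : R ⊗[K] A) (hz : IsSeparable K z) :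
    z ∈ (Algebra.TensorProduct.map (sepSubalgebra K R).val (sepSubalgebra K A).val).range := by
  have h := mem_span_idempotents_of_isSeparable z hz
  clear hz
  induction h using Submodule.span_induction with
  | mem e he => exact exists_map_eq_of_isIdempotentElem e he
  | zero => exact Subalgebra.zero_mem _
  | add x y _ _ hx hy => exact Subalgebra.add_mem _ hx hy
  | smul c x _ hx => exact Subalgebra.smul_mem _ hx c

end Groth.Agent.Lib.Helper27.SepTensor
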