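import Mathlib
import Groth.Prelude.Def_Smoothing
import Groth.Agent.Lib.Helper27.StdElemB

set_option autoImplicit false
universe u v w

namespace Helper27.StdElem

open Algebra MvPolynomial

section QuasiData

variable {R : Type u} {A : Type u} [CommRing R] [CommRing A] [Algebra R A]
variable {n m c : ℕ} (P : Algebra.Generators R A (Fin n))
variable (f : Fin m → P.Ring) (hker : Ideal.span (Set.range f) = P.toExtension.ker)

theorem exists_quasi_data (rows : Fin c → Fin m) (a : A)
    (ha : a ∈ Ideal.span (Set.range fun cols : Fin c → Fin n =>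
      algebraMap P.Ring A (Smoothing.jacobianMinor f rows cols)))
    (hkill : ∀ ℓ, a • (Extension.Cotangent.mk ⟨f ℓ, rel_mem_ker P f hker ℓ⟩ :
        P.toExtension.Cotangent) ∈ Submodule.span A (Set.range fun j =>
          (Extension.Cotangent.mk ⟨f (rows j), rel_mem_ker P f hker (rows j)⟩ :
            P.toExtension.Cotangent))) :
    ∃ (l' : P.toExtension.CotangentSpace →ₗ[A] (Fin c → A))
      (ρ : (Fin c → A) →ₗ[A] P.toExtension.Cotangent),
      (∀ y, l' (P.toExtension.cotangentComplex (ρ y)) = a • y) ∧ (∀ x, ∃ z, ρ z = a • x) := by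
  classical
  set rb : Fin m → P.toExtension.Cotangent := fun ℓ =>
    Extension.Cotangent.mk ⟨f ℓ, rel_mem_ker P f hker ℓ⟩ with hrb
  have htop : Submodule.span A (Set.range rb) = ⊤ :=
    Extension.Cotangent.span_eq_top_of_span_eq_ker (P := P.toExtension) f hker
  obtain ⟨b, hb⟩ := (Ideal.mem_span_range_iff_exists_fun).mp ha
  let Jc : (Fin c → Fin n) → Matrix (Fin c) (Fin c) A := fun cols =>
    Matrix.of fun j k : Fin c => algebraMap P.Ring A (pderiv (cols k) (f (rows j)))
  let lc : (Fin c → Fin n) → P.toExtension.CotangentSpace →ₗ[A] (Fin c → A) := fun cols =>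
    (Matrix.vecMulLinear (Matrix.adjugate (Jc cols))) ∘ₗ (LinearMap.funLeft A A cols) ∘ₗ
      P.cotangentSpaceBasis.equivFun.toLinearMap
  have hlc : ∀ cols j, lc cols (P.toExtension.cotangentComplex (rb (rows j))) =
      (Jc cols).det • Pi.single j 1 := by
    intro cols j
    have h1 : (LinearMap.funLeft A A cols) (P.cotangentSpaceBasis.equivFun
        (P.toExtension.cotangentComplex (rb (rows j)))) = (Jc cols) j := by
      ext k
      rw [LinearMap.funLeft_apply]
      exact equivFun_cotangentComplex_mk P ⟨f (rows j), rel_mem_ker P f hker (rows j)⟩ (cols k)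
    simp only [lc, LinearMap.coe_comp, Function.comp_apply, LinearEquiv.coe_coe]
    rw [h1, Matrix.vecMulLinear_apply, ← Matrix.mul_apply_eq_vecMul, Matrix.mul_adjugate]
    ext j'
    simp [Matrix.one_apply, Pi.single_apply, eq_comm]
  let l' : P.toExtension.CotangentSpace →ₗ[A] (Fin c → A) := ∑ cols, b cols • lc cols
  have hl' : ∀ j, l' (P.toExtension.cotangentComplex (rb (rows j))) = a • Pi.single j 1 := by
    intro j
    simp only [l', LinearMap.sum_apply, LinearMap.smul_apply, hlc]
    rw [← hb, Finset.sum_smul]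
    refine Finset.sum_congr rfl fun cols _ => ?_
    rw [smul_smul, algebraMap_jacobianMinor]
  let ρ : (Fin c → A) →ₗ[A] P.toExtension.Cotangent :=
    Fintype.linearCombination A (fun j => rb (rows j))
  refine ⟨l', ρ, fun y => ?_, fun x => ?_⟩
  · have hy : ρ y = ∑ j, y j • rb (rows j) := Fintype.linearCombination_apply A _ y
    rw [hy, map_sum, map_sum]
    simp only [map_smul, hl']
    ext j'
    simp [Finset.sum_apply, Pi.single_apply, mul_comm]
  · have hx : x ∈ Submodule.span A (Set.range rb) := htop ▸ Submodule.mem_top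
    have : a • x ∈ Submodule.span A (Set.range fun j => rb (rows j)) := by
      induction hx using Submodule.span_induction with
      | mem x hx =>
        obtain ⟨ℓ, rfl⟩ := hx
        exact hkill ℓ
      | zero => simp
      | add x y _ _ hx hy => rw [smul_add]; exact Submodule.add_mem _ hx hy
      | smul t x _ hx => rw [smul_comm]; exact Submodule.smul_mem _ _ hx
    rw [← Fintype.range_linearCombination] at this
    exact this

end QuasiData

end Helper27.StdElem

namespace Helper27.StdElem

section SF

variable {A : Type u} [CommRing A] {M₀ N₀ Om : Type*} [AddCommGroup M₀] [AddCommGroup N₀]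
  [AddCommGroup Om] [Module A M₀] [Module A N₀] [Module A Om]

theorem stablyFree_localized {n c : ℕ} (a : A) (d₀ : M₀ →ₗ[A] N₀) (π : N₀ →ₗ[A] Om)
    (hex : Function.Exact d₀ π) (hπ : Function.Surjective π)
    (bN : Module.Basis (Fin n) A N₀)
    (l' : N₀ →ₗ[A] (Fin c → A)) (ρ : (Fin c → A) →ₗ[A] M₀)
    (h1 : ∀ y, l' (d₀ (ρ y)) = a • y) (h2 : ∀ x, ∃ z, ρ z = a • x) :
    Nonempty ((LocalizedModule (Submonoid.powers a) Om ×
        (Fin c → Localization (Submonoid.powers a))) ≃ₗ[Localization (Submonoid.powers a)]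
      (Fin n → Localization (Submonoid.powers a))) := by
  classical
  let S := Submonoid.powers a
  let As := Localization S
  let g : (Fin c → A) →ₗ[A] N₀ := d₀ ∘ₗ ρ
  let ga := LocalizedModule.map S g
  let πa := LocalizedModule.map S π
  have haS : a ∈ S := ⟨1, pow_one a⟩
  have hu : IsUnit (algebraMap A As a) := IsLocalization.map_units _ (⟨a, haS⟩ : S)
  let r : LocalizedModule S N₀ →ₗ[As] LocalizedModule S (Fin c → A) :=
    (hu.unit⁻¹ : Asˣ) • LocalizedModule.map S l'
  have hr : r ∘ₗ ga = LinearMap.id := by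
    ext x
    induction x using LocalizedModule.induction_on with
    | h y t =>
      simp only [LinearMap.coe_comp, Function.comp_apply, LinearMap.smul_apply,
        LinearMap.id_coe, id_eq, r, ga, g]
      rw [LocalizedModule.map_mk, LocalizedModule.map_mk, LinearMap.comp_apply, h1,
        Units.smul_def, ← LocalizedModule.smul'_mk, ← algebraMap_smul As a, smul_smul,
        hu.val_inv_mul, one_smul]
  have hsurj : Function.Surjective πa := LocalizedModule.map_surjective S _ hπ
  have hexd : Function.Exact (LocalizedModule.map S d₀) πa := LocalizedModule.map_exact S _ _ hex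
  have hexa : Function.Exact ga πa := by
    intro y
    constructor
    · intro hy
      obtain ⟨x, rfl⟩ := (hexd y).mp hy
      induction x using LocalizedModule.induction_on with
      | h m s =>
        obtain ⟨z, hz⟩ := h2 m
        refine ⟨LocalizedModule.mk z ((⟨a, haS⟩ : S) * s), ?_⟩
        simp only [ga, g, LocalizedModule.map_mk, LinearMap.coe_comp, Function.comp_apply, hz,
          map_smul]
        exact LocalizedModule.mk_cancel_common_left (⟨a, haS⟩ : S) s (d₀ m)
    · rintro ⟨x, rfl⟩
      induction x using LocalizedModule.induction_on with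
      | h z s =>
        simp only [ga, g, πa, LocalizedModule.map_mk, LinearMap.coe_comp, Function.comp_apply,
          hex.apply_apply_eq_zero, LocalizedModule.zero_mk]
  have htfae := Function.Exact.split_tfae' (R := As)
    (M := LocalizedModule S (Fin c → A)) (N := LocalizedModule S N₀)
    (P := LocalizedModule S Om) (f := ga) (g := πa) hexa
  obtain ⟨e, -, -⟩ := (htfae.out 1 2 rfl rfl).mp ⟨hsurj, r, hr⟩
  let e1 : LocalizedModule S N₀ ≃ₗ[As] (Fin n → As) :=
    (bN.ofIsLocalizedModule As S (LocalizedModule.mkLinearMap S N₀)).equivFun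
  let e2 : LocalizedModule S (Fin c → A) ≃ₗ[As] (Fin c → As) :=
    ((Pi.basisFun A (Fin c)).ofIsLocalizedModule As S
      (LocalizedModule.mkLinearMap S (Fin c → A))).equivFun
  exact ⟨((LinearEquiv.refl As _).prodCongr e2.symm) ≪≫ₗ (LinearEquiv.prodComm As _ _) ≪≫ₗ
    e.symm ≪≫ₗ e1⟩

end SF

end Helper27.StdElem

namespace Helper27.StdElem

open Algebra MvPolynomial

section S2030

variable {R : Type u} {A : Type u} [CommRing R] [CommRing A] [Algebra R A]

theorem exists_quasi_data_of_isStrictlyStandard (a : A)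
    (ha : Smoothing.IsStrictlyStandard R A a) :
    ∃ (n c : ℕ) (P : Algebra.Generators R A (Fin n))
      (l' : P.toExtension.CotangentSpace →ₗ[A] (Fin c → A))
      (ρ : (Fin c → A) →ₗ[A] P.toExtension.Cotangent),
      (∀ y, l' (P.toExtension.cotangentComplex (ρ y)) = a • y) ∧ (∀ x, ∃ z, ρ z = a • x) := by
  obtain ⟨MP, hmem, hkt⟩ := ha
  let P := Generators.ofAlgHom MP.hom MP.surj
  have halg : ∀ x, algebraMap P.Ring A x = MP.hom x := ofAlgHom_algebraMap MP.hom MP.surj
  have hker : Ideal.span (Set.range MP.rel) = P.toExtension.ker := by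
    rw [ofAlgHom_ker, MP.ker_eq]
  have hA : a ∈ Ideal.span (Set.range fun cols : Fin MP.c → Fin MP.n =>
      algebraMap P.Ring A (Smoothing.jacobianMinor MP.rel (Fin.castLE MP.hcm) cols)) := by
    convert hmem using 4 with cols
    exact halg _
  have hB : ∀ ℓ, a • (Extension.Cotangent.mk ⟨MP.rel ℓ, rel_mem_ker P MP.rel hker ℓ⟩ :
        P.toExtension.Cotangent) ∈ Submodule.span A (Set.range fun j =>
          (Extension.Cotangent.mk ⟨MP.rel (Fin.castLE MP.hcm j),
            rel_mem_ker P MP.rel hker (Fin.castLE MP.hcm j)⟩ : P.toExtension.Cotangent)) := by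
    intro ℓ
    by_cases hℓ : (ℓ : ℕ) < MP.c
    · refine Submodule.smul_mem _ _ (Submodule.subset_span ⟨⟨ℓ, hℓ⟩, ?_⟩)
      rfl
    · obtain ⟨a', ha'⟩ := MP.surj a
      have h1 := hkt a' ha' ℓ (not_lt.mp hℓ)
      rw [image_lt_eq_range MP.hcm MP.rel, hker] at h1
      have h2 := (smul_mk_mem_span_iff P.toExtension (fun j => MP.rel (Fin.castLE MP.hcm j))
        (fun j => rel_mem_ker P MP.rel hker _) (MP.rel ℓ) (rel_mem_ker P MP.rel hker ℓ) a').mpr h1
      have h3 : algebraMap P.toExtension.Ring A a' = a := (halg a').trans ha'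
      rw [h3] at h2
      exact h2
  obtain ⟨l', ρ, h1, h2⟩ := exists_quasi_data P MP.rel hker (Fin.castLE MP.hcm) a hA hB
  exact ⟨MP.n, MP.c, P, l', ρ, h1, h2⟩

theorem smooth_stablyFree_of_isStrictlyStandard (a : A)
    (ha : Smoothing.IsStrictlyStandard R A a) :
    Algebra.Smooth R (Localization.Away a) ∧
      ∃ p q : ℕ, Nonempty ((Ω[Localization.Away a⁄R] × (Fin p → Localization.Away a))
        ≃ₗ[Localization.Away a] (Fin q → Localization.Away a)) := by
  refine ⟨smooth_away_of_isStrictlyStandard a ha, ?_⟩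
  obtain ⟨n, c, P, l', ρ, h1, h2⟩ := exists_quasi_data_of_isStrictlyStandard a ha
  obtain ⟨e⟩ := stablyFree_localized a P.toExtension.cotangentComplex P.toExtension.toKaehler
    P.toExtension.exact_cotangentComplex_toKaehler P.toExtension.toKaehler_surjective
    P.cotangentSpaceBasis l' ρ h1 h2
  have e0 := (IsLocalizedModule.iso (.powers a)
    (KaehlerDifferential.map R R A (Localization.Away a))).extendScalarsOfIsLocalization
      (.powers a) (Localization.Away a)
  exact ⟨c, n, ⟨(e0.symm.prodCongr (LinearEquiv.refl _ _)) ≪≫ₗ e⟩⟩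

end S2030

end Helper27.StdElem
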