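import Mathlib.LinearAlgebra.PiTensorProduct.Basis
import Mathlib.Algebra.Module.Projective
import Mathlib.Tactic

set_option autoImplicit false

universe u

open scoped TensorProduct

namespace Groth.Agent.Lib.Helper27.SwapInv

variable {R : Type u} [CommRing R] {d : ℕ}

def Kij (M : Type u) [AddCommGroup M] [Module R M] (i j : Fin d) : Submodule R (⨂[R] _ : Fin d, M) :=
  Submodule.span R {x | ∃ q : Fin d → M, q i = q j ∧ x = PiTensorProduct.tprod R q}

section

variable {M : Type u} [AddCommGroup M] [Module R M] {i j : Fin d}

theorem tprod_mem_Kij (q : Fin d → M) (h : q i = q j) :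
    PiTensorProduct.tprod R q ∈ Kij (R := R) M i j :=
  Submodule.subset_span ⟨q, h, rfl⟩

theorem tprod_add_swap_mem (hij : i ≠ j) (q : Fin d → M) :
    PiTensorProduct.tprod R q + PiTensorProduct.tprod R (fun k => q (Equiv.swap i j k)) ∈
      Kij (R := R) M i j := by
  classical
  set u := q i
  set v := q j
  let f := PiTensorProduct.tprod R (s := fun _ : Fin d => M)
  have hji : j ≠ i := hij.symm
  have e0 : ∀ a c : M, f (Function.update (Function.update q i a) j c) ∈ Kij (R := R) M i j ∨ True :=
    fun _ _ => Or.inr trivial
  have h1 : f (Function.update (Function.update q i (u + v)) j (u + v)) =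
      f (Function.update (Function.update q i u) j u) + f (Function.update (Function.update q i u) j v) +
      (f (Function.update (Function.update q i v) j u) + f (Function.update (Function.update q i v) j v)) := by
    rw [MultilinearMap.map_update_add, Function.update_comm hij (u + v) u q,
      Function.update_comm hij (u + v) v q, MultilinearMap.map_update_add,
      MultilinearMap.map_update_add, Function.update_comm hji u u q, Function.update_comm hji u v q,
      Function.update_comm hji v u q, Function.update_comm hji v v q]
    abel
  have hq : Function.update (Function.update q i u) j v = q := by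
    rw [Function.update_eq_self, Function.update_eq_self]
  have hqs : Function.update (Function.update q i v) j u = fun k => q (Equiv.swap i j k) := by
    ext k
    by_cases hk : k = j
    · subst hk; simp [u]
    · by_cases hk' : k = i
      · subst hk'; simp [Function.update_of_ne hk, v]
      · simp [Function.update_of_ne hk, Function.update_of_ne hk', Equiv.swap_apply_of_ne_of_ne hk' hk]
  have m1 : f (Function.update (Function.update q i (u + v)) j (u + v)) ∈ Kij (R := R) M i j :=
    tprod_mem_Kij _ (by simp [Function.update_of_ne hij])
  have m2 : f (Function.update (Function.update q i u) j u) ∈ Kij (R := R) M i j :=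
    tprod_mem_Kij _ (by simp [Function.update_of_ne hij])
  have m3 : f (Function.update (Function.update q i v) j v) ∈ Kij (R := R) M i j :=
    tprod_mem_Kij _ (by simp [Function.update_of_ne hij])
  rw [hq, hqs] at h1
  have : f q + f (fun k => q (Equiv.swap i j k)) =
      f (Function.update (Function.update q i (u + v)) j (u + v)) -
        f (Function.update (Function.update q i u) j u) -
        f (Function.update (Function.update q i v) j v) := by
    rw [h1]; abel
  show f q + f (fun k => q (Equiv.swap i j k)) ∈ _
  rw [this]
  exact Submodule.sub_mem _ (Submodule.sub_mem _ m1 m2) m3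

theorem map_Kij_le {N : Type u} [AddCommGroup N] [Module R N] (g : M →ₗ[R] N) :
    (Kij (R := R) M i j).map (PiTensorProduct.map (fun _ : Fin d => g)) ≤ Kij (R := R) N i j := by
  rw [Submodule.map_le_iff_le_comap, Kij, Submodule.span_le]
  rintro _ ⟨q, hq, rfl⟩
  rw [SetLike.mem_coe, Submodule.mem_comap, PiTensorProduct.map_tprod]
  exact tprod_mem_Kij _ (by simp [hq])

end

section Free

variable {M : Type u} [AddCommGroup M] [Module R M] {κ : Type*}
  {i j : Fin d}

theorem mem_Kij_of_invariant_of_basis (e : Module.Basis κ R M) (hij : i ≠ j) (y : ⨂[R] _ : Fin d, M)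
    (hy : PiTensorProduct.reindex R (fun _ : Fin d => M) (Equiv.swap i j) y = y) :
    y ∈ Kij (R := R) M i j := by
  classical
  let B := Basis.piTensorProduct (fun _ : Fin d => e)
  let c := B.repr y
  let g : (Fin d → κ) → (Fin d → κ) := fun I => fun k => I (Equiv.swap i j k)
  have hg : ∀ I, g (g I) = I := by
    intro I; ext k; simp [g]
  have hB : ∀ I, PiTensorProduct.reindex R (fun _ : Fin d => M) (Equiv.swap i j) (B I) = B (g I) := by
    intro I
    simp only [B, Basis.piTensorProduct_apply, PiTensorProduct.reindex_tprod, Equiv.symm_swap, g]
  have hc : ∀ I, c (g I) = c I := by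
    intro I
    have h1 : c (g I) = B.repr (PiTensorProduct.reindex R (fun _ : Fin d => M) (Equiv.swap i j) y) (g I) := by
      rw [hy]
    rw [h1]
    conv_lhs => rw [← B.linearCombination_repr y]
    rw [Finsupp.linearCombination_apply, Finsupp.sum, map_sum, map_sum, Finsupp.finset_sum_apply]
    simp only [map_smul, hB, Module.Basis.repr_self, Finsupp.smul_apply, Finsupp.single_apply, smul_eq_mul]
    rw [Finset.sum_eq_single I]
    · simp [c]
    · intro J _ hJ
      have : g J ≠ g I := fun h => hJ (by rw [← hg J, h, hg])
      simp [this]
    · intro hI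
      simp [Finsupp.notMem_support_iff.mp hI, c]
  rw [← Submodule.Quotient.mk_eq_zero, ← B.linearCombination_repr y, Finsupp.linearCombination_apply,
    Finsupp.sum]
  show (Kij (R := R) M i j).mkQ (∑ I ∈ c.support, c I • B I) = 0
  rw [map_sum]
  refine Finset.sum_involution (fun I _ => g I) ?_ ?_ ?_ ?_
  · intro I _
    rw [hc I, ← map_add, ← smul_add]
    show Submodule.Quotient.mk _ = 0
    rw [Submodule.Quotient.mk_eq_zero]
    refine Submodule.smul_mem _ _ ?_
    have := tprod_add_swap_mem (R := R) hij (fun k => e (I k))
    simpa only [B, Basis.piTensorProduct_apply, g] using this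
  · intro I _ hne hfix
    apply hne
    show Submodule.Quotient.mk _ = 0
    rw [Submodule.Quotient.mk_eq_zero]
    refine Submodule.smul_mem _ _ ?_
    simp only [B, Basis.piTensorProduct_apply]
    refine tprod_mem_Kij _ ?_
    have := congrFun hfix i
    simp only [g, Equiv.swap_apply_left] at this
    rw [this]
  · intro I hI
    rw [Finsupp.mem_support_iff] at hI ⊢
    rwa [hc I]
  · intro I _
    exact hg I

end Free

section Proj

variable {M : Type u} [AddCommGroup M] [Module R M] [Module.Projective R M] {i j : Fin d}

theorem mem_Kij_of_invariant (hij : i ≠ j) (y : ⨂[R] _ : Fin d, M)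
    (hy : PiTensorProduct.reindex R (fun _ : Fin d => M) (Equiv.swap i j) y = y) :
    y ∈ Kij (R := R) M i j := by
  obtain ⟨s, hs⟩ := Module.projective_def'.mp (inferInstance : Module.Projective R M)
  let ρ : (M →₀ R) →ₗ[R] M := Finsupp.linearCombination R id
  let y' := PiTensorProduct.map (fun _ : Fin d => s) y
  have hy' : PiTensorProduct.reindex R (fun _ : Fin d => (M →₀ R)) (Equiv.swap i j) y' = y' := by
    have := PiTensorProduct.map_reindex (R := R) (fun _ : Fin d => s) (Equiv.swap i j) y
    rw [← this, hy]
  have h1 := mem_Kij_of_invariant_of_basis (R := R) (Finsupp.basisSingleOne (R := R) (ι := M)) hij y' hy'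
  have h2 : PiTensorProduct.map (fun _ : Fin d => ρ) y' = y := by
    simp only [y']
    rw [← LinearMap.comp_apply, ← PiTensorProduct.map_comp]
    simp only [ρ, hs]
    rw [PiTensorProduct.map_id]
    rfl
  rw [← h2]
  exact map_Kij_le ρ (Submodule.mem_map_of_mem h1)

end Proj

end Groth.Agent.Lib.Helper27.SwapInv
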