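import Groth.Prelude.Def_SymTen
import Groth.Prelude.Def_PolLaw2
import Groth.Prelude.Def_W4c5normfunctorschNorm
import Mathlib.LinearAlgebra.Determinant
import Mathlib.LinearAlgebra.PiTensorProduct.Basis
import Mathlib.LinearAlgebra.TensorProduct.Basis
import Mathlib.RingTheory.MvPolynomial.Basic
import Mathlib.RingTheory.Norm.Defs
import Mathlib.Tactic

set_option autoImplicit false

universe u

open scoped TensorProduct

namespace Groth.Agent.Lib.Helper27.SymTenDet

section Basic

variable {R : Type u} [CommRing R] {R' : Type u} [CommRing R'] [Algebra R R'] {d : ℕ}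

theorem tpowAct_eq_mul (z x : ⨂[R] _ : Fin d, R') :
    SymTen.tpowAct R R' R' d z x = z * x := by
  have h : SymTen.tpowAct R R' R' d = LinearMap.mul R (⨂[R] _ : Fin d, R') := by
    refine PiTensorProduct.ext (MultilinearMap.ext fun a => ?_)
    refine PiTensorProduct.ext (MultilinearMap.ext fun p => ?_)
    simp only [LinearMap.compMultilinearMap_apply, LinearMap.mul_apply']
    rw [SymTen.tpowAct, PiTensorProduct.lift.tprod, MultilinearMap.compLinearMap_apply,
      PiTensorProduct.mapMultilinear_apply, PiTensorProduct.map_tprod,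
      PiTensorProduct.tprod_mul_tprod]
    rfl
  rw [h, LinearMap.mul_apply']

variable (b : Module.Basis (Fin d) R R')

noncomputable def Dlin : (⨂[R] _ : Fin d, R') →ₗ[R] R :=
  PiTensorProduct.lift b.det.toMultilinearMap

@[simp] theorem Dlin_tprod (p : Fin d → R') : Dlin b (PiTensorProduct.tprod R p) = b.det p := by
  rw [Dlin, PiTensorProduct.lift.tprod]; rfl

theorem altSpan_le_ker : SymTen.altSpan R R' d ≤ LinearMap.ker (Dlin b) := by
  rw [SymTen.altSpan, Submodule.span_le]
  rintro _ ⟨p, i, j, hij, hp, rfl⟩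
  rw [SetLike.mem_coe, LinearMap.mem_ker, Dlin_tprod]
  exact b.det.map_eq_zero_of_eq p hp hij

noncomputable def qAlt : R' [⋀^Fin d]→ₗ[R] ((⨂[R] _ : Fin d, R') ⧸ SymTen.altSpan R R' d) :=
  { (SymTen.altSpan R R' d).mkQ.compMultilinearMap (PiTensorProduct.tprod R) with
    map_eq_zero_of_eq' := by
      intro p i j hp hij
      simp only [MultilinearMap.toFun_eq_coe, LinearMap.compMultilinearMap_apply,
        Submodule.mkQ_apply, Submodule.Quotient.mk_eq_zero]
      exact Submodule.subset_span ⟨p, i, j, hij, hp, rfl⟩ }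

theorem qAlt_apply (p : Fin d → R') :
    qAlt (R := R) (R' := R') (d := d) p = Submodule.Quotient.mk (PiTensorProduct.tprod R p) := rfl

theorem qAlt_eq :
    qAlt (R := R) (R' := R') (d := d) =
      (LinearMap.toSpanSingleton R _ (qAlt (R := R) (R' := R') (d := d) b)).compAlternatingMap b.det := by
  refine Module.Basis.ext_alternating b fun v hv => ?_
  have hbij : Function.Bijective v := Finite.injective_iff_bijective.mp hv
  let σ : Equiv.Perm (Fin d) := Equiv.ofBijective v hbij
  have h1 : (fun i => b (v i)) = (⇑b ∘ σ) := rfl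
  rw [h1, AlternatingMap.map_perm, LinearMap.compAlternatingMap_apply, AlternatingMap.map_perm,
    Module.Basis.det_self, LinearMap.toSpanSingleton_apply]
  rcases Int.units_eq_one_or (Equiv.Perm.sign σ) with h | h <;> simp [h]

theorem sub_Dlin_smul_mem (x : ⨂[R] _ : Fin d, R') :
    x - Dlin b x • PiTensorProduct.tprod R (fun i => b i) ∈ SymTen.altSpan R R' d := by
  have h : (SymTen.altSpan R R' d).mkQ =
      (LinearMap.toSpanSingleton R _ (qAlt (R := R) (R' := R') (d := d) b)) ∘ₗ Dlin b := by
    refine PiTensorProduct.ext (MultilinearMap.ext fun p => ?_)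
    simp only [LinearMap.compMultilinearMap_apply, LinearMap.comp_apply, Dlin_tprod]
    have := congrArg (fun g => g p) (qAlt_eq b)
    simpa [qAlt_apply] using this
  have hx := LinearMap.congr_fun h x
  rw [← Submodule.Quotient.mk_eq_zero, Submodule.Quotient.mk_sub, Submodule.Quotient.mk_smul]
  rw [Submodule.mkQ_apply] at hx
  rw [hx, LinearMap.comp_apply, LinearMap.toSpanSingleton_apply, qAlt_apply, sub_self]

theorem mem_altSpan_iff (x : ⨂[R] _ : Fin d, R') :
    x ∈ SymTen.altSpan R R' d ↔ Dlin b x = 0 := by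
  constructor
  · intro h; exact altSpan_le_ker b h
  · intro h
    have := sub_Dlin_smul_mem b x
    rwa [h, zero_smul, sub_zero] at this

end Basic

section Star

variable {R : Type u} [CommRing R] {R' : Type u} [CommRing R'] [Algebra R R'] {d : ℕ}
variable (b : Module.Basis (Fin d) R R')
variable (S : Type u) [CommRing S] [Algebra R S]

noncomputable def DS : S ⊗[R] (⨂[R] _ : Fin d, R') →ₗ[S] S :=
  (TensorProduct.AlgebraTensorModule.rid R S S).toLinearMap ∘ₗ (Dlin b).baseChange S

theorem DS_tmul (s : S) (t : ⨂[R] _ : Fin d, R') : DS b S (s ⊗ₜ t) = Dlin b t • s := by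
  simp [DS]

variable (R R') in
noncomputable def iota (j : Fin d) : S ⊗[R] R' →ₐ[S] S ⊗[R] (⨂[R] _ : Fin d, R') :=
  Algebra.TensorProduct.map (AlgHom.id S S)
    (PiTensorProduct.singleAlgHom (R := R) (A := fun _ : Fin d => R') j)

theorem prod_single (p : Fin d → R') :
    ∏ j, PiTensorProduct.singleAlgHom (R := R) (A := fun _ : Fin d => R') j (p j) =
      PiTensorProduct.tprod R p := by
  simp only [PiTensorProduct.singleAlgHom_apply, MonoidHom.mulSingle_apply]
  rw [← PiTensorProduct.tprod_prod]
  exact congrArg _ (Finset.univ_prod_mulSingle p)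

theorem prod_iota_one_tmul (p : Fin d → R') :
    ∏ j, iota R R' S j (1 ⊗ₜ p j) = 1 ⊗ₜ PiTensorProduct.tprod R p := by
  simp only [iota, Algebra.TensorProduct.map_tmul, AlgHom.id_apply]
  rw [← prod_single]
  exact (map_prod (Algebra.TensorProduct.includeRight :
    (⨂[R] _ : Fin d, R') →ₐ[R] S ⊗[R] (⨂[R] _ : Fin d, R')) _ _).symm

noncomputable def Phi : MultilinearMap S (fun _ : Fin d => S ⊗[R] R') S :=
  (DS b S).compMultilinearMap
    ((MultilinearMap.mkPiAlgebra S (Fin d) (S ⊗[R] (⨂[R] _ : Fin d, R'))).compLinearMap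
      (fun j => (iota R R' S j).toLinearMap))

theorem Phi_apply (m : Fin d → S ⊗[R] R') :
    Phi b S m = DS b S (∏ j, iota R R' S j (m j)) := rfl

theorem det_one_tmul (p : Fin d → R') :
    (Algebra.TensorProduct.basis S b).det (fun j => (1 : S) ⊗ₜ[R] p j) =
      algebraMap R S (b.det p) := by
  rw [Module.Basis.det_apply, Module.Basis.det_apply, RingHom.map_det]
  congr 1
  ext i j
  simp [Module.Basis.toMatrix_apply, Algebra.TensorProduct.basis_repr_tmul]

theorem Phi_eq : Phi b S = (Algebra.TensorProduct.basis S b).det.toMultilinearMap := by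
  refine Module.Basis.ext_multilinear (fun _ => Algebra.TensorProduct.basis S b) fun K => ?_
  simp only [Algebra.TensorProduct.basis_apply]
  rw [Phi_apply, prod_iota_one_tmul, DS_tmul, Dlin_tprod]
  show _ = (Algebra.TensorProduct.basis S b).det (fun i => (1 : S) ⊗ₜ[R] b (K i))
  rw [det_one_tmul, Algebra.smul_def, mul_one]

theorem star_tprod (z : S ⊗[R] R') (p : Fin d → R') :
    DS b S ((∏ j, iota R R' S j z) * (1 ⊗ₜ PiTensorProduct.tprod R p)) =
      Algebra.norm S z * algebraMap R S (b.det p) := by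
  rw [← prod_iota_one_tmul, ← Finset.prod_mul_distrib]
  simp_rw [← map_mul]
  rw [← Phi_apply, Phi_eq]
  have h : (fun j => z * ((1 : S) ⊗ₜ[R] p j)) =
      (Algebra.lmul S (S ⊗[R] R') z) ∘ (fun j => (1 : S) ⊗ₜ[R] p j) := rfl
  rw [h]
  show (Algebra.TensorProduct.basis S b).det _ = _
  rw [Module.Basis.det_comp, Algebra.norm_apply, det_one_tmul]

theorem DS_tpow_mul (z : S ⊗[R] R') (x : ⨂[R] _ : Fin d, R') :
    DS b S ((∏ j, iota R R' S j z) * (1 ⊗ₜ x)) =
      Algebra.norm S z * algebraMap R S (Dlin b x) := by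
  induction x using PiTensorProduct.induction_on with
  | smul_tprod r p =>
    rw [TensorProduct.tmul_smul, mul_smul_comm, LinearMap.map_smul_of_tower, star_tprod, map_smul,
      Dlin_tprod, Algebra.smul_def, Algebra.smul_def, map_mul]
    simp only [Algebra.algebraMap_self, RingHom.id_apply]
    ring
  | add x y hx hy =>
    rw [TensorProduct.tmul_add, mul_add, map_add, hx, hy, map_add, map_add, mul_add]

end Star

section Coeff

variable {R : Type u} [CommRing R] {R' : Type u} [CommRing R'] [Algebra R R'] {d : ℕ}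
variable (b : Module.Basis (Fin d) R R')

def annD : Ideal (⨂[R] _ : Fin d, R') where
  carrier := {z | ∀ x, Dlin b (z * x) = 0}
  zero_mem' := by intro x; simp
  add_mem' := by
    intro z z' hz hz' x
    rw [add_mul, map_add, hz x, hz' x, add_zero]
  smul_mem' := by
    intro t z hz x
    rw [smul_eq_mul, mul_comm t z, mul_assoc]
    exact hz _

theorem mem_annD (z : ⨂[R] _ : Fin d, R') : z ∈ annD b ↔ ∀ x, Dlin b (z * x) = 0 := Iff.rfl

theorem lTensor_mk_eq_zero {P : Type u} [CommRing P] [Algebra R P] {ι : Type*}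
    (ℬ : Module.Basis ι R P) (w : P ⊗[R] (⨂[R] _ : Fin d, R'))
    (h : ∀ x, DS b P (w * (1 ⊗ₜ x)) = 0) :
    (Ideal.Quotient.mkₐ R (annD b)).toLinearMap.lTensor P w = 0 := by
  classical
  apply (TensorProduct.equivFinsuppOfBasisLeft ℬ).injective
  rw [map_zero]
  ext i
  rw [TensorProduct.equivFinsuppOfBasisLeft_apply, Finsupp.zero_apply]
  have key : ∀ w : P ⊗[R] (⨂[R] _ : Fin d, R'),
      TensorProduct.lid R _ ((ℬ.coord i).rTensor _
        ((Ideal.Quotient.mkₐ R (annD b)).toLinearMap.lTensor P w)) =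
      Ideal.Quotient.mkₐ R (annD b) (TensorProduct.lid R _ ((ℬ.coord i).rTensor _ w)) := by
    intro w
    induction w using TensorProduct.induction_on with
    | zero => simp
    | tmul p t => simp
    | add x y hx hy => simp only [map_add, hx, hy]
  rw [key, Ideal.Quotient.mkₐ_eq_mk, Ideal.Quotient.eq_zero_iff_mem, mem_annD]
  intro x
  have key2 : ∀ w : P ⊗[R] (⨂[R] _ : Fin d, R'),
      Dlin b (TensorProduct.lid R _ ((ℬ.coord i).rTensor _ w) * x) =
        ℬ.coord i (DS b P (w * (1 ⊗ₜ x))) := by
    intro w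
    induction w using TensorProduct.induction_on with
    | zero => simp
    | tmul p t =>
      simp [DS_tmul, Algebra.TensorProduct.tmul_mul_tmul, mul_comm]
    | add x y hx hy => simp only [map_add, add_mul, hx, hy]
  rw [key2, h, map_zero]

end Coeff

section Generic

variable {R : Type u} [CommRing R] {M : Type u} [AddCommGroup M] [Module R M]
  {N : Type u} [AddCommGroup N] [Module R N] {d : ℕ} (b : Module.Basis (Fin d) R M)

noncomputable def zgen : MvPolynomial (Fin d) R ⊗[R] M := ∑ i, MvPolynomial.X i ⊗ₜ b i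

theorem law_ext_generic {F G : M →ₚₗ[R] N}
    (h : F.toFun' (MvPolynomial (Fin d) R) (zgen b) = G.toFun' (MvPolynomial (Fin d) R) (zgen b)) :
    F = G := by
  ext S _ _ z
  let B := Algebra.TensorProduct.basis S b
  let ψ : MvPolynomial (Fin d) R →ₐ[R] S := MvPolynomial.aeval (fun i => B.repr z i)
  have hz : ψ.toLinearMap.rTensor M (zgen b) = z := by
    rw [zgen, map_sum]
    simp only [LinearMap.rTensor_tmul, AlgHom.toLinearMap_apply, ψ, MvPolynomial.aeval_X]
    conv_rhs => rw [← B.sum_repr z]
    refine Finset.sum_congr rfl fun i _ => ?_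
    rw [Algebra.TensorProduct.basis_apply, TensorProduct.smul_tmul', smul_eq_mul, mul_one]
  rw [← hz, ← PolynomialLaw.isCompat_apply', ← PolynomialLaw.isCompat_apply', h]

theorem postcomp_comp {P Q : Type u} [AddCommGroup P] [Module R P] [AddCommGroup Q] [Module R Q]
    (g : P →ₗ[R] Q) (f : N →ₗ[R] P) (F : M →ₚₗ[R] N) :
    PolLaw.postcomp (g ∘ₗ f) F = PolLaw.postcomp g (PolLaw.postcomp f F) := by
  ext S _ _ x
  show (g ∘ₗ f).lTensor S (F.toFun' S x) = g.lTensor S (f.lTensor S (F.toFun' S x))
  rw [LinearMap.lTensor_comp]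
  rfl

end Generic

end Groth.Agent.Lib.Helper27.SymTenDet
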