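import Mathlib

set_option autoImplicit false
universe u

open TensorProduct

namespace Groth.Agent.Lib.Helper27.UnramBC

theorem formallyUnramified_of_range {A B C : Type*} [CommRing A] [CommRing B] [CommRing C]
    [Algebra A B] [Algebra A C] [Algebra.FormallyUnramified A B] (f : B →ₐ[A] C)
    (H : ∀ x : C, ∃ b : B, IsUnit (f b) ∧ f b * x ∈ f.range) :
    Algebra.FormallyUnramified A C := by
  rw [Algebra.formallyUnramified_iff]
  have hB : Subsingleton (Ω[B⁄A]) := (Algebra.formallyUnramified_iff A B).mp inferInstance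
  let := f.toRingHom.toAlgebra
  have : IsScalarTower A B C := IsScalarTower.of_algebraMap_eq' f.comp_algebraMap.symm
  have hD : ∀ b : B, KaehlerDifferential.D A C (f b) = 0 := by
    intro b
    have h1 : KaehlerDifferential.map A A B C (KaehlerDifferential.D A B b)
        = KaehlerDifferential.D A C (algebraMap B C b) := KaehlerDifferential.map_D A A B C b
    rw [Subsingleton.elim (KaehlerDifferential.D A B b) 0, map_zero] at h1
    exact h1.symm
  have hall : ∀ x : C, KaehlerDifferential.D A C x = 0 := by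
    intro x
    obtain ⟨b, hu, b', hb'⟩ := H x
    have h2 : KaehlerDifferential.D A C (f b * x) = 0 := by
      rw [← hb']; exact hD b'
    rw [Derivation.leibniz, hD b, smul_zero, add_zero] at h2
    exact (hu.smul_eq_zero).mp h2
  refine ⟨fun a b => ?_⟩
  have htop := KaehlerDifferential.span_range_derivation A C
  have : ∀ z : Ω[C⁄A], z = 0 := by
    intro z
    have hz : z ∈ Submodule.span C (Set.range (KaehlerDifferential.D A C)) := by
      rw [htop]; trivial
    induction hz using Submodule.span_induction with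
    | mem x h => obtain ⟨y, rfl⟩ := h; exact hall y
    | zero => rfl
    | add x y _ _ hx hy => rw [hx, hy, add_zero]
    | smul a x _ hx => rw [hx, smul_zero]
  rw [this a, this b]


theorem isUnramifiedAt_baseChange {R S : Type*} [CommRing R] [CommRing S] [Algebra R S]
    (p : Ideal S) [p.IsPrime] [Algebra.IsUnramifiedAt R p]
    {A : Type*} [CommRing A] [Algebra R A] (q : Ideal (A ⊗[R] S)) [q.IsPrime]
    (hq : p = q.comap Algebra.TensorProduct.includeRight.toRingHom) :
    Algebra.IsUnramifiedAt A q := by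
  let f : A ⊗[R] Localization.AtPrime p →ₐ[A] Localization.AtPrime q :=
    Algebra.TensorProduct.lift (Algebra.ofId _ _) ⟨Localization.localRingHom _ _ _ hq, by
      simp [IsScalarTower.algebraMap_apply R S (Localization.AtPrime p),
        IsScalarTower.algebraMap_apply R (A ⊗[R] S) (Localization.AtPrime q)]⟩ fun _ _ ↦ .all _ _
  let g : A ⊗[R] S →ₐ[A] A ⊗[R] Localization.AtPrime p :=
    Algebra.TensorProduct.map (.id _ _) (IsScalarTower.toAlgHom _ _ _)
  have : f.comp g = IsScalarTower.toAlgHom _ _ _ := by ext; simp [f, g]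
  replace this (x : _) : f (g x) = algebraMap _ _ x := DFunLike.congr_fun this x
  have hFU : Algebra.FormallyUnramified A (A ⊗[R] Localization.AtPrime p) := inferInstance
  refine formallyUnramified_of_range f fun x ↦ ?_
  obtain ⟨x, ⟨s, hs⟩, rfl⟩ := IsLocalization.exists_mk'_eq q.primeCompl x
  refine ⟨g s, this s ▸ IsLocalization.map_units _ ⟨s, hs⟩, ?_⟩
  rw [this, mul_comm, IsLocalization.mk'_spec_mk]
  exact ⟨g x, this x⟩

theorem isUnramifiedAt_of_surjectiveOnStalks {R S T : Type*} [CommRing R] [CommRing S]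
    [CommRing T] [Algebra R S] [Algebra R T]
    (p : Ideal S) [p.IsPrime] [Algebra.IsUnramifiedAt R p]
    (f : S →ₐ[R] T) (hf : f.toRingHom.SurjectiveOnStalks) (q : Ideal T) [q.IsPrime]
    (hq : p = q.comap f.toRingHom) :
    Algebra.IsUnramifiedAt R q := by
  subst hq
  let F : Localization.AtPrime (q.comap f.toRingHom) →ₐ[R] Localization.AtPrime q :=
    ⟨Localization.localRingHom _ q f.toRingHom rfl, by
      intro r
      change Localization.localRingHom _ q f.toRingHom rfl _ = _
      rw [IsScalarTower.algebraMap_apply R S (Localization.AtPrime (q.comap f.toRingHom)),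
        Localization.localRingHom_to_map,
        IsScalarTower.algebraMap_apply R T (Localization.AtPrime q)]
      simp⟩
  exact Algebra.FormallyUnramified.of_surjective F (hf q ‹_›)

theorem away_surj {T : Type*} [CommRing T] (e : T) (he : IsIdempotentElem e) :
    Function.Surjective (algebraMap T (Localization.Away e)) := by
  have h1 : algebraMap T (Localization.Away e) e = 1 := by
    have hu : IsUnit (algebraMap T (Localization.Away e) e) :=
      IsLocalization.Away.algebraMap_isUnit e
    have : algebraMap T (Localization.Away e) e * algebraMap T (Localization.Away e) e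
        = algebraMap T (Localization.Away e) e := by rw [← map_mul, he.eq]
    exact (hu.mul_eq_left).mp this
  intro x
  obtain ⟨t, ⟨_, n, rfl⟩, rfl⟩ := IsLocalization.exists_mk'_eq (Submonoid.powers e) x
  refine ⟨t, ?_⟩
  rw [eq_comm, IsLocalization.mk'_eq_iff_eq_mul]
  simp [h1]

theorem core {R₂ T : Type*} [CommRing R₂] [CommRing T] [Algebra R₂ T]
    (P₂ : Ideal R₂) [P₂.IsPrime] (e : T) (he : IsIdempotentElem e)
    (P' : Ideal T) [P'.IsPrime] [P'.LiesOver P₂] (heP' : e ∉ P')
    [Algebra.IsUnramifiedAt R₂ P'] [Module.Finite R₂ (Localization.Away e)]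
    (huniq : ∀ P'' : Ideal T, P''.IsPrime → P''.LiesOver P₂ → e ∉ P'' → P'' = P')
    (hres : ∀ t : T, ∃ a b : R₂, b ∉ P₂ ∧ b • t - algebraMap R₂ T a ∈ P') :
    ∃ g ∉ P₂, ∀ t : T, ∃ a : R₂, g • t - algebraMap R₂ T a ∈ Ideal.span {1 - e} := by
  classical
  let A₀ := Localization.Away e
  have hdisj : Disjoint (Submonoid.powers e : Set T) ↑P' := by
    rwa [Ideal.disjoint_powers_iff_notMem_of_isPrime]
  let r : Ideal A₀ := P'.map (algebraMap T A₀)
  have hrprime : r.IsPrime := IsLocalization.isPrime_of_isPrime_disjoint (.powers e) _ _ ‹_› hdisj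
  have hrP' : r.LiesOver P' := IsLocalization.liesOver_map_of_isPrime_disjoint (.powers e) _ hdisj
  have hrP₂ : r.LiesOver P₂ := .trans _ P' _
  have hsurjA : Function.Surjective (algebraMap T A₀) := away_surj e he
  have hq : P₂.primesOver A₀ = {r} := by
    ext r'
    simp only [Ideal.primesOver, Set.mem_ofPred_eq, Set.mem_singleton_iff]
    constructor
    · rintro ⟨hr'p, hr'o⟩
      have h1 : (r'.comap (algebraMap T A₀)).LiesOver P₂ := by
        constructor
        rw [Ideal.under, Ideal.comap_comap, ← IsScalarTower.algebraMap_eq]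
        exact hr'o.over
      have h2 : e ∉ r'.comap (algebraMap T A₀) := by
        intro h
        exact hr'p.ne_top (Ideal.eq_top_of_isUnit_mem _ h (IsLocalization.Away.algebraMap_isUnit e))
      have h3 := huniq _ inferInstance h1 h2
      have h4 : r'.under T = P' := h3
      rw [← IsLocalization.map_under (.powers e) A₀ r', h4]
    · rintro rfl
      exact ⟨hrprime, hrP₂⟩
  have hunr : Algebra.IsUnramifiedAt R₂ r := by
    refine isUnramifiedAt_of_surjectiveOnStalks P' (IsScalarTower.toAlgHom R₂ T A₀)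
      (RingHom.surjectiveOnStalks_of_isLocalization (.powers e) A₀) r ?_
    exact (IsLocalization.under_map_of_isPrime_disjoint (.powers e) A₀ ‹_› hdisj).symm
  let _ := Localization.AtPrime.algebraOfLiesOver P₂ r
  have hH : Function.Surjective (algebraMap P₂.ResidueField r.ResidueField) := by
    let K₀ : Subfield r.ResidueField := (algebraMap P₂.ResidueField r.ResidueField).fieldRange
    have hR₂ : ∀ a : R₂, algebraMap R₂ r.ResidueField a ∈ K₀ := by
      intro a
      rw [IsScalarTower.algebraMap_apply R₂ P₂.ResidueField r.ResidueField]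
      exact ⟨_, rfl⟩
    have hA₀ : ∀ x : A₀, algebraMap A₀ r.ResidueField x ∈ K₀ := by
      intro x
      obtain ⟨t, rfl⟩ := hsurjA x
      obtain ⟨a, b, hb, hab⟩ := hres t
      have h1 : algebraMap T A₀ (b • t - algebraMap R₂ T a) ∈ r := Ideal.mem_map_of_mem _ hab
      have h2 : algebraMap A₀ r.ResidueField (algebraMap T A₀ (b • t - algebraMap R₂ T a)) = 0 :=
        Ideal.algebraMap_residueField_eq_zero.mpr h1
      rw [map_sub, map_sub, Algebra.smul_def, map_mul, map_mul, sub_eq_zero,
        ← IsScalarTower.algebraMap_apply R₂ T A₀, ← IsScalarTower.algebraMap_apply R₂ A₀,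
        ← IsScalarTower.algebraMap_apply R₂ T A₀, ← IsScalarTower.algebraMap_apply R₂ A₀] at h2
      have hb0 : algebraMap R₂ r.ResidueField b ≠ 0 := by
        intro h0
        rw [IsScalarTower.algebraMap_apply R₂ A₀, Ideal.algebraMap_residueField_eq_zero] at h0
        apply hb
        rw [hrP₂.over]
        exact h0
      have h3 : algebraMap A₀ r.ResidueField (algebraMap T A₀ t)
          = algebraMap R₂ r.ResidueField a / algebraMap R₂ r.ResidueField b := by
        rw [eq_div_iff hb0, mul_comm]; exact h2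
      rw [h3]
      exact K₀.div_mem (hR₂ a) (hR₂ b)
    intro z
    obtain ⟨x, y, -, rfl⟩ := IsFractionRing.div_surjective (A := A₀ ⧸ r) z
    obtain ⟨x, rfl⟩ := Ideal.Quotient.mk_surjective x
    obtain ⟨y, rfl⟩ := Ideal.Quotient.mk_surjective y
    rw [Ideal.algebraMap_quotient_residueField_mk, Ideal.algebraMap_quotient_residueField_mk]
    exact K₀.div_mem (hA₀ x) (hA₀ y)
  have hloc := Localization.localRingHom_surjective_of_primesOver_eq_singleton hq hH
  have key : ∀ x : A₀, ∃ a, ∃ b ∉ P₂, algebraMap R₂ A₀ a = x * algebraMap R₂ A₀ b := by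
    intro x
    have := (IsLocalization.mk'_surjective P₂.primeCompl).exists.mp (hloc (algebraMap _ _ x))
    simp only [Localization.localRingHom_mk', Prod.exists, Subtype.exists,
      Ideal.mem_primeCompl_iff, IsLocalization.mk'_eq_iff_eq_mul, exists_prop, ← map_mul,
      IsLocalization.eq_iff_exists r.primeCompl] at this
    obtain ⟨a, b, hbp, c, hcq, hc⟩ := this
    obtain ⟨d, hd, e', he'⟩ :=
      Ideal.exists_notMem_dvd_algebraMap_of_primesOver_eq_singleton hq _ hcq
    refine ⟨d * a, d * b, ‹P₂.IsPrime›.mul_notMem hd hbp, ?_⟩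
    rw [map_mul, map_mul, he']
    calc c * e' * algebraMap R₂ A₀ a = e' * (c * algebraMap R₂ A₀ a) := by ring
      _ = e' * (c * (x * algebraMap R₂ A₀ b)) := by rw [hc]
      _ = x * (c * e' * algebraMap R₂ A₀ b) := by ring
  choose a b hb hab using key
  obtain ⟨s, hs⟩ := Module.Finite.fg_top (R := R₂) (M := A₀)
  let g : R₂ := ∏ i ∈ s, b i
  have hg : g ∉ P₂ := by
    intro h
    obtain ⟨i, -, hi⟩ := (Ideal.IsPrime.prod_mem_iff (hp := ‹P₂.IsPrime›)).mp h
    exact hb i hi
  have hgx : ∀ x : A₀, g • x ∈ LinearMap.range (Algebra.linearMap R₂ A₀) := by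
    intro x
    have hx : x ∈ Submodule.span R₂ (s : Set A₀) := by rw [hs]; trivial
    induction hx using Submodule.span_induction with
    | mem x h =>
      refine ⟨(∏ i ∈ s.erase x, b i) * a x, ?_⟩
      have hgdef : g = (∏ i ∈ s.erase x, b i) * b x := (Finset.prod_erase_mul s b h).symm
      rw [Algebra.linearMap_apply, map_mul, hab x, hgdef, Algebra.smul_def, map_mul]
      ring
    | zero => rw [smul_zero]; exact zero_mem _
    | add x y _ _ hx hy => rw [smul_add]; exact add_mem hx hy
    | smul c x _ hx => rw [smul_comm]; exact Submodule.smul_mem _ _ hx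
  refine ⟨g, hg, fun t => ?_⟩
  obtain ⟨a', ha'⟩ := hgx (algebraMap T A₀ t)
  refine ⟨a', ?_⟩
  have h0 : algebraMap T A₀ (g • t - algebraMap R₂ T a') = 0 := by
    rw [map_sub, ← IsScalarTower.algebraMap_apply, Algebra.smul_def, map_mul,
      ← IsScalarTower.algebraMap_apply, ← Algebra.smul_def]
    rw [Algebra.linearMap_apply] at ha'
    rw [ha', sub_self]
  obtain ⟨⟨_, n, rfl⟩, hn⟩ := (IsLocalization.map_eq_zero_iff (.powers e) A₀ _).mp h0
  have h1 : e * (g • t - algebraMap R₂ T a') = 0 := by
    have : e ^ (n + 1) * (g • t - algebraMap R₂ T a') = 0 := by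
      rw [pow_succ', mul_assoc]
      simp only at hn
      rw [hn, mul_zero]
    rwa [he.pow_succ_eq] at this
  rw [Ideal.mem_span_singleton']
  refine ⟨g • t - algebraMap R₂ T a', ?_⟩
  rw [mul_sub, mul_one, mul_comm, h1, sub_zero]

theorem assembly {R S R₂ : Type u} [CommRing R] [CommRing S] [Algebra R S] [CommRing R₂]
    [Algebra R R₂]
    (P₂ : Ideal R₂) [P₂.IsPrime] (e : R₂ ⊗[R] S) (he : IsIdempotentElem e)
    (P' : Ideal (R₂ ⊗[R] S)) [P'.IsPrime] [P'.LiesOver P₂] (heP' : e ∉ P')
    (g : R₂) (hg : g ∉ P₂)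
    (hcore : ∀ t : R₂ ⊗[R] S, ∃ a : R₂, g • t - algebraMap R₂ _ a ∈ Ideal.span {1 - e}) :
    ∃ (p' : Ideal (Localization.Away g)) (_ : p'.IsPrime) (_ : p'.LiesOver P₂)
      (A : Type u) (_ : CommRing A) (_ : Algebra (Localization.Away g) A)
      (B : Type u) (_ : CommRing B) (_ : Algebra (Localization.Away g) B)
      (E : (Localization.Away g ⊗[R] S) ≃ₐ[Localization.Away g] (A × B)),
      Function.Surjective (algebraMap (Localization.Away g) A) ∧
      (p'.map (algebraMap _ A)).IsPrime ∧ (p'.map (algebraMap _ A)).comap (algebraMap _ A) = p' ∧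
      (p'.map (algebraMap _ A)).comap (((RingHom.fst A B).comp E.toRingHom).comp
          (Algebra.TensorProduct.includeRight : S →ₐ[R] Localization.Away g ⊗[R] S).toRingHom)
        = P'.comap (Algebra.TensorProduct.includeRight : S →ₐ[R] R₂ ⊗[R] S).toRingHom := by
  let R' := Localization.Away g
  let T := R₂ ⊗[R] S
  let T' := R' ⊗[R] S
  let θ : T →ₐ[R₂] T' := Algebra.TensorProduct.map (IsScalarTower.toAlgHom R₂ R₂ R') (AlgHom.id R S)
  let κ := P'.ResidueField
  have hgκ : IsUnit (algebraMap R₂ κ g) := by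
    rw [isUnit_iff_ne_zero]
    intro h0
    rw [IsScalarTower.algebraMap_apply R₂ T κ, Ideal.algebraMap_residueField_eq_zero] at h0
    apply hg
    rw [‹P'.LiesOver P₂›.over]
    exact h0
  let χ₁ : R' →ₐ[R] κ := IsLocalization.liftAlgHom (M := Submonoid.powers g)
    (f := IsScalarTower.toAlgHom R R₂ κ) (by
      rintro ⟨_, n, rfl⟩
      change IsUnit (algebraMap R₂ κ (g ^ n))
      rw [map_pow]
      exact hgκ.pow n)
  let χ₂ : S →ₐ[R] κ := (IsScalarTower.toAlgHom R T κ).comp Algebra.TensorProduct.includeRight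
  let χ : T' →ₐ[R] κ := Algebra.TensorProduct.lift χ₁ χ₂ (fun _ _ => Commute.all _ _)
  have hχθ : ∀ t : T, χ (θ t) = algebraMap T κ t := by
    intro t
    induction t using TensorProduct.induction_on with
    | zero => simp
    | tmul r s =>
      have h1 : θ (r ⊗ₜ[R] s) = (algebraMap R₂ R' r) ⊗ₜ[R] s := by
        exact Algebra.TensorProduct.map_tmul _ _ _ _
      rw [h1]
      have h2 : χ ((algebraMap R₂ R' r) ⊗ₜ[R] s) = χ₁ (algebraMap R₂ R' r) * χ₂ s := by
        exact Algebra.TensorProduct.lift_tmul _ _ _ _ _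
      rw [h2]
      have h3 : χ₁ (algebraMap R₂ R' r) = algebraMap R₂ κ r := by
        exact IsLocalization.lift_eq _ _
      rw [h3]
      have h4 : χ₂ s = algebraMap T κ (1 ⊗ₜ[R] s) := by
        rfl
      rw [h4, IsScalarTower.algebraMap_apply R₂ T κ, ← map_mul]
      congr 1
      rw [Algebra.TensorProduct.algebraMap_apply, Algebra.TensorProduct.tmul_mul_tmul]
      simp
    | add x y hx hy => rw [map_add, map_add, map_add, hx, hy]
  let ε : T' := θ e
  have hε : IsIdempotentElem ε := he.map θ
  have hχε : χ ε = 1 := by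
    rw [hχθ]
    have h0 : algebraMap T κ e ≠ 0 := by
      rw [Ne, Ideal.algebraMap_residueField_eq_zero]; exact heP'
    have h1 : algebraMap T κ e * algebraMap T κ e = algebraMap T κ e := by
      rw [← map_mul, he.eq]
    exact mul_left_cancel₀ h0 (by rw [h1, mul_one])
  let A : Type u := T' ⧸ Ideal.span {1 - ε}
  let B : Type u := T' ⧸ Ideal.span {ε}
  let E : T' ≃ₐ[R'] A × B := AlgEquiv.prodQuotientOfIsIdempotentElem R' hε.one_sub hε
    (by ring) (by rw [sub_mul, one_mul, hε.eq, sub_self])
  let π : T' →+* A := Ideal.Quotient.mk _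
  have hπsurj : Function.Surjective π := Ideal.Quotient.mk_surjective
  let Q' : Ideal T' := RingHom.ker χ.toRingHom
  have hQ'prime : Q'.IsPrime := RingHom.ker_isPrime _
  have hεQ' : 1 - ε ∈ Q' := by
    change χ (1 - ε) = 0
    rw [map_sub, map_one, hχε, sub_self]
  have hkerπ : RingHom.ker π = Ideal.span {1 - ε} := Ideal.mk_ker
  have hkerQ' : RingHom.ker π ≤ Q' := by
    rw [hkerπ, Ideal.span_le, Set.singleton_subset_iff]; exact hεQ'
  let p' : Ideal R' := P₂.map (algebraMap R₂ R')
  have hdisj : Disjoint (Submonoid.powers g : Set R₂) ↑P₂ := by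
    rwa [Ideal.disjoint_powers_iff_notMem_of_isPrime]
  have hp'prime : p'.IsPrime :=
    IsLocalization.isPrime_of_isPrime_disjoint (.powers g) _ _ ‹_› hdisj
  have hp'lies : p'.LiesOver P₂ :=
    IsLocalization.liesOver_map_of_isPrime_disjoint (.powers g) _ hdisj
  have hQ'R' : Q'.comap (algebraMap R' T') = p' := by
    have h1 : (Q'.comap (algebraMap R' T')).under R₂ = P₂ := by
      ext x
      simp only [Ideal.under, Ideal.mem_comap]
      change χ (algebraMap R' T' (algebraMap R₂ R' x)) = 0 ↔ _
      have h2 : algebraMap R' T' (algebraMap R₂ R' x) = θ (algebraMap R₂ T x) := by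
        rw [AlgHom.commutes, ← IsScalarTower.algebraMap_apply]
      rw [h2, hχθ, Ideal.algebraMap_residueField_eq_zero, ← Ideal.mem_comap]
      change x ∈ P'.under R₂ ↔ _
      rw [← ‹P'.LiesOver P₂›.over]
    rw [← IsLocalization.map_under (.powers g) R' (Q'.comap (algebraMap R' T')), h1]
  have hθspan : ∀ t : T, ∃ r' : R', π (algebraMap R' T' r') = π (θ t) := by
    intro t
    obtain ⟨a, ha⟩ := hcore t
    obtain ⟨c, hc⟩ := Ideal.mem_span_singleton'.mp ha
    have h1 : θ (g • t - algebraMap R₂ T a) ∈ Ideal.span {1 - ε} := by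
      rw [← hc, map_mul, map_sub, map_one]
      exact Ideal.mul_mem_left _ _ (Ideal.mem_span_singleton_self _)
    have h2 : π (θ (g • t - algebraMap R₂ T a)) = 0 := Ideal.Quotient.eq_zero_iff_mem.mpr h1
    rw [map_sub, map_sub, sub_eq_zero, map_smul, AlgHom.commutes] at h2
    refine ⟨IsLocalization.mk' R' a (⟨g, Submonoid.mem_powers g⟩ : Submonoid.powers g), ?_⟩
    have hu : IsUnit (π (algebraMap R' T' (algebraMap R₂ R' g))) :=
      ((IsLocalization.Away.algebraMap_isUnit g).map _).map _
    apply hu.mul_left_cancel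
    rw [← map_mul, ← map_mul, IsLocalization.mk'_spec'_mk]
    have h3 : π (g • θ t) = π (algebraMap R' T' (algebraMap R₂ R' g)) * π (θ t) := by
      rw [← map_mul, ← IsScalarTower.algebraMap_apply R₂ R' T', ← Algebra.smul_def]
    rw [← h3, h2, IsScalarTower.algebraMap_apply R₂ R' T']
  have hsurj : ∀ x : A, ∃ r' : R', π (algebraMap R' T' r') = x := by
    intro x
    obtain ⟨t', rfl⟩ := hπsurj x
    induction t' using TensorProduct.induction_on with
    | zero => exact ⟨0, by simp⟩
    | tmul r' s =>
      obtain ⟨r'', hr''⟩ := hθspan (1 ⊗ₜ[R] s)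
      refine ⟨r' * r'', ?_⟩
      have h1 : θ (1 ⊗ₜ[R] s) = (1 : R') ⊗ₜ[R] s := by
        have := Algebra.TensorProduct.map_tmul (IsScalarTower.toAlgHom R₂ R₂ R') (AlgHom.id R S)
          (1 : R₂) s
        rw [map_one] at this
        exact this
      rw [map_mul, map_mul, hr'', h1]
      rw [← map_mul, Algebra.TensorProduct.algebraMap_apply, Algebra.TensorProduct.tmul_mul_tmul]
      simp
    | add x y hx hy =>
      obtain ⟨a, ha⟩ := hx
      obtain ⟨b, hb⟩ := hy
      exact ⟨a + b, by rw [map_add, map_add, map_add, ha, hb]⟩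
  have hmapeq : p'.map (π.comp (algebraMap R' T')) = Q'.map π := by
    apply le_antisymm
    · rw [Ideal.map_le_iff_le_comap]
      intro x hx
      rw [← hQ'R'] at hx
      exact Ideal.mem_map_of_mem π hx
    · intro x hx
      obtain ⟨y, hy, rfl⟩ := (Ideal.mem_map_iff_of_surjective π hπsurj).mp hx
      obtain ⟨r', hr'⟩ := hsurj (π y)
      have h1 : algebraMap R' T' r' - y ∈ RingHom.ker π := by
        rw [RingHom.mem_ker, map_sub, sub_eq_zero]; exact hr'
      have h2 : algebraMap R' T' r' ∈ Q' := by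
        have := Q'.add_mem (hkerQ' h1) hy
        rwa [sub_add_cancel] at this
      rw [← hr']
      apply Ideal.mem_map_of_mem (π.comp (algebraMap R' T'))
      rw [← hQ'R']
      exact h2
  have hprime : (Q'.map π).IsPrime := Ideal.map_isPrime_of_surjective hπsurj hkerQ'
  have hcomapπ : (Q'.map π).comap π = Q' := by
    rw [Ideal.comap_map_of_surjective π hπsurj, ← RingHom.ker_eq_comap_bot]
    exact sup_eq_left.mpr hkerQ'
  refine ⟨p', hp'prime, hp'lies, A, inferInstance, inferInstance, B, inferInstance, inferInstance,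
    E, hsurj, ?_, ?_, ?_⟩
  · change (p'.map (π.comp (algebraMap R' T'))).IsPrime
    rw [hmapeq]; exact hprime
  · change (p'.map (π.comp (algebraMap R' T'))).comap (π.comp (algebraMap R' T')) = p'
    rw [hmapeq]
    change ((Q'.map π).comap π).comap (algebraMap R' T') = p'
    rw [hcomapπ, hQ'R']
  · change (p'.map (π.comp (algebraMap R' T'))).comap (π.comp
      (Algebra.TensorProduct.includeRight : S →ₐ[R] T').toRingHom) = _
    rw [hmapeq]
    change ((Q'.map π).comap π).comap
      (Algebra.TensorProduct.includeRight : S →ₐ[R] T').toRingHom = _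
    rw [hcomapπ]
    ext s
    simp only [Ideal.mem_comap]
    change χ ((1 : R') ⊗ₜ[R] s) = 0 ↔ ((1 : R₂) ⊗ₜ[R] s) ∈ P'
    have h1 : θ (1 ⊗ₜ[R] s) = (1 : R') ⊗ₜ[R] s := by
      have := Algebra.TensorProduct.map_tmul (IsScalarTower.toAlgHom R₂ R₂ R') (AlgHom.id R S)
        (1 : R₂) s
      rw [map_one] at this
      exact this
    rw [← h1, hχθ, Ideal.algebraMap_residueField_eq_zero]

end Groth.Agent.Lib.Helper27.UnramBC
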