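import Mathlib
import Groth.Prelude.Def_W4c1liftfrobW2
import Groth.Agent.Lib.Helper27.SmoothLiftK
import Groth.Agent.Lib.Helper71.W2Arith

set_option autoImplicit false
universe u

namespace Helper27.W2Smooth

open FrobAlg Groth.Agent.Lib.Helper71.W2

def Tw (X : Type u) : Type u := X

instance (X : Type u) [CommRing X] : CommRing (Tw X) := inferInstanceAs (CommRing X)

def toTw (X : Type u) [CommRing X] : X ≃+* Tw X := RingEquiv.refl X

variable (p : ℕ) [Fact p.Prime] (k : Type u) [Field k] [CharP k p]

theorem res_surjective : Function.Surjective (res p k) := fun a => ⟨T p a, by simp⟩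

theorem ker_res_sq : (RingHom.ker (res p k)) ^ 2 = ⊥ := by
  rw [eq_bot_iff, pow_two, Ideal.mul_le]
  intro x hx y hy
  rw [RingHom.mem_ker, res_apply] at hx hy
  rw [eq_V_of_coeff_zero p hx, eq_V_of_coeff_zero p hy, V_mul_V]
  exact Ideal.zero_mem _

theorem res_sigma (r : W2 p k) : res p k (sigma p k r) = (res p k r) ^ p := by
  simp [sigma]

theorem isFLiftable_of_subsingleton (A : Type u) [CommRing A] [Algebra k A] [Subsingleton A] :
    FrobAlg.IsFLiftable p k A := by
  have h10 : (1 : A) = 0 := Subsingleton.elim _ _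
  let π : PUnit.{u+1} →+* A :=
    { toFun := fun _ => 0, map_one' := h10.symm, map_mul' := by simp, map_zero' := rfl,
      map_add' := by simp }
  let ι : W2 p k →+* PUnit.{u+1} :=
    { toFun := fun _ => PUnit.unit, map_one' := rfl, map_mul' := fun _ _ => rfl, map_zero' := rfl,
      map_add' := fun _ _ => rfl }
  refine ⟨PUnit.{u+1}, inferInstance, ι, π, RingHom.id _, ⟨⟨?_, ?_, ?_, ?_⟩, ?_, ?_⟩⟩
  · let _ := ι.toAlgebra
    show (algebraMap (W2 p k) PUnit.{u+1}).Flat
    rw [RingHom.flat_algebraMap_iff]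
    infer_instance
  · intro a; exact ⟨PUnit.unit, Subsingleton.elim _ _⟩
  · exact Subsingleton.elim _ _
  · ext; exact Subsingleton.elim _ _
  · ext
  · intro b; exact Subsingleton.elim _ _

theorem isFLiftable_of_nontrivial (A : Type u) [CommRing A] [Algebra k A] [Algebra.Smooth k A]
    [Nontrivial A] : FrobAlg.IsFLiftable p k A := by
  haveI : CharP A p := charP_of_injective_algebraMap (algebraMap k A).injective p
  let R := W2 p k
  let I : Ideal R := RingHom.ker (res p k)
  let e : (R ⧸ I) ≃+* k := RingHom.quotientKerEquivOfSurjective (res_surjective p k)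
  have he : ∀ r : R, e (Ideal.Quotient.mk I r) = res p k r := fun r => rfl
  letI algQk : Algebra (R ⧸ I) k := e.toRingHom.toAlgebra
  letI algRA : Algebra R A := ((algebraMap k A).comp (res p k)).toAlgebra
  letI algQA : Algebra (R ⧸ I) A := ((algebraMap k A).comp e.toRingHom).toAlgebra
  haveI : IsScalarTower (R ⧸ I) k A := IsScalarTower.of_algebraMap_eq (fun x => rfl)
  haveI : IsScalarTower R (R ⧸ I) A := IsScalarTower.of_algebraMap_eq (fun r => rfl)
  haveI : Algebra.Smooth (R ⧸ I) k := by
    haveI : IsLocalization.Away (1 : R ⧸ I) k :=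
      IsLocalization.away_of_isUnit_of_bijective _ isUnit_one e.bijective
    exact Algebra.Smooth.of_isLocalization_Away 1
  haveI : Algebra.Smooth (R ⧸ I) A := Algebra.Smooth.comp (R ⧸ I) k A
  obtain ⟨B, _, _, hsm, ⟨φ⟩⟩ :=
    Groth.Agent.Lib.Helper27.SmoothLift.exists_smooth_lift I (A₀ := A)
  let ι : R →+* B := algebraMap R B
  let J : Ideal B := I.map (algebraMap R B)
  let π : B →+* A := (φ : (B ⧸ J) →+* A).comp (Ideal.Quotient.mk J)
  have hπι : ∀ r : R, π (ι r) = algebraMap k A (res p k r) := by
    intro r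
    show φ (Ideal.Quotient.mk J (algebraMap R B r)) = _
    have h1 : Ideal.Quotient.mk J (algebraMap R B r) =
        algebraMap (R ⧸ I) (B ⧸ J) (Ideal.Quotient.mk I r) := rfl
    rw [h1, φ.commutes]
    rfl
  have hkerπ : RingHom.ker π = J := by
    ext b
    rw [RingHom.mem_ker]
    show φ (Ideal.Quotient.mk J b) = 0 ↔ _
    rw [map_eq_zero_iff _ φ.injective, Ideal.Quotient.eq_zero_iff_mem]
  have hπsurj : Function.Surjective π := φ.surjective.comp Ideal.Quotient.mk_surjective
  have hJ2 : ∀ x y : B, π x = 0 → π y = 0 → x * y = 0 := by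
    intro x y hx hy
    have hx' : x ∈ J := hkerπ ▸ (RingHom.mem_ker.mpr hx)
    have hy' : y ∈ J := hkerπ ▸ (RingHom.mem_ker.mpr hy)
    have : x * y ∈ J ^ 2 := by rw [pow_two]; exact Ideal.mul_mem_mul hx' hy'
    have hJ : J ^ 2 = ⊥ := by
      show (I.map (algebraMap R B)) ^ 2 = ⊥
      rw [← Ideal.map_pow, ker_res_sq, Ideal.map_bot]
    rw [hJ] at this
    exact this
  letI algTB : Algebra R (Tw B) := ((toTw B).toRingHom.comp (ι.comp (sigma p k))).toAlgebra
  letI algTA : Algebra R (Tw A) :=
    ((toTw A).toRingHom.comp ((algebraMap k A).comp ((res p k).comp (sigma p k)))).toAlgebra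
  let g : Tw B →ₐ[R] Tw A :=
    { toRingHom := (toTw A).toRingHom.comp (π.comp (toTw B).symm.toRingHom)
      commutes' := fun r => by
        show toTw A (π ((toTw B).symm (toTw B (ι (sigma p k r))))) =
          toTw A (algebraMap k A (res p k (sigma p k r)))
        rw [RingEquiv.symm_apply_apply, hπι] }
  let f : B →ₐ[R] Tw A :=
    { toRingHom := (toTw A).toRingHom.comp ((frobenius A p).comp π)
      commutes' := fun r => by
        show toTw A (frobenius A p (π (ι r))) = toTw A (algebraMap k A (res p k (sigma p k r)))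
        rw [hπι, frobenius_def, ← map_pow, res_sigma] }
  have hg : Function.Surjective g := by
    intro a
    obtain ⟨b, hb⟩ := hπsurj ((toTw A).symm a)
    refine ⟨toTw B b, ?_⟩
    show toTw A (π ((toTw B).symm (toTw B b))) = a
    rw [RingEquiv.symm_apply_apply, hb, RingEquiv.apply_symm_apply]
  have hnil : IsNilpotent (RingHom.ker (g : Tw B →+* Tw A)) := by
    refine ⟨2, ?_⟩
    rw [Ideal.zero_eq_bot, eq_bot_iff, pow_two, Ideal.mul_le]
    intro x hx y hy
    have hx' : π ((toTw B).symm x) = 0 := (toTw A).injective (by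
      rw [map_zero]; exact hx)
    have hy' : π ((toTw B).symm y) = 0 := (toTw A).injective (by
      rw [map_zero]; exact hy)
    have := hJ2 _ _ hx' hy'
    rw [← map_mul, map_eq_zero_iff _ (toTw B).symm.injective] at this
    rw [this]; exact Ideal.zero_mem _
  haveI : Algebra.FormallySmooth R B := hsm.1
  let Φ' : B →ₐ[R] Tw B := Algebra.FormallySmooth.liftOfSurjective f g hg hnil
  have hΦ' : ∀ b, g (Φ' b) = f b := Algebra.FormallySmooth.liftOfSurjective_apply f g hg hnil
  let Φ : B →+* B := (toTw B).symm.toRingHom.comp Φ'.toRingHom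
  refine ⟨B, inferInstance, ι, π, Φ, ⟨⟨?_, hπsurj, hkerπ, ?_⟩, ?_, ?_⟩⟩
  · show (algebraMap R B).Flat
    rw [RingHom.flat_algebraMap_iff]
    infer_instance
  · ext r; exact hπι r
  · ext r
    show (toTw B).symm (Φ' (algebraMap R B r)) = ι (sigma p k r)
    rw [Φ'.commutes]
    exact (toTw B).symm_apply_apply _
  · intro b
    have := hΦ' b
    exact (toTw A).injective this

theorem isFLiftable_of_smooth (A : Type u) [CommRing A] [Algebra k A] [Algebra.Smooth k A] :
    FrobAlg.IsFLiftable p k A := by
  rcases subsingleton_or_nontrivial A with h | h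
  · exact isFLiftable_of_subsingleton p k A
  · exact isFLiftable_of_nontrivial p k A

end Helper27.W2Smooth
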